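import Groth.Agent.Lib.Proj.VeryAmplePn
import Groth.Agent.Lib.Ample.QuasiAffineCover
import Groth.Agent.Lib.Ample.Restrict

/-!
# Very ample (projective-space form) over an affine base implies ample (lead)

ns `Groth.Agent.Lib.Proj.VeryAmpleConverse`.
* `isAmple_of_isRelVeryAmplePn` : `Y` affine, `q : X ⟶ Y` quasi-compact, `X` quasi-separated,
  `M ≅ i^* O(1)` for an immersion `i : X ⟶ P^n_Y` over `Y` ⟹ `M` ample.
-/

universe u
open CategoryTheory CategoryTheory.Limits AlgebraicGeometry TopologicalSpace Opposite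
  HomogeneousLocalization

namespace Groth.Agent.Lib.Proj.VeryAmpleConverse

open Groth.Agent.Lib.Ample Groth.Agent.Lib.QCoh Groth.Agent.Lib.Proj Groth.Agent.Lib.Proj.ToProj
  Groth.Agent.Lib.Proj.ToPn Groth.Agent.Lib.Proj.PullSec Groth.Agent.Lib.Proj.QuotCompare
  Groth.Agent.Lib.Proj.PnUP Groth.Agent.Lib.Proj.PnUnique Groth.Agent.Lib.Proj.ImmersionCrit
  Scheme.Modules Twist

theorem isAmple_of_isRelVeryAmplePn {X Y : Scheme.{u}} [IsAffine Y] (q : X ⟶ Y) [QuasiCompact q]
    [QuasiSeparatedSpace X] {M : X.Modules} (h : RelAmple.IsRelVeryAmplePn q M) :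
    CohB1.IsAmple M := by
  have hX : CompactSpace X := QuasiCompact.compactSpace_of_compactSpace q
  obtain ⟨n, i, hi, -, ⟨e⟩⟩ := h
  obtain ⟨r, hr⟩ : ∃ r : X ⟶ Proj (CohB1.polyGrading n (ULift.{u} ℤ)),
      r = i ≫ pullback.fst (CohB1.ProjSpace.toSpec n (ULift.{u} ℤ))
        (specULiftZIsTerminal.from Y) := ⟨_, rfl⟩
  have e' : M ≅ (Scheme.Modules.pullback r).obj (twist (CohB1.polyGrading n (ULift.{u} ℤ)) 1) :=
    e ≪≫ (Scheme.Modules.pullbackComp i (pullback.fst (CohB1.ProjSpace.toSpec n (ULift.{u} ℤ))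
      (specULiftZIsTerminal.from Y))).app (Twist.twistProjSpace n (ULift.{u} ℤ) 1) ≪≫
      (Scheme.Modules.pullbackCongr hr.symm).app _
  refine isAmple_of_iso e'.symm ?_
  have hinv : PicF.IsInvertible
      ((Scheme.Modules.pullback r).obj (twist (CohB1.polyGrading n (ULift.{u} ℤ)) 1)) :=
    isInvertible_pullback r (isInvertible_O1 n (ULift.{u} ℤ))
  refine isAmple_of_cover_isQuasiAffine hinv (μ n r) (fun x => ?_) (fun j => ?_)
  · have h1 : r x ∈ (⊤ : (Proj (CohB1.polyGrading n (ULift.{u} ℤ))).Opens) := trivial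
    rw [← iSup_basicOpen_X n (ULift.{u} ℤ)] at h1
    obtain ⟨j, hj⟩ := Opens.mem_iSup.1 h1
    exact ⟨j, by rw [genLocus_μ]; exact hj⟩
  · -- the open `W = D₊(T_j) × Y` of `P^n_Y`
    obtain ⟨W, hW⟩ : ∃ W : (CohB1.ProjSpaceOver n Y).Opens,
        W = prodOpen (CohB1.ProjSpace.toSpec n (ULift.{u} ℤ)) (specULiftZIsTerminal.from Y)
          (Proj.basicOpen (CohB1.polyGrading n (ULift.{u} ℤ))
            (MvPolynomial.X j : MvPolynomial (Fin (n + 1)) (ULift.{u} ℤ))) ⊤ := ⟨_, rfl⟩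
    have hWaff : IsAffineOpen W := by
      rw [hW]
      exact isAffineOpen_prodOpen _ _
        (Proj.isAffineOpen_basicOpen _ _ (X_mem n _ j) one_pos) (isAffineOpen_top Y)
    have hW' : W = pullback.fst (CohB1.ProjSpace.toSpec n (ULift.{u} ℤ))
        (specULiftZIsTerminal.from Y) ⁻¹ᵁ (Proj.basicOpen (CohB1.polyGrading n (ULift.{u} ℤ))
            (MvPolynomial.X j : MvPolynomial (Fin (n + 1)) (ULift.{u} ℤ))) := by
      rw [hW]
      exact inf_top_eq _
    have hgl : CohB1.genLocus _ (μ n r j) = i ⁻¹ᵁ W := by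
      rw [genLocus_μ, hW', hr]
      rfl
    have hc : IsCompact ((CohB1.genLocus _ (μ n r j) : X.Opens) : Set X) := by
      have := isRetrocompact_genLocus hinv (μ n r j) isCompact_univ isOpen_univ
      simpa using this
    rw [hgl] at hc ⊢
    have hWa : IsAffine W.toScheme := hWaff
    have hWq : W.toScheme.IsQuasiAffine := inferInstance
    have : CompactSpace (i ⁻¹ᵁ W) := isCompact_iff_compactSpace.mp hc
    exact Scheme.IsQuasiAffine.of_isImmersion (i ∣_ W)

end Groth.Agent.Lib.Proj.VeryAmpleConverse
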