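import Mathlib.AlgebraicGeometry.Morphisms.Immersion
import Mathlib.AlgebraicGeometry.Morphisms.ClosedImmersion
import Mathlib.AlgebraicGeometry.PullbackCarrier

/-!
# Local criteria for closed immersions / immersions (lead)

ns `Groth.Agent.Lib.Proj.ImmersionCrit`.

* `isClosedImmersion_of_affine_cover` : `f : X ⟶ Y`, affine opens `U k` covering `Y` with `f⁻¹ U k`
  affine and `f.app (U k)` surjective ⟹ `f` closed immersion.
* `isImmersion_of_local` : the same with `U k` only covering the image ⟹ `f` immersion.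
* `isImmersion_lift` : `(r, f) : X ⟶ P ×_B S` is an immersion if locally `Γ(X, r⁻¹ D ⊓ f⁻¹ V)` is
  generated by the images of `Γ(P, D)` and `Γ(S, V)`.
-/

universe u
open CategoryTheory CategoryTheory.Limits AlgebraicGeometry TopologicalSpace Opposite

namespace Groth.Agent.Lib.Proj.ImmersionCrit

set_option backward.isDefEq.respectTransparency.types false in
theorem isClosedImmersion_of_iSup_eq_top' {X Y : Scheme.{u}} (f : X ⟶ Y) {ι : Type*}
    (U : ι → Y.affineOpens) (hU : ⨆ i, (U i : Y.Opens) = ⊤)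
    (h : ∀ i, IsAffine ((f ⁻¹ᵁ (U i).1 : X.Opens) : Scheme.{u}) ∧
      Function.Surjective ((f ∣_ (U i).1).appTop)) : IsClosedImmersion f :=
  HasAffineProperty.of_iSup_eq_top (P := @IsClosedImmersion) U hU h

theorem isClosedImmersion_of_affine_cover {X Y : Scheme.{u}} (f : X ⟶ Y) {κ : Type*}
    (U : κ → Y.Opens) (hU : ∀ k, IsAffineOpen (U k)) (hsup : ⨆ k, U k = ⊤)
    (hfU : ∀ k, IsAffineOpen (f ⁻¹ᵁ U k))
    (hsurj : ∀ k, Function.Surjective (f.app (U k))) : IsClosedImmersion f := by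
  refine isClosedImmersion_of_iSup_eq_top' f (fun k => ⟨U k, hU k⟩) hsup
    (fun k => ⟨hfU k, ?_⟩)
  rw [morphismRestrict_appTop]
  have key : ∀ (V : Y.Opens), V = U k → Function.Surjective (f.app V) := by
    rintro _ rfl; exact hsurj k
  have h1 := key _ (Scheme.Opens.ι_image_top (U k))
  have h2 : Function.Bijective (X.presheaf.map (eqToHom
      (image_morphismRestrict_preimage f (U k) ⊤)).op) :=
    (ConcreteCategory.isIso_iff_bijective _).1 inferInstance
  intro y
  obtain ⟨z, hz⟩ := h2.2 y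
  obtain ⟨w, hw⟩ := h1 z
  exact ⟨w, by rw [← hz, ← hw]; rfl⟩

theorem isImmersion_of_local {X Y : Scheme.{u}} (f : X ⟶ Y) {κ : Type*} (U : κ → Y.Opens)
    (hcov : ∀ x : X, ∃ k, f x ∈ U k) (hU : ∀ k, IsAffineOpen (U k))
    (hfU : ∀ k, IsAffineOpen (f ⁻¹ᵁ U k))
    (hsurj : ∀ k, Function.Surjective (f.app (U k))) : IsImmersion f := by
  obtain ⟨W, hW⟩ : ∃ W : Y.Opens, W = ⨆ k, U k := ⟨_, rfl⟩
  have hle : ∀ k, U k ≤ W := fun k => hW ▸ le_iSup U k
  have hrange : Set.range f ⊆ Set.range W.ι := by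
    rw [Scheme.Opens.range_ι]
    rintro _ ⟨x, rfl⟩
    obtain ⟨k, hk⟩ := hcov x
    exact hle k hk
  obtain ⟨f', rfl⟩ : ∃ f' : X ⟶ W, f' ≫ W.ι = f :=
    ⟨IsOpenImmersion.lift W.ι f hrange, IsOpenImmersion.lift_fac _ _ _⟩
  have hci : IsClosedImmersion f' := by
    refine isClosedImmersion_of_affine_cover f' (fun k => W.ι ⁻¹ᵁ U k)
      (fun k => (hU k).preimage_of_isOpenImmersion W.ι (by
        rw [Scheme.Opens.opensRange_ι]; exact hle k)) ?_ (fun k => hfU k) (fun k => ?_)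
    · rw [eq_top_iff]
      rintro ⟨y, hy⟩ _
      rw [hW] at hy
      obtain ⟨k, hk⟩ := Opens.mem_iSup.1 hy
      exact Opens.mem_iSup.2 ⟨k, hk⟩
    · have h1 : (f' ≫ W.ι).app (U k) = W.ι.app (U k) ≫ f'.app (W.ι ⁻¹ᵁ U k) :=
        Scheme.Hom.comp_app _ _ _
      have h2 := hsurj k
      rw [h1] at h2
      intro y
      obtain ⟨z, hz⟩ := h2 y
      exact ⟨(W.ι.app (U k)).hom z, hz⟩
  infer_instance

/-- compatibility of `appLE` with a factorisation `i ≫ π = r` -/
lemma map_appLE_eq_app_appLE {X Y P : Scheme.{u}} (i : X ⟶ Y) (π : Y ⟶ P) (r : X ⟶ P)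
    (hfac : i ≫ π = r) (D : P.Opens) (W : Y.Opens) (hW : W ≤ π ⁻¹ᵁ D) (U : X.Opens)
    (hU' : i ⁻¹ᵁ W ≤ U) (hUD : U ≤ r ⁻¹ᵁ D) (s : Γ(P, D)) :
    (X.presheaf.map (homOfLE hU').op).hom ((r.appLE D U hUD).hom s) =
      (i.app W).hom ((π.appLE D W hW).hom s) := by
  subst hfac
  have h1 : (i ≫ π).appLE D U hUD ≫ X.presheaf.map (homOfLE hU').op =
      (i ≫ π).appLE D (i ⁻¹ᵁ W) (hU'.trans hUD) := Scheme.Hom.appLE_map _ _ _
  have h2 : π.appLE D W hW ≫ i.appLE W (i ⁻¹ᵁ W) le_rfl =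
      (i ≫ π).appLE D (i ⁻¹ᵁ W) (hU'.trans hUD) := Scheme.Hom.appLE_comp_appLE _ _ _ _ _ _ _
  rw [Scheme.Hom.appLE_eq_app] at h2
  exact (congrArg (fun k => k.hom s) h1).trans (congrArg (fun k => k.hom s) h2).symm

section Lift

variable {X P S B : Scheme.{u}} (p : P ⟶ B) (t : S ⟶ B) (r : X ⟶ P) (f : X ⟶ S)
  (h : r ≫ p = f ≫ t)

/-- the open `D ×_B V` of `P ×_B S` -/
noncomputable def prodOpen (D : P.Opens) (V : S.Opens) : (pullback p t).Opens :=
  pullback.fst p t ⁻¹ᵁ D ⊓ pullback.snd p t ⁻¹ᵁ V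

lemma lift_preimage_prodOpen (D : P.Opens) (V : S.Opens) :
    pullback.lift r f h ⁻¹ᵁ prodOpen p t D V = r ⁻¹ᵁ D ⊓ f ⁻¹ᵁ V := by
  ext x
  have h1 : pullback.fst p t (pullback.lift r f h x) = r x := by
    rw [← Scheme.Hom.comp_apply, pullback.lift_fst]
  have h2 : pullback.snd p t (pullback.lift r f h x) = f x := by
    rw [← Scheme.Hom.comp_apply, pullback.lift_snd]
  show (pullback.fst p t (pullback.lift r f h x) ∈ D ∧
    pullback.snd p t (pullback.lift r f h x) ∈ V) ↔ (r x ∈ D ∧ f x ∈ V)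
  rw [h1, h2]

theorem isAffineOpen_prodOpen [IsAffine B] {D : P.Opens} (hD : IsAffineOpen D) {V : S.Opens}
    (hV : IsAffineOpen V) : IsAffineOpen (prodOpen p t D V) := by
  have : IsAffine D.toScheme := hD
  have : IsAffine V.toScheme := hV
  let j : pullback (D.ι ≫ p) (V.ι ≫ t) ⟶ pullback p t :=
    pullback.map _ _ _ _ D.ι V.ι (𝟙 B) (by simp) (by simp)
  have hj : j.opensRange = prodOpen p t D V := by
    ext x
    simp only [j, prodOpen, Scheme.Hom.coe_opensRange, Scheme.Pullback.range_map,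
      Scheme.Opens.range_ι, Opens.coe_inf, Scheme.Hom.coe_preimage]
  rw [← hj]
  exact isAffineOpen_opensRange j

/-- **immersion criterion for `(r, f) : X ⟶ P ×_B S`** (`B` affine): if `X` is covered by affine
opens `U k = r⁻¹ D k ⊓ f⁻¹ V k` (`D k`, `V k` affine) such that `Γ(X, U k)` is generated as a ring by
the images of `Γ(P, D k)` and `Γ(S, V k)`, then `(r, f)` is an immersion. -/
theorem isImmersion_lift [IsAffine B] {κ : Type*} (D : κ → P.Opens) (V : κ → S.Opens)
    (U : κ → X.Opens) (hD : ∀ k, IsAffineOpen (D k)) (hV : ∀ k, IsAffineOpen (V k))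
    (hU : ∀ k, U k = r ⁻¹ᵁ D k ⊓ f ⁻¹ᵁ V k) (hUaff : ∀ k, IsAffineOpen (U k))
    (hcov : ∀ x : X, ∃ k, x ∈ U k)
    (hgen : ∀ k (y : Γ(X, U k)), y ∈ Subring.closure
      (Set.range (r.appLE (D k) (U k) ((hU k).le.trans inf_le_left)).hom ∪
        Set.range (f.appLE (V k) (U k) ((hU k).le.trans inf_le_right)).hom)) :
    IsImmersion (pullback.lift r f h) := by
  have hpre : ∀ k, pullback.lift r f h ⁻¹ᵁ prodOpen p t (D k) (V k) = U k := fun k =>
    (lift_preimage_prodOpen p t r f h (D k) (V k)).trans (hU k).symm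
  refine isImmersion_of_local (pullback.lift r f h) (fun k => prodOpen p t (D k) (V k))
    (fun x => ?_) (fun k => isAffineOpen_prodOpen p t (hD k) (hV k)) (fun k => ?_) (fun k => ?_)
  · obtain ⟨k, hk⟩ := hcov x
    refine ⟨k, ?_⟩
    have : x ∈ pullback.lift r f h ⁻¹ᵁ prodOpen p t (D k) (V k) := by rw [hpre k]; exact hk
    exact this
  · rw [hpre k]; exact hUaff k
  · intro y
    -- transport `y` to `U k`
    have hle : pullback.lift r f h ⁻¹ᵁ prodOpen p t (D k) (V k) ≤ U k := (hpre k).le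
    have hge : U k ≤ pullback.lift r f h ⁻¹ᵁ prodOpen p t (D k) (V k) := (hpre k).ge
    have hy : y = (X.presheaf.map (homOfLE hle).op).hom
        ((X.presheaf.map (homOfLE hge).op).hom y) := by
      have h1 : X.presheaf.map (homOfLE hge).op ≫ X.presheaf.map (homOfLE hle).op = 𝟙 _ := by
        rw [← X.presheaf.map_comp, ← X.presheaf.map_id]
        rfl
      exact (congrArg (fun k => k.hom y) h1).symm
    have key : Subring.closure
        (Set.range (r.appLE (D k) (U k) ((hU k).le.trans inf_le_left)).hom ∪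
          Set.range (f.appLE (V k) (U k) ((hU k).le.trans inf_le_right)).hom) ≤
        ((pullback.lift r f h).app (prodOpen p t (D k) (V k))).hom.range.comap
          (X.presheaf.map (homOfLE hle).op).hom := by
      rw [Subring.closure_le]
      rintro g (⟨s, rfl⟩ | ⟨s, rfl⟩)
      · exact ⟨_, (map_appLE_eq_app_appLE (pullback.lift r f h) (pullback.fst p t) r
          (pullback.lift_fst _ _ _) (D k) (prodOpen p t (D k) (V k)) inf_le_left (U k) hle _ s).symm⟩
      · exact ⟨_, (map_appLE_eq_app_appLE (pullback.lift r f h) (pullback.snd p t) f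
          (pullback.lift_snd _ _ _) (V k) (prodOpen p t (D k) (V k)) inf_le_right (U k) hle _ s).symm⟩
    obtain ⟨w, hw⟩ := key (hgen k ((X.presheaf.map (homOfLE hge).op).hom y))
    exact ⟨w, hw.trans hy.symm⟩

end Lift

end Groth.Agent.Lib.Proj.ImmersionCrit
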