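import Groth.Agent.Lib.Proj.PnUnique
import Groth.Agent.Lib.Proj.ImmersionCrit
import Groth.Prelude.Def_LCI2

/-!
# Very ampleness (projective-space form) from sections (lead)

ns `Groth.Agent.Lib.Proj.VeryAmplePn`.

* `isRelVeryAmplePn_of_sections` : sections `σ_0, …, σ_n` of an invertible `L` on `X` over `S`
  such that the `X_{σ_k}` (`k ∈ K`) are affine, cover `X`, each lies over an affine open `V k` of `S`
  and `Γ(X_{σ_k})` is generated by the `σ_j / σ_k` over `Γ(S, V k)`: then `L` is very ample relative to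
  `f` (immersion into `P^n_S` with `i^* O(1) ≅ L`).
-/

universe u
open CategoryTheory CategoryTheory.Limits AlgebraicGeometry TopologicalSpace Opposite
  HomogeneousLocalization

namespace Groth.Agent.Lib.Proj.VeryAmplePn

open Groth.Agent.Lib.Ample Groth.Agent.Lib.QCoh Groth.Agent.Lib.Proj Groth.Agent.Lib.Proj.ToProj
  Groth.Agent.Lib.Proj.ToPn Groth.Agent.Lib.Proj.PullSec Groth.Agent.Lib.Proj.QuotCompare
  Groth.Agent.Lib.Proj.PnUP Groth.Agent.Lib.Proj.PnUnique Groth.Agent.Lib.Proj.ImmersionCrit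
  Scheme.Modules Twist

variable {X S : Scheme.{u}} (f : X ⟶ S) {L : X.Modules} (n : ℕ)
  (σ : Fin (n + 1) → (Coh.structureModule X ⟶ L))

theorem isRelVeryAmplePn_of_sections (K : Set (Fin (n + 1))) (V : Fin (n + 1) → S.Opens)
    (hcov : ∀ x : X, ∃ k ∈ K, x ∈ CohB1.genLocus L (σ k))
    (hUaff : ∀ k ∈ K, IsAffineOpen (CohB1.genLocus L (σ k)))
    (hV : ∀ k ∈ K, IsAffineOpen (V k))
    (hle : ∀ k, CohB1.genLocus L (σ k) ≤ f ⁻¹ᵁ V k)
    (hgen : ∀ k ∈ K, ∀ y : Γ(X, CohB1.genLocus L (σ k)), y ∈ Subring.closure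
      (Set.range (fun j => ratio (σ k) (σ j)) ∪
        Set.range (f.appLE (V k) (CohB1.genLocus L (σ k)) (hle k)).hom)) :
    RelAmple.IsRelVeryAmplePn f L := by
  have hcov' : ∀ x : X, ∃ i, x ∈ CohB1.genLocus L (σ i) := fun x => by
    obtain ⟨k, _, hk⟩ := hcov x; exact ⟨k, hk⟩
  obtain ⟨r, hrq, τ, hτ⟩ := exists_toPn_iso (R := ULift.{u} ℤ) n (specULiftZIsTerminal.from X) σ hcov'
  have hcomm : r ≫ CohB1.ProjSpace.toSpec n (ULift.{u} ℤ) = f ≫ specULiftZIsTerminal.from S :=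
    specULiftZIsTerminal.hom_ext _ _
  have hpre := genLocus_eq_preimage n σ r τ hτ
  have himm : IsImmersion (pullback.lift r f hcomm) := by
    refine isImmersion_lift (CohB1.ProjSpace.toSpec n (ULift.{u} ℤ)) (specULiftZIsTerminal.from S)
      r f hcomm (κ := K)
      (fun k => Proj.basicOpen (CohB1.polyGrading n (ULift.{u} ℤ))
        (MvPolynomial.X k.1 : MvPolynomial (Fin (n + 1)) (ULift.{u} ℤ)))
      (fun k => V k.1) (fun k => CohB1.genLocus L (σ k.1))
      (fun k => Proj.isAffineOpen_basicOpen _ _ (X_mem n _ k.1) one_pos)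
      (fun k => hV k.1 k.2) (fun k => ?_) (fun k => hUaff k.1 k.2) (fun x => ?_) (fun k y => ?_)
    · exact (inf_eq_left.2 (hle k.1)).symm.trans
        (congrArg (fun W : X.Opens => W ⊓ f ⁻¹ᵁ V k.1) (hpre k.1))
    · obtain ⟨k, hkK, hk⟩ := hcov x
      exact ⟨⟨k, hkK⟩, hk⟩
    · refine Subring.closure_mono ?_ (hgen k.1 k.2 y)
      rintro g (⟨j, rfl⟩ | hg)
      · left
        refine ⟨zfrac n _ k.1 j, ?_⟩
        exact app_zfrac n σ r τ hτ k.1 j
      · right
        exact hg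
  refine ⟨n, pullback.lift r f hcomm, himm, pullback.lift_snd _ _ _, ⟨?_⟩⟩
  refine τ.symm ≪≫ ?_
  refine ((Scheme.Modules.pullbackCongr (pullback.lift_fst r f hcomm)).symm.app _) ≪≫ ?_
  exact ((Scheme.Modules.pullbackComp (pullback.lift r f hcomm)
    (pullback.fst (CohB1.ProjSpace.toSpec n (ULift.{u} ℤ)) (specULiftZIsTerminal.from S))).app
      (Twist.twistProjSpace n (ULift.{u} ℤ) 1)).symm

/-- identification of a ratio: if `τ = b • σ` on `X_σ` then `τ / σ = b` -/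
lemma ratio_eq_of_smul (σ₀ τ₀ : Coh.structureModule X ⟶ L) (b : Γ(X, CohB1.genLocus L σ₀))
    (hb : resSec L (le_top : CohB1.genLocus L σ₀ ≤ ⊤) (secOf τ₀) =
      b • resSec L (le_top : CohB1.genLocus L σ₀ ≤ ⊤) (secOf σ₀)) :
    ratio σ₀ τ₀ = b := by
  apply eq_of_smul_resSec_eq σ₀ le_rfl
  exact (ratio_spec σ₀ τ₀).symm.trans hb

/-- version of `isRelVeryAmplePn_of_sections` for a family of sections indexed by an arbitrary
nonempty finite type -/
theorem isRelVeryAmplePn_of_sections' {ι : Type*} [Finite ι] [Nonempty ι]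
    (σ : ι → (Coh.structureModule X ⟶ L)) (K : Set ι) (V : ι → S.Opens)
    (hcov : ∀ x : X, ∃ k ∈ K, x ∈ CohB1.genLocus L (σ k))
    (hUaff : ∀ k ∈ K, IsAffineOpen (CohB1.genLocus L (σ k)))
    (hV : ∀ k ∈ K, IsAffineOpen (V k))
    (hle : ∀ k, CohB1.genLocus L (σ k) ≤ f ⁻¹ᵁ V k)
    (hgen : ∀ k ∈ K, ∀ y : Γ(X, CohB1.genLocus L (σ k)), y ∈ Subring.closure
      (Set.range (fun j => ratio (σ k) (σ j)) ∪
        Set.range (f.appLE (V k) (CohB1.genLocus L (σ k)) (hle k)).hom)) :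
    RelAmple.IsRelVeryAmplePn f L := by
  classical
  obtain ⟨m, ⟨e⟩⟩ := Finite.exists_equiv_fin ι
  obtain ⟨n, rfl⟩ : ∃ n, m = n + 1 := by
    cases m with
    | zero => exact (IsEmpty.false (e (Classical.arbitrary ι))).elim
    | succ n => exact ⟨n, rfl⟩
  refine isRelVeryAmplePn_of_sections f n (fun i => σ (e.symm i)) (e.symm ⁻¹' K)
    (fun i => V (e.symm i)) (fun x => ?_) (fun k hk => hUaff _ hk) (fun k hk => hV _ hk)
    (fun k => hle _) (fun k hk y => ?_)
  · obtain ⟨k, hkK, hk⟩ := hcov x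
    exact ⟨e k, by simpa using hkK, by simpa using hk⟩
  · refine Subring.closure_mono ?_ (hgen _ hk y)
    rintro g (⟨j, rfl⟩ | hg)
    · left
      exact ⟨e j, by simp⟩
    · right
      exact hg

end Groth.Agent.Lib.Proj.VeryAmplePn
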