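import Groth.Prelude.Def_CohB1

/-!
# Standard affine charts of projective space `CohB1.ProjSpace n R`

* `awayXEquiv n R i : Away (polyGrading n R) (X i) ≃+* MvPolynomial {j // j ≠ i} R` (dehomogenisation);
* `chart n R i : Spec (MvPolynomial {j // j ≠ i} R) ⟶ ProjSpace n R`, an open immersion with range
  `D₊(X i)`, compatible with the structure morphisms;
* `iSup_basicOpen_X`, `iSup_opensRange_chart`, `affineOpenCover`.
-/

set_option maxHeartbeats 400000

universe u

open CategoryTheory AlgebraicGeometry MvPolynomial HomogeneousLocalization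

namespace Groth.Agent.Lib.Proj

noncomputable section

/-- General fact: evaluating a homogeneous polynomial of degree `m` at `g j * u` multiplies by `u ^ m`. -/
theorem eval₂Hom_mul_of_isHomogeneous {σ : Type*} {R B : Type*} [CommRing R] [CommRing B]
    (f : R →+* B) (g : σ → B) (u : B) {x : MvPolynomial σ R} {m : ℕ} (hx : x.IsHomogeneous m) :
    MvPolynomial.eval₂Hom f (fun j => g j * u) x = MvPolynomial.eval₂Hom f g x * u ^ m := by
  have key : ∀ d ∈ x.support,
      MvPolynomial.eval₂Hom f (fun j => g j * u) (monomial d (coeff d x)) =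
        MvPolynomial.eval₂Hom f g (monomial d (coeff d x)) * u ^ m := by
    intro d hd
    have hdeg : m = ∑ j ∈ d.support, d j := hx.degree_eq_sum_deg_support hd
    simp only [coe_eval₂Hom, eval₂_monomial]
    rw [hdeg, Finsupp.prod, Finsupp.prod, ← Finset.prod_pow_eq_pow_sum, mul_assoc,
      ← Finset.prod_mul_distrib]
    congr 1
    exact Finset.prod_congr rfl (fun j _ => mul_pow _ _ _)
  calc MvPolynomial.eval₂Hom f (fun j => g j * u) x
      = MvPolynomial.eval₂Hom f (fun j => g j * u)
          (∑ d ∈ x.support, monomial d (coeff d x)) := by rw [← x.as_sum]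
    _ = ∑ d ∈ x.support, MvPolynomial.eval₂Hom f (fun j => g j * u) (monomial d (coeff d x)) :=
        map_sum _ _ _
    _ = ∑ d ∈ x.support, MvPolynomial.eval₂Hom f g (monomial d (coeff d x)) * u ^ m :=
        Finset.sum_congr rfl key
    _ = (∑ d ∈ x.support, MvPolynomial.eval₂Hom f g (monomial d (coeff d x))) * u ^ m := by
        rw [Finset.sum_mul]
    _ = MvPolynomial.eval₂Hom f g x * u ^ m := by rw [← map_sum, ← x.as_sum]

section Algebra

variable (n : ℕ) (R : Type u) [CommRing R] (i : Fin (n + 1))

/-- `X i` is homogeneous of degree one. -/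
theorem X_mem : (X i : MvPolynomial (Fin (n + 1)) R) ∈ CohB1.polyGrading n R 1 :=
  isHomogeneous_X R i

/-- Dehomogenisation with respect to the `i`-th variable: `X i ↦ 1`. -/
def dehom : MvPolynomial (Fin (n + 1)) R →ₐ[R] MvPolynomial {j : Fin (n + 1) // j ≠ i} R :=
  MvPolynomial.aeval (fun j => if h : j = i then 1 else X ⟨j, h⟩)

@[simp] theorem dehom_X_self : dehom n R i (X i) = 1 := by simp [dehom]

@[simp] theorem dehom_X_of_ne (j : Fin (n + 1)) (h : j ≠ i) : dehom n R i (X j) = X ⟨j, h⟩ := by
  simp [dehom, h]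

@[simp] theorem dehom_C (r : R) : dehom n R i (C r) = C r := by
  simp [dehom]

/-- The map `R[X_0..X_n]_{X_i} → R[X_j, j ≠ i]` extending dehomogenisation. -/
def locToChart : Localization.Away (X i : MvPolynomial (Fin (n + 1)) R) →+*
    MvPolynomial {j : Fin (n + 1) // j ≠ i} R :=
  IsLocalization.lift (M := Submonoid.powers (X i : MvPolynomial (Fin (n + 1)) R))
    (g := (dehom n R i : MvPolynomial (Fin (n + 1)) R →+* _))
    (fun y => by
      obtain ⟨k, hk⟩ := y.2
      rw [← hk, map_pow, RingHom.coe_coe, dehom_X_self, one_pow]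
      exact isUnit_one)

theorem locToChart_mk' (x : MvPolynomial (Fin (n + 1)) R)
    (y : Submonoid.powers (X i : MvPolynomial (Fin (n + 1)) R)) :
    locToChart n R i (IsLocalization.mk' _ x y) = dehom n R i x := by
  rw [locToChart, IsLocalization.lift_mk'_spec]
  obtain ⟨k, hk⟩ := y.2
  rw [← hk, map_pow, RingHom.coe_coe, dehom_X_self, one_pow, one_mul]

theorem locToChart_algebraMap (x : MvPolynomial (Fin (n + 1)) R) :
    locToChart n R i (algebraMap _ _ x) = dehom n R i x := by
  rw [locToChart, IsLocalization.lift_eq]; rfl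

/-- The dehomogenisation map on the degree-zero localisation. -/
def awayToChart : Away (CohB1.polyGrading n R) (X i : MvPolynomial (Fin (n + 1)) R) →+*
    MvPolynomial {j : Fin (n + 1) // j ≠ i} R :=
  (locToChart n R i).comp (algebraMap _ _)

theorem awayToChart_mk (m : ℕ) (x : MvPolynomial (Fin (n + 1)) R)
    (hx : x ∈ CohB1.polyGrading n R (m • 1)) :
    awayToChart n R i (Away.mk (CohB1.polyGrading n R) (X_mem n R i) m x hx) = dehom n R i x := by
  rw [awayToChart, RingHom.comp_apply, HomogeneousLocalization.algebraMap_apply, Away.val_mk,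
    Localization.mk_eq_mk', locToChart_mk']

/-- The structure map `R → (R[X]_{X_i})_0`. -/
def constHom : R →+* Away (CohB1.polyGrading n R) (X i : MvPolynomial (Fin (n + 1)) R) :=
  (fromZeroRingHom (CohB1.polyGrading n R) _).comp (algebraMap R (CohB1.polyGrading n R 0))

theorem val_constHom (r : R) :
    (constHom n R i r).val = algebraMap (MvPolynomial (Fin (n + 1)) R) _ (C r) := by
  rw [constHom, RingHom.comp_apply, ← Localization.mk_one_eq_algebraMap]
  rfl

theorem awayToChart_constHom (r : R) : awayToChart n R i (constHom n R i r) = C r := by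
  rw [awayToChart, RingHom.comp_apply, HomogeneousLocalization.algebraMap_apply, val_constHom,
    locToChart_algebraMap, dehom_C]

theorem X_mem' (j : Fin (n + 1)) :
    (X j : MvPolynomial (Fin (n + 1)) R) ∈ CohB1.polyGrading n R (1 • 1) := by
  rw [smul_eq_mul, mul_one]; exact isHomogeneous_X R j

/-- The inverse map: `X_j ↦ X_j / X_i`. -/
def chartToAway : MvPolynomial {j : Fin (n + 1) // j ≠ i} R →+*
    Away (CohB1.polyGrading n R) (X i : MvPolynomial (Fin (n + 1)) R) :=
  MvPolynomial.eval₂Hom (constHom n R i)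
    (fun j => Away.mk (CohB1.polyGrading n R) (X_mem n R i) 1 (X j.1) (X_mem' n R j.1))

theorem awayToChart_comp_chartToAway :
    (awayToChart n R i).comp (chartToAway n R i) = RingHom.id _ := by
  apply MvPolynomial.ringHom_ext
  · intro r
    rw [RingHom.comp_apply, chartToAway, coe_eval₂Hom, eval₂_C, awayToChart_constHom]; rfl
  · intro j
    rw [RingHom.comp_apply, chartToAway, coe_eval₂Hom, eval₂_X, awayToChart_mk,
      dehom_X_of_ne n R i j.1 j.2]; rfl

/-- The inverse of `X i` in the localisation. -/
def invX : Localization.Away (X i : MvPolynomial (Fin (n + 1)) R) :=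
  IsLocalization.mk' _ (1 : MvPolynomial (Fin (n + 1)) R)
    (⟨X i, ⟨1, pow_one _⟩⟩ : Submonoid.powers (X i : MvPolynomial (Fin (n + 1)) R))

theorem algebraMap_X_mul_invX :
    algebraMap (MvPolynomial (Fin (n + 1)) R) (Localization.Away (X i)) (X i) * invX n R i = 1 := by
  rw [mul_comm, invX]
  have := IsLocalization.mk'_spec (Localization.Away (X i : MvPolynomial (Fin (n + 1)) R))
    (1 : MvPolynomial (Fin (n + 1)) R)
    (⟨X i, ⟨1, pow_one _⟩⟩ : Submonoid.powers (X i : MvPolynomial (Fin (n + 1)) R))
  rw [map_one] at this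
  exact this

theorem val_mk_eq (m : ℕ) (x : MvPolynomial (Fin (n + 1)) R)
    (hx : x ∈ CohB1.polyGrading n R (m • 1)) :
    (Away.mk (CohB1.polyGrading n R) (X_mem n R i) m x hx).val =
      algebraMap _ _ x * invX n R i ^ m := by
  rw [Away.val_mk, Localization.mk_eq_mk', IsLocalization.mk'_eq_iff_eq_mul]
  simp only
  rw [map_pow, mul_assoc, ← mul_pow, mul_comm (invX n R i), algebraMap_X_mul_invX, one_pow, mul_one]

/-- The composite `R[X] → R[X_j, j ≠ i] → (R[X]_{X_i})_0 → R[X]_{X_i}` is `X_j ↦ X_j / X_i`. -/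
theorem val_chartToAway_dehom_eq :
    ((algebraMap (Away (CohB1.polyGrading n R) (X i : MvPolynomial (Fin (n + 1)) R))
      (Localization.Away (X i : MvPolynomial (Fin (n + 1)) R))).comp
        ((chartToAway n R i).comp (dehom n R i : MvPolynomial (Fin (n + 1)) R →+* _))) =
    MvPolynomial.eval₂Hom ((algebraMap (MvPolynomial (Fin (n + 1)) R) (Localization.Away (X i))).comp C)
      (fun j => algebraMap (MvPolynomial (Fin (n + 1)) R) (Localization.Away (X i)) (X j) *
        invX n R i) := by
  apply MvPolynomial.ringHom_ext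
  · intro r
    simp only [RingHom.comp_apply, RingHom.coe_coe, dehom_C, coe_eval₂Hom, eval₂_C]
    rw [chartToAway, coe_eval₂Hom, eval₂_C, HomogeneousLocalization.algebraMap_apply, val_constHom]
  · intro j
    simp only [RingHom.comp_apply, RingHom.coe_coe, coe_eval₂Hom, eval₂_X]
    by_cases h : j = i
    · subst h
      rw [dehom_X_self, map_one, map_one, algebraMap_X_mul_invX]
    · rw [dehom_X_of_ne n R i j h, chartToAway, coe_eval₂Hom, eval₂_X,
        HomogeneousLocalization.algebraMap_apply, val_mk_eq, pow_one]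

theorem algebraMap_eq_eval₂Hom :
    algebraMap (MvPolynomial (Fin (n + 1)) R) (Localization.Away (X i : MvPolynomial (Fin (n + 1)) R)) =
    MvPolynomial.eval₂Hom ((algebraMap (MvPolynomial (Fin (n + 1)) R) (Localization.Away (X i))).comp C)
      (fun j => algebraMap (MvPolynomial (Fin (n + 1)) R) (Localization.Away (X i)) (X j)) := by
  apply MvPolynomial.ringHom_ext
  · intro r
    simp only [RingHom.comp_apply, coe_eval₂Hom, eval₂_C]
  · intro j
    simp only [coe_eval₂Hom, eval₂_X]

theorem chartToAway_dehom (m : ℕ) (x : MvPolynomial (Fin (n + 1)) R)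
    (hx : x ∈ CohB1.polyGrading n R (m • 1)) :
    chartToAway n R i (dehom n R i x) =
      Away.mk (CohB1.polyGrading n R) (X_mem n R i) m x hx := by
  apply HomogeneousLocalization.val_injective
  have hx' : x.IsHomogeneous m := by
    have := hx
    rw [smul_eq_mul, mul_one] at this
    exact this
  have h1 := congrArg (fun φ : MvPolynomial (Fin (n + 1)) R →+* _ => φ x)
    (val_chartToAway_dehom_eq n R i)
  simp only [RingHom.comp_apply, RingHom.coe_coe, HomogeneousLocalization.algebraMap_apply] at h1
  rw [h1, eval₂Hom_mul_of_isHomogeneous _ _ _ hx', ← algebraMap_eq_eval₂Hom, val_mk_eq]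

theorem chartToAway_surjective : Function.Surjective (chartToAway n R i) := by
  intro y
  obtain ⟨m, x, hx, rfl⟩ := Away.mk_surjective (CohB1.polyGrading n R) (X_mem n R i) y
  exact ⟨dehom n R i x, chartToAway_dehom n R i m x hx⟩

theorem chartToAway_comp_awayToChart :
    (chartToAway n R i).comp (awayToChart n R i) = RingHom.id _ := by
  ext y
  obtain ⟨z, rfl⟩ := chartToAway_surjective n R i y
  have := congrArg (fun φ : _ →+* _ => φ z) (awayToChart_comp_chartToAway n R i)
  simp only [RingHom.comp_apply, RingHom.id_apply] at this ⊢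
  rw [this]

/-- **Dehomogenisation**: `(R[X_0, …, X_n]_{X_i})_0 ≃ R[X_j, j ≠ i]`. -/
def awayXEquiv : Away (CohB1.polyGrading n R) (X i : MvPolynomial (Fin (n + 1)) R) ≃+*
    MvPolynomial {j : Fin (n + 1) // j ≠ i} R :=
  RingEquiv.ofRingHom (awayToChart n R i) (chartToAway n R i)
    (awayToChart_comp_chartToAway n R i) (chartToAway_comp_awayToChart n R i)

@[simp] theorem awayXEquiv_apply (y) : awayXEquiv n R i y = awayToChart n R i y := rfl

@[simp] theorem awayXEquiv_symm_apply (y) : (awayXEquiv n R i).symm y = chartToAway n R i y := rfl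

theorem awayXEquiv_mk (m : ℕ) (x : MvPolynomial (Fin (n + 1)) R)
    (hx : x ∈ CohB1.polyGrading n R (m • 1)) :
    awayXEquiv n R i (Away.mk (CohB1.polyGrading n R) (X_mem n R i) m x hx) = dehom n R i x :=
  awayToChart_mk n R i m x hx

theorem awayXEquiv_symm_X (j : {j : Fin (n + 1) // j ≠ i}) :
    (awayXEquiv n R i).symm (X j) =
      Away.mk (CohB1.polyGrading n R) (X_mem n R i) 1 (X j.1) (X_mem' n R j.1) := by
  rw [awayXEquiv_symm_apply, chartToAway, coe_eval₂Hom, eval₂_X]

theorem awayXEquiv_symm_C (r : R) :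
    (awayXEquiv n R i).symm (C r) = constHom n R i r := by
  rw [awayXEquiv_symm_apply, chartToAway, coe_eval₂Hom, eval₂_C]

/-- The version with `Fin n` as variable set. -/
def awayXEquivFin : Away (CohB1.polyGrading n R) (X i : MvPolynomial (Fin (n + 1)) R) ≃+*
    MvPolynomial (Fin n) R :=
  (awayXEquiv n R i).trans
    (MvPolynomial.renameEquiv R (finSuccAboveEquiv i).symm).toRingEquiv

end Algebra

section Scheme

variable (n : ℕ) (R : Type u) [CommRing R] (i : Fin (n + 1))

/-- The `i`-th standard chart, with target written as `Proj`. -/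
def chart' : Spec (CommRingCat.of (MvPolynomial {j : Fin (n + 1) // j ≠ i} R)) ⟶
    Proj (CohB1.polyGrading n R) :=
  Spec.map (awayXEquiv n R i).toCommRingCatIso.hom ≫
    Proj.awayι (CohB1.polyGrading n R) (X i) (X_mem n R i) Nat.one_pos

instance : IsOpenImmersion (chart' n R i) := by
  unfold chart'
  infer_instance

theorem opensRange_chart' :
    (chart' n R i).opensRange = Proj.basicOpen (CohB1.polyGrading n R) (X i) := by
  unfold chart'
  exact (Scheme.Hom.opensRange_comp_of_isIso _ _).trans (Proj.opensRange_awayι _ _ _ _)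

theorem chart'_toSpec :
    chart' n R i ≫ (Proj.toSpecZero (CohB1.polyGrading n R) ≫
      Spec.map (CommRingCat.ofHom (algebraMap R (CohB1.polyGrading n R 0)))) =
      Spec.map (CommRingCat.ofHom (C : R →+* MvPolynomial {j : Fin (n + 1) // j ≠ i} R)) := by
  unfold chart'
  rw [Category.assoc, Proj.awayι_toSpecZero_assoc, ← Spec.map_comp, ← Spec.map_comp]
  congr 1
  apply CommRingCat.hom_ext
  apply RingHom.ext
  intro r
  exact awayToChart_constHom n R i r

/-- The `i`-th standard chart `𝔸ⁿ_R = Spec R[X_j, j ≠ i] ⟶ ℙⁿ_R`. -/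
def chart : Spec (CommRingCat.of (MvPolynomial {j : Fin (n + 1) // j ≠ i} R)) ⟶
    CohB1.ProjSpace n R :=
  chart' n R i

instance : IsOpenImmersion (chart n R i) :=
  inferInstanceAs (IsOpenImmersion (chart' n R i))

/-- The standard open `D₊(X i)` of `ℙⁿ_R`. -/
def stdOpen : (CohB1.ProjSpace n R).Opens :=
  Proj.basicOpen (CohB1.polyGrading n R) (X i : MvPolynomial (Fin (n + 1)) R)

theorem stdOpen_eq :
    stdOpen n R i = Proj.basicOpen (CohB1.polyGrading n R) (X i : MvPolynomial (Fin (n + 1)) R) :=
  rfl

theorem opensRange_chart : (chart n R i).opensRange = stdOpen n R i :=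
  opensRange_chart' n R i

theorem range_chart : Set.range (chart n R i) = (stdOpen n R i : Set (CohB1.ProjSpace n R)) := by
  rw [← opensRange_chart]; rfl

theorem isAffineOpen_stdOpen : IsAffineOpen (stdOpen n R i) := by
  rw [← opensRange_chart]
  exact isAffineOpen_opensRange (chart n R i)

/-- The charts are compatible with the structure morphisms to `Spec R`. -/
theorem chart_toSpec :
    chart n R i ≫ CohB1.ProjSpace.toSpec n R =
      Spec.map (CommRingCat.ofHom (C : R →+* MvPolynomial {j : Fin (n + 1) // j ≠ i} R)) :=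
  chart'_toSpec n R i

theorem adjoin_zero_range_X :
    Algebra.adjoin (CohB1.polyGrading n R 0)
      (Set.range (X : Fin (n + 1) → MvPolynomial (Fin (n + 1)) R)) = ⊤ := by
  have key : ∀ x : MvPolynomial (Fin (n + 1)) R, x ∈ Algebra.adjoin (CohB1.polyGrading n R 0)
      (Set.range (X : Fin (n + 1) → MvPolynomial (Fin (n + 1)) R)) := by
    intro x
    induction x using MvPolynomial.induction_on with
    | C r =>
      exact Subalgebra.algebraMap_mem _
        (⟨C r, isHomogeneous_C _ r⟩ : CohB1.polyGrading n R 0)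
    | add p q hp hq => exact add_mem hp hq
    | mul_X p j hp => exact mul_mem hp (Algebra.subset_adjoin ⟨j, rfl⟩)
  exact top_unique fun x _ => key x

/-- The standard opens `D₊(X i)` cover projective space. -/
theorem iSup_basicOpen_X :
    ⨆ i : Fin (n + 1), Proj.basicOpen (CohB1.polyGrading n R)
      (X i : MvPolynomial (Fin (n + 1)) R) = ⊤ :=
  Proj.iSup_basicOpen_eq_top' (CohB1.polyGrading n R) _ (fun i => ⟨1, X_mem n R i⟩)
    (adjoin_zero_range_X n R)

theorem iSup_stdOpen : ⨆ i : Fin (n + 1), stdOpen n R i = ⊤ :=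
  iSup_basicOpen_X n R

theorem iSup_opensRange_chart : ⨆ i : Fin (n + 1), (chart n R i).opensRange = ⊤ := by
  simp_rw [opensRange_chart]
  exact iSup_stdOpen n R

theorem exists_mem_range_chart (x : CohB1.ProjSpace n R) :
    ∃ i : Fin (n + 1), x ∈ Set.range (chart n R i) := by
  have h : x ∈ (⨆ i : Fin (n + 1), (chart n R i).opensRange : (CohB1.ProjSpace n R).Opens) := by
    rw [iSup_opensRange_chart]; trivial
  obtain ⟨i, hi⟩ := TopologicalSpace.Opens.mem_iSup.mp h
  exact ⟨i, hi⟩

/-- The standard affine open cover of `ℙⁿ_R` by `n + 1` copies of `𝔸ⁿ_R`. -/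
def affineOpenCover : (CohB1.ProjSpace n R).AffineOpenCover where
  I₀ := Fin (n + 1)
  X i := CommRingCat.of (MvPolynomial {j : Fin (n + 1) // j ≠ i} R)
  f i := chart n R i
  idx x := (exists_mem_range_chart n R x).choose
  covers x := (exists_mem_range_chart n R x).choose_spec

/-- The standard open cover of `ℙⁿ_R`. -/
def openCover : (CohB1.ProjSpace n R).OpenCover := (affineOpenCover n R).openCover

instance : Finite (affineOpenCover n R).I₀ := inferInstanceAs (Finite (Fin (n + 1)))

instance : Finite (openCover n R).I₀ := inferInstanceAs (Finite (Fin (n + 1)))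

/-- In the `i`-th chart, `D₊(X j)` is the basic open `D(X_j)`. -/
theorem chart_preimage_stdOpen (j : Fin (n + 1)) (h : j ≠ i) :
    chart n R i ⁻¹ᵁ stdOpen n R j =
      PrimeSpectrum.basicOpen (X ⟨j, h⟩ : MvPolynomial {j : Fin (n + 1) // j ≠ i} R) := by
  change chart' n R i ⁻¹ᵁ Proj.basicOpen (CohB1.polyGrading n R) (X j) = _
  unfold chart'
  rw [Scheme.Hom.comp_preimage, Proj.awayι_preimage_basicOpen (CohB1.polyGrading n R)
    (X_mem n R i) Nat.one_pos (X_mem n R j) Nat.one_pos]
  have : awayXEquiv n R i (Away.isLocalizationElem (X_mem n R i) (X_mem n R j)) = X ⟨j, h⟩ := by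
    rw [awayXEquiv_apply, Away.isLocalizationElem, awayToChart_mk, pow_one, dehom_X_of_ne]
  rw [← this]
  rfl

theorem chart_preimage_stdOpen_self : chart n R i ⁻¹ᵁ stdOpen n R i = ⊤ := by
  rw [← opensRange_chart]
  exact Scheme.Hom.preimage_opensRange _

/-- Sections of the structure sheaf over `D₊(X i)` are the polynomial ring in the other variables. -/
def stdOpenΓIso : Γ(CohB1.ProjSpace n R, stdOpen n R i) ≅
    CommRingCat.of (MvPolynomial {j : Fin (n + 1) // j ≠ i} R) :=
  (CohB1.ProjSpace n R).presheaf.mapIso (eqToIso (by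
      rw [← opensRange_chart, Scheme.Hom.image_top_eq_opensRange])).op ≪≫
    (chart n R i).appIso ⊤ ≪≫ Scheme.ΓSpecIso _

end Scheme

end

end Groth.Agent.Lib.Proj
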