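import Mathlib

/-!
# `A_f ≃ A_(f)[T;T⁻¹]` for `f` homogeneous of degree one (lead)

ns `Groth.Agent.Lib.Proj.AwayLaurent`.
-/

universe u
open HomogeneousLocalization LaurentPolynomial

namespace Groth.Agent.Lib.Proj.AwayLaurent

variable {R A : Type u} [CommRing R] [CommRing A] [Algebra R A] (𝒜 : ℕ → Submodule R A)
  [GradedAlgebra 𝒜] {f : A} (hf : f ∈ 𝒜 1)

/-- `a / f^i` for `a ∈ 𝒜 i` -/
noncomputable def mk1 (i : ℕ) (a : A) (ha : a ∈ 𝒜 i) : Away 𝒜 f :=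
  Away.mk 𝒜 hf i a (by rw [smul_eq_mul, mul_one]; exact ha)

lemma val_mk1 (i : ℕ) (a : A) (ha : a ∈ 𝒜 i) :
    (mk1 𝒜 hf i a ha).val = Localization.mk a (⟨f ^ i, ⟨i, rfl⟩⟩ : Submonoid.powers f) :=
  Away.val_mk ..

lemma mk1_add (i : ℕ) (a b : A) (ha : a ∈ 𝒜 i) (hb : b ∈ 𝒜 i) :
    mk1 𝒜 hf i (a + b) (add_mem ha hb) = mk1 𝒜 hf i a ha + mk1 𝒜 hf i b hb := by
  apply HomogeneousLocalization.val_injective
  rw [HomogeneousLocalization.val_add, val_mk1, val_mk1, val_mk1, Localization.add_mk_self]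

lemma mk1_zero (i : ℕ) : mk1 𝒜 hf i 0 (zero_mem _) = 0 := by
  apply HomogeneousLocalization.val_injective
  rw [HomogeneousLocalization.val_zero, val_mk1, Localization.mk_zero]

lemma mk1_one : mk1 𝒜 hf 0 1 SetLike.GradedOne.one_mem = 1 := by
  apply HomogeneousLocalization.val_injective
  rw [HomogeneousLocalization.val_one, val_mk1]
  simp only [pow_zero]
  exact Localization.mk_one

lemma mk1_self : mk1 𝒜 hf 1 f hf = 1 := by
  apply HomogeneousLocalization.val_injective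
  rw [HomogeneousLocalization.val_one, val_mk1]
  simp only [pow_one]
  exact Localization.mk_self (⟨f, ⟨1, pow_one f⟩⟩ : Submonoid.powers f)

lemma mk1_mul (i j : ℕ) (a b : A) (ha : a ∈ 𝒜 i) (hb : b ∈ 𝒜 j) :
    mk1 𝒜 hf (i + j) (a * b) (SetLike.mul_mem_graded ha hb) =
      mk1 𝒜 hf i a ha * mk1 𝒜 hf j b hb := by
  apply HomogeneousLocalization.val_injective
  rw [HomogeneousLocalization.val_mul, val_mk1, val_mk1, val_mk1, Localization.mk_mul]
  congr 1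
  exact Subtype.ext (pow_add f i j)

/-- the components of `A → A_(f)[T;T⁻¹]` -/
noncomputable def compFun (i : ℕ) : 𝒜 i →+ (Away 𝒜 f)[T;T⁻¹] where
  toFun a := C (mk1 𝒜 hf i a.1 a.2) * T i
  map_zero' := by
    show C (mk1 𝒜 hf i 0 _) * T i = 0
    rw [mk1_zero, map_zero, zero_mul]
  map_add' a b := by
    show C (mk1 𝒜 hf i (a.1 + b.1) _) * T i = _
    rw [mk1_add 𝒜 hf i a.1 b.1 a.2 b.2, map_add, add_mul]

/-- the ring map `A → A_(f)[T;T⁻¹]`, `a ↦ ∑ (a_i / f^i) T^i` -/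
noncomputable def toLaurent₀ : A →+* (Away 𝒜 f)[T;T⁻¹] :=
  (DirectSum.toSemiring (compFun 𝒜 hf)
    (by
      show C (mk1 𝒜 hf 0 1 _) * T ((0 : ℕ) : ℤ) = 1
      rw [mk1_one]
      simp)
    (by
      intro i j ai aj
      show C (mk1 𝒜 hf (i + j) (ai.1 * aj.1) _) * T ((i + j : ℕ) : ℤ) =
        (C (mk1 𝒜 hf i ai.1 ai.2) * T i) * (C (mk1 𝒜 hf j aj.1 aj.2) * T j)
      rw [mk1_mul 𝒜 hf i j ai.1 aj.1 ai.2 aj.2, map_mul, Nat.cast_add, T_add]
      ring)).comp (DirectSum.decomposeRingEquiv 𝒜).toRingHom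

lemma toLaurent₀_of_mem (i : ℕ) (a : A) (ha : a ∈ 𝒜 i) :
    toLaurent₀ 𝒜 hf a = C (mk1 𝒜 hf i a ha) * T i := by
  unfold toLaurent₀
  rw [RingHom.comp_apply]
  show DirectSum.toSemiring _ _ _ (DirectSum.decompose 𝒜 a) = _
  rw [DirectSum.decompose_of_mem 𝒜 ha, DirectSum.toSemiring_of]
  rfl

lemma toLaurent₀_self : toLaurent₀ 𝒜 hf f = T 1 := by
  rw [toLaurent₀_of_mem 𝒜 hf 1 f hf, mk1_self, map_one, one_mul]
  rfl

/-- `A_f → A_(f)[T;T⁻¹]` -/
noncomputable def toLaurent : Localization.Away f →+* (Away 𝒜 f)[T;T⁻¹] :=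
  IsLocalization.Away.lift f (g := toLaurent₀ 𝒜 hf) (by rw [toLaurent₀_self]; exact isUnit_T 1)

lemma toLaurent_algebraMap (a : A) :
    toLaurent 𝒜 hf (algebraMap A (Localization.Away f) a) = toLaurent₀ 𝒜 hf a :=
  IsLocalization.Away.lift_eq ..

/-- `A_(f)[T;T⁻¹] → A_f` -/
noncomputable def ofLaurent : (Away 𝒜 f)[T;T⁻¹] →+* Localization.Away f :=
  LaurentPolynomial.eval₂ (algebraMap (Away 𝒜 f) (Localization.Away f))
    (IsLocalization.Away.algebraMap_isUnit (S := Localization.Away f) f).unit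

lemma ofLaurent_C (c : Away 𝒜 f) : ofLaurent 𝒜 (f := f) (C c) = c.val := by
  unfold ofLaurent
  rw [eval₂_C]; rfl

lemma ofLaurent_T_nat (n : ℕ) :
    ofLaurent 𝒜 (f := f) (T n) = algebraMap A (Localization.Away f) f ^ n := by
  unfold ofLaurent
  rw [eval₂_T_n]
  rfl

lemma ofLaurent_toLaurent₀ (a : A) :
    ofLaurent 𝒜 (toLaurent₀ 𝒜 hf a) = algebraMap A (Localization.Away f) a := by
  classical
  have hom : ∀ (i : ℕ) (b : A) (hb : b ∈ 𝒜 i),
      ofLaurent 𝒜 (toLaurent₀ 𝒜 hf b) = algebraMap A (Localization.Away f) b := by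
    intro i b hb
    rw [toLaurent₀_of_mem 𝒜 hf i b hb, map_mul, ofLaurent_C, ofLaurent_T_nat, val_mk1,
      Localization.mk_eq_mk', ← map_pow]
    exact IsLocalization.mk'_spec _ b (⟨f ^ i, ⟨i, rfl⟩⟩ : Submonoid.powers f)
  conv_lhs => rw [← DirectSum.sum_support_decompose 𝒜 a]
  conv_rhs => rw [← DirectSum.sum_support_decompose 𝒜 a]
  rw [map_sum, map_sum, map_sum]
  exact Finset.sum_congr rfl fun i _ => hom i _ (SetLike.coe_mem _)

lemma ofLaurent_toLaurent (x : Localization.Away f) :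
    ofLaurent 𝒜 (toLaurent 𝒜 hf x) = x := by
  have h : (ofLaurent 𝒜 (f := f)).comp (toLaurent 𝒜 hf) = RingHom.id _ := by
    apply IsLocalization.ringHom_ext (Submonoid.powers f)
    ext a
    simp only [RingHom.comp_apply, RingHom.id_apply]
    rw [toLaurent_algebraMap, ofLaurent_toLaurent₀]
  exact RingHom.congr_fun h x

lemma toLaurent_val_mul (n : ℕ) (a : A) (ha : a ∈ 𝒜 n) :
    toLaurent 𝒜 hf (mk1 𝒜 hf n a ha).val * T n = C (mk1 𝒜 hf n a ha) * T n := by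
  have h1 : (mk1 𝒜 hf n a ha).val * algebraMap A (Localization.Away f) (f ^ n) =
      algebraMap A (Localization.Away f) a := by
    rw [val_mk1, Localization.mk_eq_mk']
    exact IsLocalization.mk'_spec _ a (⟨f ^ n, ⟨n, rfl⟩⟩ : Submonoid.powers f)
  have h2 := congrArg (toLaurent 𝒜 hf) h1
  rw [map_mul, toLaurent_algebraMap, toLaurent_algebraMap, map_pow, toLaurent₀_self,
    toLaurent₀_of_mem 𝒜 hf n a ha, T_pow, mul_one] at h2
  exact h2

lemma toLaurent_val (c : Away 𝒜 f) : toLaurent 𝒜 hf c.val = C c := by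
  obtain ⟨n, a, ha, rfl⟩ := Away.mk_surjective 𝒜 hf c
  have ha' : a ∈ 𝒜 n := by rw [smul_eq_mul, mul_one] at ha; exact ha
  exact (isUnit_T (n : ℤ)).mul_left_injective (toLaurent_val_mul 𝒜 hf n a ha')

lemma toLaurent_ofLaurent (p : (Away 𝒜 f)[T;T⁻¹]) :
    toLaurent 𝒜 hf (ofLaurent 𝒜 p) = p := by
  have h : ((toLaurent 𝒜 hf).comp (ofLaurent 𝒜 (f := f))) = RingHom.id _ := by
    apply IsLocalization.ringHom_ext (Submonoid.powers (Polynomial.X : Polynomial (Away 𝒜 f)))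
    apply Polynomial.ringHom_ext
    · intro c
      simp only [RingHom.comp_apply, RingHom.id_apply, algebraMap_eq_toLaurent,
        Polynomial.toLaurent_C]
      rw [ofLaurent_C, toLaurent_val]
    · simp only [RingHom.comp_apply, RingHom.id_apply, algebraMap_eq_toLaurent,
        Polynomial.toLaurent_X]
      have h1 := ofLaurent_T_nat 𝒜 (f := f) 1
      rw [Nat.cast_one, pow_one] at h1
      rw [h1, toLaurent_algebraMap, toLaurent₀_self]
  exact RingHom.congr_fun h p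

/-- the ring isomorphism `A_(f)[T;T⁻¹] ≃+* A_f` -/
noncomputable def ringEquiv : (Away 𝒜 f)[T;T⁻¹] ≃+* Localization.Away f :=
  RingEquiv.ofRingHom (ofLaurent 𝒜) (toLaurent 𝒜 hf)
    (RingHom.ext (ofLaurent_toLaurent 𝒜 hf)) (RingHom.ext (toLaurent_ofLaurent 𝒜 hf))

/-- the algebra isomorphism `A_(f)[T;T⁻¹] ≃ₐ[A_(f)] A_f` -/
noncomputable def algEquiv : (Away 𝒜 f)[T;T⁻¹] ≃ₐ[Away 𝒜 f] Localization.Away f :=
  AlgEquiv.ofRingEquiv (f := ringEquiv 𝒜 hf) (fun c => by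
    show ofLaurent 𝒜 (algebraMap (Away 𝒜 f) _ c) = algebraMap (Away 𝒜 f) (Localization.Away f) c
    rw [← C_eq_algebraMap, ofLaurent_C]
    rfl)

end Groth.Agent.Lib.Proj.AwayLaurent
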