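import Groth.Agent.Lib.Proj.PnUP

/-!
# The universal property of projective space: uniqueness and chart data (lead)

ns `Groth.Agent.Lib.Proj.PnUnique`.

* `chartRingHom`, `ι_comp_eq`, `chartRingHom_eq` : a morphism `r : X ⟶ Proj 𝒜` restricted to an open
  `U ≤ r⁻¹ D₊(t)` is `toSpecΓ ≫ Spec φ ≫ awayι` with `φ = awayToSection ≫ r.appLE ≫ topIso.inv`.
* `ι_comp_eq_toProjChart` : for `P^n_R`: `r` with `r^♯(T_j/T_i) = σ_j/σ_i` on `X_{σ_i}` is given on
  `X_{σ_i}` by the chart morphism of `chartHom`.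
* `genLocus_eq_preimage`, `app_zfrac` : chart data from an isomorphism `r^* O(1) ≅ L` matching sections.
* `eq_of_iso` : uniqueness of `r`.
-/

universe u
open CategoryTheory CategoryTheory.Limits AlgebraicGeometry TopologicalSpace Opposite
  HomogeneousLocalization

namespace Groth.Agent.Lib.Proj.PnUnique

open Groth.Agent.Lib.Ample Groth.Agent.Lib.QCoh Groth.Agent.Lib.Proj Groth.Agent.Lib.Proj.ToProj
  Groth.Agent.Lib.Proj.ToPn Groth.Agent.Lib.Proj.PullSec Groth.Agent.Lib.Proj.QuotCompare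
  Groth.Agent.Lib.Proj.PnUP Scheme.Modules Twist

section General

/-- every morphism to an affine scheme `Spec A'` is `toSpecΓ ≫ Spec.map _` -/
lemma eq_toSpecΓ_SpecMap {Y : Scheme.{u}} {A' : CommRingCat.{u}} (g : Y ⟶ Spec A') :
    g = Y.toSpecΓ ≫ Spec.map ((Scheme.ΓSpecIso A').inv ≫ g.appTop) := by
  rw [Spec.map_comp, ← Scheme.toSpecΓ_naturality_assoc, toSpecΓ_SpecMap_ΓSpecIso_inv,
    Category.comp_id]

/-- `φ ↦ toSpecΓ ≫ Spec.map φ` is injective -/
lemma toSpecΓ_SpecMap_injective {Y : Scheme.{u}} {A' : CommRingCat.{u}} (φ ψ : A' ⟶ Γ(Y, ⊤))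
    (h : Y.toSpecΓ ≫ Spec.map φ = Y.toSpecΓ ≫ Spec.map ψ) : φ = ψ := by
  have h1 := congrArg Scheme.Hom.appTop h
  rw [Scheme.Hom.comp_appTop, Scheme.Hom.comp_appTop, Scheme.toSpecΓ_appTop] at h1
  have h2 : ∀ χ : A' ⟶ Γ(Y, ⊤), (Spec.map χ).appTop ≫ (Scheme.ΓSpecIso Γ(Y, ⊤)).hom =
      (Scheme.ΓSpecIso A').hom ≫ χ := fun χ => Scheme.ΓSpecIso_naturality χ
  rw [h2, h2] at h1
  exact (cancel_epi _).1 h1

variable {A : Type u} [CommRing A] {σ : Type*} [SetLike σ A] [AddSubgroupClass σ A]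
  (𝒜 : ℕ → σ) [GradedRing 𝒜]

lemma hAwayLift_fromZeroRingHom {B : Type*} [CommRing B] (f : A →+* B) (t : A) (hu : IsUnit (f t))
    (a : 𝒜 0) : hAwayLift 𝒜 f t hu (fromZeroRingHom 𝒜 _ a) = f a := by
  simp only [hAwayLift, RingHom.comp_apply, fromZeroRingHom,
    HomogeneousLocalization.algebraMap_apply]
  show (Localization.awayLift f t hu) (Localization.mk (a : A) 1) = f a
  rw [Localization.mk_one_eq_algebraMap]
  exact IsLocalization.Away.lift_eq t hu (a : A)

section Restrict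

variable {X : Scheme.{u}} (r : X ⟶ Proj 𝒜) (U : X.Opens) {t : A} {d : ℕ} (ht : t ∈ 𝒜 d) (hd : 0 < d)
  (hUV : U ≤ r ⁻¹ᵁ Proj.basicOpen 𝒜 t)

/-- the ring map `A_(t) → Γ(U, ⊤)` induced by `r` on `U ⊆ r⁻¹ D₊(t)` -/
noncomputable def chartRingHom : Away 𝒜 t →+* Γ(U.toScheme, ⊤) :=
  ((Scheme.ΓSpecIso (CommRingCat.of (Away 𝒜 t))).inv ≫
    (r.resLE (Proj.basicOpen 𝒜 t) U hUV ≫ (Proj.basicOpenIsoSpec 𝒜 t ht hd).hom).appTop).hom

lemma ι_comp_eq : U.ι ≫ r = U.toScheme.toSpecΓ ≫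
    Spec.map (CommRingCat.ofHom (chartRingHom 𝒜 r U ht hd hUV)) ≫ Proj.awayι 𝒜 t ht hd := by
  have h1 := eq_toSpecΓ_SpecMap
    (r.resLE (Proj.basicOpen 𝒜 t) U hUV ≫ (Proj.basicOpenIsoSpec 𝒜 t ht hd).hom)
  have h2 : U.ι ≫ r = (r.resLE (Proj.basicOpen 𝒜 t) U hUV ≫
      (Proj.basicOpenIsoSpec 𝒜 t ht hd).hom) ≫ Proj.awayι 𝒜 t ht hd := by
    rw [Proj.awayι, Category.assoc, Iso.hom_inv_id_assoc, Scheme.Hom.resLE_comp_ι]
  rw [h2]
  conv_lhs => rw [h1]
  rw [Category.assoc]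
  rfl

/-- if the chart ring map of `r` is `hAwayLift f`, then `r` is given on `U` by `toProjChart f` -/
lemma ι_comp_eq_toProjChart_of_chartRingHom (f : A →+* Γ(U.toScheme, ⊤)) (hu : IsUnit (f t))
    (h : chartRingHom 𝒜 r U ht hd hUV = hAwayLift 𝒜 f t hu) :
    U.ι ≫ r = toProjChart 𝒜 U f ht hd hu := by
  rw [ι_comp_eq 𝒜 r U ht hd hUV, h]
  rfl

lemma chartRingHom_eq :
    CommRingCat.ofHom (chartRingHom 𝒜 r U ht hd hUV) =
      Proj.awayToSection 𝒜 t ≫ r.appLE (Proj.basicOpen 𝒜 t) U hUV ≫ U.topIso.inv := by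
  have h2 : (Proj.basicOpenIsoSpec 𝒜 t ht hd).hom.appTop = (Scheme.ΓSpecIso _).hom ≫
      Proj.awayToSection 𝒜 t ≫ (Proj.basicOpen 𝒜 t).topIso.inv := by
    rw [Proj.basicOpenIsoSpec_hom]; exact Proj.basicOpenToSpec_app_top 𝒜 t
  have h4 : (r.resLE (Proj.basicOpen 𝒜 t) U hUV).appTop =
      (Proj.basicOpen 𝒜 t).topIso.hom ≫ r.appLE (Proj.basicOpen 𝒜 t) U hUV ≫ U.topIso.inv :=
    Scheme.Hom.resLE_app_top ..
  show (Scheme.ΓSpecIso (CommRingCat.of (Away 𝒜 t))).inv ≫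
    (r.resLE (Proj.basicOpen 𝒜 t) U hUV ≫ (Proj.basicOpenIsoSpec 𝒜 t ht hd).hom).appTop = _
  rw [Scheme.Hom.comp_appTop, h2, h4]
  simp only [Category.assoc, Iso.inv_hom_id_assoc]

lemma chartRingHom_apply (z : Away 𝒜 t) :
    chartRingHom 𝒜 r U ht hd hUV z =
      U.topIso.inv.hom ((r.appLE (Proj.basicOpen 𝒜 t) U hUV).hom
        ((Proj.awayToSection 𝒜 t).hom z)) :=
  congrArg (fun k => k.hom z) (chartRingHom_eq 𝒜 r U ht hd hUV)

/-- the degree-zero part: `chartRingHom ∘ fromZeroRingHom` is the ring map of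
`U.ι ≫ r ≫ toSpecZero` -/
lemma ι_comp_toSpecZero :
    (U.ι ≫ r) ≫ Proj.toSpecZero 𝒜 = U.toScheme.toSpecΓ ≫ Spec.map (CommRingCat.ofHom
      ((chartRingHom 𝒜 r U ht hd hUV).comp (fromZeroRingHom 𝒜 _))) := by
  rw [ι_comp_eq 𝒜 r U ht hd hUV, Category.assoc, Category.assoc, Proj.awayι_toSpecZero]
  refine congrArg (fun m => U.toScheme.toSpecΓ ≫ m) ?_
  exact (Spec.map_comp _ _).symm

end Restrict

end General

section Poly

variable {X : Scheme.{u}} {R : Type u} [CommRing R] (n : ℕ) (q : X ⟶ Spec (CommRingCat.of R))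
  {L : X.Modules} (σ : Fin (n + 1) → (Coh.structureModule X ⟶ L))
  (r : X ⟶ Proj (CohB1.polyGrading n R)) (hrq : r ≫ CohB1.ProjSpace.toSpec n R = q)

/-- ring maps out of `(R[T]_{T_i})_0` are determined by their values on the `T_j/T_i` and on
constants -/
lemma away_ringHom_ext {B : Type*} [CommRing B] (i : Fin (n + 1))
    (φ ψ : Away (CohB1.polyGrading n R) (MvPolynomial.X i : MvPolynomial (Fin (n + 1)) R) →+* B)
    (hX : ∀ j, φ (Away.mk _ (X_mem n R i) 1 (MvPolynomial.X j) (X_mem' n R j)) =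
      ψ (Away.mk _ (X_mem n R i) 1 (MvPolynomial.X j) (X_mem' n R j)))
    (hC : ∀ c, φ (constHom n R i c) = ψ (constHom n R i c)) : φ = ψ := by
  have h : φ.comp (chartToAway n R i) = ψ.comp (chartToAway n R i) := by
    apply MvPolynomial.ringHom_ext
    · intro c
      simp only [RingHom.comp_apply, chartToAway, MvPolynomial.coe_eval₂Hom, MvPolynomial.eval₂_C]
      exact hC c
    · intro j
      simp only [RingHom.comp_apply, chartToAway, MvPolynomial.coe_eval₂Hom, MvPolynomial.eval₂_X]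
      exact hX j.1
  ext y
  obtain ⟨z, rfl⟩ := chartToAway_surjective n R i y
  exact RingHom.congr_fun h z

include hrq in
/-- **chart description from the values of `r^♯` on `T_j / T_i`**. -/
theorem ι_comp_eq_toProjChart (i : Fin (n + 1))
    (hUV : CohB1.genLocus L (σ i) ≤ r ⁻¹ᵁ Proj.basicOpen (CohB1.polyGrading n R)
      (MvPolynomial.X i : MvPolynomial (Fin (n + 1)) R))
    (hz : ∀ j, resFn hUV ((r.app (Proj.basicOpen (CohB1.polyGrading n R)
      (MvPolynomial.X i : MvPolynomial (Fin (n + 1)) R))).hom (zfrac n R i j)) =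
        ratio (σ i) (σ j)) :
    (CohB1.genLocus L (σ i)).ι ≫ r =
      toProjChart (CohB1.polyGrading n R) (CohB1.genLocus L (σ i))
        ((CohB1.genLocus L (σ i)).topIso.inv.hom.comp (chartHom n q σ i)) (X_mem n R i) one_pos
        ((isUnit_chartHom_X_self n q σ i).map (CohB1.genLocus L (σ i)).topIso.inv.hom) := by
  refine ι_comp_eq_toProjChart_of_chartRingHom (CohB1.polyGrading n R) r _ (X_mem n R i) one_pos
    hUV _ _ ?_
  refine away_ringHom_ext n i _ _ (fun j => ?_) (fun c => ?_)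
  · rw [chartRingHom_apply]
    have h5 := hAwayLift_mk_mul (CohB1.polyGrading n R)
      ((CohB1.genLocus L (σ i)).topIso.inv.hom.comp (chartHom n q σ i)) (X_mem n R i)
      ((isUnit_chartHom_X_self n q σ i).map (CohB1.genLocus L (σ i)).topIso.inv.hom) 1
      (MvPolynomial.X j) (X_mem' n R j)
    have h6 : ((CohB1.genLocus L (σ i)).topIso.inv.hom.comp (chartHom n q σ i))
        (MvPolynomial.X i) ^ 1 = 1 := by
      rw [RingHom.comp_apply, chartHom_X, ratio_self, map_one, one_pow]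
    rw [h6, mul_one, RingHom.comp_apply, chartHom_X n q σ i j] at h5
    rw [h5, ← hz j]
    rfl
  · -- constants
    have h1 := ι_comp_toSpecZero (CohB1.polyGrading n R) r (CohB1.genLocus L (σ i))
      (X_mem n R i) one_pos hUV
    have h2 : (CohB1.genLocus L (σ i)).ι ≫ q =
        (((CohB1.genLocus L (σ i)).ι ≫ r) ≫ Proj.toSpecZero (CohB1.polyGrading n R)) ≫
          Spec.map (CommRingCat.ofHom (algebraMap R (CohB1.polyGrading n R 0))) := by
      rw [← hrq]
      simp only [Category.assoc]; rfl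
    rw [h1, Category.assoc] at h2
    have h2' := ((toSpecΓ_baseHom q (CohB1.genLocus L (σ i))).trans h2).trans
      (congrArg (fun m => (CohB1.genLocus L (σ i)).toScheme.toSpecΓ ≫ m) (Spec.map_comp _ _).symm)
    have h3 := toSpecΓ_SpecMap_injective _ _ h2'
    have h4 := congrArg (fun k => k.hom c) h3
    refine Eq.trans h4.symm ?_
    show _ = hAwayLift _ _ _ _ (fromZeroRingHom _ _ (algebraMap R (CohB1.polyGrading n R 0) c))
    rw [hAwayLift_fromZeroRingHom]
    show (CohB1.genLocus L (σ i)).topIso.inv.hom (baseHom q _ c) =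
      (CohB1.genLocus L (σ i)).topIso.inv.hom (chartHom n q σ i (MvPolynomial.C c))
    rw [chartHom_C]

end Poly

section Iso

variable {X : Scheme.{u}}

lemma app_resSec {M N : X.Modules} (φ : M ⟶ N) {U V : X.Opens} (h : V ≤ U) (t : Γ(M, U)) :
    (φ.app V).hom (resSec M h t) = resSec N h ((φ.app U).hom t) := by
  have h1 := φ.mapPresheaf.naturality (homOfLE h).op
  have h2 := congrArg (fun k => k.hom t) h1
  simp only [mapPresheaf_app] at h2
  exact h2

variable {R : Type u} [CommRing R] (n : ℕ)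
  {L : X.Modules} (σ : Fin (n + 1) → (Coh.structureModule X ⟶ L))
  (r : X ⟶ Proj (CohB1.polyGrading n R))

/-- the pulled back coordinates satisfy `r^*T_j = r^♯(T_j/T_i) • r^*T_i` on any open inside
`r⁻¹ D₊(T_i)` -/
lemma pull_coord_rel (i j : Fin (n + 1)) {U : X.Opens}
    (hUV : U ≤ r ⁻¹ᵁ Proj.basicOpen (CohB1.polyGrading n R)
      (MvPolynomial.X i : MvPolynomial (Fin (n + 1)) R)) :
    resSec _ (le_top : U ≤ ⊤) (secOf (μ n r j)) =
      resFn hUV ((r.app (Proj.basicOpen (CohB1.polyGrading n R)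
        (MvPolynomial.X i : MvPolynomial (Fin (n + 1)) R))).hom (zfrac n R i j)) •
        resSec _ (le_top : U ≤ ⊤) (secOf (μ n r i)) := by
  have h1 := congrArg (pullSecOn r (twist (CohB1.polyGrading n R) 1)
    (Proj.basicOpen (CohB1.polyGrading n R) (MvPolynomial.X i : MvPolynomial (Fin (n + 1)) R)))
    (coord_rel n R i j)
  rw [pullSecOn_smul] at h1
  have h2 : ∀ k, pullSecOn r (twist (CohB1.polyGrading n R) 1)
      (Proj.basicOpen (CohB1.polyGrading n R) (MvPolynomial.X i : MvPolynomial (Fin (n + 1)) R))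
      (resSec (twist (CohB1.polyGrading n R) 1) le_top (coord n R k)) =
      resSec ((Scheme.Modules.pullback r).obj (twist (CohB1.polyGrading n R) 1))
        (le_top : r ⁻¹ᵁ Proj.basicOpen (CohB1.polyGrading n R)
          (MvPolynomial.X i : MvPolynomial (Fin (n + 1)) R) ≤ ⊤) (secOf (μ n r k)) := by
    intro k
    rw [secOf_μ, ← pullSecOn_top]
    exact (pullSecOn_res r (twist (CohB1.polyGrading n R) 1) le_top (coord n R k)).symm
  rw [h2, h2] at h1
  have h3 := congrArg (resSec ((Scheme.Modules.pullback r).obj (twist (CohB1.polyGrading n R) 1))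
    hUV) h1
  rw [resSec_smul, resSec_resSec, resSec_resSec] at h3
  exact h3

variable (τ : (Scheme.Modules.pullback r).obj (twist (CohB1.polyGrading n R) 1) ≅ L)
  (hτ : ∀ i, (τ.hom.app ⊤).hom
    (ProjUP.pullSec r (twist (CohB1.polyGrading n R) 1) (coord n R i)) = secOf (σ i))

include hτ in
lemma μ_comp_iso (i : Fin (n + 1)) : μ n r i ≫ τ.hom = σ i := by
  rw [← homOfSec_secOf (μ n r i ≫ τ.hom), ← homOfSec_secOf (σ i)]
  congr 1
  rw [← hτ i, ← secOf_μ]
  rfl

include hτ in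
/-- **`r⁻¹ D₊(T_i) = X_{σ_i}`** -/
lemma genLocus_eq_preimage (i : Fin (n + 1)) :
    CohB1.genLocus L (σ i) = r ⁻¹ᵁ Proj.basicOpen (CohB1.polyGrading n R)
      (MvPolynomial.X i : MvPolynomial (Fin (n + 1)) R) := by
  rw [← μ_comp_iso n σ r τ hτ i, genLocus_comp_iso, genLocus_μ]

include hτ in
/-- **`r^♯ (T_j / T_i) = σ_j / σ_i`** -/
lemma app_zfrac (i j : Fin (n + 1)) :
    resFn (genLocus_eq_preimage n σ r τ hτ i).le
      ((r.app (Proj.basicOpen (CohB1.polyGrading n R)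
        (MvPolynomial.X i : MvPolynomial (Fin (n + 1)) R))).hom (zfrac n R i j)) =
      ratio (σ i) (σ j) := by
  have h3 := pull_coord_rel n r i j (genLocus_eq_preimage n σ r τ hτ i).le
  have h4 := congrArg (fun m => (τ.hom.app (CohB1.genLocus L (σ i))).hom m) h3
  beta_reduce at h4
  rw [Hom.app_smul, app_resSec, app_resSec] at h4
  have h5 : ∀ k, (τ.hom.app ⊤).hom (secOf (μ n r k)) = secOf (σ k) := fun k => by
    rw [secOf_μ]; exact hτ k
  rw [h5, h5] at h4
  apply eq_of_smul_resSec_eq (σ i) le_rfl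
  exact h4.symm.trans (ratio_spec (σ i) (σ j))

include hτ in
lemma cover_of_iso (x : X) : ∃ i, x ∈ CohB1.genLocus L (σ i) := by
  have h1 : r x ∈ (⊤ : (Proj (CohB1.polyGrading n R)).Opens) := trivial
  rw [← iSup_basicOpen_X n R] at h1
  obtain ⟨i, hi⟩ := Opens.mem_iSup.1 h1
  exact ⟨i, by rw [genLocus_eq_preimage n σ r τ hτ i]; exact hi⟩

end Iso

section Unique

variable {X : Scheme.{u}} {R : Type u} [CommRing R] (n : ℕ) (q : X ⟶ Spec (CommRingCat.of R))
  {L : X.Modules} (σ : Fin (n + 1) → (Coh.structureModule X ⟶ L))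

/-- two `R`-morphisms to `P^n_R` with the same chart data agree -/
theorem eq_of_chart_data (r r' : X ⟶ Proj (CohB1.polyGrading n R))
    (hrq : r ≫ CohB1.ProjSpace.toSpec n R = q) (hrq' : r' ≫ CohB1.ProjSpace.toSpec n R = q)
    (hcov : ∀ x : X, ∃ i, x ∈ CohB1.genLocus L (σ i))
    (hUV : ∀ i, CohB1.genLocus L (σ i) ≤ r ⁻¹ᵁ Proj.basicOpen (CohB1.polyGrading n R)
      (MvPolynomial.X i : MvPolynomial (Fin (n + 1)) R))
    (hz : ∀ i j, resFn (hUV i) ((r.app (Proj.basicOpen (CohB1.polyGrading n R)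
      (MvPolynomial.X i : MvPolynomial (Fin (n + 1)) R))).hom (zfrac n R i j)) = ratio (σ i) (σ j))
    (hUV' : ∀ i, CohB1.genLocus L (σ i) ≤ r' ⁻¹ᵁ Proj.basicOpen (CohB1.polyGrading n R)
      (MvPolynomial.X i : MvPolynomial (Fin (n + 1)) R))
    (hz' : ∀ i j, resFn (hUV' i) ((r'.app (Proj.basicOpen (CohB1.polyGrading n R)
      (MvPolynomial.X i : MvPolynomial (Fin (n + 1)) R))).hom (zfrac n R i j)) =
        ratio (σ i) (σ j)) :
    r = r' := by
  refine (X.openCoverOfIsOpenCover _ (isOpenCover_genLocus n σ hcov)).hom_ext _ _ ?_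
  intro (i : Fin (n + 1))
  show (CohB1.genLocus L (σ i)).ι ≫ r = (CohB1.genLocus L (σ i)).ι ≫ r'
  rw [ι_comp_eq_toProjChart n q σ r hrq i (hUV i) (hz i),
    ι_comp_eq_toProjChart n q σ r' hrq' i (hUV' i) (hz' i)]

/-- **uniqueness part of the universal property of `P^n_R`**: an `R`-morphism `r : X ⟶ P^n_R` is
determined by `(r^* O(1), r^* T_0, …, r^* T_n)` up to isomorphism. -/
theorem eq_of_iso (r r' : X ⟶ Proj (CohB1.polyGrading n R))
    (hrq : r ≫ CohB1.ProjSpace.toSpec n R = q) (hrq' : r' ≫ CohB1.ProjSpace.toSpec n R = q)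
    (τ : (Scheme.Modules.pullback r).obj (twist (CohB1.polyGrading n R) 1) ≅ L)
    (hτ : ∀ i, (τ.hom.app ⊤).hom
      (ProjUP.pullSec r (twist (CohB1.polyGrading n R) 1) (coord n R i)) = secOf (σ i))
    (τ' : (Scheme.Modules.pullback r').obj (twist (CohB1.polyGrading n R) 1) ≅ L)
    (hτ' : ∀ i, (τ'.hom.app ⊤).hom
      (ProjUP.pullSec r' (twist (CohB1.polyGrading n R) 1) (coord n R i)) = secOf (σ i)) :
    r = r' :=
  eq_of_chart_data n q σ r r' hrq hrq' (cover_of_iso n σ r τ hτ)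
    (fun i => (genLocus_eq_preimage n σ r τ hτ i).le) (app_zfrac n σ r τ hτ)
    (fun i => (genLocus_eq_preimage n σ r' τ' hτ' i).le) (app_zfrac n σ r' τ' hτ')

end Unique

end Groth.Agent.Lib.Proj.PnUnique
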