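import Groth.Agent.Lib.Proj.TwistMul
import Groth.Agent.Lib.Ample.GenLocus

/-!
# PROJ-TWIST (lead): sections `a / 1` of `O(i)`, their generating loci, ampleness of `O(1)`

* `sectHom a : O_X ⟶ O(i)` for `a ∈ 𝒜 i`, `val_sectHom_app`, `sectHom_app_bijective` (on `V ≤ D₊(a)`)
* `frac_ne_mul_of_mem`, **`genLocus_sectHom a hm : genLocus (twist 𝒜 i) (sectHom a) = D₊(a)`**
* `iSup_basicOpen_deg_one_eq_top`, `compactSpace_of_finset`, **`isAmple_twist_one`** (S3584)
-/

universe u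
open CategoryTheory CategoryTheory.Limits AlgebraicGeometry TopologicalSpace Opposite TopCat

namespace Groth.Agent.Lib.Proj

open Twist Scheme.Modules QCoh

variable {R A : Type u} [CommRing R] [CommRing A] [Algebra R A] {𝒜 : ℕ → Submodule R A} [GradedAlgebra 𝒜]




/-- the morphism `O_X ⟶ O(i)` given by a homogeneous element `a ∈ 𝒜 i` (the global section `a / 1`) -/
noncomputable def sectHom {i : ℕ} (a : 𝒜 i) : Coh.structureModule (Proj 𝒜) ⟶ twist 𝒜 (i : ℤ) :=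
  unitToTwistZero 𝒜 ≫ mulHom a 0 i (by simp)

lemma val_sectHom_app {i : ℕ} (a : 𝒜 i) (V : (Proj 𝒜).Opens) (r : O (𝒜 := 𝒜) (op V)) (x : V) :
    val (((sectHom a).app V).hom r : Sec 𝒜 (i : ℤ) (op V)) x =
      frac x.1 a.1 1 (one_not_mem x.1) * (r.1 x).val := rfl

lemma sectHom_app_bijective {i : ℕ} (a : 𝒜 i) (V : (Proj 𝒜).Opens) (hV : V ≤ Proj.basicOpen 𝒜 a.1) :
    Function.Bijective ((sectHom a).app V) :=
  (mulHom_app_bijective a 0 i (by simp) V hV).comp (unitToTwistZero_app_bijective V)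

/-- a unit fraction is not a multiple of `a / 1` when `a ∈ x` -/
lemma frac_ne_mul_of_mem (x : ProjectiveSpectrum 𝒜) {a b c : A} (ha : a ∈ x.asHomogeneousIdeal)
    (hb : b ∉ x.asHomogeneousIdeal) (hc : c ∉ x.asHomogeneousIdeal) (q : Loc 𝒜 x) :
    frac x b c hc ≠ frac x a 1 (one_not_mem x) * q := by
  intro h
  obtain ⟨p, ⟨w, hw⟩, rfl⟩ := IsLocalization.exists_mk'_eq x.asHomogeneousIdeal.toIdeal.primeCompl q
  rw [← Localization.mk_eq_mk'] at h
  simp only [frac, Localization.mk_mul] at h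
  rw [Localization.mk_eq_mk_iff, Localization.r_iff_exists] at h
  obtain ⟨⟨t, ht⟩, h⟩ := h
  simp only [Submonoid.coe_mul, one_mul] at h
  -- `t * (w * b) = t * (c * (a * p))`
  have hmem : t * (w * b) ∈ x.asHomogeneousIdeal.toIdeal := by
    rw [h]
    exact Ideal.mul_mem_left _ _ (Ideal.mul_mem_left _ _ (Ideal.mul_mem_right _ _ ha))
  rcases x.isPrime.mem_or_mem hmem with h1 | h1
  · exact ht h1
  · rcases x.isPrime.mem_or_mem h1 with h2 | h2
    · exact hw h2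
    · exact hb h2

/-- **the generating locus of the section `a / 1` of `O(i)` is `D₊(a)`** (when `O(i)` has local unit
fractions) -/
theorem genLocus_sectHom {i : ℕ} (a : 𝒜 i) (hm : HasUnitFrac 𝒜 (i : ℤ)) :
    CohB1.genLocus (twist 𝒜 (i : ℤ)) (sectHom a) = Proj.basicOpen 𝒜 a.1 := by
  apply le_antisymm
  · intro x hx
    by_contra hxa
    have hxa' : a.1 ∈ x.asHomogeneousIdeal := by
      by_contra h
      exact hxa h
    obtain ⟨k, j, b, c, hxb, hxc, hdeg⟩ := hm x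
    set W : (Proj 𝒜).Opens := CohB1.genLocus (twist 𝒜 (i : ℤ)) (sectHom a) ⊓
      (Proj.basicOpen 𝒜 b.1 ⊓ Proj.basicOpen 𝒜 c.1) with hW
    have hxW : x ∈ W := ⟨hx, hxb, hxc⟩
    have hbij : Function.Bijective ((sectHom a).app W) :=
      (Ample.le_genLocus_iff' _ (sectHom a) _).1 le_rfl W inf_le_left
    -- the section `b / c` of `O(i)` over `W`
    let u : Sec 𝒜 (i : ℤ) (op W) :=
      mulFracSect (op W) b c (fun y => y.2.2.2) 0 i (by omega)
        (toTwistZeroSect (op W) (1 : O (𝒜 := 𝒜) (op W)))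
    obtain ⟨r, hr⟩ := hbij.2 u
    have h1 := congrArg (fun t : Sec 𝒜 (i : ℤ) (op W) => val t ⟨x, hxW⟩) hr
    simp only at h1
    have h2 : val u ⟨x, hxW⟩ = frac x b.1 c.1 hxc := by
      change frac x b.1 c.1 _ * (1 : A0 𝒜 x).val = _
      rw [HomogeneousLocalization.val_one, mul_one]
    rw [h2] at h1
    exact frac_ne_mul_of_mem x hxa' hxb hxc _ h1.symm
  · rw [Ample.le_genLocus_iff']
    intro V hV
    exact sectHom_app_bijective a V hV





/-- if the irrelevant ideal is generated by a set of degree one elements, the `D₊(f)`, `f ∈ 𝒜 1`, cover -/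
lemma iSup_basicOpen_deg_one_eq_top (s : Set A) (hs1 : ∀ f ∈ s, f ∈ 𝒜 1)
    (hs : (HomogeneousIdeal.irrelevant 𝒜).toIdeal ≤ Ideal.span s) :
    (⨆ f : 𝒜 1, Proj.basicOpen 𝒜 (f : A)) = ⊤ := by
  have h := Proj.iSup_basicOpen_eq_top 𝒜 (fun i : s => (i : A)) (by simpa using hs)
  rw [eq_top_iff, ← h]
  refine iSup_le fun i => ?_
  exact le_iSup (fun f : 𝒜 1 => Proj.basicOpen 𝒜 (f : A)) ⟨i.1, hs1 i.1 i.2⟩

lemma compactSpace_of_finset (s : Finset A) (hs1 : ∀ f ∈ s, f ∈ 𝒜 1)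
    (hs : (HomogeneousIdeal.irrelevant 𝒜).toIdeal ≤ Ideal.span (s : Set A)) :
    CompactSpace (Proj 𝒜) := by
  have h := Proj.iSup_basicOpen_eq_top 𝒜 (fun i : (s : Set A) => (i : A)) (by simpa using hs)
  rw [← isCompact_univ_iff]
  have h2 : (Set.univ : Set (Proj 𝒜)) = ⋃ i : (s : Set A), (Proj.basicOpen 𝒜 (i : A) : Set (Proj 𝒜)) := by
    have := congrArg (fun U : (Proj 𝒜).Opens => (U : Set (Proj 𝒜))) h
    simp only [Opens.coe_iSup, Opens.coe_top] at this
    exact this.symm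
  rw [h2]
  have : Finite (s : Set A) := s.finite_toSet
  exact isCompact_iUnion fun i =>
    (Proj.isAffineOpen_basicOpen 𝒜 i.1 (hs1 i.1 i.2) one_pos).isCompact

/-- **`O(1)` is ample** when the irrelevant ideal is generated by finitely many degree one elements -/
theorem isAmple_twist_one (s : Finset A) (hs1 : ∀ f ∈ s, f ∈ 𝒜 1)
    (hs : (HomogeneousIdeal.irrelevant 𝒜).toIdeal = Ideal.span (s : Set A)) :
    CohB1.IsAmple (twist 𝒜 1) := by
  have hcov := iSup_basicOpen_deg_one_eq_top (𝒜 := 𝒜) (s : Set A) hs1 hs.le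
  refine ⟨isInvertible_twist hcov 1, compactSpace_of_finset s hs1 hs.le, fun x => ?_⟩
  have hx : x ∈ (⨆ i : (s : Set A), Proj.basicOpen 𝒜 (i : A)) := by
    rw [Proj.iSup_basicOpen_eq_top 𝒜 (fun i : (s : Set A) => (i : A)) (by simpa using hs.le)]
    trivial
  obtain ⟨⟨f, hf⟩, hxf⟩ := Opens.mem_iSup.mp hx
  let a : 𝒜 1 := ⟨f, hs1 f hf⟩
  have hgl : CohB1.genLocus (CohB1.tensorPow (twist 𝒜 1) (0 + 1))
      (sectHom a ≫ (tensorPowOneIso (twist 𝒜 1)).symm.hom) = Proj.basicOpen 𝒜 f := by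
    rw [Ample.genLocus_comp_iso]
    exact genLocus_sectHom a (hasUnitFrac_of_cover hcov _)
  refine ⟨0, sectHom a ≫ (tensorPowOneIso (twist 𝒜 1)).symm.hom, ?_, ?_⟩
  · rw [hgl]; exact hxf
  · rw [hgl]; exact Proj.isAffineOpen_basicOpen 𝒜 f (hs1 f hf) one_pos



end Groth.Agent.Lib.Proj
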