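import Groth.Agent.Lib.Ample.FinGen
import Groth.Agent.Lib.Proj.TwistAmple
import Groth.Agent.Lib.QCoh.TensorColim
import Groth.Agent.S0022

/-!
# Coherent modules on `Proj 𝒜` (generated in degree one) are quotients of finite sums of `O(-n)` (lead)

ns `Groth.Agent.Lib.Proj`.
* `isAmple_twist_one_of_iSup_eq_top` : `O(1)` is ample if finitely many `D₊(f)`, `f ∈ 𝒜 1`, cover `Proj 𝒜`
* `exists_epi_sigma_twist_of_isCoh` : then for `F` quasi-coherent of finite type and all `n ≫ 0` there are `r` and an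
  epimorphism `∐_{Fin r} O(-n) ⟶ F`
* `isAmple_twistProjSpace_one`, `exists_epi_sigma_twistProjSpace_of_isCoh` : the case of `P^n_R`
-/

universe u

open CategoryTheory CategoryTheory.Limits AlgebraicGeometry TopologicalSpace Opposite

namespace Groth.Agent.Lib.Proj

open Groth.Agent.Lib.QCoh Scheme.Modules Twist

variable {R A : Type u} [CommRing R] [CommRing A] [Algebra R A]
  {𝒜 : ℕ → Submodule R A} [GradedAlgebra 𝒜]

/-- **`O(1)` is ample** when finitely many `D₊(f)`, `f` of degree one, cover `Proj 𝒜` -/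
theorem isAmple_twist_one_of_iSup_eq_top (s : Finset A) (hs1 : ∀ f ∈ s, f ∈ 𝒜 1)
    (hs : (⨆ i : (s : Set A), Proj.basicOpen 𝒜 (i : A)) = ⊤) :
    CohB1.IsAmple (twist 𝒜 1) := by
  have hcov : (⨆ f : 𝒜 1, Proj.basicOpen 𝒜 (f : A)) = ⊤ := by
    rw [eq_top_iff, ← hs]
    refine iSup_le fun i => ?_
    exact le_iSup (fun f : 𝒜 1 => Proj.basicOpen 𝒜 (f : A)) ⟨i.1, hs1 i.1 i.2⟩
  have hc : CompactSpace (Proj 𝒜) := by
    rw [← isCompact_univ_iff]
    have h2 : (Set.univ : Set (Proj 𝒜)) =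
        ⋃ i : (s : Set A), (Proj.basicOpen 𝒜 (i : A) : Set (Proj 𝒜)) := by
      have := congrArg (fun U : (Proj 𝒜).Opens => (U : Set (Proj 𝒜))) hs
      simp only [Opens.coe_iSup, Opens.coe_top] at this
      exact this.symm
    rw [h2]
    have : Finite (s : Set A) := s.finite_toSet
    exact isCompact_iUnion fun i =>
      (Proj.isAffineOpen_basicOpen 𝒜 i.1 (hs1 i.1 i.2) one_pos).isCompact
  refine ⟨isInvertible_twist hcov 1, hc, fun x => ?_⟩
  have hx : x ∈ (⨆ i : (s : Set A), Proj.basicOpen 𝒜 (i : A)) := by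
    rw [hs]; trivial
  obtain ⟨⟨f, hf⟩, hxf⟩ := Opens.mem_iSup.mp hx
  let a : 𝒜 1 := ⟨f, hs1 f hf⟩
  have hgl : CohB1.genLocus (CohB1.tensorPow (twist 𝒜 1) (0 + 1))
      (sectHom a ≫ (tensorPowOneIso (twist 𝒜 1)).symm.hom) = Proj.basicOpen 𝒜 f := by
    rw [Ample.genLocus_comp_iso]
    exact genLocus_sectHom a (hasUnitFrac_of_cover hcov _)
  refine ⟨0, sectHom a ≫ (tensorPowOneIso (twist 𝒜 1)).symm.hom, ?_, ?_⟩
  · rw [hgl]; exact hxf
  · rw [hgl]; exact Proj.isAffineOpen_basicOpen 𝒜 f (hs1 f hf) one_pos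

/-- `(F ⊗ O(1)^{⊗ n}) ⊗ O(-n) ≅ F` -/
theorem nonempty_twist_back_iso (hcov : (⨆ f : 𝒜 1, Proj.basicOpen 𝒜 (f : A)) = ⊤)
    (F : (Proj 𝒜).Modules) (n : ℕ) :
    Nonempty (CohB1.tensorMod (CohB1.tensorMod F (CohB1.tensorPow (twist 𝒜 1) n))
      (twist 𝒜 (-(n : ℤ))) ≅ F) := by
  obtain ⟨e⟩ := nonempty_twist_iso_tensorPow hcov n
  have e2 : CohB1.tensorMod (twist 𝒜 (n : ℤ)) (twist 𝒜 (-(n : ℤ))) ≅ twist 𝒜 0 :=
    twistMulIso (n : ℤ) (-(n : ℤ)) 0 (by ring) (hasUnitFrac_of_cover hcov _)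
  exact ⟨tensorModAssoc F _ _ ≪≫
    tensorModCongr (Iso.refl F)
      (tensorModCongr e.symm (Iso.refl _) ≪≫ e2 ≪≫ twistZeroIso 𝒜) ≪≫
    tensorModRightUnitor F⟩

/-- **coherent modules are quotients of finite sums of `O(-n)`**, `n ≫ 0` (`Proj 𝒜` covered by
finitely many `D₊(f)`, `f` of degree one) -/
theorem exists_epi_sigma_twist_of_isCoh (s : Finset A) (hs1 : ∀ f ∈ s, f ∈ 𝒜 1)
    (hs : (⨆ i : (s : Set A), Proj.basicOpen 𝒜 (i : A)) = ⊤)
    (F : (Proj 𝒜).Modules) (hF : Coh.IsCoh F) :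
    ∃ n₀ : ℕ, ∀ n, n₀ ≤ n → ∃ (r : ℕ) (φ : (∐ fun _ : Fin r => twist 𝒜 (-(n : ℤ))) ⟶ F),
      Epi φ := by
  have hcov : (⨆ f : 𝒜 1, Proj.basicOpen 𝒜 (f : A)) = ⊤ := by
    rw [eq_top_iff, ← hs]
    refine iSup_le fun i => ?_
    exact le_iSup (fun f : 𝒜 1 => Proj.basicOpen 𝒜 (f : A)) ⟨i.1, hs1 i.1 i.2⟩
  have hL := isAmple_twist_one_of_iSup_eq_top s hs1 hs
  have hFq : F.IsQuasicoherent := hF.1
  have hFt : F.IsFiniteType := hF.2
  obtain ⟨n₀, hn₀⟩ := Ample.exists_finite_epi_free_tensorPow_of_isAmple hL F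
  refine ⟨n₀, fun n hn => ?_⟩
  obtain ⟨ι, hι, t, ht⟩ := hn₀ n hn
  obtain ⟨d⟩ := nonempty_twist_back_iso hcov F n
  obtain ⟨r, ⟨e⟩⟩ := Finite.exists_equiv_fin ι
  let K : (Proj 𝒜).Modules := twist 𝒜 (-(n : ℤ))
  let p : (∐ fun _ : ι => Coh.structureModule (Proj 𝒜)) ⟶
      CohB1.tensorMod F (CohB1.tensorPow (twist 𝒜 1) n) := Ample.homOfFamily _ t
  have hp : Epi p := ht
  have hq : Epi ((tensorRightFunctor K).map p) := (tensorRightFunctor K).map_epi p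
  let a : (tensorRightFunctor K).obj (∐ fun _ : ι => Coh.structureModule (Proj 𝒜)) ≅
      ∐ fun _ : ι => (tensorRightFunctor K).obj (Coh.structureModule (Proj 𝒜)) :=
    PreservesCoproduct.iso (tensorRightFunctor K) (fun _ : ι => Coh.structureModule (Proj 𝒜))
  let b : (∐ fun _ : ι => (tensorRightFunctor K).obj (Coh.structureModule (Proj 𝒜))) ≅
      ∐ fun _ : ι => K :=
    Sigma.mapIso (fun _ => tensorModLeftUnitor K)
  let c : (∐ fun _ : Fin r => K) ≅ ∐ fun _ : ι => K :=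
    Sigma.reindex e.symm (fun _ : ι => K)
  let d' : (tensorRightFunctor K).obj (CohB1.tensorMod F (CohB1.tensorPow (twist 𝒜 1) n)) ≅ F := d
  let q : (tensorRightFunctor K).obj (∐ fun _ : ι => Coh.structureModule (Proj 𝒜)) ⟶ F :=
    (tensorRightFunctor K).map p ≫ d'.hom
  have hq' : Epi q := epi_comp _ _
  refine ⟨r, c.hom ≫ b.inv ≫ a.inv ≫ q, ?_⟩
  exact epi_comp _ _

section ProjSpace

variable (n : ℕ) (R₀ : Type u) [CommRing R₀]

/-- the finite set of coordinates of `P^n` -/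
noncomputable def coordFinset : Finset (MvPolynomial (Fin (n + 1)) R₀) := by
  classical
  exact Finset.univ.image (fun k : Fin (n + 1) => (MvPolynomial.X k : MvPolynomial (Fin (n + 1)) R₀))

lemma coordFinset_deg_one : ∀ f ∈ coordFinset n R₀, f ∈ CohB1.polyGrading n R₀ 1 := by
  classical
  intro f hf
  obtain ⟨k, -, rfl⟩ := Finset.mem_image.1 hf
  exact MvPolynomial.isHomogeneous_X R₀ k

lemma iSup_coordFinset :
    (⨆ i : (coordFinset n R₀ : Set (MvPolynomial (Fin (n + 1)) R₀)),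
      Proj.basicOpen (CohB1.polyGrading n R₀) (i : MvPolynomial (Fin (n + 1)) R₀)) = ⊤ := by
  classical
  rw [eq_top_iff, ← Groth.Agent.S0022.iSup_basicOpen_X n R₀]
  refine iSup_le fun k => ?_
  exact le_iSup (fun i : (coordFinset n R₀ : Set (MvPolynomial (Fin (n + 1)) R₀)) =>
    Proj.basicOpen (CohB1.polyGrading n R₀) (i : MvPolynomial (Fin (n + 1)) R₀))
    ⟨MvPolynomial.X k, Finset.mem_image.2 ⟨k, Finset.mem_univ k, rfl⟩⟩

/-- **`O(1)` on `P^n_R` is ample** -/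
theorem isAmple_twistProjSpace_one : CohB1.IsAmple (Twist.twistProjSpace n R₀ 1) :=
  isAmple_twist_one_of_iSup_eq_top (𝒜 := CohB1.polyGrading n R₀) (coordFinset n R₀)
    (coordFinset_deg_one n R₀) (iSup_coordFinset n R₀)

/-- **every coherent module on `P^n_R` is a quotient of `O(-m)^r`** for all `m ≫ 0` -/
theorem exists_epi_sigma_twistProjSpace_of_isCoh (F : (CohB1.ProjSpace n R₀).Modules)
    (hF : Coh.IsCoh F) :
    ∃ m₀ : ℕ, ∀ m, m₀ ≤ m → ∃ (r : ℕ)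
      (φ : (∐ fun _ : Fin r => Twist.twistProjSpace n R₀ (-(m : ℤ))) ⟶ F), Epi φ :=
  exists_epi_sigma_twist_of_isCoh (𝒜 := CohB1.polyGrading n R₀) (coordFinset n R₀)
    (coordFinset_deg_one n R₀) (iSup_coordFinset n R₀) F hF

end ProjSpace

end Groth.Agent.Lib.Proj
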