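import Groth.Agent.Lib.Proj.TwistCore
import Groth.Agent.Lib.QCoh.TensorPic

/-!
# PROJ-TWIST (lead): local triviality / invertibility of `O(n)`

* `fracIso a b m m' h U hUa hUb : O(m)|_U ≅ O(m')|_U` (`a`,`b` nowhere zero on `U`, `m' + deg b = m + deg a`)
* `twistZeroRestrictIso U : O(0)|_U ≅ O_U`
* `nonempty_twist_mul_restrict_iso_unit` (S9575 form), `nonempty_twist_mul_restrict_iso_unit'` (S1614 form: `O(n d)|_U ≅ O_U`
  for `U ≤ D₊(f)`, `f ∈ 𝒜 d`)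
* `isInvertible_restrict_of_forall` (general), `isInvertible_twist_mul_restrict_iSup` (S4399),
  `isInvertible_twist` (all `O(n)` invertible when the `D₊(f)`, `f ∈ 𝒜 1`, cover)
-/

universe u
open CategoryTheory CategoryTheory.Limits AlgebraicGeometry TopologicalSpace Opposite TopCat

namespace Groth.Agent.Lib.Proj

open Twist Scheme.Modules

variable {R A : Type u} [CommRing R] [CommRing A] [Algebra R A] {𝒜 : ℕ → Submodule R A} [GradedAlgebra 𝒜]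

/-- **unit fractions give isomorphisms of twists**: if `a ∈ 𝒜 i`, `b ∈ 𝒜 j` vanish nowhere on `U` and
`m' + j = m + i`, then `O(m)|_U ≅ O(m')|_U` (multiplication by `a / b`). -/
noncomputable def fracIso {i j : ℕ} (a : 𝒜 i) (b : 𝒜 j) (m m' : ℤ) (h : m' + j = m + i)
    (U : (Proj 𝒜).Opens) (hUa : U ≤ Proj.basicOpen 𝒜 a.1) (hUb : U ≤ Proj.basicOpen 𝒜 b.1) :
    (twist 𝒜 m).restrict U.ι ≅ (twist 𝒜 m').restrict U.ι :=
  mulIso a m (m + i) rfl U hUa ≪≫ (mulIso b m' (m + i) (by omega) U hUb).symm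

/-- `O(0)|_U ≅ O_U` -/
noncomputable def twistZeroRestrictIso (U : (Proj 𝒜).Opens) :
    (twist 𝒜 0).restrict U.ι ≅ Coh.structureModule (↑U) :=
  (restrictFunctor U.ι).mapIso (twistZeroIso 𝒜) ≪≫ restrictUnitIso U.ι

lemma pow_not_mem {x : ProjectiveSpectrum 𝒜} {f : A} (hf : f ∉ x.asHomogeneousIdeal) (k : ℕ) :
    f ^ k ∉ x.asHomogeneousIdeal := fun h => hf (x.isPrime.mem_of_pow_mem k h)

/-- if `a ∈ 𝒜 i`, `b ∈ 𝒜 j` vanish nowhere on `U` and `i = j + d`, then `O(n d)|_U ≅ O_U` for all `n : ℤ` -/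
theorem nonempty_twist_mul_restrict_iso_unit {i j d : ℕ} (a : 𝒜 i) (b : 𝒜 j) (hij : i = j + d) (n : ℤ)
    (U : (Proj 𝒜).Opens) (hUa : U ≤ Proj.basicOpen 𝒜 a.1) (hUb : U ≤ Proj.basicOpen 𝒜 b.1) :
    Nonempty ((twist 𝒜 (n * d)).restrict U.ι ≅ Coh.structureModule (↑U)) := by
  obtain ⟨k, rfl | rfl⟩ := n.eq_nat_or_neg
  · -- multiply by `b^k / a^k`
    let ak : 𝒜 (k • i) := ⟨a.1 ^ k, SetLike.pow_mem_graded k a.2⟩
    let bk : 𝒜 (k • j) := ⟨b.1 ^ k, SetLike.pow_mem_graded k b.2⟩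
    refine ⟨fracIso bk ak ((k : ℤ) * d) 0 ?_ U (fun x hx => pow_not_mem (hUb hx) k)
      (fun x hx => pow_not_mem (hUa hx) k) ≪≫ twistZeroRestrictIso U⟩
    subst hij
    simp only [smul_eq_mul]
    push_cast
    ring
  · let ak : 𝒜 (k • i) := ⟨a.1 ^ k, SetLike.pow_mem_graded k a.2⟩
    let bk : 𝒜 (k • j) := ⟨b.1 ^ k, SetLike.pow_mem_graded k b.2⟩
    refine ⟨fracIso ak bk (-(k : ℤ) * d) 0 ?_ U (fun x hx => pow_not_mem (hUa hx) k)
      (fun x hx => pow_not_mem (hUb hx) k) ≪≫ twistZeroRestrictIso U⟩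
    subst hij
    simp only [smul_eq_mul]
    push_cast
    ring

/-- for `f ∈ 𝒜 d`: `O(n d)|_U ≅ O_U` on every open `U ≤ D₊(f)` -/
theorem nonempty_twist_mul_restrict_iso_unit' {d : ℕ} (f : 𝒜 d) (n : ℤ)
    (U : (Proj 𝒜).Opens) (hU : U ≤ Proj.basicOpen 𝒜 f.1) :
    Nonempty ((twist 𝒜 (n * d)).restrict U.ι ≅ Coh.structureModule (↑U)) :=
  nonempty_twist_mul_restrict_iso_unit f (one0 𝒜) (by simp) n U hU (fun x _ => one_not_mem x)

/-- a module which is trivial near every point of `W` restricts to an invertible module on `W` -/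
theorem isInvertible_restrict_of_forall {X : Scheme.{u}} (M : X.Modules) (W : X.Opens)
    (h : ∀ y ∈ W, ∃ U : X.Opens, y ∈ U ∧ Nonempty (M.restrict U.ι ≅ Coh.structureModule (↑U))) :
    PicF.IsInvertible (M.restrict W.ι) := by
  intro y
  obtain ⟨U, hy, ⟨i⟩⟩ := h (W.ι.base y) y.2
  refine ⟨W.ι ⁻¹ᵁ U, hy, ⟨?_⟩⟩
  exact QCoh.restrictRestrictIso W.ι M U ≪≫ (restrictFunctor (W.ι ∣_ U)).mapIso i ≪≫ restrictUnitIso _

/-- `O(n d)` is invertible on the union of the `D₊(f)`, `f ∈ 𝒜 d` -/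
theorem isInvertible_twist_mul_restrict_iSup (d : ℕ) (n : ℤ) :
    PicF.IsInvertible ((twist 𝒜 (n * d)).restrict (⨆ f : 𝒜 d, Proj.basicOpen 𝒜 (f : A)).ι) := by
  refine isInvertible_restrict_of_forall _ _ fun y hy => ?_
  obtain ⟨f, hf⟩ := Opens.mem_iSup.mp hy
  exact ⟨Proj.basicOpen 𝒜 f.1, hf, nonempty_twist_mul_restrict_iso_unit' f n _ le_rfl⟩

/-- if the `D₊(f)`, `f ∈ 𝒜 1`, cover `Proj 𝒜`, all `O(n)` are invertible -/
theorem isInvertible_twist (hcov : (⨆ f : 𝒜 1, Proj.basicOpen 𝒜 (f : A)) = ⊤) (n : ℤ) :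
    PicF.IsInvertible (twist 𝒜 n) := by
  intro y
  have hy : y ∈ (⨆ f : 𝒜 1, Proj.basicOpen 𝒜 (f : A)) := hcov ▸ trivial
  obtain ⟨f, hf⟩ := Opens.mem_iSup.mp hy
  have := nonempty_twist_mul_restrict_iso_unit' f n _ (le_refl (Proj.basicOpen 𝒜 f.1))
  simp only [Nat.cast_one, mul_one] at this
  exact ⟨Proj.basicOpen 𝒜 f.1, hf, this⟩

end Groth.Agent.Lib.Proj
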