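import Groth.Agent.Lib.Proj.Helper3_CechBridge
import Groth.Agent.Lib.Proj.TwistTriv
import Groth.Agent.Lib.QCoh.Invertible
import Groth.Agent.S0013
import Groth.Agent.S0022

/-!
# Cohomology of `O(d)` on `P^n_R` from a Laurent bridge (helper3, R1b)

Scheme-level assembly: the standard cover of `P^n_R`, quasi-coherence of `O(d)`, comparison of Čech
and derived functor cohomology (S0013), and the vanishing statements given a `CechBridge.Bridge`.
-/

set_option autoImplicit false
universe u

namespace Groth.Agent.Lib.Proj.PnCoh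

open CategoryTheory Limits Opposite TopologicalSpace AlgebraicGeometry
open Groth.Agent.Lib.Cohomology Groth.Agent.Lib.Proj.CechComb Groth.Agent.Lib.Proj.CechBridge

variable (n : ℕ) (R : Type u) [CommRing R]

/-- the index type of the standard cover, in universe `u` -/
abbrev Idx : Type u := ULift.{u} (Fin (n + 1))

/-- the standard cover of `P^n_R` -/
noncomputable def stdCover : Idx n → (CohB1.ProjSpace n R).Opens :=
  fun k => Proj.basicOpen (CohB1.polyGrading n R) (MvPolynomial.X k.down)

lemma iSup_stdCover : ⨆ k, stdCover n R k = ⊤ := by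
  rw [eq_top_iff]
  refine le_trans (Groth.Agent.S0022.iSup_basicOpen_X n R).ge ?_
  exact iSup_le fun k => le_iSup (stdCover n R) ⟨k⟩

lemma iSup_deg_one : (⨆ f : CohB1.polyGrading n R 1,
    Proj.basicOpen (CohB1.polyGrading n R) (f : MvPolynomial (Fin (n + 1)) R)) = ⊤ := by
  rw [eq_top_iff]
  refine le_trans (Groth.Agent.S0022.iSup_basicOpen_X n R).ge ?_
  exact iSup_le fun k => le_iSup (fun f : CohB1.polyGrading n R 1 =>
    Proj.basicOpen (CohB1.polyGrading n R) (f : MvPolynomial (Fin (n + 1)) R))
    ⟨MvPolynomial.X k, MvPolynomial.isHomogeneous_X R k⟩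

instance isQCoh_twist (d : ℤ) : Coh.IsQCoh (Twist.twistProjSpace n R d) :=
  QCoh.isQuasicoherent_of_isInvertible
    (Groth.Agent.Lib.Proj.isInvertible_twist (𝒜 := CohB1.polyGrading n R) (iSup_deg_one n R) d)

lemma iInf_stdCover_eq (s : Finset (Idx n)) :
    ⨅ i ∈ s, stdCover n R i =
      Proj.basicOpen (CohB1.polyGrading n R) (∏ i ∈ s, MvPolynomial.X i.down) := by
  classical
  induction s using Finset.induction_on with
  | empty =>
    simp only [Finset.notMem_empty, iInf_false, iInf_top, Finset.prod_empty]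
    exact (Proj.basicOpen_one _).symm
  | insert a s ha ih =>
    rw [Finset.iInf_insert, ih, Finset.prod_insert ha, Proj.basicOpen_mul]
    rfl

lemma isAffineOpen_iInf_stdCover (s : Finset (Idx n)) (hs : s.Nonempty) :
    IsAffineOpen (⨅ i ∈ s, stdCover n R i) := by
  rw [iInf_stdCover_eq]
  refine Proj.isAffineOpen_basicOpen _ _ (m := s.card) ?_ (Finset.card_pos.mpr hs)
  have := MvPolynomial.IsHomogeneous.prod s (fun i : Idx n => (MvPolynomial.X i.down :
    MvPolynomial (Fin (n + 1)) R)) (fun _ => 1) (fun i _ => MvPolynomial.isHomogeneous_X R i.down)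
  simpa using this

/-- Čech cohomology of the standard cover computes cohomology. -/
theorem nonempty_cech_equiv (M : (CohB1.ProjSpace n R).Modules) [Coh.IsQCoh M] (p : ℕ) :
    Nonempty (↑(CohB1.cechH (stdCover n R) M p) ≃+ Coh.HH (CohB1.ProjSpace n R) M p) :=
  Groth.Agent.S0013.result _ (stdCover n R) (iSup_stdCover n R)
    (isAffineOpen_iInf_stdCover n R) M p

lemma subsingleton_HH_of_isZero (M : (CohB1.ProjSpace n R).Modules) [Coh.IsQCoh M] (p : ℕ)
    (h : IsZero (((cechComplexFunctor (stdCover n R)).obj M.presheaf).homology p)) :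
    Subsingleton (Coh.HH (CohB1.ProjSpace n R) M p) := by
  obtain ⟨e⟩ := nonempty_cech_equiv n R M p
  have : Subsingleton ↑(CohB1.cechH (stdCover n R) M p) :=
    AddCommGrpCat.subsingleton_of_isZero h
  exact e.symm.toEquiv.subsingleton

/-- cohomology only depends on the isomorphism class of the module -/
lemma subsingleton_HH_of_iso {X : Scheme.{u}} {M N : X.Modules} (e : M ≅ N) (p : ℕ)
    [Subsingleton (Coh.HH X M p)] : Subsingleton (Coh.HH X N p) := by
  have e' : Coh.toAb M ≅ Coh.toAb N := (SheafOfModules.toSheaf X.ringCatSheaf).mapIso e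
  have e'' := ((Abelian.extFunctorObj ((constantSheaf (Opens.grothendieckTopology X)
    AddCommGrpCat.{u}).obj (AddCommGrpCat.of (ULift ℤ))) p).mapIso e').addCommGroupIsoToAddEquiv
  have : Subsingleton ↑((Abelian.extFunctorObj ((constantSheaf (Opens.grothendieckTopology X)
    AddCommGrpCat.{u}).obj (AddCommGrpCat.of (ULift ℤ))) p).obj (Coh.toAb M)) :=
    (inferInstance : Subsingleton (Coh.HH X M p))
  exact e''.symm.toEquiv.subsingleton

variable {n R}

/-- The vanishing statements for `O(d)` from a bridge. -/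
theorem subsingleton_HH_twist {d : ℤ}
    (B : Bridge (stdCover n R) (Twist.twistProjSpace n R d).presheaf R d) (q : ℕ)
    (h₀ : ¬ (q = 0 ∧ 0 ≤ d)) (hn : ¬ (q = n ∧ d ≤ -((n : ℤ) + 1))) :
    Subsingleton (Coh.HH (CohB1.ProjSpace n R) (Twist.twistProjSpace n R d) q) := by
  apply subsingleton_HH_of_isZero
  have hcard : Fintype.card (Idx n) = n + 1 := by simp
  cases q with
  | zero =>
    have hd : d < 0 := by
      by_contra h
      exact h₀ ⟨rfl, not_lt.mp h⟩
    apply B.isZero_homology_zero hd
    rw [hcard]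
    intro h
    have hn0 : n = 0 := by omega
    subst hn0
    apply hn
    refine ⟨rfl, ?_⟩
    push_cast
    omega
  | succ m =>
    apply B.isZero_homology_succ
    rw [hcard]
    by_cases hm : m + 1 = n
    · right
      have : ¬ d ≤ -((n : ℤ) + 1) := fun h => hn ⟨hm, h⟩
      push_cast
      omega
    · left
      omega

end Groth.Agent.Lib.Proj.PnCoh
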