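/-
The rank of the module of homogeneous polynomials of degree `d` (helper44; for S4466 and friends).

ns `Groth.Agent.Lib.Proj.HomogRank`: `homogEquivFinsupp`, `natCard_degree_eq`, `finrank_homogeneousSubmodule`,
`finrank_homogeneousSubmodule_fin : finrank R (homogeneousSubmodule (Fin (r+1)) R d) = (d + r).choose r`,
`finite_homogeneousSubmodule`.
-/
import Mathlib.RingTheory.MvPolynomial.Homogeneous
import Mathlib.LinearAlgebra.Finsupp.Supported
import Mathlib.LinearAlgebra.Dimension.StrongRankCondition
import Mathlib.LinearAlgebra.Dimension.Constructions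
import Mathlib.LinearAlgebra.Dimension.Free
import Mathlib.Data.Sym.Card
import Mathlib.LinearAlgebra.FreeModule.StrongRankCondition
import Mathlib.Data.Finsupp.Multiset
set_option autoImplicit false
universe u v

namespace Groth.Agent.Lib.Proj.HomogRank

open MvPolynomial

/-- the homogeneous polynomials of degree `d` are free on the monomials of degree `d` -/
noncomputable def homogEquivFinsupp (σ : Type u) (R : Type v) [CommRing R] (d : ℕ) :
    homogeneousSubmodule σ R d ≃ₗ[R] ({μ : σ →₀ ℕ | μ.degree = d} →₀ R) :=
  (LinearEquiv.ofEq _ _ (MvPolynomial.homogeneousSubmodule_eq_finsupp_supported σ R d)) ≪≫ₗ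
    (AddMonoidAlgebra.supportedEquivFinsupp (R := R) (S := R) {μ : σ →₀ ℕ | μ.degree = d})

lemma natCard_degree_eq (σ : Type u) [Fintype σ] (d : ℕ) :
    Nat.card {μ : σ →₀ ℕ | μ.degree = d} = (Fintype.card σ + d - 1).choose d := by
  classical
  have e : Sym σ d ≃ {μ : σ →₀ ℕ | μ.degree = d} :=
    (Sym.equivNatSum σ d).trans (Equiv.subtypeEquivRight (fun μ => by
      show (μ.sum fun _ => id) = d ↔ μ.degree = d
      rw [Finsupp.degree_eq_sum, Finsupp.sum_fintype _ _ (fun _ => rfl)]
      rfl))
  rw [← Nat.card_congr e, Nat.card_eq_fintype_card, Sym.card_sym_eq_multichoose,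
    Nat.multichoose_eq]

theorem finrank_homogeneousSubmodule (σ : Type u) [Fintype σ] (R : Type v) [CommRing R] [Nontrivial R]
    (d : ℕ) :
    Module.finrank R (homogeneousSubmodule σ R d) = (Fintype.card σ + d - 1).choose d := by
  rw [Module.finrank_eq_nat_card_basis
    ((Finsupp.basisSingleOne (R := R) (ι := {μ : σ →₀ ℕ | μ.degree = d})).map
      (homogEquivFinsupp σ R d).symm), natCard_degree_eq]

theorem finrank_homogeneousSubmodule_fin (r : ℕ) (R : Type v) [CommRing R] [Nontrivial R] (d : ℕ) :
    Module.finrank R (homogeneousSubmodule (Fin (r + 1)) R d) = (d + r).choose r := by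
  rw [finrank_homogeneousSubmodule, Fintype.card_fin]
  have : r + 1 + d - 1 = d + r := by omega
  rw [this, add_comm d r, Nat.choose_symm_add]

instance finite_homogeneousSubmodule (σ : Type u) [Fintype σ] (R : Type v) [CommRing R] (d : ℕ) :
    Module.Finite R (homogeneousSubmodule σ R d) := by
  classical
  have : Finite {μ : σ →₀ ℕ | μ.degree = d} := by
    have e : Sym σ d ≃ {μ : σ →₀ ℕ | μ.degree = d} :=
      (Sym.equivNatSum σ d).trans (Equiv.subtypeEquivRight (fun μ => by
        show (μ.sum fun _ => id) = d ↔ μ.degree = d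
        rw [Finsupp.degree_eq_sum, Finsupp.sum_fintype _ _ (fun _ => rfl)]
        rfl))
    exact Finite.of_equiv _ e
  exact Module.Finite.equiv (homogEquivFinsupp σ R d).symm

end Groth.Agent.Lib.Proj.HomogRank
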