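import Groth.Agent.Lib.Ample.GlobGenSection
import Groth.Agent.Lib.Ample.FinGen

/-!
# Comparing two quotients of a free module stalkwise (lead)

ns `Groth.Agent.Lib.Proj.QuotCompare`.
* `hom_eq_zero_of_stalkMap` : a morphism of `O_X`-modules vanishing on all stalks is zero
* `span_freeGerm_eq_top` : the stalk of a free module is spanned by the germs of the basis sections
* `exists_desc_of_stalkwise`, `exists_iso_of_stalkwise` : two quotients `pM : free ι ⟶ M`,
  `pL : free ι ⟶ L` which are stalkwise identified (compatibly with the images of the basis) are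
  isomorphic
* `IsGenerator.stalk_bijective` : a free generator over `U` generates each stalk freely
-/

universe u
open CategoryTheory CategoryTheory.Limits AlgebraicGeometry TopologicalSpace Opposite

namespace Groth.Agent.Lib.Proj.QuotCompare

open Groth.Agent.Lib.Ample Groth.Agent.Lib.QCoh Scheme.Modules

variable {X : Scheme.{u}}

/-- a morphism of modules which vanishes on all stalks is zero -/
theorem hom_eq_zero_of_stalkMap {M N : X.Modules} (φ : M ⟶ N)
    (h : ∀ (x : X) (m : M.presheaf.stalk x), stalkMap φ x m = 0) : φ = 0 := by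
  apply Scheme.Modules.hom_ext
  intro U
  ext m
  refine TopCat.Presheaf.section_ext ⟨N.presheaf, N.isSheaf⟩ U _ _ fun x hx => ?_
  have h1 := stalkMap_germ φ x U hx m
  rw [h] at h1
  refine h1.symm.trans ?_
  exact (map_zero _).symm

/-- the germ at `x` of the `j`-th basis section of a free module -/
noncomputable abbrev freeGerm (ι : Type u) (j : ι) (x : X) : (freeModule X ι).presheaf.stalk x :=
  stalkMap (SheafOfModules.ιFree (R := X.ringCatSheaf) j) x (germOne x)

theorem span_freeGerm_eq_top (ι : Type u) (x : X) :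
    Submodule.span (X.presheaf.stalk x) (Set.range fun j : ι => freeGerm (X := X) ι j x) = ⊤ := by
  have h := span_germ_eq_top_of_epi_free (𝟙 (freeModule X ι)) x
  have h2 : (fun i : ι => stalkMap (SheafOfModules.ιFree (R := X.ringCatSheaf) i ≫
      𝟙 (freeModule X ι)) x (germOne x)) = fun j : ι => freeGerm (X := X) ι j x := by
    funext i
    exact congrArg (fun k => stalkMap k x (germOne x))
      (Category.comp_id (SheafOfModules.ιFree (R := X.ringCatSheaf) i))
  rw [h2] at h
  exact h

lemma stalkMap_comp_apply {M N K : X.Modules} (φ : M ⟶ N) (ψ : N ⟶ K) (x : X)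
    (m : M.presheaf.stalk x) : stalkMap (φ ≫ ψ) x m = stalkMap ψ x (stalkMap φ x m) := by
  have e3 : (stalkFunctor X x).map (φ ≫ ψ) =
      (stalkFunctor X x).map φ ≫ (stalkFunctor X x).map ψ := (stalkFunctor X x).map_comp _ _
  exact (ConcreteCategory.congr_hom e3 m).trans (ConcreteCategory.comp_apply _ _ _)

/-- if stalkwise `pL = ψ ∘ pM` on the basis, then `pL` factors through the epimorphism `pM` -/
theorem exists_desc_of_stalkwise {M L : X.Modules} {ι : Type u} (pM : freeModule X ι ⟶ M)
    (pL : freeModule X ι ⟶ L) [Epi pM]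
    (h : ∀ x : X, ∃ ψ : M.presheaf.stalk x →ₗ[X.presheaf.stalk x] L.presheaf.stalk x,
      ∀ j : ι, ψ (stalkMap pM x (freeGerm ι j x)) = stalkMap pL x (freeGerm ι j x)) :
    ∃ τ : M ⟶ L, pM ≫ τ = pL := by
  have hk : kernel.ι pM ≫ pL = 0 := by
    apply hom_eq_zero_of_stalkMap
    intro x z
    obtain ⟨ψ, hψ⟩ := h x
    have h1 : (stalkMapₗ pL x) = ψ.comp (stalkMapₗ pM x) := by
      apply LinearMap.ext_on (span_freeGerm_eq_top ι x)
      rintro _ ⟨j, rfl⟩
      exact (hψ j).symm
    rw [stalkMap_comp_apply]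
    have h2 : stalkMap pM x (stalkMap (kernel.ι pM) x z) = 0 := by
      rw [← stalkMap_comp_apply, kernel.condition]
      have : (stalkFunctor X x).map (0 : kernel pM ⟶ M) = 0 := (stalkFunctor X x).map_zero _ _
      exact ConcreteCategory.congr_hom this z
    have h3 := LinearMap.congr_fun h1 (stalkMap (kernel.ι pM) x z)
    refine h3.trans ?_
    show ψ (stalkMap pM x _) = 0
    rw [h2, map_zero]
  exact ⟨(Abelian.epiIsCokernelOfKernel _ (kernelIsKernel pM)).desc (CokernelCofork.ofπ pL hk),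
    (Abelian.epiIsCokernelOfKernel _ (kernelIsKernel pM)).fac (CokernelCofork.ofπ pL hk)
      WalkingParallelPair.one⟩

/-- two quotients of a free module which are stalkwise identified are isomorphic -/
theorem exists_iso_of_stalkwise {M L : X.Modules} {ι : Type u} (pM : freeModule X ι ⟶ M)
    (pL : freeModule X ι ⟶ L) [Epi pM] [Epi pL]
    (h : ∀ x : X, ∃ ψ : M.presheaf.stalk x ≃ₗ[X.presheaf.stalk x] L.presheaf.stalk x,
      ∀ j : ι, ψ (stalkMap pM x (freeGerm ι j x)) = stalkMap pL x (freeGerm ι j x)) :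
    ∃ τ : M ≅ L, pM ≫ τ.hom = pL := by
  obtain ⟨τ, hτ⟩ := exists_desc_of_stalkwise pM pL (fun x => by
    obtain ⟨ψ, hψ⟩ := h x
    exact ⟨ψ.toLinearMap, hψ⟩)
  obtain ⟨τ', hτ'⟩ := exists_desc_of_stalkwise pL pM (fun x => by
    obtain ⟨ψ, hψ⟩ := h x
    refine ⟨ψ.symm.toLinearMap, fun j => ?_⟩
    rw [← hψ j]
    exact ψ.symm_apply_apply _)
  refine ⟨⟨τ, τ', ?_, ?_⟩, hτ⟩
  · rw [← cancel_epi pM, ← Category.assoc, hτ, hτ', Category.comp_id]
  · rw [← cancel_epi pL, ← Category.assoc, hτ', hτ, Category.comp_id]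

/-- a free generator of `L` over `U` generates every stalk at a point of `U` freely -/
theorem IsGenerator.stalk_bijective {L : X.Modules} {U : X.Opens} {e : Γ(L, U)}
    (he : IsGenerator L U e) (x : X) (hx : x ∈ U) :
    Function.Bijective (fun c : X.presheaf.stalk x => c • L.presheaf.germ U x hx e) := by
  constructor
  · -- injective
    show Function.Injective (LinearMap.toSpanSingleton (X.presheaf.stalk x) _
      (L.presheaf.germ U x hx e))
    rw [injective_iff_map_eq_zero]
    intro c hc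
    change c • L.presheaf.germ U x hx e = 0 at hc
    obtain ⟨W, hxW, a, rfl⟩ := TopCat.Presheaf.exists_germ_eq X.presheaf c
    -- shrink to `W ⊓ U`
    have hxV : x ∈ W ⊓ U := ⟨hxW, hx⟩
    have e1 : X.presheaf.germ W x hxW a =
        X.presheaf.germ (W ⊓ U) x hxV (resFn (inf_le_left : W ⊓ U ≤ W) a) :=
      (TopCat.Presheaf.germ_res_apply X.presheaf (homOfLE (inf_le_left : W ⊓ U ≤ W)) x hxV a).symm
    have e2 : L.presheaf.germ U x hx e =
        L.presheaf.germ (W ⊓ U) x hxV (resSec L (inf_le_right : W ⊓ U ≤ U) e) :=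
      (TopCat.Presheaf.germ_res_apply L.presheaf (homOfLE (inf_le_right : W ⊓ U ≤ U)) x hxV e).symm
    rw [e1, e2, ← germ_smul] at hc
    have hc0 : L.presheaf.germ (W ⊓ U) x hxV
        (resFn (inf_le_left : W ⊓ U ≤ W) a • resSec L (inf_le_right : W ⊓ U ≤ U) e) =
        L.presheaf.germ (W ⊓ U) x hxV 0 := by rw [hc, map_zero]
    obtain ⟨W', hxW', iU, iV, hW'⟩ := TopCat.Presheaf.germ_eq L.presheaf x hxV hxV _ _ hc0
    have hle : W' ≤ W ⊓ U := iU.le
    have hiU : iU = homOfLE hle := Subsingleton.elim _ _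
    subst hiU
    have h1 : resSec L hle (resFn (inf_le_left : W ⊓ U ≤ W) a •
        resSec L (inf_le_right : W ⊓ U ≤ U) e) = 0 := hW'.trans (map_zero _)
    rw [resSec_smul, resSec_resSec] at h1
    have h2 : resFn hle (resFn (inf_le_left : W ⊓ U ≤ W) a) = 0 := by
      apply (he W' (hle.trans inf_le_right)).1
      show _ • resSec L _ e = (0 : Γ(X, W')) • resSec L _ e
      rw [h1, zero_smul]
    rw [e1]
    have e3 : X.presheaf.germ (W ⊓ U) x hxV (resFn (inf_le_left : W ⊓ U ≤ W) a) =
        X.presheaf.germ W' x hxW' (resFn hle (resFn (inf_le_left : W ⊓ U ≤ W) a)) :=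
      (TopCat.Presheaf.germ_res_apply X.presheaf (homOfLE hle) x hxW' _).symm
    rw [e3, h2, map_zero]
  · -- surjective
    intro m
    obtain ⟨W, hxW, t, rfl⟩ := TopCat.Presheaf.exists_germ_eq L.presheaf m
    have hxV : x ∈ W ⊓ U := ⟨hxW, hx⟩
    obtain ⟨a, ha⟩ := (he (W ⊓ U) inf_le_right).2 (resSec L (inf_le_left : W ⊓ U ≤ W) t)
    refine ⟨X.presheaf.germ (W ⊓ U) x hxV a, ?_⟩
    have e2 : L.presheaf.germ U x hx e =
        L.presheaf.germ (W ⊓ U) x hxV (resSec L (inf_le_right : W ⊓ U ≤ U) e) :=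
      (TopCat.Presheaf.germ_res_apply L.presheaf (homOfLE (inf_le_right : W ⊓ U ≤ U)) x hxV e).symm
    have e4 : L.presheaf.germ W x hxW t =
        L.presheaf.germ (W ⊓ U) x hxV (resSec L (inf_le_left : W ⊓ U ≤ W) t) :=
      (TopCat.Presheaf.germ_res_apply L.presheaf (homOfLE (inf_le_left : W ⊓ U ≤ W)) x hxV t).symm
    show _ • L.presheaf.germ U x hx e = _
    rw [e2, e4, ← germ_smul]
    exact congrArg _ ha

end Groth.Agent.Lib.Proj.QuotCompare
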