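/-
R1a of the P^n cohomology roadmap (helper44): the combinatorics of the FULL ordered Čech complex
(all ordered tuples, degenerate ones included), elementwise, no category theory.

ns `Groth.Agent.Lib.Proj.CechComb`.

* `dT p g` : the alternating-sum differential from functions on `p`-tuples `Fin p → ι` to functions on
  `(p+1)`-tuples (same formula as the Čech differential; `p = 0` is the augmentation).
* `hT j g` : the cone homotopy `b ↦ g (cons j b)`; `hT_dT_add : hT j (dT g) + dT (hT j g) = g`.
* `dT_dT : dT (dT g) = 0`.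
* `Vanish N g` : `g` vanishes on tuples whose range does not contain `N`.
* `exact_of_notMem` : if `j ∉ N`, cocycles vanishing off `N` are coboundaries of such.
* `surj_exact` : cochains supported on SURJECTIVE tuples: exactness above the top degree.
* `surj_top_inj`, `surj_top_exists` : in the top degree (`p = card ι`) a cocycle supported on surjective
  tuples is determined by its value at one enumeration `e`, and every value occurs.
-/
import Mathlib.Algebra.BigOperators.Fin
import Mathlib.Data.Fin.Tuple.Basic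
import Mathlib.Data.Fin.Parity
import Mathlib.Data.Fintype.Card
import Mathlib.Data.Fintype.Pi
import Mathlib.Tactic

set_option autoImplicit false
universe u v

namespace Groth.Agent.Lib.Proj.CechComb

section Abstract

variable {ι : Type u} {A : Type v} [AddCommGroup A]

/-- The alternating-sum differential on functions on tuples. -/
def dT (p : ℕ) (g : (Fin p → ι) → A) : (Fin (p + 1) → ι) → A :=
  fun b => ∑ k : Fin (p + 1), (-1 : ℤ) ^ (k : ℕ) • g (b ∘ k.succAbove)

lemma dT_apply (p : ℕ) (g : (Fin p → ι) → A) (b : Fin (p + 1) → ι) :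
    dT p g b = ∑ k : Fin (p + 1), (-1 : ℤ) ^ (k : ℕ) • g (b ∘ k.succAbove) := rfl

@[simp] lemma dT_zero (p : ℕ) : dT p (0 : (Fin p → ι) → A) = 0 := by
  funext b
  simp [dT_apply]

lemma dT_add (p : ℕ) (g g' : (Fin p → ι) → A) : dT p (g + g') = dT p g + dT p g' := by
  funext b
  simp [dT_apply, Finset.sum_add_distrib]

lemma dT_sub (p : ℕ) (g g' : (Fin p → ι) → A) : dT p (g - g') = dT p g - dT p g' := by
  funext b
  simp [dT_apply, Finset.sum_sub_distrib, smul_sub]

/-- The cone homotopy. -/
def hT (j : ι) {p : ℕ} (g : (Fin (p + 1) → ι) → A) : (Fin p → ι) → A :=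
  fun b => g (Fin.cons j b : Fin (p + 1) → ι)

lemma hT_apply (j : ι) {p : ℕ} (g : (Fin (p + 1) → ι) → A) (b : Fin p → ι) :
    hT j g b = g (Fin.cons j b : Fin (p + 1) → ι) := rfl

@[simp] lemma hT_zero (j : ι) {p : ℕ} : hT j (0 : (Fin (p + 1) → ι) → A) = 0 := rfl

lemma cons_comp_zero_succAbove (j : ι) {p : ℕ} (b : Fin p → ι) :
    (Fin.cons j b : Fin (p + 1) → ι) ∘ (0 : Fin (p + 1)).succAbove = b := by
  funext i
  simp [Fin.succAbove_zero]

lemma cons_comp_succ_succAbove (j : ι) {p : ℕ} (b : Fin (p + 1) → ι) (k : Fin (p + 1)) :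
    (Fin.cons j b : Fin (p + 2) → ι) ∘ (k.succ).succAbove
      = (Fin.cons j (b ∘ k.succAbove) : Fin (p + 1) → ι) := by
  funext i
  refine Fin.cases ?_ (fun i => ?_) i
  · simp
  · simp [Fin.succ_succAbove_succ]

lemma hT_dT_add (j : ι) (p : ℕ) (g : (Fin (p + 1) → ι) → A) :
    hT j (dT (p + 1) g) + dT p (hT j g) = g := by
  funext b
  simp only [Pi.add_apply, hT_apply, dT_apply]
  rw [Fin.sum_univ_succ]
  simp only [Fin.val_zero, pow_zero, one_smul, cons_comp_zero_succAbove, Fin.val_succ,
    cons_comp_succ_succAbove]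
  rw [add_assoc, ← Finset.sum_add_distrib]
  have : ∀ k : Fin (p + 1), ((-1 : ℤ) ^ ((k : ℕ) + 1) • g (Fin.cons j (b ∘ k.succAbove) : Fin (p + 1) → ι)
      + (-1 : ℤ) ^ (k : ℕ) • g (Fin.cons j (b ∘ k.succAbove) : Fin (p + 1) → ι)) = 0 := by
    intro k
    rw [pow_succ, mul_neg_one, neg_smul, neg_add_cancel]
  simp [this]

lemma dT_dT (p : ℕ) (g : (Fin p → ι) → A) : dT (p + 1) (dT p g) = 0 := by
  funext b
  simp only [dT_apply, Pi.zero_apply, Finset.smul_sum, smul_smul]
  rw [← Finset.sum_product']
  refine Finset.sum_ninvolution (fun x => (x.1.succAbove x.2, x.2.predAbove x.1)) ?_ ?_ ?_ ?_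
  · rintro ⟨i, j⟩
    have h1 : (b ∘ (i.succAbove j).succAbove) ∘ (j.predAbove i).succAbove
        = (b ∘ i.succAbove) ∘ j.succAbove := by
      funext k
      simp only [Function.comp_apply]
      rw [Fin.succAbove_succAbove_succAbove_predAbove]
    have h2 : (-1 : ℤ) ^ ((i.succAbove j : Fin (p + 2)) : ℕ) * (-1) ^ ((j.predAbove i : Fin (p + 1)) : ℕ)
        = - ((-1) ^ (i : ℕ) * (-1) ^ (j : ℕ)) := by
      rw [← pow_add, ← pow_add, Fin.neg_one_pow_succAbove_add_predAbove]
    simp only [h1, h2, neg_smul, add_neg_cancel]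
  · rintro ⟨i, j⟩ _ h
    exact Fin.succAbove_ne i j (congrArg Prod.fst h)
  · intro x
    simp
  · rintro ⟨i, j⟩
    simp only [Fin.succAbove_succAbove_predAbove, Fin.predAbove_predAbove_succAbove]

/-- `g` vanishes on the tuples whose range does not contain `N`. -/
def Vanish (N : Set ι) {p : ℕ} (g : (Fin p → ι) → A) : Prop :=
  ∀ b : Fin p → ι, ¬ N ⊆ Set.range b → g b = 0

lemma range_comp_succAbove_subset {p : ℕ} (b : Fin (p + 1) → ι) (k : Fin (p + 1)) :
    Set.range (b ∘ k.succAbove) ⊆ Set.range b := Set.range_comp_subset_range _ _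

lemma Vanish.dT {N : Set ι} {p : ℕ} {g : (Fin p → ι) → A} (hg : Vanish N g) :
    Vanish N (dT p g) := by
  intro b hb
  rw [dT_apply]
  refine Finset.sum_eq_zero (fun k _ => ?_)
  rw [hg _ (fun h => hb (h.trans (range_comp_succAbove_subset b k))), smul_zero]

lemma Vanish.hT {N : Set ι} {j : ι} (hj : j ∉ N) {p : ℕ} {g : (Fin (p + 1) → ι) → A}
    (hg : Vanish N g) : Vanish N (hT j g) := by
  intro b hb
  rw [hT_apply]
  refine hg _ (fun h => hb ?_)
  rw [Fin.range_cons] at h
  exact (Set.subset_insert_iff_of_notMem hj).1 h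

/-- **Cone contraction**: if `j ∉ N`, a cocycle vanishing off `N` is the coboundary of such a cochain. -/
lemma exact_of_notMem {N : Set ι} {j : ι} (hj : j ∉ N) {p : ℕ} (g : (Fin (p + 1) → ι) → A)
    (hg : Vanish N g) (hd : dT (p + 1) g = 0) : Vanish N (hT j g) ∧ dT p (hT j g) = g := by
  refine ⟨hg.hT hj, ?_⟩
  have := hT_dT_add j p g
  rw [hd, hT_zero, zero_add] at this
  exact this

end Abstract

section Surj

variable {ι : Type u} {A : Type v} [AddCommGroup A]

/-- `g` is supported on surjective tuples. -/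
def SurjSupp {p : ℕ} (g : (Fin p → ι) → A) : Prop :=
  ∀ b : Fin p → ι, ¬ Function.Surjective b → g b = 0

lemma SurjSupp.vanish {p : ℕ} {g : (Fin p → ι) → A} (hg : SurjSupp g) (N : Set ι) : Vanish N g := by
  intro b hb
  refine hg b (fun hs => hb ?_)
  rw [hs.range_eq]
  exact Set.subset_univ _

/-- Restriction of a cochain to the tuples avoiding `a`. -/
def resT (a : ι) {p : ℕ} (g : (Fin p → ι) → A) : (Fin p → {x : ι // x ≠ a}) → A :=
  fun b' => g (fun k => (b' k).1)

lemma resT_apply (a : ι) {p : ℕ} (g : (Fin p → ι) → A) (b' : Fin p → {x : ι // x ≠ a}) :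
    resT a g b' = g (fun k => (b' k).1) := rfl

lemma resT_sub (a : ι) {p : ℕ} (g g' : (Fin p → ι) → A) :
    resT a (g - g') = resT a g - resT a g' := rfl

lemma resT_dT (a : ι) (p : ℕ) (g : (Fin p → ι) → A) : resT a (dT p g) = dT p (resT a g) := rfl

open Classical in
/-- Extension by zero of a cochain on the tuples avoiding `a`. -/
noncomputable def extT (a : ι) {p : ℕ} (g' : (Fin p → {x : ι // x ≠ a}) → A) : (Fin p → ι) → A :=
  fun b => if h : ∀ k, b k ≠ a then g' (fun k => ⟨b k, h k⟩) else 0

lemma extT_of_avoid (a : ι) {p : ℕ} (g' : (Fin p → {x : ι // x ≠ a}) → A) (b : Fin p → ι)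
    (h : ∀ k, b k ≠ a) : extT a g' b = g' (fun k => ⟨b k, h k⟩) := by
  rw [extT, dif_pos h]

lemma extT_of_hit (a : ι) {p : ℕ} (g' : (Fin p → {x : ι // x ≠ a}) → A) (b : Fin p → ι)
    (h : ∃ k, b k = a) : extT a g' b = 0 := by
  rw [extT, dif_neg]
  push Not
  exact h

lemma resT_extT (a : ι) {p : ℕ} (g' : (Fin p → {x : ι // x ≠ a}) → A) : resT a (extT a g') = g' := by
  funext b'
  rw [resT_apply, extT_of_avoid a g' _ (fun k => (b' k).2)]

/-- A cochain avoiding-`a`-restricting to zero and vanishing off `{x | x ≠ a}` is supported on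
surjective tuples. -/
lemma surjSupp_of_resT_eq_zero (a : ι) {p : ℕ} (t : (Fin p → ι) → A) (h0 : resT a t = 0)
    (hv : Vanish {x | x ≠ a} t) : SurjSupp t := by
  intro b hb
  by_cases hav : ∀ k, b k ≠ a
  · have := congrFun h0 (fun k => ⟨b k, hav k⟩)
    exact this
  · push Not at hav
    obtain ⟨k, hk⟩ := hav
    have hx : ∃ x, x ∉ Set.range b := by
      by_contra hcon
      push Not at hcon
      exact hb (fun y => hcon y)
    obtain ⟨x, hx⟩ := hx
    refine hv b (fun hsub => hx (hsub ?_))
    intro hxa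
    exact hx ⟨k, hk.trans hxa.symm⟩

lemma SurjSupp.extT_vanish (a : ι) {p : ℕ} {g' : (Fin p → {x : ι // x ≠ a}) → A} (hg' : SurjSupp g') :
    Vanish {x | x ≠ a} (extT a g') := by
  intro b hb
  by_cases hav : ∀ k, b k ≠ a
  · rw [extT_of_avoid a g' b hav]
    refine hg' _ (fun hs => hb ?_)
    intro x hx
    obtain ⟨k, hk⟩ := hs ⟨x, hx⟩
    exact ⟨k, congrArg Subtype.val hk⟩
  · push Not at hav
    exact extT_of_hit a g' b hav

lemma not_surjective_of_avoid (a : ι) {p : ℕ} (b' : Fin p → {x : ι // x ≠ a}) :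
    ¬ Function.Surjective (fun k => (b' k).1) := by
  intro hs
  obtain ⟨k, hk⟩ := hs a
  exact (b' k).2 hk

lemma SurjSupp.resT_eq_zero (a : ι) {p : ℕ} {g : (Fin p → ι) → A} (hg : SurjSupp g) :
    resT a g = 0 := by
  funext b'
  exact hg _ (not_surjective_of_avoid a b')

lemma SurjSupp.resT_hT (a : ι) {p : ℕ} {g : (Fin (p + 1) → ι) → A} (hg : SurjSupp g) :
    SurjSupp (resT a (hT a g)) := by
  intro b' hb'
  rw [resT_apply, hT_apply]
  refine hg _ (fun hs => hb' ?_)
  intro y
  obtain ⟨i, hi⟩ := hs y.1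
  revert hi
  refine Fin.cases ?_ (fun i => ?_) i
  · intro hi
    exact absurd hi.symm y.2
  · intro hi
    exact ⟨i, Subtype.ext hi⟩

/-- the restricted contraction of a cocycle supported on surjective tuples is again a cocycle -/
lemma SurjSupp.dT_resT_hT (a : ι) {p : ℕ} {g : (Fin (p + 1) → ι) → A} (hg : SurjSupp g)
    (hd : dT (p + 1) g = 0) : dT p (resT a (hT a g)) = 0 := by
  have h1 : dT p (hT a g) = g := by
    have := hT_dT_add a p g
    rw [hd, hT_zero, zero_add] at this
    exact this
  rw [← resT_dT, h1, hg.resT_eq_zero]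

lemma card_ne (a : ι) [Fintype ι] [Fintype {x : ι // x ≠ a}] {c : ℕ} (hc : Fintype.card ι = c + 1) :
    Fintype.card {x : ι // x ≠ a} = c := by
  classical
  rw [Fintype.card_subtype_compl, Fintype.card_subtype_eq, hc]
  rfl

/-- **Exactness above the top degree** for cochains supported on surjective tuples. -/
theorem surj_exact : ∀ (c : ℕ) (ι : Type u) [Fintype ι], Fintype.card ι = c → ∀ (p : ℕ), c ≤ p →
    ∀ g : (Fin (p + 1) → ι) → A, SurjSupp g → dT (p + 1) g = 0 →
      ∃ t : (Fin p → ι) → A, SurjSupp t ∧ dT p t = g := by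
  intro c
  induction c with
  | zero =>
    intro ι _ hc p _ g _ _
    have : IsEmpty ι := Fintype.card_eq_zero_iff.1 hc
    refine ⟨0, fun _ _ => rfl, ?_⟩
    funext b
    exact isEmptyElim (b 0)
  | succ c ih =>
    intro ι _ hc p hp g hg hd
    obtain ⟨p', rfl⟩ : ∃ p', p = p' + 1 := ⟨p - 1, by omega⟩
    have hne : Nonempty ι := Fintype.card_pos_iff.1 (by omega)
    obtain ⟨a⟩ := hne
    classical
    have hu : dT (p' + 1) (hT a g) = g := by
      have := hT_dT_add a (p' + 1) g
      rw [hd, hT_zero, zero_add] at this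
      exact this
    obtain ⟨v, hv1, hv2⟩ := ih {x : ι // x ≠ a} (card_ne a hc) p' (by omega) (resT a (hT a g))
      (hg.resT_hT a) (hg.dT_resT_hT a hd)
    refine ⟨hT a g - dT p' (extT a v), ?_, ?_⟩
    · refine surjSupp_of_resT_eq_zero a _ ?_ ?_
      · rw [resT_sub, resT_dT, resT_extT, hv2, sub_self]
      · intro b hb
        have h1 : hT a g b = 0 := ((hg.vanish {x | x ≠ a}).hT (j := a) (by simp)) b hb
        have h2 : dT p' (extT a v) b = 0 := (hv1.extT_vanish a).dT b hb
        rw [Pi.sub_apply, h1, h2, sub_zero]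
    · rw [dT_sub, dT_dT, sub_zero, hu]

end Surj

section Top

variable {ι : Type u} {A : Type v} [AddCommGroup A]

/-- the enumeration of the complement of `e 0` induced by a bijective enumeration `e` -/
def tailEnum {c : ℕ} (e : Fin (c + 1) → ι) (he : Function.Injective e) :
    Fin c → {x : ι // x ≠ e 0} :=
  fun k => ⟨e k.succ, fun h => Fin.succ_ne_zero k (he h)⟩

lemma tailEnum_bijective {c : ℕ} (e : Fin (c + 1) → ι) (he : Function.Bijective e) :
    Function.Bijective (tailEnum e he.1) := by
  refine ⟨fun k l h => ?_, fun y => ?_⟩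
  · have := congrArg Subtype.val h
    exact Fin.succ_injective _ (he.1 this)
  · obtain ⟨i, hi⟩ := he.2 y.1
    revert hi
    refine Fin.cases ?_ (fun i => ?_) i
    · intro hi
      exact absurd hi.symm y.2
    · intro hi
      exact ⟨i, Subtype.ext hi⟩

lemma cons_tailEnum {c : ℕ} (e : Fin (c + 1) → ι) (he : Function.Injective e) :
    (Fin.cons (e 0) (fun k => (tailEnum e he k).1) : Fin (c + 1) → ι) = e := by
  funext i
  refine Fin.cases ?_ (fun i => ?_) i
  · simp
  · simp [tailEnum]

lemma not_surjective_cons_of_hit [Fintype ι] {c : ℕ} (hc : Fintype.card ι = c + 1) (a : ι)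
    (b : Fin c → ι) (h : ∃ k, b k = a) :
    ¬ Function.Surjective (Fin.cons a b : Fin (c + 1) → ι) := by
  intro hs
  have hbij : Function.Bijective (Fin.cons a b : Fin (c + 1) → ι) :=
    (Fintype.bijective_iff_surjective_and_card _).2 ⟨hs, by simp [hc]⟩
  obtain ⟨k, hk⟩ := h
  have : (Fin.cons a b : Fin (c + 1) → ι) k.succ = (Fin.cons a b : Fin (c + 1) → ι) 0 := by
    simp [hk]
  exact Fin.succ_ne_zero k (hbij.1 this)

/-- **Top degree, injectivity**: a cocycle supported on surjective tuples of length `card ι` is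
determined by its value at one enumeration. -/
theorem surj_top_inj : ∀ (c : ℕ) (ι : Type u) [Fintype ι], Fintype.card ι = c →
    ∀ e : Fin c → ι, Function.Bijective e →
    ∀ g : (Fin c → ι) → A, SurjSupp g → dT c g = 0 → g e = 0 → g = 0 := by
  intro c
  induction c with
  | zero =>
    intro ι _ _ e _ g _ _ h0
    funext b
    rw [Subsingleton.elim b e, h0]
    rfl
  | succ c ih =>
    intro ι _ hc e he g hg hd h0
    classical
    have hu : dT c (hT (e 0) g) = g := by
      have := hT_dT_add (e 0) c g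
      rw [hd, hT_zero, zero_add] at this
      exact this
    have hres : resT (e 0) (hT (e 0) g) = 0 := by
      refine ih {x : ι // x ≠ e 0} (card_ne (e 0) hc) (tailEnum e he.1) (tailEnum_bijective e he)
        _ (hg.resT_hT (e 0)) (hg.dT_resT_hT (e 0) hd) ?_
      rw [resT_apply, hT_apply, cons_tailEnum e he.1, h0]
    have hzero : hT (e 0) g = 0 := by
      funext b
      by_cases hav : ∀ k, b k ≠ e 0
      · exact congrFun hres (fun k => ⟨b k, hav k⟩)
      · push Not at hav
        rw [hT_apply]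
        exact hg _ (not_surjective_cons_of_hit hc (e 0) b hav)
    rw [← hu, hzero, dT_zero]

/-- **Top degree, existence**: every value at the enumeration `e` is taken by a cocycle supported on
surjective tuples. -/
theorem surj_top_exists : ∀ (c : ℕ) (ι : Type u) [Fintype ι], Fintype.card ι = c →
    ∀ e : Fin c → ι, Function.Bijective e → ∀ x : A,
    ∃ g : (Fin c → ι) → A, SurjSupp g ∧ dT c g = 0 ∧ g e = x := by
  intro c
  induction c with
  | zero =>
    intro ι _ hc e _ x
    have : IsEmpty ι := Fintype.card_eq_zero_iff.1 hc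
    refine ⟨fun _ => x, fun b hb => ?_, ?_, rfl⟩
    · exact absurd (fun y => isEmptyElim y) hb
    · funext b
      exact isEmptyElim (b 0)
  | succ c ih =>
    intro ι _ hc e he x
    classical
    obtain ⟨g', hg1, hg2, hg3⟩ := ih {y : ι // y ≠ e 0} (card_ne (e 0) hc) (tailEnum e he.1)
      (tailEnum_bijective e he) x
    refine ⟨dT c (extT (e 0) g'), ?_, dT_dT _ _, ?_⟩
    · refine surjSupp_of_resT_eq_zero (e 0) _ ?_ (hg1.extT_vanish (e 0)).dT
      rw [resT_dT, resT_extT, hg2]
    · rw [dT_apply, Fin.sum_univ_succ]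
      have h1 : e ∘ (0 : Fin (c + 1)).succAbove = fun k => (tailEnum e he.1 k).1 := by
        funext k
        simp [tailEnum]
      have h2 : ∀ k : Fin c, extT (e 0) g' (e ∘ (k.succ).succAbove) = 0 := by
        intro k
        cases c with
        | zero => exact k.elim0
        | succ c =>
          refine extT_of_hit _ _ _ ⟨0, ?_⟩
          simp
      simp only [h2, smul_zero, Finset.sum_const_zero, add_zero, Fin.val_zero, pow_zero, one_smul]
      rw [h1]
      have := congrFun (resT_extT (e 0) g') (tailEnum e he.1)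
      rw [resT_apply] at this
      rw [this, hg3]

end Top

end Groth.Agent.Lib.Proj.CechComb
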