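/-
R1a of the P^n cohomology roadmap (helper44), part 2: the ordered Čech complex of the degree-`d` Laurent
pieces, elementwise.

ns `Groth.Agent.Lib.Proj.CechComb`.  `Lau ι R := (ι → ℤ) →₀ R` (Laurent polynomials as an `R`-module,
coordinates = coefficients of Laurent monomials).

* `Allowed d S` : multidegrees `m` of total degree `d` whose negative exponents lie in `S`.
* `InW d s` : the cochain `s : (Fin p → ι) → Lau ι R` has `s b` supported in `Allowed d (range b)`,
  i.e. `s b` is a degree `d` element of the localization of `R[x_i]` at `∏ x_{b k}`.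
* `exact_lau` : exactness of `dT` on such cochains, except in Čech degree `card ι - 1` when `d ≤ -card ι`.
* `cocycle_zero_const`, `cocycle_zero_eq_zero` : the degree zero cocycles.
* `topPart`, `top_exact`, `top_surj`, `topPart_dT` : the top cohomology is `NegMon d →₀ R`.
* `topIso` : `(NegMon (-(card ι + k)) →₀ R) ≃ₗ[R] homogeneousSubmodule ι R k`.
-/
import Groth.Agent.Lib.Proj.Helper44_CechComb
import Mathlib.LinearAlgebra.Finsupp.Supported
import Mathlib.LinearAlgebra.Finsupp.LSum
import Mathlib.LinearAlgebra.Pi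
import Mathlib.RingTheory.MvPolynomial.Homogeneous

set_option autoImplicit false
universe u v

namespace Groth.Agent.Lib.Proj.CechComb

section Laurent

variable {ι : Type u} {R : Type v} [CommRing R]

/-- Laurent polynomials in the variables `ι`, as an `R`-module with its monomial coordinates. -/
abbrev Lau (ι : Type u) (R : Type v) [CommRing R] : Type (max u v) := (ι → ℤ) →₀ R

/-- multidegrees of total degree `d` whose negative exponents lie in `S` -/
def Allowed [Fintype ι] (d : ℤ) (S : Set ι) : Set (ι → ℤ) :=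
  {m | ∑ i, m i = d ∧ ∀ i, m i < 0 → i ∈ S}

/-- `s b` is supported on `Allowed d (range b)` for every tuple `b`. -/
def InW [Fintype ι] (d : ℤ) {p : ℕ} (s : (Fin p → ι) → Lau ι R) : Prop :=
  ∀ (b : Fin p → ι) (m : ι → ℤ), s b m ≠ 0 → m ∈ Allowed d (Set.range b)

/-- the component of a cochain in the multidegree `m` -/
def comp (m : ι → ℤ) {p : ℕ} (s : (Fin p → ι) → Lau ι R) : (Fin p → ι) → R := fun b => s b m

lemma comp_apply (m : ι → ℤ) {p : ℕ} (s : (Fin p → ι) → Lau ι R) (b : Fin p → ι) :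
    comp m s b = s b m := rfl

lemma comp_dT (m : ι → ℤ) (p : ℕ) (s : (Fin p → ι) → Lau ι R) :
    comp m (dT p s) = dT p (comp m s) := by
  funext b
  simp only [comp_apply, dT_apply]
  rw [Finsupp.finsetSum_apply]
  refine Finset.sum_congr rfl (fun k _ => ?_)
  change Finsupp.applyAddHom m (((-1 : ℤ) ^ (k : ℕ)) • s (b ∘ k.succAbove)) = _
  rw [map_zsmul]
  rfl

lemma comp_vanish [Fintype ι] {d : ℤ} {p : ℕ} {s : (Fin p → ι) → Lau ι R} (hs : InW d s)
    (m : ι → ℤ) : Vanish {i | m i < 0} (comp m s) := by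
  intro b hb
  by_contra h
  exact hb (fun i hi => (hs b m h).2 i hi)

/-- **Assembly**: solve `dT t = s` multidegree by multidegree. -/
theorem assemble [Fintype ι] (d : ℤ) (p : ℕ) (s : (Fin (p + 1) → ι) → Lau ι R) (hs : InW d s)
    (hper : ∀ m : ι → ℤ, (∃ b, s b m ≠ 0) →
      ∃ T : (Fin p → ι) → R, Vanish {i | m i < 0} T ∧ dT p T = comp m s) :
    ∃ t : (Fin p → ι) → Lau ι R, InW d t ∧ dT p t = s := by
  classical
  set F : Finset (ι → ℤ) := Finset.univ.biUnion (fun b => (s b).support) with hF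
  have hmemF : ∀ b m, s b m ≠ 0 → m ∈ F := by
    intro b m h
    rw [hF, Finset.mem_biUnion]
    exact ⟨b, Finset.mem_univ _, Finsupp.mem_support_iff.2 h⟩
  have hexF : ∀ m ∈ F, ∃ b, s b m ≠ 0 := by
    intro m hm
    rw [hF, Finset.mem_biUnion] at hm
    obtain ⟨b, -, hb⟩ := hm
    exact ⟨b, Finsupp.mem_support_iff.1 hb⟩
  have claim : ∀ m, ∃ T : (Fin p → ι) → R,
      Vanish {i | m i < 0} T ∧ dT p T = comp m s ∧ (m ∉ F → T = 0) := by
    intro m
    by_cases hm : m ∈ F
    · obtain ⟨T, h1, h2⟩ := hper m (hexF m hm)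
      exact ⟨T, h1, h2, fun h => absurd hm h⟩
    · refine ⟨0, fun _ _ => rfl, ?_, fun _ => rfl⟩
      rw [dT_zero]
      funext b
      by_contra h
      exact hm (hmemF b m (fun h0 => h (by rw [comp_apply, h0]; rfl)))
  choose T hT1 hT2 hT3 using claim
  have hsupp : ∀ (b : Fin p → ι) (m : ι → ℤ), T m b ≠ 0 → m ∈ F := by
    intro b m h
    by_contra hm
    exact h (by rw [hT3 m hm]; rfl)
  refine ⟨fun b => Finsupp.onFinset F (fun m => T m b) (fun m h => hsupp b m h), ?_, ?_⟩
  · intro b m hne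
    rw [Finsupp.onFinset_apply] at hne
    obtain ⟨b₀, hb₀⟩ := hexF m (hsupp b m hne)
    refine ⟨(hs b₀ m hb₀).1, fun i hi => ?_⟩
    by_contra hir
    exact hne (hT1 m b (fun hsub => hir (hsub hi)))
  · funext b
    ext m
    have h1 : (dT p (fun b => Finsupp.onFinset F (fun m => T m b) (fun m h => hsupp b m h)) b) m
        = comp m (dT p (fun b => Finsupp.onFinset F (fun m => T m b) (fun m h => hsupp b m h))) b :=
      rfl
    rw [h1, comp_dT]
    have h2 : comp m (fun b => Finsupp.onFinset F (fun m => T m b) (fun m h => hsupp b m h)) = T m := by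
      funext b'
      rw [comp_apply, Finsupp.onFinset_apply]
    rw [h2, hT2]
    rfl

/-- **Exactness** of the ordered Čech complex of the degree-`d` Laurent pieces: at the tuples of length
`p + 1` (Čech degree `p`), provided `p ≠ card ι - 1` or `d > -card ι`.  For `p = 0` the cochain `t`
lives on the empty tuple (augmentation). -/
theorem exact_lau [Fintype ι] (d : ℤ) (p : ℕ)
    (hpd : p + 1 ≠ Fintype.card ι ∨ -(Fintype.card ι : ℤ) < d)
    (s : (Fin (p + 1) → ι) → Lau ι R) (hs : InW d s) (hd : dT (p + 1) s = 0) :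
    ∃ t : (Fin p → ι) → Lau ι R, InW d t ∧ dT p t = s := by
  classical
  have hcomp_d : ∀ m, dT (p + 1) (comp m s) = 0 := by
    intro m
    rw [← comp_dT, hd]
    rfl
  refine assemble d p s hs (fun m hm => ?_)
  obtain ⟨b₀, hb₀⟩ := hm
  have hsum : ∑ i, m i = d := (hs b₀ m hb₀).1
  by_cases hN : ∃ j, ¬ m j < 0
  · obtain ⟨j, hj⟩ := hN
    obtain ⟨h1, h2⟩ := exact_of_notMem (N := {i | m i < 0}) (j := j) hj (comp m s)
      (comp_vanish hs m) (hcomp_d m)
    exact ⟨_, h1, h2⟩
  · push Not at hN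
    have hsurj : SurjSupp (comp m s) := by
      intro b hb
      refine comp_vanish hs m b (fun hsub => hb ?_)
      intro y
      exact hsub (hN y)
    have hle : d ≤ -(Fintype.card ι : ℤ) := by
      rw [← hsum]
      calc ∑ i, m i ≤ ∑ _i : ι, (-1 : ℤ) :=
            Finset.sum_le_sum (fun i _ => by have := hN i; omega)
        _ = -(Fintype.card ι : ℤ) := by simp
    have hne : p + 1 ≠ Fintype.card ι := by
      rcases hpd with h | h
      · exact h
      · omega
    rcases Nat.lt_or_gt_of_ne hne with hlt | hgt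
    · refine ⟨0, fun _ _ => rfl, ?_⟩
      rw [dT_zero]
      funext b
      symm
      refine hsurj b (fun hsb => ?_)
      have := Fintype.card_le_of_surjective b hsb
      simp at this
      omega
    · obtain ⟨T, hT1, hT2⟩ := surj_exact (Fintype.card ι) ι rfl p (by omega) (comp m s) hsurj
        (hcomp_d m)
      exact ⟨T, hT1.vanish _, hT2⟩

/-- Čech degree zero: a cocycle is the constant family given by one honest polynomial of degree `d`. -/
theorem cocycle_zero_const [Fintype ι] (d : ℤ)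
    (hpd : 1 ≠ Fintype.card ι ∨ -(Fintype.card ι : ℤ) < d)
    (s : (Fin 1 → ι) → Lau ι R) (hs : InW d s) (hd : dT 1 s = 0) :
    ∃ w : Lau ι R, (∀ m, w m ≠ 0 → ∑ i, m i = d ∧ ∀ i, 0 ≤ m i) ∧ ∀ b, s b = w := by
  obtain ⟨t, ht1, ht2⟩ := exact_lau d 0 (by simpa using hpd) s hs hd
  refine ⟨t (fun k => k.elim0), fun m hm => ?_, fun b => ?_⟩
  · obtain ⟨h1, h2⟩ := ht1 _ m hm
    refine ⟨h1, fun i => ?_⟩
    by_contra hi
    push Not at hi
    obtain ⟨k, -⟩ := h2 i hi
    exact k.elim0
  · rw [← ht2, dT_apply]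
    rw [Fin.sum_univ_succ]
    simp only [Finset.univ_eq_empty, Finset.sum_empty, add_zero, Fin.val_zero, pow_zero, one_smul]
    congr 1
    exact Subsingleton.elim _ _

/-- For `d < 0` there are no nonzero cocycles in Čech degree zero (if `card ι ≠ 1`). -/
theorem cocycle_zero_eq_zero [Fintype ι] (d : ℤ) (hd0 : d < 0) (hc : 1 ≠ Fintype.card ι)
    (s : (Fin 1 → ι) → Lau ι R) (hs : InW d s) (hd : dT 1 s = 0) : s = 0 := by
  obtain ⟨w, hw1, hw2⟩ := cocycle_zero_const d (Or.inl hc) s hs hd
  have hw : w = 0 := by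
    ext m
    by_contra h
    obtain ⟨h1, h2⟩ := hw1 m h
    have : 0 ≤ ∑ i, m i := Finset.sum_nonneg (fun i _ => h2 i)
    omega
  funext b
  rw [hw2 b, hw]
  rfl

end Laurent

section TopLaurent

variable {ι : Type u} {R : Type v} [CommRing R] [Fintype ι]

/-- the multidegrees with all exponents negative, of total degree `d` -/
def NegMon (ι : Type u) [Fintype ι] (d : ℤ) : Set (ι → ℤ) := {m | (∀ i, m i < 0) ∧ ∑ i, m i = d}

/-- the top-degree functional: the part of `s e` in the all-negative multidegrees -/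
noncomputable def topPart (d : ℤ) {c : ℕ} (e : Fin c → ι) :
    ((Fin c → ι) → Lau ι R) →ₗ[R] (NegMon ι d →₀ R) :=
  (Finsupp.lsubtypeDomain (NegMon ι d)).comp (LinearMap.proj e)

lemma topPart_apply (d : ℤ) {c : ℕ} (e : Fin c → ι) (s : (Fin c → ι) → Lau ι R) (n : NegMon ι d) :
    topPart d e s n = s e n.1 := rfl

lemma not_surjective_of_card_lt {c : ℕ} (hc : Fintype.card ι = c + 1) (b : Fin c → ι) :
    ¬ Function.Surjective b := by
  intro hs
  have := Fintype.card_le_of_surjective b hs
  simp at this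
  omega

/-- coboundaries have zero top part -/
theorem topPart_dT (d : ℤ) {c : ℕ} (hc : Fintype.card ι = c + 1) (e : Fin (c + 1) → ι)
    (t : (Fin c → ι) → Lau ι R) (ht : InW d t) : topPart d e (dT c t) = 0 := by
  ext n
  rw [topPart_apply]
  have h1 : (dT c t e) n.1 = comp n.1 (dT c t) e := rfl
  rw [h1, comp_dT, dT_apply]
  refine Finset.sum_eq_zero (fun k _ => ?_)
  have : comp n.1 t (e ∘ k.succAbove) = 0 := by
    by_contra h
    refine not_surjective_of_card_lt hc (e ∘ k.succAbove) (fun y => ?_)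
    exact (ht _ _ h).2 y (n.2.1 y)
  rw [this, smul_zero]

/-- **Top degree, exactness**: a cocycle with zero top part is a coboundary. -/
theorem top_exact (d : ℤ) {c : ℕ} (hc : Fintype.card ι = c + 1) (e : Fin (c + 1) → ι)
    (he : Function.Bijective e) (s : (Fin (c + 1) → ι) → Lau ι R) (hs : InW d s)
    (hd : dT (c + 1) s = 0) (h0 : topPart d e s = 0) :
    ∃ t : (Fin c → ι) → Lau ι R, InW d t ∧ dT c t = s := by
  classical
  have hcomp_d : ∀ m, dT (c + 1) (comp m s) = 0 := by
    intro m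
    rw [← comp_dT, hd]
    rfl
  refine assemble d c s hs (fun m hm => ?_)
  obtain ⟨b₀, hb₀⟩ := hm
  have hsum : ∑ i, m i = d := (hs b₀ m hb₀).1
  by_cases hN : ∃ j, ¬ m j < 0
  · obtain ⟨j, hj⟩ := hN
    obtain ⟨h1, h2⟩ := exact_of_notMem (N := {i | m i < 0}) (j := j) hj (comp m s)
      (comp_vanish hs m) (hcomp_d m)
    exact ⟨_, h1, h2⟩
  · push Not at hN
    have hsurj : SurjSupp (comp m s) := by
      intro b hb
      refine comp_vanish hs m b (fun hsub => hb ?_)
      intro y
      exact hsub (hN y)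
    have hval : comp m s e = 0 := by
      have := DFunLike.congr_fun h0 (⟨m, hN, hsum⟩ : NegMon ι d)
      rw [topPart_apply] at this
      exact this
    have hzero : comp m s = 0 :=
      surj_top_inj (c + 1) ι hc e he (comp m s) hsurj (hcomp_d m) hval
    refine ⟨0, fun _ _ => rfl, ?_⟩
    rw [dT_zero, hzero]

/-- **Top degree, surjectivity**: every element of `NegMon d →₀ R` is the top part of a cocycle. -/
theorem top_surj (d : ℤ) {c : ℕ} (hc : Fintype.card ι = c + 1) (e : Fin (c + 1) → ι)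
    (he : Function.Bijective e) (y : NegMon ι d →₀ R) :
    ∃ s : (Fin (c + 1) → ι) → Lau ι R, InW d s ∧ dT (c + 1) s = 0 ∧ topPart d e s = y := by
  classical
  have ex : ∀ n : NegMon ι d, ∃ g : (Fin (c + 1) → ι) → R,
      SurjSupp g ∧ dT (c + 1) g = 0 ∧ g e = y n ∧ (y n = 0 → g = 0) := by
    intro n
    by_cases h0 : y n = 0
    · exact ⟨0, fun _ _ => rfl, dT_zero _, by rw [h0]; rfl, fun _ => rfl⟩
    · obtain ⟨g, h1, h2, h3⟩ := surj_top_exists (c + 1) ι hc e he (y n)
      exact ⟨g, h1, h2, h3, fun h => absurd h h0⟩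
  choose G hG1 hG2 hG3 hG4 using ex
  let Γ : (ι → ℤ) → (Fin (c + 1) → ι) → R :=
    fun m => if hm : m ∈ NegMon ι d then G ⟨m, hm⟩ else 0
  let F : Finset (ι → ℤ) := y.support.map (Function.Embedding.subtype _)
  have hΓpos : ∀ m (hm : m ∈ NegMon ι d), Γ m = G ⟨m, hm⟩ := fun m hm => dif_pos hm
  have hΓneg : ∀ m, m ∉ NegMon ι d → Γ m = 0 := fun m hm => dif_neg hm
  have hΓF : ∀ m b, Γ m b ≠ 0 → m ∈ F := by
    intro m b h
    by_cases hm : m ∈ NegMon ι d
    · rw [hΓpos m hm] at h
      have : y ⟨m, hm⟩ ≠ 0 := fun h0 => h (by rw [hG4 _ h0]; rfl)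
      exact Finset.mem_map.2 ⟨⟨m, hm⟩, Finsupp.mem_support_iff.2 this, rfl⟩
    · rw [hΓneg m hm] at h
      exact absurd rfl h
  have hcompΓ : ∀ m, comp m (fun b => Finsupp.onFinset F (fun m => Γ m b) (fun m h => hΓF m b h))
      = Γ m := by
    intro m
    funext b
    rw [comp_apply, Finsupp.onFinset_apply]
  refine ⟨fun b => Finsupp.onFinset F (fun m => Γ m b) (fun m h => hΓF m b h), ?_, ?_, ?_⟩
  · intro b m hne
    rw [Finsupp.onFinset_apply] at hne
    have hm : m ∈ NegMon ι d := by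
      by_contra hm
      exact hne (by rw [hΓneg m hm]; rfl)
    refine ⟨hm.2, fun i _ => ?_⟩
    rw [hΓpos m hm] at hne
    have hsb : Function.Surjective b := by
      by_contra hsb
      exact hne (hG1 _ b hsb)
    exact hsb i
  · funext b
    ext m
    have h1 : (dT (c + 1) (fun b => Finsupp.onFinset F (fun m => Γ m b) (fun m h => hΓF m b h)) b) m
        = comp m (dT (c + 1)
            (fun b => Finsupp.onFinset F (fun m => Γ m b) (fun m h => hΓF m b h))) b := rfl
    rw [h1, comp_dT, hcompΓ]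
    by_cases hm : m ∈ NegMon ι d
    · rw [hΓpos m hm, hG2]
      rfl
    · rw [hΓneg m hm, dT_zero]
      rfl
  · ext n
    rw [topPart_apply, Finsupp.onFinset_apply, hΓpos n.1 n.2, hG3]

end TopLaurent

section TopIso

variable {ι : Type u} {R : Type v} [CommRing R] [Fintype ι]

/-- all-negative multidegrees of total degree `-(card ι + k)` ↔ monomials of degree `k`,
`m ↦ (-m i - 1)_i`. -/
noncomputable def negEquiv (k : ℕ) :
    NegMon ι (-((Fintype.card ι : ℤ) + k)) ≃ {μ : ι →₀ ℕ | μ.degree = k} where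
  toFun n := ⟨Finsupp.equivFunOnFinite.symm (fun i => (-(n.1 i) - 1).toNat), by
    change Finsupp.degree _ = k
    rw [Finsupp.degree_eq_sum]
    have h : ∀ i, (((-(n.1 i) - 1).toNat : ℕ) : ℤ) = -(n.1 i) - 1 :=
      fun i => Int.toNat_of_nonneg (by have := n.2.1 i; omega)
    have h2 : ((∑ i, (-(n.1 i) - 1).toNat : ℕ) : ℤ) = k := by
      push_cast
      simp only [h]
      rw [Finset.sum_sub_distrib, Finset.sum_neg_distrib, n.2.2]
      simp
    simp only [Finsupp.coe_equivFunOnFinite_symm]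
    exact_mod_cast h2⟩
  invFun μ := ⟨fun i => -((μ.1 i : ℕ) : ℤ) - 1, fun i => by
      change -((μ.1 i : ℕ) : ℤ) - 1 < 0
      have : (0 : ℤ) ≤ ((μ.1 i : ℕ) : ℤ) := Int.natCast_nonneg _
      omega, by
    have hμ : μ.1.degree = k := μ.2
    rw [Finsupp.degree_eq_sum] at hμ
    rw [Finset.sum_sub_distrib, Finset.sum_neg_distrib, ← Nat.cast_sum, hμ]
    simp
    ring⟩
  left_inv n := by
    apply Subtype.ext
    funext i
    have := n.2.1 i
    simp only [Finsupp.coe_equivFunOnFinite_symm]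
    omega
  right_inv μ := by
    apply Subtype.ext
    ext i
    simp

/-- the top cohomology module is the module of homogeneous polynomials of degree `k` -/
noncomputable def topIso (k : ℕ) :
    (NegMon ι (-((Fintype.card ι : ℤ) + k)) →₀ R) ≃ₗ[R] MvPolynomial.homogeneousSubmodule ι R k :=
  (Finsupp.domLCongr (negEquiv k)) ≪≫ₗ
    (AddMonoidAlgebra.supportedEquivFinsupp (R := R) (S := R) {μ : ι →₀ ℕ | μ.degree = k}).symm ≪≫ₗ
    (LinearEquiv.ofEq _ _ (MvPolynomial.homogeneousSubmodule_eq_finsupp_supported ι R k)).symm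

end TopIso

end Groth.Agent.Lib.Proj.CechComb
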