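/-
R1a of the P^n cohomology roadmap (helper44), part 3: Laurent coordinates of fractions `a / x^ε`.

ns `Groth.Agent.Lib.Proj.CechComb`.

* `lauN ε : MvPolynomial ι R →ₗ[R] Lau ι R` : coordinates of the fraction `a / x^ε`
  (`lauN ε a (μ - ε) = coeff μ a`).
* `lauN_injective`, `lauN_monomial_mul : lauN (ε + μ') (monomial μ' 1 * a) = lauN ε a`.
* `lauN_mem_allowed` : for `a` homogeneous of degree `D`, `lauN ε a` is supported in
  `Allowed (D - deg ε) S` as soon as `supp ε ⊆ S`.
* `exists_lauN_eq` : every `w` supported in `Allowed d S` is `lauN (k • ε) a` with `a` homogeneous of degree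
  `d + k * deg ε`, if `ε ≥ 1` on `S`.
* `expo b = ∑ j, single (b j) 1`, `monomial_expo : monomial (expo b) 1 = ∏ j, X (b j)`, `expo_succAbove`.
-/
import Groth.Agent.Lib.Proj.Helper44_CechLaurent
import Mathlib.Algebra.MonoidAlgebra.Module

set_option autoImplicit false
universe u v

namespace Groth.Agent.Lib.Proj.CechComb

section LauPoly

variable {ι : Type u} {R : Type v} [CommRing R]

/-- the multidegree of the Laurent monomial `x^μ / x^ε` -/
def shiftExp (ε μ : ι →₀ ℕ) : ι → ℤ := fun i => (μ i : ℤ) - (ε i : ℤ)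

lemma shiftExp_apply (ε μ : ι →₀ ℕ) (i : ι) : shiftExp ε μ i = (μ i : ℤ) - (ε i : ℤ) := rfl

lemma shiftExp_injective (ε : ι →₀ ℕ) : Function.Injective (shiftExp ε) := by
  intro μ ν h
  ext i
  have := congrFun h i
  simp only [shiftExp_apply] at this
  omega

lemma shiftExp_add (ε μ μ' : ι →₀ ℕ) : shiftExp (ε + μ') (μ' + μ) = shiftExp ε μ := by
  funext i
  simp only [shiftExp_apply, Finsupp.add_apply]
  push_cast
  ring

/-- Laurent coordinates of the fraction `a / x^ε`. -/
noncomputable def lauN (ε : ι →₀ ℕ) : MvPolynomial ι R →ₗ[R] Lau ι R :=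
  (Finsupp.lmapDomain R R (shiftExp ε)).comp (AddMonoidAlgebra.coeffLinearEquiv R).toLinearMap

lemma lauN_def (ε : ι →₀ ℕ) (a : MvPolynomial ι R) :
    lauN ε a = Finsupp.mapDomain (shiftExp ε) (AddMonoidAlgebra.coeff a) := rfl

lemma lauN_shift (ε μ : ι →₀ ℕ) (a : MvPolynomial ι R) :
    lauN ε a (shiftExp ε μ) = MvPolynomial.coeff μ a := by
  rw [lauN_def, Finsupp.mapDomain_apply (shiftExp_injective ε)]
  rfl

lemma lauN_notin (ε : ι →₀ ℕ) (a : MvPolynomial ι R) (m : ι → ℤ)
    (hm : m ∉ Set.range (shiftExp ε)) : lauN ε a m = 0 := by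
  rw [lauN_def]
  exact Finsupp.mapDomain_of_notMem_range _ _ hm

lemma lauN_injective (ε : ι →₀ ℕ) : Function.Injective (lauN (R := R) ε) := by
  have : (lauN (R := R) ε : MvPolynomial ι R → Lau ι R)
      = (Finsupp.mapDomain (shiftExp ε)) ∘ (AddMonoidAlgebra.coeffLinearEquiv R) := rfl
  rw [this]
  exact (Finsupp.mapDomain_injective (shiftExp_injective ε)).comp (LinearEquiv.injective _)

/-- `(x^μ' a) / x^(ε + μ') = a / x^ε` -/
lemma lauN_monomial_mul (ε μ' : ι →₀ ℕ) (a : MvPolynomial ι R) :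
    lauN (ε + μ') (MvPolynomial.monomial μ' 1 * a) = lauN ε a := by
  classical
  ext m
  by_cases hm : m ∈ Set.range (shiftExp ε)
  · obtain ⟨μ, rfl⟩ := hm
    rw [lauN_shift, ← shiftExp_add ε μ μ', lauN_shift, MvPolynomial.coeff_monomial_mul, one_mul]
  · rw [lauN_notin ε a m hm]
    by_cases hm' : m ∈ Set.range (shiftExp (ε + μ'))
    · obtain ⟨ν, rfl⟩ := hm'
      rw [lauN_shift, MvPolynomial.coeff_monomial_mul']
      split_ifs with hle
      · exfalso
        apply hm
        refine ⟨ν - μ', ?_⟩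
        rw [← shiftExp_add ε (ν - μ') μ', add_tsub_cancel_of_le hle]
      · rfl
    · exact lauN_notin _ _ m hm'

/-- for `a` homogeneous of degree `D`, `a / x^ε` has degree `D - deg ε` and poles only along `supp ε` -/
lemma lauN_mem_allowed [Fintype ι] (ε : ι →₀ ℕ) (S : Set ι) (hε : ∀ i, ε i ≠ 0 → i ∈ S) {D : ℕ}
    (a : MvPolynomial ι R) (ha : a.IsHomogeneous D) (m : ι → ℤ) (hm : lauN ε a m ≠ 0) :
    m ∈ Allowed ((D : ℤ) - (ε.degree : ℕ)) S := by
  by_cases hr : m ∈ Set.range (shiftExp ε)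
  · obtain ⟨μ, rfl⟩ := hr
    rw [lauN_shift] at hm
    have hdeg : μ.degree = D := by
      by_contra h
      exact hm (ha.coeff_eq_zero h)
    refine ⟨?_, fun i hi => hε i ?_⟩
    · simp only [shiftExp_apply]
      rw [Finset.sum_sub_distrib, ← Nat.cast_sum, ← Nat.cast_sum, ← Finsupp.degree_eq_sum,
        ← Finsupp.degree_eq_sum, hdeg]
    · simp only [shiftExp_apply] at hi
      intro h0
      rw [h0] at hi
      have := Int.natCast_nonneg (μ i)
      simp at hi
      omega
  · exact absurd (lauN_notin ε a m hr) hm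

/-- **Surjectivity**: every Laurent element of degree `d` with poles along `S` is a fraction `a / x^(kε)`. -/
theorem exists_lauN_eq [Fintype ι] (d : ℤ) (S : Set ι) (ε : ι →₀ ℕ) (hε : ∀ i ∈ S, 1 ≤ ε i)
    (hdeg : 1 ≤ ε.degree) (w : Lau ι R) (hw : ∀ m, w m ≠ 0 → m ∈ Allowed d S) :
    ∃ (k D : ℕ) (a : MvPolynomial ι R), (D : ℤ) = d + (k : ℤ) * (ε.degree : ℕ) ∧ a.IsHomogeneous D ∧
      lauN (k • ε) a = w := by
  classical
  set k : ℕ := d.natAbs + ∑ m ∈ w.support, ∑ i, (m i).natAbs with hk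
  have hbound : ∀ m ∈ w.support, ∀ i, -(m i) ≤ (k : ℤ) := by
    intro m hm i
    have h1 : (m i).natAbs ≤ ∑ i, (m i).natAbs :=
      Finset.single_le_sum (f := fun i => (m i).natAbs) (fun _ _ => Nat.zero_le _)
        (Finset.mem_univ i)
    have h2 : ∑ i, (m i).natAbs ≤ ∑ m ∈ w.support, ∑ i, (m i).natAbs :=
      Finset.single_le_sum (f := fun m => ∑ i, (m i).natAbs) (fun _ _ => Nat.zero_le _) hm
    omega
  have hnonneg : ∀ m ∈ w.support, ∀ i, 0 ≤ m i + (k : ℤ) * (ε i : ℤ) := by
    intro m hm i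
    have hmem := hw m (Finsupp.mem_support_iff.1 hm)
    by_cases hi : i ∈ S
    · have h1 := hε i hi
      have h2 := hbound m hm i
      have h3 : (k : ℤ) ≤ (k : ℤ) * (ε i : ℤ) :=
        le_mul_of_one_le_right (by positivity) (by exact_mod_cast h1)
      omega
    · have h1 : 0 ≤ m i := by
        by_contra h
        push Not at h
        exact hi (hmem.2 i h)
      have h2 : (0 : ℤ) ≤ (k : ℤ) * (ε i : ℤ) := by positivity
      omega
  let g : (ι → ℤ) → (ι →₀ ℕ) :=
    fun m => Finsupp.equivFunOnFinite.symm (fun i => (m i + (k : ℤ) * (ε i : ℤ)).toNat)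
  have hg : ∀ m ∈ w.support, shiftExp (k • ε) (g m) = m := by
    intro m hm
    funext i
    simp only [shiftExp_apply, g, Finsupp.coe_equivFunOnFinite_symm, Finsupp.smul_apply, smul_eq_mul]
    rw [Int.toNat_of_nonneg (hnonneg m hm i)]
    push_cast
    ring
  have hD : 0 ≤ d + (k : ℤ) * (ε.degree : ℕ) := by
    have h1 : (k : ℤ) ≤ (k : ℤ) * (ε.degree : ℕ) :=
      le_mul_of_one_le_right (by positivity) (by exact_mod_cast hdeg)
    have h2 : (d.natAbs : ℤ) ≤ k := by
      rw [hk]
      push_cast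
      have : (0 : ℤ) ≤ ∑ m ∈ w.support, ∑ i, |m i| := by positivity
      omega
    omega
  refine ⟨k, (d + (k : ℤ) * (ε.degree : ℕ)).toNat,
    (AddMonoidAlgebra.coeffLinearEquiv R).symm (Finsupp.mapDomain g w), Int.toNat_of_nonneg hD, ?_, ?_⟩
  · rw [← MvPolynomial.mem_homogeneousSubmodule,
      MvPolynomial.homogeneousSubmodule_eq_finsupp_supported, AddMonoidAlgebra.mem_supported']
    intro ν hν
    change (Finsupp.mapDomain g w) ν = 0
    by_contra hne
    have hmem : ν ∈ (Finsupp.mapDomain g w).support := Finsupp.mem_support_iff.2 hne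
    obtain ⟨m, hm, rfl⟩ := Finset.mem_image.1 (Finsupp.mapDomain_support hmem)
    apply hν
    change (g m).degree = _
    have hsum := (hw m (Finsupp.mem_support_iff.1 hm)).1
    rw [Finsupp.degree_eq_sum]
    have h3 : ((∑ i, (g m) i : ℕ) : ℤ) = d + (k : ℤ) * (ε.degree : ℕ) := by
      push_cast
      simp only [g, Finsupp.coe_equivFunOnFinite_symm]
      rw [Finset.sum_congr rfl (fun i _ => Int.toNat_of_nonneg (hnonneg m hm i)),
        Finset.sum_add_distrib, hsum, ← Finset.mul_sum, Finsupp.degree_eq_sum]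
      push_cast
      rfl
    omega
  · rw [lauN_def]
    change Finsupp.mapDomain (shiftExp (k • ε)) (Finsupp.mapDomain g w) = w
    rw [← Finsupp.mapDomain_comp]
    conv_rhs => rw [← Finsupp.mapDomain_id (v := w)]
    exact Finsupp.mapDomain_congr (fun m hm => hg m hm)

end LauPoly

section Expo

variable {ι : Type u} {R : Type v} [CommRing R]

/-- the exponent vector of `∏ j, X (b j)` -/
noncomputable def expo {p : ℕ} (b : Fin p → ι) : ι →₀ ℕ := ∑ j, Finsupp.single (b j) 1

lemma monomial_expo {p : ℕ} (b : Fin p → ι) :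
    (MvPolynomial.monomial (expo b) (1 : R)) = ∏ j, MvPolynomial.X (b j) := by
  rw [expo, MvPolynomial.monomial_sum_one]
  rfl

lemma expo_degree {p : ℕ} (b : Fin p → ι) : (expo b).degree = p := by
  rw [expo, map_sum]
  simp

lemma expo_pos_iff {p : ℕ} (b : Fin p → ι) (i : ι) : expo b i ≠ 0 ↔ i ∈ Set.range b := by
  classical
  rw [expo, Finsupp.finsetSum_apply]
  constructor
  · intro h
    obtain ⟨j, -, hj⟩ := Finset.exists_ne_zero_of_sum_ne_zero h
    rw [Finsupp.single_apply] at hj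
    split_ifs at hj with hji
    · exact ⟨j, hji⟩
    · exact absurd rfl hj
  · rintro ⟨j, rfl⟩
    have : 1 ≤ ∑ j', (Finsupp.single (b j') 1 : ι →₀ ℕ) (b j) := by
      refine le_trans ?_ (Finset.single_le_sum (f := fun j' => (Finsupp.single (b j') 1 : ι →₀ ℕ) (b j))
        (fun _ _ => Nat.zero_le _) (Finset.mem_univ j))
      simp
    omega

lemma expo_succAbove {p : ℕ} (b : Fin (p + 1) → ι) (k : Fin (p + 1)) :
    expo b = expo (b ∘ k.succAbove) + Finsupp.single (b k) 1 := by
  rw [expo, expo, Fin.sum_univ_succAbove _ k, add_comm]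
  rfl

end Expo

end Groth.Agent.Lib.Proj.CechComb
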