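import Mathlib
import Groth.Agent.Lib.Helper18.GrTildeBasic

/-!
# Gluing finitely many compatible homogeneous fractions over `D₊(f)` (helper66, PS2 of the Proj-Twist project)

ns `Groth.Agent.Lib.Proj.Glue`.  Purely algebraic (points of `ProjectiveSpectrum 𝒜` are only used as homogeneous
primes).  `𝒜 : ℕ → Submodule R A` graded algebra, `ℳ : ℕ → Submodule R M` graded module.

* `exists_pow_mem_span`: if `D₊(f) ⊆ ⋃ D₊(h x)` (finitely many homogeneous `h x`, `deg f > 0`) then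
  `f ^ K ∈ span (range h)`.
* `exists_homogeneous_coeff`: `f ^ K = ∑ c x * H x` with `c x` homogeneous of degree `K d - deg (H x)`
  (or `c x = 0`).
* `exists_glue`: compatible local fractions `mm x / h x` (`x : T` finite) on a cover of `D₊(f)` glue to one
  fraction `m / f ^ K`, `m ∈ ℳ i`, `i = K d + n`.
-/

set_option autoImplicit false
universe u

namespace Groth.Agent.Lib.Proj.Glue

open DirectSum

variable {R A : Type u} [CommRing R] [CommRing A] [Algebra R A] (𝒜 : ℕ → Submodule R A)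
  [GradedAlgebra 𝒜]

/-- If the `D₊(h x)` cover `D₊(f)`, `f` homogeneous of positive degree, `h x` homogeneous, then a power of `f`
lies in the ideal spanned by the `h x`. -/
theorem exists_pow_mem_span {T : Type*} {d : ℕ} (hd : 0 < d) {f : A} (hf : f ∈ 𝒜 d) (h : T → A)
    (e : T → ℕ) (he : ∀ x, h x ∈ 𝒜 (e x))
    (hcov : ∀ z : ProjectiveSpectrum 𝒜, f ∉ z.asHomogeneousIdeal → ∃ x, h x ∉ z.asHomogeneousIdeal) :
    ∃ K : ℕ, f ^ K ∈ Ideal.span (Set.range h) := by
  have hI : (Ideal.span (Set.range h)).IsHomogeneous 𝒜 := by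
    apply Ideal.homogeneous_span
    rintro _ ⟨x, rfl⟩
    exact ⟨e x, he x⟩
  have hfrad : f ∈ (Ideal.span (Set.range h)).radical := by
    rw [hI.radical_eq, Ideal.mem_sInf]
    rintro P ⟨hPh, hIP, hPp⟩
    by_cases hirr : HomogeneousIdeal.irrelevant 𝒜 ≤ ⟨P, hPh⟩
    · exact hirr (HomogeneousIdeal.mem_irrelevant_of_mem 𝒜 hd hf)
    · by_contra hfP
      obtain ⟨x, hx⟩ := hcov (⟨⟨P, hPh⟩, hPp, hirr⟩ : ProjectiveSpectrum 𝒜) hfP
      exact hx (hIP (Ideal.subset_span ⟨x, rfl⟩))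
  exact hfrad

/-- homogeneous partition of unity -/
theorem exists_homogeneous_coeff {T : Type*} [Fintype T] {D : ℕ} {F : A} (hF : F ∈ 𝒜 D) (H : T → A)
    (E : T → ℕ) (hH : ∀ x, H x ∈ 𝒜 (E x)) (hmem : F ∈ Ideal.span (Set.range H)) :
    ∃ c : T → A, (∀ x, (E x ≤ D ∧ c x ∈ 𝒜 (D - E x)) ∨ c x = 0) ∧ F = ∑ x, c x * H x := by
  classical
  obtain ⟨a, ha⟩ := (Ideal.mem_span_range_iff_exists_fun).mp hmem
  refine ⟨fun x => if E x ≤ D then (decompose 𝒜 (a x) (D - E x) : A) else 0, ?_, ?_⟩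
  · intro x
    by_cases hx : E x ≤ D
    · left
      simp only [if_pos hx]
      exact ⟨hx, Subtype.prop _⟩
    · right
      simp only [if_neg hx]
  · have h1 : (decompose 𝒜 F D : A) = F := decompose_of_mem_same 𝒜 hF
    rw [← h1, ← ha, decompose_sum]
    rw [DFinsupp.finsetSum_apply, AddSubmonoidClass.coe_finsetSum]
    refine Finset.sum_congr rfl fun x _ => ?_
    by_cases hx : E x ≤ D
    · simp only [if_pos hx]
      exact coe_decompose_mul_of_right_mem_of_le 𝒜 (hH x) hx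
    · simp only [if_neg hx, zero_mul]
      exact coe_decompose_mul_of_right_mem_of_not_le 𝒜 (hH x) hx

variable {M : Type u} [AddCommGroup M] [Module R M] [Module A M] [IsScalarTower R A M]
  (ℳ : ℕ → Submodule R M) [DirectSum.Decomposition ℳ] [SetLike.GradedSMul 𝒜 ℳ]

omit [IsScalarTower R A M] [DirectSum.Decomposition ℳ] in
lemma pow_smul_mem {e i : ℕ} {h : A} (hh : h ∈ 𝒜 e) {m : M} (hm : m ∈ ℳ i) (N : ℕ) :
    h ^ N • m ∈ ℳ (N * e + i) := by
  have h1 : h ^ N ∈ 𝒜 (N • e) := SetLike.pow_mem_graded N hh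
  have := SetLike.GradedSMul.smul_mem (A := 𝒜) (B := ℳ) h1 hm
  simpa [smul_eq_mul] using this

/-- **Gluing**: finitely many local fractions `mm x / h x` of degree `n`, pairwise equal in the localizations at
all points of `D₊(h x) ∩ D₊(h y)`, on a cover of `D₊(f)`, glue to one fraction `m / f ^ K`. -/
theorem exists_glue {T : Type*} [Fintype T] (n : ℤ) {d : ℕ} (hd : 0 < d) {f : A} (hf : f ∈ 𝒜 d)
    (h : T → A) (e : T → ℕ) (he : ∀ x, h x ∈ 𝒜 (e x)) (epos : ∀ x, 0 < e x)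
    (mm : T → M) (ii : T → ℕ) (hmm : ∀ x, mm x ∈ ℳ (ii x)) (hdeg : ∀ x, (ii x : ℤ) = e x + n)
    (hcov : ∀ z : ProjectiveSpectrum 𝒜, f ∉ z.asHomogeneousIdeal → ∃ x, h x ∉ z.asHomogeneousIdeal)
    (hcompat : ∀ x y, ∀ z : ProjectiveSpectrum 𝒜, h x ∉ z.asHomogeneousIdeal →
      h y ∉ z.asHomogeneousIdeal → ∃ u : A, u ∉ z.asHomogeneousIdeal ∧
        u • (h y • mm x - h x • mm y) = 0) :
    ∃ (K i : ℕ) (m : M), m ∈ ℳ i ∧ (i : ℤ) = K * d + n ∧
      ∀ y, ∃ N : ℕ, h y ^ N • (h y • m - f ^ K • mm y) = 0 := by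
  classical
  -- Step 1: uniform exponent killing the differences
  have h1 : ∀ x y, ∃ N : ℕ, (h x * h y) ^ N • (h y • mm x - h x • mm y) = 0 := by
    intro x y
    have hu : h y • mm x - h x • mm y ∈ ℳ (e y + ii x) := by
      refine sub_mem (SetLike.GradedSMul.smul_mem (he y) (hmm x)) ?_
      have h2 : e y + ii x = e x + ii y := by have := hdeg x; have := hdeg y; omega
      rw [h2]
      exact SetLike.GradedSMul.smul_mem (he x) (hmm y)
    refine Groth.Agent.Lib.Helper18.GrTildeBasic.exists_pow_smul_eq_zero 𝒜 ℳ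
      (d := e x + e y) (by have := epos x; omega) (SetLike.mul_mem_graded (he x) (he y)) _ _ hu ?_
    intro z hz
    have hzx : h x ∉ z.asHomogeneousIdeal := fun hh => hz (Ideal.mul_mem_right _ _ hh)
    have hzy : h y ∉ z.asHomogeneousIdeal := fun hh => hz (Ideal.mul_mem_left _ _ hh)
    exact hcompat x y z hzx hzy
  choose Nxy hNxy using h1
  obtain ⟨N, hN⟩ : ∃ N : ℕ, ∀ x y, Nxy x y ≤ N :=
    ⟨Finset.univ.sup fun p : T × T => Nxy p.1 p.2, fun x y =>
      Finset.le_sup (f := fun p : T × T => Nxy p.1 p.2) (Finset.mem_univ (x, y))⟩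
  have h2 : ∀ x y, (h y ^ (N + 1) * h x ^ N) • mm x = (h x ^ (N + 1) * h y ^ N) • mm y := by
    intro x y
    have h3 : (h x * h y) ^ N • (h y • mm x - h x • mm y) = 0 := by
      obtain ⟨j, hj⟩ := Nat.exists_eq_add_of_le (hN x y)
      rw [hj, pow_add, mul_comm, mul_smul, hNxy x y, smul_zero]
    rw [smul_sub, sub_eq_zero, ← mul_smul, ← mul_smul] at h3
    have e1 : h y ^ (N + 1) * h x ^ N = (h x * h y) ^ N * h y := by ring
    have e2 : h x ^ (N + 1) * h y ^ N = (h x * h y) ^ N * h x := by ring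
    rw [e1, e2]
    exact h3
  -- Step 2: partition of unity
  obtain ⟨K₀, hK₀⟩ := exists_pow_mem_span 𝒜 hd hf (fun x => h x ^ (N + 1)) (fun x => (N + 1) • e x)
    (fun x => SetLike.pow_mem_graded (N + 1) (he x))
    (fun z hz => by
      obtain ⟨x, hx⟩ := hcov z hz
      exact ⟨x, fun hh => hx (z.isPrime.mem_of_pow_mem _ hh)⟩)
  obtain ⟨K, hK, hKn⟩ : ∃ K : ℕ, f ^ K ∈ Ideal.span (Set.range fun x => h x ^ (N + 1)) ∧
      0 ≤ (K : ℤ) * d + n := by
    refine ⟨K₀ + n.natAbs, ?_, ?_⟩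
    · rw [pow_add]
      exact Ideal.mul_mem_right _ _ hK₀
    · have h5 : (n.natAbs : ℤ) ≤ (n.natAbs : ℤ) * d := by
        have : (1 : ℤ) ≤ d := by exact_mod_cast hd
        nlinarith [Int.natCast_nonneg n.natAbs]
      have h6 : (0 : ℤ) ≤ (K₀ : ℤ) * d := by positivity
      have h7 : -n ≤ (n.natAbs : ℤ) := by omega
      have h8 : ((K₀ + n.natAbs : ℕ) : ℤ) * d = (K₀ : ℤ) * d + (n.natAbs : ℤ) * d := by
        push_cast; ring
      rw [h8]
      linarith
  have hfK : f ^ K ∈ 𝒜 (K * d) := by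
    have := SetLike.pow_mem_graded K hf
    simpa [smul_eq_mul] using this
  obtain ⟨c, hc, hsum⟩ := exists_homogeneous_coeff 𝒜 hfK (fun x => h x ^ (N + 1))
    (fun x => (N + 1) * e x)
    (fun x => by have := SetLike.pow_mem_graded (N + 1) (he x); simpa [smul_eq_mul] using this) hK
  -- Step 3: the glued element
  refine ⟨K, (K * d + n).toNat, ∑ x, c x • (h x ^ N • mm x), ?_, by
    rw [Int.toNat_of_nonneg hKn], ?_⟩
  · refine Submodule.sum_mem _ fun x _ => ?_
    rcases hc x with ⟨hle, hcx⟩ | hcx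
    · have h3 := SetLike.GradedSMul.smul_mem (A := 𝒜) (B := ℳ) hcx (pow_smul_mem 𝒜 ℳ (he x) (hmm x) N)
      have h4 : (K * d - (N + 1) * e x) + (N * e x + ii x) = (K * d + n).toNat := by
        have := hdeg x
        have h5 : ((K * d - (N + 1) * e x : ℕ) : ℤ) = (K : ℤ) * d - (N + 1) * e x := by
          rw [Nat.cast_sub hle]; push_cast; ring
        have h6 : (((K * d - (N + 1) * e x) + (N * e x + ii x) : ℕ) : ℤ) = K * d + n := by
          push_cast
          rw [h5, this]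
          ring
        omega
      rw [vadd_eq_add, h4] at h3
      exact h3
    · rw [hcx, zero_smul]
      exact zero_mem _
  · intro y
    refine ⟨N, ?_⟩
    rw [smul_sub, sub_eq_zero, ← mul_smul, ← pow_succ]
    rw [Finset.smul_sum]
    have h3 : ∀ x, h y ^ (N + 1) • c x • h x ^ N • mm x = (c x * h x ^ (N + 1)) • (h y ^ N • mm y) := by
      intro x
      simp only [← mul_smul]
      have e1 : h y ^ (N + 1) * (c x * h x ^ N) = c x * (h y ^ (N + 1) * h x ^ N) := by ring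
      have e2 : c x * h x ^ (N + 1) * h y ^ N = c x * (h x ^ (N + 1) * h y ^ N) := by ring
      rw [e1, e2, mul_smul, mul_smul (c x), h2 x y]
    rw [Finset.sum_congr rfl fun x _ => h3 x, ← Finset.sum_smul, ← hsum, ← mul_smul, ← mul_smul,
      mul_comm]

end Groth.Agent.Lib.Proj.Glue
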