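import Mathlib
import Groth.Agent.Lib.Proj.Helper66_Glue

/-!
# Sections of Serre's twisting sheaf `O(n)` over `D₊(f)` (helper66, PS2 of the Proj-Twist project)

ns `Groth.Agent.Lib.Proj.Sections`.  For `f ∈ 𝒜 d`, `d > 0`:

* `exists_frac`: every section `s` of `Twist.twist 𝒜 n` over `D₊(f)` is ONE fraction `a / f ^ k`,
  `a ∈ 𝒜 i`, `i = k d + n`: `(s.1 x).1 = Localization.mk a ⟨f ^ k, _⟩` for all `x ∈ D₊(f)`.
* `exists_pow_mul_eq_zero`: if `a / s = 0` in `A_x` for all `x ∈ D₊(f)` (`a` homogeneous) then `f ^ N * a = 0`.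
* `frac_eq_frac_iff`-type statement `exists_pow_mul_eq`: two fractions `a / f ^ k`, `b / f ^ l` agree at all points
  of `D₊(f)` iff `f ^ N * (f ^ l * a - f ^ k * b) = 0` for some `N`.
* `fracSect`: the section `a / g` of `O(n)` over `D₊(g)` (`a ∈ 𝒜 i`, `g ∈ 𝒜 j`, `i = j + n`).
-/

set_option autoImplicit false
universe u
open CategoryTheory AlgebraicGeometry Opposite TopologicalSpace

namespace Groth.Agent.Lib.Proj.Sections

variable {R A : Type u} [CommRing R] [CommRing A] [Algebra R A] (𝒜 : ℕ → Submodule R A)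
  [GradedAlgebra 𝒜]

/-- The section `a / g` of `O(n)` over `D₊(g)`. -/
noncomputable def fracSect (n : ℤ) {i j : ℕ} (a : 𝒜 i) (g : 𝒜 j) (hij : (i : ℤ) = j + n) :
    Twist.sectN (𝒜 := 𝒜) n (op (ProjectiveSpectrum.basicOpen 𝒜 g.1)) :=
  ⟨fun y => ⟨Localization.mk a.1 ⟨g.1, y.2⟩, Submodule.subset_span ⟨i, j, a, g, y.2, hij, rfl⟩⟩,
    fun y => ⟨ProjectiveSpectrum.basicOpen 𝒜 g.1, y.2, 𝟙 _, i, j, a, g, fun z => z.2, Or.inl hij,
      fun _ => rfl⟩⟩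

theorem fracSect_apply (n : ℤ) {i j : ℕ} (a : 𝒜 i) (g : 𝒜 j) (hij : (i : ℤ) = j + n)
    (y : ProjectiveSpectrum.basicOpen 𝒜 g.1) :
    (((fracSect 𝒜 n a g hij).1 y : Twist.twistAt 𝒜 n y.1) : Twist.Loc 𝒜 y.1) =
      Localization.mk a.1 ⟨g.1, y.2⟩ := rfl

/-- vanishing of a fraction in the localization at `x` -/
theorem exists_mul_eq_zero_of_mk_eq_zero (x : ProjectiveSpectrum 𝒜) (a : A)
    (s : x.asHomogeneousIdeal.toIdeal.primeCompl)
    (h : (Localization.mk a s : Twist.Loc 𝒜 x) = 0) :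
    ∃ u : A, u ∉ x.asHomogeneousIdeal ∧ u * a = 0 := by
  rw [← Localization.mk_zero 1, Localization.mk_eq_mk_iff, Localization.r_iff_exists] at h
  obtain ⟨u, hu⟩ := h
  refine ⟨u.1, u.2, ?_⟩
  simpa using hu

/-- equality of two fractions in the localization at `x` -/
theorem mk_eq_mk_iff' (x : ProjectiveSpectrum 𝒜) (a b : A)
    (s t : x.asHomogeneousIdeal.toIdeal.primeCompl) :
    (Localization.mk a s : Twist.Loc 𝒜 x) = Localization.mk b t ↔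
      ∃ u : A, u ∉ x.asHomogeneousIdeal ∧ u * (t.1 * a - s.1 * b) = 0 := by
  rw [Localization.mk_eq_mk_iff, Localization.r_iff_exists]
  constructor
  · rintro ⟨u, hu⟩
    refine ⟨u.1, u.2, ?_⟩
    rw [mul_sub, sub_eq_zero]
    simpa using hu
  · rintro ⟨u, hu, h⟩
    refine ⟨⟨u, hu⟩, ?_⟩
    rw [mul_sub, sub_eq_zero] at h
    simpa using h

/-- If a homogeneous `a` becomes zero in `A_x` for every `x ∈ D₊(f)`, a power of `f` kills `a`. -/
theorem exists_pow_mul_eq_zero {d : ℕ} (hd : 0 < d) {f : A} (hf : f ∈ 𝒜 d) {i : ℕ} {a : A}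
    (ha : a ∈ 𝒜 i)
    (h : ∀ x : ProjectiveSpectrum 𝒜, f ∉ x.asHomogeneousIdeal →
      ∃ u : A, u ∉ x.asHomogeneousIdeal ∧ u * a = 0) :
    ∃ N : ℕ, f ^ N * a = 0 :=
  Groth.Agent.Lib.Helper18.GrTildeBasic.exists_pow_smul_eq_zero 𝒜 𝒜 hd hf i a ha h

/-- **Sections of `O(n)` over `D₊(f)` are single fractions `a / f ^ k`.** -/
theorem exists_frac (n : ℤ) {d : ℕ} (hd : 0 < d) {f : A} (hf : f ∈ 𝒜 d)
    (s : Twist.sectN (𝒜 := 𝒜) n (op (ProjectiveSpectrum.basicOpen 𝒜 f))) :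
    ∃ (k i : ℕ) (a : 𝒜 i), (i : ℤ) = k * d + n ∧
      ∀ x : ProjectiveSpectrum.basicOpen 𝒜 f,
        ((s.1 x : Twist.twistAt 𝒜 n x.1) : Twist.Loc 𝒜 x.1) =
          (Localization.mk a.1 ⟨f ^ k, fun h => (ProjectiveSpectrum.mem_basicOpen 𝒜 f x.1).mp x.2
            (x.1.isPrime.mem_of_pow_mem k h)⟩ : Twist.Loc 𝒜 x.1) := by
  classical
  have hloc : ∀ x : ProjectiveSpectrum.basicOpen 𝒜 f, ∃ (e : ℕ) (h : A) (i : ℕ) (m : A), 0 < e ∧
      h ∈ 𝒜 e ∧ m ∈ 𝒜 i ∧ (i : ℤ) = e + n ∧ h ∉ x.1.asHomogeneousIdeal ∧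
      ∀ (y : ProjectiveSpectrum 𝒜) (hy : h ∉ y.asHomogeneousIdeal),
        ∃ hyf : y ∈ ProjectiveSpectrum.basicOpen 𝒜 f,
          ((s.1 ⟨y, hyf⟩ : Twist.twistAt 𝒜 n y) : Twist.Loc 𝒜 y) =
            Localization.mk m ⟨h, hy⟩ := by
    intro x
    obtain ⟨V, hxV, iV, i', j', ⟨m', hm'⟩, ⟨s', hs'⟩, s'_nin, hdeg, hw⟩ := s.2 x
    obtain ⟨e', he'pos, h', hh', hxh', hle⟩ :=
      Groth.Agent.Lib.Helper18.ProjBasic.exists_pos_homogeneous_basicOpen_le 𝒜 x.1 V hxV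
    have hxh'' : h' ∉ x.1.asHomogeneousIdeal := hxh'
    have hxs' : s' ∉ x.1.asHomogeneousIdeal := s'_nin ⟨x.1, hxV⟩
    rcases hdeg with hdeg | hdeg
    · refine ⟨e' + j', h' * s', e' + i', h' * m', by omega, SetLike.mul_mem_graded hh' hs',
        SetLike.mul_mem_graded hh' hm', by push_cast; omega,
        fun hh => (x.1.isPrime.mem_or_mem hh).elim hxh'' hxs', ?_⟩
      intro y hy
      have hyh' : h' ∉ y.asHomogeneousIdeal := fun hh => hy (Ideal.mul_mem_right _ _ hh)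
      have hyV : y ∈ V := hle hyh'
      refine ⟨iV.le hyV, ?_⟩
      have h1 := hw ⟨y, hyV⟩
      refine h1.trans ?_
      rw [mk_eq_mk_iff']
      refine ⟨1, fun hh => y.isPrime.ne_top ((Ideal.eq_top_iff_one _).mpr hh), ?_⟩
      simp only [one_mul]
      ring
    · refine ⟨(n.natAbs + 1) * (e' + j'), (h' * s') ^ (n.natAbs + 1),
        (((n.natAbs + 1) * (e' + j') : ℕ) + n).toNat, 0, by positivity, ?_, zero_mem _, ?_,
        fun hh => (x.1.isPrime.mem_or_mem (x.1.isPrime.mem_of_pow_mem _ hh)).elim hxh'' hxs', ?_⟩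
      · have := SetLike.pow_mem_graded (n.natAbs + 1) (SetLike.mul_mem_graded hh' hs')
        simpa [smul_eq_mul] using this
      · rw [Int.toNat_of_nonneg]
        have h1 : n.natAbs + 1 ≤ (n.natAbs + 1) * (e' + j') :=
          Nat.le_mul_of_pos_right _ (by omega)
        generalize (n.natAbs + 1) * (e' + j') = X at h1 ⊢
        omega
      · intro y hy
        have hyh' : h' ∉ y.asHomogeneousIdeal := fun hh =>
          hy (Ideal.pow_mem_of_mem _ (Ideal.mul_mem_right _ _ hh) _ (by omega))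
        have hyV : y ∈ V := hle hyh'
        refine ⟨iV.le hyV, ?_⟩
        have h1 := hw ⟨y, hyV⟩
        refine h1.trans ?_
        change Localization.mk m' _ = _
        have hm0 : m' = 0 := hdeg
        rw [hm0, Localization.mk_zero, Localization.mk_zero]
  choose e h i m hpos hhe hmi hdeg hx hrep using hloc
  have hcpt : IsCompact (ProjectiveSpectrum.basicOpen 𝒜 f : Set (ProjectiveSpectrum 𝒜)) :=
    (Proj.isAffineOpen_basicOpen 𝒜 f hf hd).isCompact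
  obtain ⟨t, ht⟩ := hcpt.elim_nhds_subcover'
    (fun x hx => (ProjectiveSpectrum.basicOpen 𝒜 (h ⟨x, hx⟩) : Set (ProjectiveSpectrum 𝒜)))
    (fun x hxf => (ProjectiveSpectrum.basicOpen 𝒜 (h ⟨x, hxf⟩)).isOpen.mem_nhds (hx ⟨x, hxf⟩))
  obtain ⟨K, I, mf, hmf, hI, hglue⟩ := Groth.Agent.Lib.Proj.Glue.exists_glue 𝒜 𝒜 (T := ↥t) n hd hf
    (fun x => h x.1) (fun x => e x.1) (fun x => hhe x.1) (fun x => hpos x.1)
    (fun x => m x.1) (fun x => i x.1) (fun x => hmi x.1) (fun x => hdeg x.1)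
    (fun z hz => by
      have hz' : z ∈ (ProjectiveSpectrum.basicOpen 𝒜 f : Set (ProjectiveSpectrum 𝒜)) := hz
      obtain ⟨x, hxt, hzx⟩ := Set.mem_iUnion₂.mp (ht hz')
      exact ⟨⟨x, hxt⟩, hzx⟩)
    (fun x y z hzx hzy => by
      obtain ⟨hzf, h1⟩ := hrep x.1 z hzx
      obtain ⟨_, h2⟩ := hrep y.1 z hzy
      have h3 := h1.symm.trans h2
      rw [mk_eq_mk_iff'] at h3
      obtain ⟨u, hu, h4⟩ := h3
      exact ⟨u, hu, by simpa [smul_eq_mul] using h4⟩)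
  refine ⟨K, I, ⟨mf, hmf⟩, hI, fun z => ?_⟩
  obtain ⟨x, hxt, hzx⟩ := Set.mem_iUnion₂.mp (ht z.2)
  obtain ⟨hzf, h1⟩ := hrep x z.1 hzx
  refine h1.trans ?_
  rw [mk_eq_mk_iff']
  obtain ⟨N, hN⟩ := hglue ⟨x, hxt⟩
  refine ⟨h x ^ N, fun hh => hzx (z.1.isPrime.mem_of_pow_mem _ hh), ?_⟩
  simp only [smul_eq_mul] at hN
  have : f ^ K * m x - h x * mf = -(h x * mf - f ^ K * m x) := by ring
  rw [this, mul_neg, hN, neg_zero]

/-- Two fractions `a / f ^ k` and `b / f ^ l` (homogeneous numerators of the right degrees) agree at every point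
of `D₊(f)` iff they agree in `A_f`. -/
theorem exists_pow_mul_eq {d : ℕ} (hd : 0 < d) {f : A} (hf : f ∈ 𝒜 d) {i j k l : ℕ} {a b : A}
    (ha : a ∈ 𝒜 i) (hb : b ∈ 𝒜 j) (hdeg : l * d + i = k * d + j)
    (h : ∀ (x : ProjectiveSpectrum 𝒜) (hx : f ∉ x.asHomogeneousIdeal),
      (Localization.mk a ⟨f ^ k, fun hh => hx (x.isPrime.mem_of_pow_mem k hh)⟩ : Twist.Loc 𝒜 x) =
        (Localization.mk b ⟨f ^ l, fun hh => hx (x.isPrime.mem_of_pow_mem l hh)⟩ : Twist.Loc 𝒜 x)) :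
    ∃ N : ℕ, f ^ N * (f ^ l * a - f ^ k * b) = 0 := by
  have hfl : f ^ l ∈ 𝒜 (l * d) := by
    have := SetLike.pow_mem_graded l hf; simpa [smul_eq_mul] using this
  have hfk : f ^ k ∈ 𝒜 (k * d) := by
    have := SetLike.pow_mem_graded k hf; simpa [smul_eq_mul] using this
  have hu : f ^ l * a - f ^ k * b ∈ 𝒜 (l * d + i) :=
    sub_mem (SetLike.mul_mem_graded hfl ha) (hdeg ▸ SetLike.mul_mem_graded hfk hb)
  refine exists_pow_mul_eq_zero 𝒜 hd hf hu fun x hx => ?_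
  exact (mk_eq_mk_iff' 𝒜 x a b _ _).mp (h x hx)

end Groth.Agent.Lib.Proj.Sections
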