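/-
R1 bridge (helper44): Laurent coordinates of the sections of `O(d)` on `P^n_R` over the standard opens
`D₊(∏ j, X (b j))`.

ns `Groth.Agent.Lib.Proj.Bridge`.  For `b : Fin (p + 1) → Fin (n + 1)`:
* `fb b = ∏ j, X (b j)`, `DP b = D₊(fb b)`, `Sec d b` = sections of `O(d)` over `DP b`;
* `IsRep d b σ k a` : `σ` is the fraction `a / fb b ^ k` (with `a` homogeneous of degree `k (p+1) + d`);
* `cB d b : Sec d b →+ Lau (Fin (n+1)) R`, `cB_eq : IsRep d b σ k a → cB d b σ = lauN (k • expo b) a`;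
* `cB_injective`, `cB_mem_allowed` (image inside `Allowed d (range b)`), `exists_cB_eq` (onto),
* `cB_res` : compatibility with restriction from `DP (b ∘ k.succAbove)` to `DP b`.
-/
import Groth.Agent.Lib.Proj.Helper44_LauPoly
import Groth.Agent.Lib.Proj.Helper66_Sections

set_option autoImplicit false
universe u

open CategoryTheory AlgebraicGeometry Opposite TopologicalSpace
open Groth.Agent.Lib.Proj.CechComb

namespace Groth.Agent.Lib.Proj.Bridge

variable {n : ℕ} {R : Type u} [CommRing R]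

/-- `∏ j, X (b j)` -/
noncomputable def fb {p : ℕ} (b : Fin p → Fin (n + 1)) : MvPolynomial (Fin (n + 1)) R :=
  ∏ j, MvPolynomial.X (b j)

lemma fb_eq {p : ℕ} (b : Fin p → Fin (n + 1)) :
    fb (R := R) b = MvPolynomial.monomial (expo b) 1 := (monomial_expo b).symm

lemma fb_pow {p : ℕ} (b : Fin p → Fin (n + 1)) (k : ℕ) :
    fb (R := R) b ^ k = MvPolynomial.monomial (k • expo b) 1 := by
  rw [fb_eq, MvPolynomial.monomial_pow, one_pow]

lemma fb_mem {p : ℕ} (b : Fin p → Fin (n + 1)) : fb (R := R) b ∈ CohB1.polyGrading n R p := by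
  rw [fb_eq]
  exact MvPolynomial.isHomogeneous_monomial _ (expo_degree b)

lemma fb_pow_mem {p : ℕ} (b : Fin p → Fin (n + 1)) (k : ℕ) :
    fb (R := R) b ^ k ∈ CohB1.polyGrading n R (k * p) := by
  rw [fb_pow]
  refine MvPolynomial.isHomogeneous_monomial _ ?_
  rw [map_nsmul, expo_degree, smul_eq_mul]

lemma monomial_mul_cancel (μ : Fin (n + 1) →₀ ℕ) (a a' : MvPolynomial (Fin (n + 1)) R)
    (h : MvPolynomial.monomial μ 1 * a = MvPolynomial.monomial μ 1 * a') : a = a' := by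
  apply lauN_injective (0 : Fin (n + 1) →₀ ℕ)
  rw [← lauN_monomial_mul 0 μ a, ← lauN_monomial_mul 0 μ a', h]

lemma fb_succAbove {p : ℕ} (b : Fin (p + 1) → Fin (n + 1)) (k : Fin (p + 1)) :
    fb (R := R) b = fb (b ∘ k.succAbove) * MvPolynomial.X (b k) := by
  rw [fb, fb, Fin.prod_univ_succAbove _ k, mul_comm]
  rfl

variable (R) in
/-- the standard open `D₊(∏ j, X (b j))` of `P^n_R` -/
noncomputable def DP {p : ℕ} (b : Fin p → Fin (n + 1)) :
    Opens (ProjectiveSpectrum.top (CohB1.polyGrading n R)) :=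
  ProjectiveSpectrum.basicOpen (CohB1.polyGrading n R) (fb b)

/-- sections of `O(d)` over `D₊(∏ j, X (b j))` -/
abbrev Sec (d : ℤ) {p : ℕ} (b : Fin p → Fin (n + 1)) : Type u :=
  Twist.sectN (𝒜 := CohB1.polyGrading n R) d (op (DP R b))

lemma pow_mem_primeCompl {p : ℕ} (b : Fin p → Fin (n + 1)) (k : ℕ) (x : DP R b) :
    fb (R := R) b ^ k ∈ x.1.asHomogeneousIdeal.toIdeal.primeCompl :=
  fun h => x.2 (x.1.isPrime.mem_of_pow_mem k h)

/-- `σ` is the fraction `a / fb b ^ k`. -/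
def IsRep (d : ℤ) {p : ℕ} (b : Fin p → Fin (n + 1)) (σ : Sec (R := R) d b) (k : ℕ)
    (a : MvPolynomial (Fin (n + 1)) R) : Prop :=
  (∃ i : ℕ, (i : ℤ) = (k : ℤ) * (p : ℤ) + d ∧ a ∈ CohB1.polyGrading n R i) ∧
    ∀ x : DP R b, ((σ.1 x : Twist.twistAt (CohB1.polyGrading n R) d x.1) :
      Twist.Loc (CohB1.polyGrading n R) x.1) = Localization.mk a ⟨fb b ^ k, pow_mem_primeCompl b k x⟩

lemma exists_isRep (d : ℤ) {p : ℕ} (b : Fin (p + 1) → Fin (n + 1)) (σ : Sec (R := R) d b) :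
    ∃ (k : ℕ) (a : MvPolynomial (Fin (n + 1)) R), IsRep d b σ k a := by
  obtain ⟨k, i, a, hi, h⟩ := Sections.exists_frac (CohB1.polyGrading n R) d (Nat.succ_pos p)
    (fb_mem b) σ
  exact ⟨k, a.1, ⟨i, by have := hi; push_cast at this ⊢; linarith, a.2⟩, fun x => h x⟩

lemma lauN_eq_of_isRep (d : ℤ) {p : ℕ} (b : Fin (p + 1) → Fin (n + 1)) (σ : Sec (R := R) d b)
    {k l : ℕ} {a a' : MvPolynomial (Fin (n + 1)) R} (h : IsRep d b σ k a) (h' : IsRep d b σ l a') :
    lauN (k • expo b) a = lauN (l • expo b) a' := by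
  obtain ⟨⟨i, hi, hai⟩, hx⟩ := h
  obtain ⟨⟨j, hj, haj⟩, hx'⟩ := h'
  have hdeg : l * (p + 1) + i = k * (p + 1) + j := by
    have : ((l * (p + 1) + i : ℕ) : ℤ) = ((k * (p + 1) + j : ℕ) : ℤ) := by
      push_cast
      rw [hi, hj]
      push_cast
      ring
    exact_mod_cast this
  obtain ⟨N, hN⟩ := Sections.exists_pow_mul_eq (CohB1.polyGrading n R) (Nat.succ_pos p) (fb_mem b)
    hai haj hdeg (fun x hxf => by
      have e1 := hx ⟨x, hxf⟩
      have e2 := hx' ⟨x, hxf⟩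
      exact e1.symm.trans e2)
  have hcancel : fb (R := R) b ^ l * a = fb b ^ k * a' := by
    rw [fb_pow, ← mul_zero (MvPolynomial.monomial (N • expo b) (1 : R))] at hN
    have := monomial_mul_cancel _ _ _ hN
    exact sub_eq_zero.1 this
  calc lauN (k • expo b) a = lauN (k • expo b + l • expo b) (MvPolynomial.monomial (l • expo b) 1 * a) :=
        (lauN_monomial_mul _ _ _).symm
    _ = lauN (k • expo b + l • expo b) (fb b ^ l * a) := by rw [fb_pow]
    _ = lauN (l • expo b + k • expo b) (fb b ^ k * a') := by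
        rw [hcancel, add_comm (k • expo b) (l • expo b)]
    _ = lauN (l • expo b + k • expo b) (MvPolynomial.monomial (k • expo b) 1 * a') := by rw [fb_pow]
    _ = lauN (l • expo b) a' := lauN_monomial_mul _ _ _

/-- Laurent coordinates of a section of `O(d)` over `D₊(∏ X (b j))`. -/
noncomputable def cBfun (d : ℤ) {p : ℕ} (b : Fin (p + 1) → Fin (n + 1)) (σ : Sec (R := R) d b) :
    Lau (Fin (n + 1)) R :=
  lauN ((exists_isRep d b σ).choose • expo b) (exists_isRep d b σ).choose_spec.choose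

lemma cBfun_eq (d : ℤ) {p : ℕ} (b : Fin (p + 1) → Fin (n + 1)) (σ : Sec (R := R) d b) {k : ℕ}
    {a : MvPolynomial (Fin (n + 1)) R} (h : IsRep d b σ k a) :
    cBfun d b σ = lauN (k • expo b) a :=
  lauN_eq_of_isRep d b σ (exists_isRep d b σ).choose_spec.choose_spec h

lemma isRep_add (d : ℤ) {p : ℕ} (b : Fin (p + 1) → Fin (n + 1)) (σ τ : Sec (R := R) d b)
    {k l : ℕ} {a a' : MvPolynomial (Fin (n + 1)) R} (h : IsRep d b σ k a) (h' : IsRep d b τ l a') :
    IsRep d b (σ + τ) (k + l) (fb b ^ l * a + fb b ^ k * a') := by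
  obtain ⟨⟨i, hi, hai⟩, hx⟩ := h
  obtain ⟨⟨j, hj, haj⟩, hx'⟩ := h'
  refine ⟨⟨l * (p + 1) + i, ?_, ?_⟩, fun x => ?_⟩
  · push_cast
    rw [hi]
    push_cast
    ring
  · refine add_mem (SetLike.mul_mem_graded (fb_pow_mem b l) hai) ?_
    have e : l * (p + 1) + i = k * (p + 1) + j := by
      have : ((l * (p + 1) + i : ℕ) : ℤ) = ((k * (p + 1) + j : ℕ) : ℤ) := by
        push_cast
        rw [hi, hj]
        push_cast
        ring
      exact_mod_cast this
    rw [e]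
    exact SetLike.mul_mem_graded (fb_pow_mem b k) haj
  · have e1 := hx x
    have e2 := hx' x
    have hadd : (((σ + τ).1 x : Twist.twistAt (CohB1.polyGrading n R) d x.1) :
        Twist.Loc (CohB1.polyGrading n R) x.1) = ((σ.1 x : Twist.twistAt _ d x.1) : Twist.Loc _ x.1)
          + ((τ.1 x : Twist.twistAt _ d x.1) : Twist.Loc _ x.1) := rfl
    rw [hadd, e1, e2, Localization.add_mk]
    congr 1
    · exact add_comm _ _
    · apply Subtype.ext
      change fb b ^ k * fb b ^ l = fb b ^ (k + l)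
      rw [pow_add]

lemma isRep_zero (d : ℤ) {p : ℕ} (b : Fin (p + 1) → Fin (n + 1)) (σ : Sec (R := R) d b) {k : ℕ}
    (h : IsRep d b σ k 0) : σ = 0 := by
  apply Subtype.ext
  funext x
  apply Subtype.ext
  rw [h.2 x, Localization.mk_zero]
  rfl

/-- Laurent coordinates, as an additive map. -/
noncomputable def cB (d : ℤ) {p : ℕ} (b : Fin (p + 1) → Fin (n + 1)) :
    Sec (R := R) d b →+ Lau (Fin (n + 1)) R :=
  AddMonoidHom.mk' (cBfun d b) (fun σ τ => by
    obtain ⟨k, a, h⟩ := exists_isRep d b σ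
    obtain ⟨l, a', h'⟩ := exists_isRep d b τ
    rw [cBfun_eq d b σ h, cBfun_eq d b τ h', cBfun_eq d b (σ + τ) (isRep_add d b σ τ h h'), map_add,
      fb_pow, fb_pow, add_smul]
    congr 1
    · rw [lauN_monomial_mul]
    · rw [add_comm (k • expo b) (l • expo b), lauN_monomial_mul])

lemma cB_eq (d : ℤ) {p : ℕ} (b : Fin (p + 1) → Fin (n + 1)) (σ : Sec (R := R) d b) {k : ℕ}
    {a : MvPolynomial (Fin (n + 1)) R} (h : IsRep d b σ k a) : cB d b σ = lauN (k • expo b) a :=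
  cBfun_eq d b σ h

lemma cB_injective (d : ℤ) {p : ℕ} (b : Fin (p + 1) → Fin (n + 1)) :
    Function.Injective (cB (R := R) d b) := by
  rw [injective_iff_map_eq_zero]
  intro σ hσ
  obtain ⟨k, a, h⟩ := exists_isRep d b σ
  rw [cB_eq d b σ h] at hσ
  have ha : a = 0 := lauN_injective _ (hσ.trans (map_zero _).symm)
  subst ha
  exact isRep_zero d b σ h

/-- the coordinates of a section over `D₊(∏ X (b j))` have degree `d` and poles only along `range b` -/
lemma cB_mem_allowed (d : ℤ) {p : ℕ} (b : Fin (p + 1) → Fin (n + 1)) (σ : Sec (R := R) d b)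
    (m : Fin (n + 1) → ℤ) (hm : cB d b σ m ≠ 0) : m ∈ Allowed d (Set.range b) := by
  obtain ⟨k, a, h⟩ := exists_isRep d b σ
  rw [cB_eq d b σ h] at hm
  obtain ⟨⟨i, hi, hai⟩, -⟩ := h
  have := lauN_mem_allowed (k • expo b) (Set.range b) (fun j hj => by
    rw [← expo_pos_iff]
    intro h0
    apply hj
    rw [Finsupp.smul_apply, h0, smul_zero]) a hai m hm
  have hdeg : ((i : ℤ) - ((k • expo b).degree : ℕ)) = d := by
    rw [map_nsmul, expo_degree, smul_eq_mul, hi]
    push_cast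
    ring
  rwa [hdeg] at this

/-- the section `a / fb b ^ k` of `O(d)` over `D₊(fb b)` -/
noncomputable def fracPow (d : ℤ) {p : ℕ} (b : Fin p → Fin (n + 1)) (k i : ℕ)
    (a : MvPolynomial (Fin (n + 1)) R) (hai : a ∈ CohB1.polyGrading n R i)
    (hi : (i : ℤ) = (k : ℤ) * (p : ℤ) + d) : Sec (R := R) d b :=
  ⟨fun y => ⟨Localization.mk a ⟨fb b ^ k, pow_mem_primeCompl b k y⟩,
      Submodule.subset_span ⟨i, k * p, ⟨a, hai⟩, ⟨fb b ^ k, fb_pow_mem b k⟩,
        pow_mem_primeCompl b k y, by push_cast; linarith, rfl⟩⟩,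
    fun y => ⟨DP R b, y.2, 𝟙 _, i, k * p, ⟨a, hai⟩, ⟨fb b ^ k, fb_pow_mem b k⟩,
      fun z => pow_mem_primeCompl b k z, Or.inl (by push_cast; linarith), fun _ => rfl⟩⟩

lemma isRep_fracPow (d : ℤ) {p : ℕ} (b : Fin p → Fin (n + 1)) (k i : ℕ)
    (a : MvPolynomial (Fin (n + 1)) R) (hai : a ∈ CohB1.polyGrading n R i)
    (hi : (i : ℤ) = (k : ℤ) * (p : ℤ) + d) : IsRep d b (fracPow d b k i a hai hi) k a :=
  ⟨⟨i, hi, hai⟩, fun _ => rfl⟩

/-- **Surjectivity of the coordinates** onto the Laurent elements of degree `d` with poles along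
`range b`. -/
theorem exists_cB_eq (d : ℤ) {p : ℕ} (b : Fin (p + 1) → Fin (n + 1)) (w : Lau (Fin (n + 1)) R)
    (hw : ∀ m, w m ≠ 0 → m ∈ Allowed d (Set.range b)) : ∃ σ : Sec (R := R) d b, cB d b σ = w := by
  obtain ⟨k, D, a, hD, ha, hlau⟩ := exists_lauN_eq d (Set.range b) (expo b)
    (fun i hi => Nat.one_le_iff_ne_zero.2 ((expo_pos_iff b i).2 hi))
    (by rw [expo_degree]; omega) w hw
  have hD' : (D : ℤ) = (k : ℤ) * ((p + 1 : ℕ) : ℤ) + d := by
    rw [hD, expo_degree]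
    ring
  refine ⟨fracPow d b k D a ha hD', ?_⟩
  rw [cB_eq d b _ (isRep_fracPow d b k D a ha hD'), hlau]

lemma DP_le {p : ℕ} (b : Fin (p + 1) → Fin (n + 1)) (k : Fin (p + 1)) :
    DP R b ≤ DP R (b ∘ k.succAbove) := by
  rw [DP, fb_succAbove b k]
  exact ProjectiveSpectrum.basicOpen_mul_le_left _ _ _

lemma X_pow_mem (i : Fin (n + 1)) (r : ℕ) :
    (MvPolynomial.X i : MvPolynomial (Fin (n + 1)) R) ^ r ∈ CohB1.polyGrading n R r := by
  rw [MvPolynomial.X_pow_eq_monomial]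
  exact MvPolynomial.isHomogeneous_monomial _ (by simp)

lemma isRep_res (d : ℤ) {p : ℕ} (b : Fin (p + 2) → Fin (n + 1)) (k : Fin (p + 2))
    (σ : Sec (R := R) d (b ∘ k.succAbove)) {r : ℕ} {a : MvPolynomial (Fin (n + 1)) R}
    (h : IsRep d (b ∘ k.succAbove) σ r a) :
    IsRep d b (Twist.resN d (homOfLE (DP_le b k)).op σ) r (MvPolynomial.X (b k) ^ r * a) := by
  obtain ⟨⟨i, hi, hai⟩, hx⟩ := h
  refine ⟨⟨r + i, ?_, SetLike.mul_mem_graded (X_pow_mem (b k) r) hai⟩, fun x => ?_⟩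
  · push_cast
    rw [hi]
    push_cast
    ring
  · have e1 := hx ⟨x.1, DP_le b k x.2⟩
    have e0 : (((Twist.resN d (homOfLE (DP_le b k)).op σ).1 x :
        Twist.twistAt (CohB1.polyGrading n R) d x.1) : Twist.Loc (CohB1.polyGrading n R) x.1)
        = ((σ.1 ⟨x.1, DP_le b k x.2⟩ : Twist.twistAt (CohB1.polyGrading n R) d x.1) :
            Twist.Loc (CohB1.polyGrading n R) x.1) := rfl
    refine e0.trans (e1.trans ?_)
    rw [Localization.mk_eq_mk_iff, Localization.r_iff_exists]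
    refine ⟨1, ?_⟩
    simp only [OneMemClass.coe_one, one_mul]
    rw [fb_succAbove b k, mul_pow]
    ring

/-- **Compatibility with restriction** from `D₊(fb (b ∘ k.succAbove))` to `D₊(fb b)`. -/
theorem cB_res (d : ℤ) {p : ℕ} (b : Fin (p + 2) → Fin (n + 1)) (k : Fin (p + 2))
    (σ : Sec (R := R) d (b ∘ k.succAbove)) :
    cB d b (Twist.resN d (homOfLE (DP_le b k)).op σ) = cB d (b ∘ k.succAbove) σ := by
  obtain ⟨r, a, h⟩ := exists_isRep d (b ∘ k.succAbove) σ
  rw [cB_eq d b _ (isRep_res d b k σ h), cB_eq d _ σ h, expo_succAbove b k, smul_add,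
    MvPolynomial.X_pow_eq_monomial, Finsupp.smul_single, smul_eq_mul, mul_one, lauN_monomial_mul]

end Groth.Agent.Lib.Proj.Bridge
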