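/-
R1 bridge (helper44), part 2: the coordinates `cB` over ANY open `W = D₊(∏ X (b j))`, and for tuples in an
arbitrary index type `ι' ≃ Fin (n + 1)` (e.g. `ULift (Fin (n+1))`).

ns `Groth.Agent.Lib.Proj.Bridge`.
* `resHom d i` : `Twist.resN d i` as an additive map.
* `cW d b W hW : Twist.sectN d (op W) →+ Lau (Fin (n+1)) R` for `hW : W = DP R b`;
  `cW_injective`, `cW_mem_allowed`, `exists_cW_eq`, `cW_res` (any morphism `op W2 ⟶ op W`).
* `cI e d b W hW : Twist.sectN d (op W) →+ Lau ι' R` for `e : ι' ≃ Fin (n+1)`, `b : Fin (p+1) → ι'`,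
  `hW : W = DP R (e ∘ b)`; `cI_injective`, `cI_mem_allowed`, `exists_cI_eq`, `cI_res`.
* `DP_le_basicOpen`, `le_DP` : `DP R b` is the infimum of the `D₊(X (b j))`.
-/
import Groth.Agent.Lib.Proj.Helper44_Bridge

set_option autoImplicit false
universe u w

open CategoryTheory AlgebraicGeometry Opposite TopologicalSpace
open Groth.Agent.Lib.Proj.CechComb

namespace Groth.Agent.Lib.Proj.Bridge

variable {n : ℕ} {R : Type u} [CommRing R]

/-- restriction of sections of `O(d)`, as an additive map -/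
noncomputable def resHom (d : ℤ)
    {U V : (Opens (ProjectiveSpectrum.top (CohB1.polyGrading n R)))ᵒᵖ} (i : U ⟶ V) :
    Twist.sectN (𝒜 := CohB1.polyGrading n R) d U →+ Twist.sectN (𝒜 := CohB1.polyGrading n R) d V where
  toFun := Twist.resN d i
  map_zero' := rfl
  map_add' _ _ := rfl

lemma resHom_apply (d : ℤ) {U V : (Opens (ProjectiveSpectrum.top (CohB1.polyGrading n R)))ᵒᵖ}
    (i : U ⟶ V) (s : Twist.sectN (𝒜 := CohB1.polyGrading n R) d U) :
    resHom d i s = Twist.resN d i s := rfl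

lemma resN_resN (d : ℤ) {U V W : (Opens (ProjectiveSpectrum.top (CohB1.polyGrading n R)))ᵒᵖ}
    (i : U ⟶ V) (j : V ⟶ W) (k : U ⟶ W) (s : Twist.sectN (𝒜 := CohB1.polyGrading n R) d U) :
    Twist.resN d j (Twist.resN d i s) = Twist.resN d k s := rfl

lemma resN_self (d : ℤ) {U : (Opens (ProjectiveSpectrum.top (CohB1.polyGrading n R)))ᵒᵖ}
    (i : U ⟶ U) (s : Twist.sectN (𝒜 := CohB1.polyGrading n R) d U) : Twist.resN d i s = s := rfl

lemma resN_injective_of_eq (d : ℤ) {W W' : Opens (ProjectiveSpectrum.top (CohB1.polyGrading n R))}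
    (h : W' = W) (i : op W ⟶ op W') :
    Function.Injective (Twist.resN (𝒜 := CohB1.polyGrading n R) d i) := by
  subst h
  intro σ τ hστ
  rwa [resN_self, resN_self] at hστ

/-- coordinates of the sections of `O(d)` over any open `W = D₊(∏ X (b j))` -/
noncomputable def cW (d : ℤ) {p : ℕ} (b : Fin (p + 1) → Fin (n + 1))
    (W : Opens (ProjectiveSpectrum.top (CohB1.polyGrading n R))) (hW : W = DP R b) :
    Twist.sectN (𝒜 := CohB1.polyGrading n R) d (op W) →+ Lau (Fin (n + 1)) R :=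
  (cB d b).comp (resHom d (homOfLE hW.ge).op)

lemma cW_apply (d : ℤ) {p : ℕ} (b : Fin (p + 1) → Fin (n + 1))
    (W : Opens (ProjectiveSpectrum.top (CohB1.polyGrading n R))) (hW : W = DP R b)
    (s : Twist.sectN (𝒜 := CohB1.polyGrading n R) d (op W)) :
    cW d b W hW s = cB d b (Twist.resN d (homOfLE hW.ge).op s) := rfl

lemma cW_injective (d : ℤ) {p : ℕ} (b : Fin (p + 1) → Fin (n + 1))
    (W : Opens (ProjectiveSpectrum.top (CohB1.polyGrading n R))) (hW : W = DP R b) :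
    Function.Injective (cW d b W hW) := by
  intro σ τ h
  rw [cW_apply, cW_apply] at h
  exact resN_injective_of_eq d hW.symm _ (cB_injective d b h)

lemma cW_mem_allowed (d : ℤ) {p : ℕ} (b : Fin (p + 1) → Fin (n + 1))
    (W : Opens (ProjectiveSpectrum.top (CohB1.polyGrading n R))) (hW : W = DP R b)
    (s : Twist.sectN (𝒜 := CohB1.polyGrading n R) d (op W)) (m : Fin (n + 1) → ℤ)
    (hm : cW d b W hW s m ≠ 0) : m ∈ Allowed d (Set.range b) :=
  cB_mem_allowed d b _ m hm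

theorem exists_cW_eq (d : ℤ) {p : ℕ} (b : Fin (p + 1) → Fin (n + 1))
    (W : Opens (ProjectiveSpectrum.top (CohB1.polyGrading n R))) (hW : W = DP R b)
    (w : Lau (Fin (n + 1)) R) (hw : ∀ m, w m ≠ 0 → m ∈ Allowed d (Set.range b)) :
    ∃ s : Twist.sectN (𝒜 := CohB1.polyGrading n R) d (op W), cW d b W hW s = w := by
  obtain ⟨σ, hσ⟩ := exists_cB_eq d b w hw
  refine ⟨Twist.resN d (homOfLE hW.le).op σ, ?_⟩
  rw [cW_apply, resN_resN d _ _ (𝟙 _), resN_self, hσ]

/-- **Restriction compatibility** for an arbitrary restriction morphism. -/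
theorem cW_res (d : ℤ) {p : ℕ} (b : Fin (p + 2) → Fin (n + 1)) (k : Fin (p + 2))
    (W W2 : Opens (ProjectiveSpectrum.top (CohB1.polyGrading n R))) (hW : W = DP R b)
    (hW2 : W2 = DP R (b ∘ k.succAbove)) (i : op W2 ⟶ op W)
    (s : Twist.sectN (𝒜 := CohB1.polyGrading n R) d (op W2)) :
    cW d b W hW (Twist.resN d i s) = cW d (b ∘ k.succAbove) W2 hW2 s := by
  rw [cW_apply, cW_apply, ← cB_res d b k]
  rfl

lemma mem_DP_iff {p : ℕ} (b : Fin p → Fin (n + 1))
    (x : ProjectiveSpectrum.top (CohB1.polyGrading n R)) :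
    x ∈ DP R b ↔ ∀ j, (MvPolynomial.X (b j) : MvPolynomial (Fin (n + 1)) R) ∉ x.asHomogeneousIdeal := by
  have h1 : x ∈ DP R b ↔ fb (R := R) b ∉ x.asHomogeneousIdeal.toIdeal := Iff.rfl
  haveI := x.isPrime
  rw [h1, fb, Ideal.IsPrime.prod_mem_iff]
  constructor
  · intro h j hj
    exact h ⟨j, Finset.mem_univ j, hj⟩
  · rintro h ⟨j, -, hj⟩
    exact h j hj

/-- `D₊(∏ X (b j)) ≤ D₊(X (b j))` -/
lemma DP_le_basicOpen {p : ℕ} (b : Fin p → Fin (n + 1)) (j : Fin p) :
    DP R b ≤ ProjectiveSpectrum.basicOpen (CohB1.polyGrading n R) (MvPolynomial.X (b j)) :=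
  fun x hx => (mem_DP_iff b x).1 hx j

/-- `D₊(∏ X (b j))` is the infimum of the `D₊(X (b j))` -/
lemma le_DP {p : ℕ} (b : Fin p → Fin (n + 1))
    (W : Opens (ProjectiveSpectrum.top (CohB1.polyGrading n R)))
    (hW : ∀ j, W ≤ ProjectiveSpectrum.basicOpen (CohB1.polyGrading n R) (MvPolynomial.X (b j))) :
    W ≤ DP R b :=
  fun x hx => (mem_DP_iff b x).2 (fun j => hW j hx)

section Index

variable {ι' : Type w} [Fintype ι'] (e : ι' ≃ Fin (n + 1))

/-- transport of Laurent coordinates along a reindexing `ι' ≃ Fin (n + 1)` -/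
noncomputable def lauCongr : Lau (Fin (n + 1)) R ≃+ Lau ι' R :=
  Finsupp.domCongr (Equiv.arrowCongr e.symm (Equiv.refl ℤ))

lemma lauCongr_apply (v : Lau (Fin (n + 1)) R) (m : ι' → ℤ) :
    lauCongr e v m = v (m ∘ e.symm) := by
  rw [lauCongr, Finsupp.domCongr_apply, Finsupp.equivMapDomain_apply]
  rfl

lemma lauCongr_symm_apply (v : Lau ι' R) (m : Fin (n + 1) → ℤ) :
    (lauCongr e).symm v m = v (m ∘ e) := by
  have h := lauCongr_apply e ((lauCongr e).symm v) (m ∘ e)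
  rw [AddEquiv.apply_symm_apply] at h
  rw [h]
  congr 1
  funext i
  simp

lemma allowed_comp_symm (d : ℤ) {p : ℕ} (b : Fin p → ι') (m : ι' → ℤ)
    (hm : m ∘ e.symm ∈ Allowed d (Set.range (e ∘ b))) : m ∈ Allowed d (Set.range b) := by
  obtain ⟨h1, h2⟩ := hm
  refine ⟨?_, fun i hi => ?_⟩
  · rw [← h1]
    exact (Equiv.sum_comp e.symm m).symm
  · have : (m ∘ e.symm) (e i) < 0 := by simpa using hi
    obtain ⟨j, hj⟩ := h2 (e i) this
    exact ⟨j, e.injective hj⟩

lemma allowed_comp (d : ℤ) {p : ℕ} (b : Fin p → ι') (m : Fin (n + 1) → ℤ)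
    (hm : m ∘ e ∈ Allowed d (Set.range b)) : m ∈ Allowed d (Set.range (e ∘ b)) := by
  obtain ⟨h1, h2⟩ := hm
  refine ⟨?_, fun i hi => ?_⟩
  · rw [← h1]
    exact (Equiv.sum_comp e m).symm
  · have : (m ∘ e) (e.symm i) < 0 := by simpa using hi
    obtain ⟨j, hj⟩ := h2 (e.symm i) this
    exact ⟨j, by simp [hj]⟩

/-- coordinates over `W = D₊(∏ X (e (b j)))` indexed by `ι'` -/
noncomputable def cI (d : ℤ) {p : ℕ} (b : Fin (p + 1) → ι')
    (W : Opens (ProjectiveSpectrum.top (CohB1.polyGrading n R))) (hW : W = DP R (e ∘ b)) :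
    Twist.sectN (𝒜 := CohB1.polyGrading n R) d (op W) →+ Lau ι' R :=
  (lauCongr e).toAddMonoidHom.comp (cW d (e ∘ b) W hW)

lemma cI_apply (d : ℤ) {p : ℕ} (b : Fin (p + 1) → ι')
    (W : Opens (ProjectiveSpectrum.top (CohB1.polyGrading n R))) (hW : W = DP R (e ∘ b))
    (s : Twist.sectN (𝒜 := CohB1.polyGrading n R) d (op W)) :
    cI e d b W hW s = lauCongr e (cW d (e ∘ b) W hW s) := rfl

lemma cI_injective (d : ℤ) {p : ℕ} (b : Fin (p + 1) → ι')
    (W : Opens (ProjectiveSpectrum.top (CohB1.polyGrading n R))) (hW : W = DP R (e ∘ b)) :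
    Function.Injective (cI (R := R) e d b W hW) := by
  intro σ τ h
  rw [cI_apply, cI_apply] at h
  exact cW_injective d _ W hW ((lauCongr e).injective h)

lemma cI_mem_allowed (d : ℤ) {p : ℕ} (b : Fin (p + 1) → ι')
    (W : Opens (ProjectiveSpectrum.top (CohB1.polyGrading n R))) (hW : W = DP R (e ∘ b))
    (s : Twist.sectN (𝒜 := CohB1.polyGrading n R) d (op W)) (m : ι' → ℤ)
    (hm : cI e d b W hW s m ≠ 0) : m ∈ Allowed d (Set.range b) := by
  rw [cI_apply, lauCongr_apply] at hm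
  exact allowed_comp_symm e d b m (cW_mem_allowed d _ W hW s _ hm)

theorem exists_cI_eq (d : ℤ) {p : ℕ} (b : Fin (p + 1) → ι')
    (W : Opens (ProjectiveSpectrum.top (CohB1.polyGrading n R))) (hW : W = DP R (e ∘ b))
    (v : Lau ι' R) (hv : ∀ m, v m ≠ 0 → m ∈ Allowed d (Set.range b)) :
    ∃ s : Twist.sectN (𝒜 := CohB1.polyGrading n R) d (op W), cI e d b W hW s = v := by
  obtain ⟨s, hs⟩ := exists_cW_eq d (e ∘ b) W hW ((lauCongr e).symm v) (fun m hm => by
    rw [lauCongr_symm_apply] at hm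
    exact allowed_comp e d b m (hv _ hm))
  exact ⟨s, by rw [cI_apply, hs, AddEquiv.apply_symm_apply]⟩

theorem cI_res (d : ℤ) {p : ℕ} (b : Fin (p + 2) → ι') (k : Fin (p + 2))
    (W W2 : Opens (ProjectiveSpectrum.top (CohB1.polyGrading n R))) (hW : W = DP R (e ∘ b))
    (hW2 : W2 = DP R (e ∘ (b ∘ k.succAbove))) (i : op W2 ⟶ op W)
    (s : Twist.sectN (𝒜 := CohB1.polyGrading n R) d (op W2)) :
    cI e d b W hW (Twist.resN d i s) = cI e d (b ∘ k.succAbove) W2 hW2 s := by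
  rw [cI_apply, cI_apply]
  congr 1
  exact cW_res d (e ∘ b) k W W2 hW hW2 i s

end Index

end Groth.Agent.Lib.Proj.Bridge
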