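/-
The `CechBridge.Bridge` term for `O(d)` on `P^n_R` and the standard cover (helper44): plugs
`Helper44_BridgeW.cI` into helper3's `Helper3_CechBridge` / `Helper3_PnCoh`.

ns `Groth.Agent.Lib.Proj.Bridge`.
* `cechOpen_eq_DP` : `∏ᶜ (stdCover n R ∘ b) = DP R (Equiv.ulift ∘ b)`.
* `pnBridge n R d : CechBridge.Bridge (stdCover n R) (twistProjSpace n R d).presheaf R d`.
* `subsingleton_HH_twist'` : the vanishing of `H^q(P^n_R, O(d))` (= S0844).
-/
import Groth.Agent.Lib.Proj.Helper3_PnCoh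
import Groth.Agent.Lib.Proj.Helper44_BridgeW
import Groth.Agent.Lib.Cohomology.Helper1_CechLocalizing

set_option autoImplicit false
universe u

open CategoryTheory Limits AlgebraicGeometry Opposite TopologicalSpace
open Groth.Agent.Lib.Proj.CechComb Groth.Agent.Lib.Proj.PnCoh Groth.Agent.Lib.Cohomology

namespace Groth.Agent.Lib.Proj.Bridge

variable (n : ℕ) (R : Type u) [CommRing R]

lemma mem_cechOpen_iff_mem_DP {p : ℕ} (b : Fin p → Idx.{u} n)
    (x : ProjectiveSpectrum.top (CohB1.polyGrading n R)) :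
    x ∈ (∏ᶜ (stdCover n R ∘ b) : (CohB1.ProjSpace n R).Opens) ↔ x ∈ DP R (Equiv.ulift ∘ b) :=
  (mem_cechOpen (stdCover n R) b x).trans (mem_DP_iff (Equiv.ulift ∘ b) x).symm

lemma cechOpen_eq_DP {p : ℕ} (b : Fin p → Idx.{u} n) :
    (∏ᶜ (stdCover n R ∘ b) : (CohB1.ProjSpace n R).Opens) = DP R (Equiv.ulift ∘ b) := by
  apply Opens.ext
  apply Set.ext
  intro x
  exact mem_cechOpen_iff_mem_DP n R b x

/-- the bridge between the Čech complex of `O(d)` for the standard cover of `P^n_R` and the Laurent model -/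
noncomputable def pnBridge (d : ℤ) :
    CechBridge.Bridge (stdCover n R) (Twist.twistProjSpace n R d).presheaf R d where
  c b := cI Equiv.ulift d b _ (cechOpen_eq_DP n R b)
  inj b := cI_injective Equiv.ulift d b _ (cechOpen_eq_DP n R b)
  mem b s m h := cI_mem_allowed Equiv.ulift d b _ (cechOpen_eq_DP n R b) s m h
  surj b w hw := exists_cI_eq Equiv.ulift d b _ (cechOpen_eq_DP n R b) w hw
  res b k s := cI_res Equiv.ulift d b k _ _ (cechOpen_eq_DP n R b)
    (cechOpen_eq_DP n R (b ∘ k.succAbove)) (cechRes (stdCover n R) b k).op s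

/-- **S0844**: `H^q(P^n_R, O(d)) = 0` unless `q = 0, d ≥ 0` or `q = n, d ≤ -n-1`. -/
theorem subsingleton_HH_twist' (d : ℤ) (q : ℕ)
    (h₀ : ¬ (q = 0 ∧ 0 ≤ d)) (hn : ¬ (q = n ∧ d ≤ -((n : ℤ) + 1))) :
    Subsingleton (Coh.HH (CohB1.ProjSpace n R) (Twist.twistProjSpace n R d) q) :=
  subsingleton_HH_twist (pnBridge n R d) q h₀ hn

end Groth.Agent.Lib.Proj.Bridge
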