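import Groth.Agent.Lib.Proj.TwistTriv
import Groth.Agent.Lib.QCoh.TensorTilde

/-!
# PROJ-TWIST (lead): the multiplication `O(m) ⊗ O(n) → O(m+n)`

* `mulSect V m n k h : Sec 𝒜 m V →ₗ[O V] Sec 𝒜 n V →ₗ[O V] Sec 𝒜 k V` (pointwise product), `val_mulSect`
* `twP 𝒜 m : PM (Proj 𝒜)`, `mulPreHom 𝒜 m n k h : twP 𝒜 m ⊗ twP 𝒜 n ⟶ twP 𝒜 k` (presheaf level)
* `HasUnitFrac 𝒜 m` : near every point there are `a ∈ 𝒜 i`, `b ∈ 𝒜 j` nonvanishing with `m + j = i`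
* `mulLin'_bijective`, `WX_mulPreHom`, **`twistMulIso m n k h hm : tensorMod (twist 𝒜 m) (twist 𝒜 n) ≅ twist 𝒜 k`**
* `hasUnitFrac_of_cover` (degree-one cover), `nonempty_twist_iso_tensorPow : O(n) ≅ O(1)^{⊗ n}`
-/

universe u
open CategoryTheory CategoryTheory.Limits AlgebraicGeometry TopologicalSpace Opposite TopCat MonoidalCategory
open scoped TensorProduct

namespace Groth.Agent.Lib.Proj

open Twist Scheme.Modules QCoh

variable {R A : Type u} [CommRing R] [CommRing A] [Algebra R A] {𝒜 : ℕ → Submodule R A} [GradedAlgebra 𝒜]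

lemma mul_mem_twistAt_add (x : ProjectiveSpectrum 𝒜) {m n k : ℤ} (h : k = m + n) {p q : Loc 𝒜 x}
    (hp : p ∈ twistAt 𝒜 m x) (hq : q ∈ twistAt 𝒜 n x) : p * q ∈ twistAt 𝒜 k x := by
  have key : twistAt 𝒜 m x ≤ (twistAt 𝒜 k x).comap (LinearMap.mulRight (A0 𝒜 x) q) := by
    refine Submodule.span_le.mpr ?_
    rintro _ ⟨i, j, a, s, hs, hdeg, rfl⟩
    simp only [Submodule.comap_coe, Set.mem_preimage, SetLike.mem_coe, LinearMap.mulRight_apply]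
    exact mul_mem_twistAt x a.2 s.2 hs (m := n) (m' := k) (by omega) hq
  exact key hp

/-- pointwise product of sections -/
noncomputable def mulSectFun (V : (Opens (ProjectiveSpectrum.top 𝒜))ᵒᵖ) {m n k : ℤ} (h : k = m + n)
    (s : Sec 𝒜 m V) (t : Sec 𝒜 n V) : ∀ x : V.unop, twistAt 𝒜 k x.1 :=
  fun x => ⟨val s x * val t x, mul_mem_twistAt_add x.1 h (s.1 x).2 (t.1 x).2⟩

lemma mulSectFun_pred (V : (Opens (ProjectiveSpectrum.top 𝒜))ᵒᵖ) {m n k : ℤ} (h : k = m + n)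
    (s : Sec 𝒜 m V) (t : Sec 𝒜 n V) : (isLocFracN 𝒜 k).pred (mulSectFun V h s t) := by
  intro x
  obtain ⟨W, hxW, iW, i, j, a, b, hb, hdeg, hw⟩ := s.2 x
  obtain ⟨W', hxW', iW', i', j', a', b', hb', hdeg', hw'⟩ := t.2 x
  refine ⟨W ⊓ W', ⟨hxW, hxW'⟩, Opens.infLELeft _ _ ≫ iW, i + i', j + j',
    ⟨a.1 * a'.1, SetLike.mul_mem_graded a.2 a'.2⟩, ⟨b.1 * b'.1, SetLike.mul_mem_graded b.2 b'.2⟩,
    fun y h => (y.1.isPrime.mem_or_mem h).elim (hb ⟨y.1, y.2.1⟩) (hb' ⟨y.1, y.2.2⟩), ?_, fun y => ?_⟩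
  · rcases hdeg with hdeg | hdeg
    · rcases hdeg' with hdeg' | hdeg'
      · exact Or.inl (by push_cast; omega)
      · exact Or.inr (by simp [hdeg'])
    · exact Or.inr (by simp [hdeg])
  · have e1 := hw ⟨y.1, y.2.1⟩
    have e2 := hw' ⟨y.1, y.2.2⟩
    exact (congrArg₂ (· * ·) e1 e2).trans (frac_mul_frac _ _ _ _ _ _ _)

/-- the multiplication `O(m)(V) × O(n)(V) → O(m+n)(V)`, bilinear over `O(V)` -/
noncomputable def mulSect (V : (Opens (ProjectiveSpectrum.top 𝒜))ᵒᵖ) (m n k : ℤ) (h : k = m + n) :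
    Sec 𝒜 m V →ₗ[O V] Sec 𝒜 n V →ₗ[O V] Sec 𝒜 k V :=
  LinearMap.mk₂ (O V) (fun s t => ⟨mulSectFun V h s t, mulSectFun_pred V h s t⟩)
    (fun s s' t => by apply sec_ext; intro x; exact add_mul _ _ _)
    (fun r s t => by
      apply sec_ext; intro x
      refine Eq.trans ?_ (val_smul r _ x).symm
      refine (congrArg (fun q => q * val t x) (val_smul r s x)).trans ?_
      exact mul_assoc _ _ _)
    (fun s t t' => by apply sec_ext; intro x; exact mul_add _ _ _)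
    (fun r s t => by
      apply sec_ext; intro x
      refine Eq.trans ?_ (val_smul r _ x).symm
      refine (congrArg (fun q => val s x * q) (val_smul r t x)).trans ?_
      exact mul_left_comm _ _ _)

lemma val_mulSect (V : (Opens (ProjectiveSpectrum.top 𝒜))ᵒᵖ) (m n k : ℤ) (h : k = m + n)
    (s : Sec 𝒜 m V) (t : Sec 𝒜 n V) (x : V.unop) :
    val (mulSect V m n k h s t) x = val s x * val t x := rfl





variable (𝒜) in
/-- `O(m)` as a presheaf of modules in the form used by the tensor library -/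
noncomputable abbrev twP (m : ℤ) : PM (Proj 𝒜) := (incl (Proj 𝒜)).obj (twist 𝒜 m)

example (m : ℤ) (V : (Opens (Proj 𝒜))ᵒᵖ) : ((twP 𝒜 m).obj V : Type u) = Sec 𝒜 m V := rfl

/-- the multiplication map on sections as a linear map out of the tensor product -/
noncomputable def mulLin (V : (Opens (Proj 𝒜))ᵒᵖ) (m n k : ℤ) (h : k = m + n) :
    ((twP 𝒜 m).obj V : Type u) ⊗[((Proj 𝒜).presheaf.obj V : Type u)] ((twP 𝒜 n).obj V : Type u)
      →ₗ[((Proj 𝒜).presheaf.obj V : Type u)] ((twP 𝒜 k).obj V : Type u) :=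
  TensorProduct.lift (mulSect V m n k h)





lemma mulLin_tmul (V : (Opens (Proj 𝒜))ᵒᵖ) (m n k : ℤ) (h : k = m + n) (s : Sec 𝒜 m V) (t : Sec 𝒜 n V) :
    mulLin V m n k h (s ⊗ₜ t) = mulSect V m n k h s t := rfl

variable (𝒜) in
/-- the multiplication map of abelian presheaves -/
noncomputable def mulAb (m n k : ℤ) (h : k = m + n) :
    (twP 𝒜 m ⊗ twP 𝒜 n).presheaf ⟶ (twP 𝒜 k).presheaf where
  app V := AddCommGrpCat.ofHom (mulLin V m n k h).toAddMonoidHom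
  naturality {V W} i := by
    ext x
    induction x using TensorProduct.induction_on with
    | zero => exact (map_zero _).trans (map_zero _).symm
    | tmul s t => rfl
    | add x y hx hy =>
      exact (map_add _ x y).trans ((congrArg₂ (· + ·) hx hy).trans (map_add _ x y).symm)

variable (𝒜) in
/-- the multiplication map `O(m) ⊗ O(n) → O(m+n)` of presheaves of modules -/
noncomputable def mulPreHom (m n k : ℤ) (h : k = m + n) : twP 𝒜 m ⊗ twP 𝒜 n ⟶ twP 𝒜 k :=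
  PresheafOfModules.homMk (mulAb 𝒜 m n k h) (fun V r x => (mulLin V m n k h).map_smul r x)

lemma mulPreHom_app_apply (V : (Opens (Proj 𝒜))ᵒᵖ) (m n k : ℤ) (h : k = m + n)
    (x : ((twP 𝒜 m).obj V : Type u) ⊗[((Proj 𝒜).presheaf.obj V : Type u)] ((twP 𝒜 n).obj V : Type u)) :
    (mulPreHom 𝒜 m n k h).app V x = mulLin V m n k h x := rfl





/-- `O(V) → O(m)(V)`, `r ↦ r • (a / b)` -/
noncomputable def genLin (V : (Opens (ProjectiveSpectrum.top 𝒜))ᵒᵖ) {i j : ℕ} (a : 𝒜 i) (b : 𝒜 j)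
    (hb : ∀ x : V.unop, b.1 ∉ x.1.asHomogeneousIdeal) (m : ℤ) (h : m + j = i) :
    O V →ₗ[O V] Sec 𝒜 m V :=
  (mulFracSect V a b hb 0 m (by omega)) ∘ₗ (toTwistZeroSect V)

lemma genLin_bijective (V : (Opens (ProjectiveSpectrum.top 𝒜))ᵒᵖ) {i j : ℕ} (a : 𝒜 i) (b : 𝒜 j)
    (ha : ∀ x : V.unop, a.1 ∉ x.1.asHomogeneousIdeal)
    (hb : ∀ x : V.unop, b.1 ∉ x.1.asHomogeneousIdeal) (m : ℤ) (h : m + j = i) :
    Function.Bijective (genLin V a b hb m h) :=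
  (mulFracSect_bijective V a b ha hb 0 m (by omega)).comp (toTwistZeroSect_bijective V)

/-- the multiplication map, typed over `O V` -/
noncomputable def mulLin' (V : (Opens (ProjectiveSpectrum.top 𝒜))ᵒᵖ) (m n k : ℤ) (h : k = m + n) :
    (Sec 𝒜 m V) ⊗[O V] (Sec 𝒜 n V) →ₗ[O V] Sec 𝒜 k V :=
  TensorProduct.lift (mulSect V m n k h)

lemma mulLin'_bijective (V : (Opens (ProjectiveSpectrum.top 𝒜))ᵒᵖ) (m n k : ℤ) (h : k = m + n)
    {i j : ℕ} (a : 𝒜 i) (b : 𝒜 j)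
    (ha : ∀ x : V.unop, a.1 ∉ x.1.asHomogeneousIdeal)
    (hb : ∀ x : V.unop, b.1 ∉ x.1.asHomogeneousIdeal) (hm : m + j = i) :
    Function.Bijective (mulLin' (𝒜 := 𝒜) V m n k h) := by
  let E1 : O V ≃ₗ[O V] Sec 𝒜 m V := LinearEquiv.ofBijective (genLin V a b hb m hm)
    (genLin_bijective V a b ha hb m hm)
  let T : (O V) ⊗[O V] (Sec 𝒜 n V) ≃ₗ[O V] (Sec 𝒜 m V) ⊗[O V] (Sec 𝒜 n V) :=
    TensorProduct.congr E1 (LinearEquiv.refl _ _)
  let e2 : Sec 𝒜 n V →ₗ[O V] Sec 𝒜 k V := mulFracSect V a b hb n k (by omega)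
  have he2 : Function.Bijective e2 := mulFracSect_bijective V a b ha hb n k (by omega)
  have key : (mulLin' (𝒜 := 𝒜) V m n k h) ∘ₗ T.toLinearMap =
      e2 ∘ₗ (TensorProduct.lid (O V) (Sec 𝒜 n V)).toLinearMap := by
    apply TensorProduct.ext'
    intro r t
    apply sec_ext
    intro x
    change val (mulSect V m n k h (genLin V a b hb m hm r) t) x = val (e2 (r • t)) x
    rw [val_mulSect]
    change (frac x.1 a.1 b.1 (hb x) * (r.1 x).val) * val t x = frac x.1 a.1 b.1 (hb x) * val (r • t) x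
    rw [val_smul, mul_assoc]
  have h2 : (mulLin' (𝒜 := 𝒜) V m n k h : _ → _) =
      (e2 ∘ (TensorProduct.lid (O V) (Sec 𝒜 n V))) ∘ T.symm := by
    funext z
    have := LinearMap.congr_fun key (T.symm z)
    simp only [LinearMap.coe_comp, LinearEquiv.coe_coe, Function.comp_apply,
      LinearEquiv.apply_symm_apply] at this
    exact this
  rw [h2]
  exact (he2.comp (TensorProduct.lid (O V) (Sec 𝒜 n V)).bijective).comp T.symm.bijective

lemma mulLin_bijective (V : (Opens (Proj 𝒜))ᵒᵖ) (m n k : ℤ) (h : k = m + n) {i j : ℕ} (a : 𝒜 i) (b : 𝒜 j)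
    (ha : ∀ x : V.unop, a.1 ∉ x.1.asHomogeneousIdeal)
    (hb : ∀ x : V.unop, b.1 ∉ x.1.asHomogeneousIdeal) (hm : m + j = i) :
    Function.Bijective (mulLin (𝒜 := 𝒜) V m n k h) :=
  mulLin'_bijective V m n k h a b ha hb hm





variable (𝒜) in
/-- near every point there is a unit fraction of degree `m` -/
def HasUnitFrac (m : ℤ) : Prop :=
  ∀ x : Proj 𝒜, ∃ (i j : ℕ) (a : 𝒜 i) (b : 𝒜 j),
    x ∈ Proj.basicOpen 𝒜 a.1 ∧ x ∈ Proj.basicOpen 𝒜 b.1 ∧ m + j = i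

lemma WX_mulPreHom (m n k : ℤ) (h : k = m + n) (hm : HasUnitFrac 𝒜 m) :
    WX (Proj 𝒜) (mulPreHom 𝒜 m n k h) := by
  refine WX_of_bijective_of_isBasis _
    {V | ∃ (i j : ℕ) (a : 𝒜 i) (b : 𝒜 j), V ≤ Proj.basicOpen 𝒜 a.1 ∧ V ≤ Proj.basicOpen 𝒜 b.1 ∧
      m + j = i} ?_ ?_
  · rw [Opens.isBasis_iff_nbhd]
    intro W x hx
    obtain ⟨i, j, a, b, hxa, hxb, hij⟩ := hm x
    exact ⟨W ⊓ Proj.basicOpen 𝒜 a.1 ⊓ Proj.basicOpen 𝒜 b.1,
      ⟨i, j, a, b, inf_le_left.trans inf_le_right, inf_le_right, hij⟩, ⟨⟨hx, hxa⟩, hxb⟩,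
      inf_le_left.trans inf_le_left⟩
  · rintro V ⟨i, j, a, b, hVa, hVb, hij⟩
    exact mulLin_bijective (op V) m n k h a b (fun x => hVa x.2) (fun x => hVb x.2) hij

/-- **`O(m) ⊗ O(n) ≅ O(m + n)`** provided `O(m)` is locally generated by unit fractions -/
noncomputable def twistMulIso (m n k : ℤ) (h : k = m + n) (hm : HasUnitFrac 𝒜 m) :
    CohB1.tensorMod (twist 𝒜 m) (twist 𝒜 n) ≅ twist 𝒜 k :=
  have : IsIso ((shf (Proj 𝒜)).map (mulPreHom 𝒜 m n k h)) :=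
    (WX_iff_isIso _ _).1 (WX_mulPreHom m n k h hm)
  (show (shf (Proj 𝒜)).obj (twP 𝒜 m ⊗ twP 𝒜 n) ≅ (shf (Proj 𝒜)).obj (twP 𝒜 k) from
    asIso ((shf (Proj 𝒜)).map (mulPreHom 𝒜 m n k h))) ≪≫ shfCounitIso (Proj 𝒜) (twist 𝒜 k)



/-- if the `D₊(f)`, `f ∈ 𝒜 1`, cover `Proj 𝒜`, every degree has unit fractions locally -/
lemma hasUnitFrac_of_cover (hcov : (⨆ f : 𝒜 1, Proj.basicOpen 𝒜 (f : A)) = ⊤) (m : ℤ) :
    HasUnitFrac 𝒜 m := by
  intro x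
  have hx : x ∈ (⨆ f : 𝒜 1, Proj.basicOpen 𝒜 (f : A)) := hcov ▸ trivial
  obtain ⟨f, hf⟩ := Opens.mem_iSup.mp hx
  obtain ⟨k, rfl | rfl⟩ := m.eq_nat_or_neg
  · exact ⟨k • 1, 0, ⟨f.1 ^ k, SetLike.pow_mem_graded k f.2⟩, one0 𝒜, pow_not_mem hf k,
      one_not_mem x, by simp⟩
  · exact ⟨0, k • 1, one0 𝒜, ⟨f.1 ^ k, SetLike.pow_mem_graded k f.2⟩, one_not_mem x,
      pow_not_mem hf k, by simp⟩

/-- `O(n) ≅ O(1)^{⊗ n}` when `Proj 𝒜` is covered by the `D₊(f)`, `f ∈ 𝒜 1` -/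
theorem nonempty_twist_iso_tensorPow (hcov : (⨆ f : 𝒜 1, Proj.basicOpen 𝒜 (f : A)) = ⊤) :
    ∀ n : ℕ, Nonempty (twist 𝒜 (n : ℤ) ≅ CohB1.tensorPow (twist 𝒜 1) n)
  | 0 => ⟨twistZeroIso 𝒜⟩
  | n + 1 => by
    obtain ⟨e⟩ := nonempty_twist_iso_tensorPow hcov n
    exact ⟨(twistMulIso (n : ℤ) 1 ((n + 1 : ℕ) : ℤ) (by push_cast; ring)
      (hasUnitFrac_of_cover hcov _)).symm ≪≫ tensorModCongr e (Iso.refl _)⟩

end Groth.Agent.Lib.Proj
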