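import Groth.Agent.Lib.Proj.TwistCore

/-!
# The structure map `R → Γ(Proj 𝒜, O)` pointwise (helper3)

* `toSpecZero_appTop` : the global-sections map of `Proj.toSpecZero 𝒜`.
* `toSpecZero_appTop_apply` : the global function attached to `a ∈ 𝒜 0` has value `a / 1` at every point.
* `toGlobal_val` : for `Proj 𝒜 ⟶ Spec R` the structure morphism, `Coh.toGlobal _ r` has value
  `algebraMap R A r / 1` at every point.
* `smulAb_toGlobal_val` : the action of `r : R` on sections of `O(d)` is pointwise multiplication by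
  `algebraMap R A r / 1`.
-/

set_option autoImplicit false
universe u
open CategoryTheory AlgebraicGeometry Opposite TopologicalSpace

namespace Groth.Agent.Lib.Proj

lemma topIso_inv_appTop (X : Scheme.{u}) :
    X.topIso.inv.appTop = (⊤ : X.Opens).topIso.hom := by
  have h : (⊤ : X.Opens).topIso.inv = X.topIso.hom.appTop := by
    simp only [Scheme.topIso_hom, Scheme.Opens.ι_appTop, Scheme.Opens.topIso_inv]
    rfl
  rw [← cancel_epi (⊤ : X.Opens).topIso.inv, Iso.inv_hom_id, h, ← Scheme.Hom.comp_appTop,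
    Iso.inv_hom_id, Scheme.Hom.id_appTop]

lemma presheaf_map_comp3 {X : Scheme.{u}} {U1 U2 U3 U4 : X.Opens} (a : op U1 ⟶ op U2)
    (b : op U2 ⟶ op U3) (c : op U3 ⟶ op U4) (d : op U1 ⟶ op U4) :
    X.presheaf.map a ≫ X.presheaf.map b ≫ X.presheaf.map c = X.presheaf.map d := by
  rw [← Functor.map_comp, ← Functor.map_comp]
  congr 1

variable {R A : Type u} [CommRing R] [CommRing A] [Algebra R A] (𝒜 : ℕ → Submodule R A)
  [GradedAlgebra 𝒜]

theorem toSpecZero_appTop :
    (Scheme.ΓSpecIso (.of (𝒜 0))).inv ≫ (Proj.toSpecZero 𝒜).appTop =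
      CommRingCat.ofHom (HomogeneousLocalization.fromZeroRingHom 𝒜 _) ≫ Proj.awayToSection 𝒜 1 ≫
        (Proj 𝒜).presheaf.map (homOfLE (by rw [Proj.basicOpen_one])).op := by
  have h2 : (Proj.basicOpenToSpec 𝒜 (1 : A)).appTop = _ := Proj.basicOpenToSpec_app_top 𝒜 1
  simp only [Proj.toSpecZero, Scheme.Hom.comp_appTop, h2, Category.assoc]
  rw [← Scheme.ΓSpecIso_inv_naturality_assoc, Iso.inv_hom_id_assoc]
  congr 2
  simp only [Scheme.isoOfEq_inv, Scheme.homOfLE_appTop, topIso_inv_appTop]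
  simp only [Scheme.Opens.topIso_inv, Scheme.Opens.topIso_hom]
  exact presheaf_map_comp3 _ _ _ _

/-- the global function on `Proj 𝒜` attached to an element of degree zero, pointwise -/
theorem toSpecZero_appTop_apply (a : 𝒜 0) (x : Proj 𝒜) :
    ((((Proj.toSpecZero 𝒜).appTop.hom ((Scheme.ΓSpecIso (.of (𝒜 0))).inv.hom a) :
      (ProjectiveSpectrum.Proj.structureSheaf 𝒜).1.obj (op ⊤)).1 ⟨x, trivial⟩).val :
        Twist.Loc 𝒜 x) = Localization.mk a.1 1 := by
  have h := congrArg (fun m => m.hom a) (toSpecZero_appTop 𝒜)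
  dsimp only at h
  erw [h]
  change (HomogeneousLocalization.mapId 𝒜 _
    (HomogeneousLocalization.fromZeroRingHom 𝒜 _ a)).val = _
  rfl

/-- the structure morphism `Proj 𝒜 ⟶ Spec R` -/
noncomputable abbrev structMor : Proj 𝒜 ⟶ Spec (CommRingCat.of R) :=
  Proj.toSpecZero 𝒜 ≫ Spec.map (CommRingCat.ofHom (algebraMap R (𝒜 0)))

/-- the global function attached to `r : R`, pointwise -/
theorem toGlobal_val (r : R) (x : Proj 𝒜) :
    ((((Coh.toGlobal (structMor 𝒜) r : Coh.Γtop (Proj 𝒜)) :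
      (ProjectiveSpectrum.Proj.structureSheaf 𝒜).1.obj (op ⊤)).1 ⟨x, trivial⟩).val :
        Twist.Loc 𝒜 x) = Localization.mk (algebraMap R A r) 1 := by
  have h1 : (Coh.toGlobal (structMor 𝒜) r : Coh.Γtop (Proj 𝒜)) =
      (Proj.toSpecZero 𝒜).appTop.hom ((Scheme.ΓSpecIso (.of (𝒜 0))).inv.hom
        (algebraMap R (𝒜 0) r)) := by
    have h2 := Scheme.ΓSpecIso_inv_naturality (CommRingCat.ofHom (algebraMap R (𝒜 0)))
    have h3 := congrArg (fun m => (m ≫ (Proj.toSpecZero 𝒜).appTop).hom r) h2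
    dsimp only at h3
    have h4 : (structMor 𝒜).appTop = (Spec.map (CommRingCat.ofHom (algebraMap R (𝒜 0)))).appTop ≫
        (Proj.toSpecZero 𝒜).appTop := Scheme.Hom.comp_appTop _ _
    change (structMor 𝒜).appTop.hom ((Scheme.ΓSpecIso (.of R)).inv.hom r) = _
    rw [h4]
    exact h3.symm
  rw [h1]
  exact toSpecZero_appTop_apply 𝒜 (algebraMap R (𝒜 0) r) x

open Twist in
/-- the action of `r : R` on the sections of `O(d)` is pointwise multiplication by `r / 1` -/
theorem smulAb_toGlobal_val (d : ℤ) (r : R) (W : (Opens (ProjectiveSpectrum.top 𝒜))ᵒᵖ)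
    (σ : Sec 𝒜 d W) (x : W.unop) :
    val (((Coh.smulAb (Twist.twist 𝒜 d) (Coh.toGlobal (structMor 𝒜) r)).hom.app W σ :
      Sec 𝒜 d W)) x = Localization.mk (algebraMap R A r) 1 * val σ x := by
  have h := val_smul (𝒜 := 𝒜) (m := d) (V := W)
    ((Coh.resTop (Proj 𝒜) W (Coh.toGlobal (structMor 𝒜) r) : O W)) σ x
  refine Eq.trans ?_ (h.trans ?_)
  · rfl
  · congr 1
    exact toGlobal_val 𝒜 r x.1

end Groth.Agent.Lib.Proj
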