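import Mathlib
import Groth.Prelude.Def_Twist2
import Groth.Agent.Lib.Proj.Helper66_QCoh

/-!
# Functions `a / b` on opens of `Proj` (helper66)

ns `Groth.Agent.Lib.Proj.FracFn`.
* `fracFn U i a b ha hb hbU : Γ(Proj 𝒜, U)` for `a b ∈ 𝒜 i`, `b` nowhere vanishing on `U`; `fval_fracFn`
* `fval_ext`, `fval_mul`, `fval_one`, `fval_add`, `map_fracFn`
* `fracFn_mul_fracFn`, `fracFn_mul_cancel`, `fracFn_self`, `isUnit_fracFn`
* `basicOpen_fracFn : (Proj 𝒜).basicOpen (fracFn U ..) = U ⊓ D₊(a)`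
-/

set_option autoImplicit false
universe u
open CategoryTheory AlgebraicGeometry Opposite TopologicalSpace

namespace Groth.Agent.Lib.Proj.FracFn

open Groth.Agent.Lib.Proj.QCohTwist

variable {R A : Type u} [CommRing R] [CommRing A] [Algebra R A] {𝒜 : ℕ → Submodule R A}
  [GradedAlgebra 𝒜]

/-- the function `a / b` on `U` -/
noncomputable def fracFn (U : (Proj 𝒜).Opens) (i : ℕ) (a b : A) (ha : a ∈ 𝒜 i) (hb : b ∈ 𝒜 i)
    (hbU : ∀ x : U, b ∉ x.1.asHomogeneousIdeal) : Γ(Proj 𝒜, U) :=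
  (⟨fun x => HomogeneousLocalization.mk ⟨i, ⟨a, ha⟩, ⟨b, hb⟩, hbU x⟩,
    fun x => ⟨U, x.2, 𝟙 _, i, ⟨a, ha⟩, ⟨b, hb⟩, fun y => hbU y, fun _ => rfl⟩⟩ :
    Twist.O (𝒜 := 𝒜) (op U))

lemma fval_fracFn (U : (Proj 𝒜).Opens) (i : ℕ) (a b : A) (ha : a ∈ 𝒜 i) (hb : b ∈ 𝒜 i)
    (hbU : ∀ x : U, b ∉ x.1.asHomogeneousIdeal) (p : U) :
    fval 𝒜 (fracFn U i a b ha hb hbU) p = (Localization.mk a ⟨b, hbU p⟩ : Twist.Loc 𝒜 p.1) :=
  HomogeneousLocalization.val_mk _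

lemma fval_ext {U : (Proj 𝒜).Opens} {r r' : Γ(Proj 𝒜, U)} (h : ∀ p : U, fval 𝒜 r p = fval 𝒜 r' p) :
    r = r' := by
  apply Subtype.ext
  funext p
  exact HomogeneousLocalization.val_injective _ (h p)

lemma fval_mul {U : (Proj 𝒜).Opens} (r r' : Γ(Proj 𝒜, U)) (p : U) :
    fval 𝒜 (r * r') p = fval 𝒜 r p * fval 𝒜 r' p := by
  change ((r : Twist.O (𝒜 := 𝒜) (op U)).1 p * (r' : Twist.O (𝒜 := 𝒜) (op U)).1 p).val = _
  rw [HomogeneousLocalization.val_mul]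

lemma fval_add {U : (Proj 𝒜).Opens} (r r' : Γ(Proj 𝒜, U)) (p : U) :
    fval 𝒜 (r + r') p = fval 𝒜 r p + fval 𝒜 r' p := by
  change ((r : Twist.O (𝒜 := 𝒜) (op U)).1 p + (r' : Twist.O (𝒜 := 𝒜) (op U)).1 p).val = _
  rw [HomogeneousLocalization.val_add]

lemma fval_one {U : (Proj 𝒜).Opens} (p : U) : fval 𝒜 (1 : Γ(Proj 𝒜, U)) p = 1 := by
  change (1 : Twist.A0 𝒜 (p.1 : ProjectiveSpectrum 𝒜)).val = _
  rw [HomogeneousLocalization.val_one]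

lemma map_fracFn {U V : (Proj 𝒜).Opens} (h : V ⟶ U) (i : ℕ) (a b : A) (ha : a ∈ 𝒜 i) (hb : b ∈ 𝒜 i)
    (hbU : ∀ x : U, b ∉ x.1.asHomogeneousIdeal) :
    (Proj 𝒜).presheaf.map h.op (fracFn U i a b ha hb hbU) =
      fracFn V i a b ha hb (fun x => hbU ⟨x.1, h.le x.2⟩) := by
  apply fval_ext
  intro p
  rw [fval_map, fval_fracFn, fval_fracFn]

lemma fracFn_mul_fracFn (U : (Proj 𝒜).Opens) (i j : ℕ) (a b c d : A) (ha : a ∈ 𝒜 i) (hb : b ∈ 𝒜 i)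
    (hc : c ∈ 𝒜 j) (hd : d ∈ 𝒜 j) (hbU : ∀ x : U, b ∉ x.1.asHomogeneousIdeal)
    (hdU : ∀ x : U, d ∉ x.1.asHomogeneousIdeal) :
    fracFn U i a b ha hb hbU * fracFn U j c d hc hd hdU =
      fracFn U (i + j) (a * c) (b * d) (SetLike.mul_mem_graded ha hc) (SetLike.mul_mem_graded hb hd)
        (fun x h => (x.1.isPrime.mem_or_mem h).elim (hbU x) (hdU x)) := by
  apply fval_ext
  intro p
  rw [fval_mul, fval_fracFn, fval_fracFn, fval_fracFn, Localization.mk_mul]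
  rfl

/-- equality of fraction functions by cross-multiplication -/
lemma fracFn_eq_fracFn (U : (Proj 𝒜).Opens) (i j : ℕ) (a b c d : A) (ha : a ∈ 𝒜 i) (hb : b ∈ 𝒜 i)
    (hc : c ∈ 𝒜 j) (hd : d ∈ 𝒜 j) (hbU : ∀ x : U, b ∉ x.1.asHomogeneousIdeal)
    (hdU : ∀ x : U, d ∉ x.1.asHomogeneousIdeal) (h : a * d = c * b) :
    fracFn U i a b ha hb hbU = fracFn U j c d hc hd hdU := by
  apply fval_ext
  intro p
  rw [fval_fracFn, fval_fracFn, Localization.mk_eq_mk_iff, Localization.r_iff_exists]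
  exact ⟨1, by simp only [OneMemClass.coe_one, one_mul]; rw [mul_comm d a, h, mul_comm]⟩

lemma mk_self' (x : ProjectiveSpectrum 𝒜) (b : A) (hb : b ∉ x.asHomogeneousIdeal) :
    (Localization.mk b ⟨b, hb⟩ : Twist.Loc 𝒜 x) = 1 :=
  Localization.mk_self (⟨b, hb⟩ : x.asHomogeneousIdeal.toIdeal.primeCompl)

lemma fracFn_self (U : (Proj 𝒜).Opens) (i : ℕ) (b : A) (hb : b ∈ 𝒜 i)
    (hbU : ∀ x : U, b ∉ x.1.asHomogeneousIdeal) : fracFn U i b b hb hb hbU = 1 := by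
  apply fval_ext
  intro p
  rw [fval_fracFn, fval_one]
  exact mk_self' p.1 b (hbU p)

lemma fracFn_mul_cancel (U : (Proj 𝒜).Opens) (i : ℕ) (a b : A) (ha : a ∈ 𝒜 i) (hb : b ∈ 𝒜 i)
    (haU : ∀ x : U, a ∉ x.1.asHomogeneousIdeal) (hbU : ∀ x : U, b ∉ x.1.asHomogeneousIdeal) :
    fracFn U i a b ha hb hbU * fracFn U i b a hb ha haU = 1 := by
  rw [fracFn_mul_fracFn, ← fracFn_self U (i + i) (a * b) (SetLike.mul_mem_graded ha hb)
    (fun x h => (x.1.isPrime.mem_or_mem h).elim (haU x) (hbU x))]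
  exact fracFn_eq_fracFn _ _ _ _ _ _ _ _ _ _ _ _ _ (by ring)

lemma isUnit_fracFn (U : (Proj 𝒜).Opens) (i : ℕ) (a b : A) (ha : a ∈ 𝒜 i) (hb : b ∈ 𝒜 i)
    (haU : ∀ x : U, a ∉ x.1.asHomogeneousIdeal) (hbU : ∀ x : U, b ∉ x.1.asHomogeneousIdeal) :
    IsUnit (fracFn U i a b ha hb hbU) :=
  IsUnit.of_mul_eq_one _ (fracFn_mul_cancel U i a b ha hb haU hbU)

lemma fracFn_pow (U : (Proj 𝒜).Opens) (i : ℕ) (a b : A) (ha : a ∈ 𝒜 i) (hb : b ∈ 𝒜 i)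
    (hbU : ∀ x : U, b ∉ x.1.asHomogeneousIdeal) (N : ℕ) :
    fracFn U i a b ha hb hbU ^ N = fracFn U (N • i) (a ^ N) (b ^ N) (SetLike.pow_mem_graded N ha)
      (SetLike.pow_mem_graded N hb) (fun x h => hbU x (x.1.isPrime.mem_of_pow_mem N h)) := by
  apply fval_ext
  intro p
  rw [fval_pow, fval_fracFn, fval_fracFn, Localization.mk_pow]
  rfl

/-- the non-vanishing locus of `a / b` on `U` is `U ⊓ D₊(a)` -/
theorem basicOpen_fracFn (U : (Proj 𝒜).Opens) (i : ℕ) (a b : A) (ha : a ∈ 𝒜 i) (hb : b ∈ 𝒜 i)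
    (hbU : ∀ x : U, b ∉ x.1.asHomogeneousIdeal) :
    (Proj 𝒜).basicOpen (fracFn U i a b ha hb hbU) = U ⊓ Proj.basicOpen 𝒜 a := by
  ext x
  constructor
  · intro hx
    obtain ⟨hxU, hu⟩ := (Scheme.mem_basicOpen'' (X := Proj 𝒜) _ x).mp hx
    refine ⟨hxU, ?_⟩
    rw [isUnit_germ_iff] at hu
    have hu' := (congrArg IsUnit (fval_fracFn U i a b ha hb hbU ⟨x, hxU⟩)).mp hu
    rw [Localization.mk_eq_mk', IsLocalization.AtPrime.isUnit_mk'_iff] at hu'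
    exact hu'
  · rintro ⟨hxU, hxa⟩
    refine (Scheme.mem_basicOpen'' (X := Proj 𝒜) _ x).mpr ⟨hxU, ?_⟩
    rw [isUnit_germ_iff]
    refine (congrArg IsUnit (fval_fracFn U i a b ha hb hbU ⟨x, hxU⟩)).mpr ?_
    rw [Localization.mk_eq_mk', IsLocalization.AtPrime.isUnit_mk'_iff]
    exact hxa

end Groth.Agent.Lib.Proj.FracFn
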