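import Mathlib
import Groth.Prelude.Def_Twist2
import Groth.Agent.Lib.Proj.Helper66_FracFn
import Groth.Agent.Lib.QCoh.Helper74_GlueFamily

/-!
# The graded module `Γ_*(F)` of an `O`-module on `Proj` via compatible families (helper66)

`s : Finset A` a set of degree-one elements, `F : (Proj 𝒜).Modules`.
`Mn n` = families `(m_f ∈ F(D₊(f)))_{f ∈ s}` with `m_f = (g/f)^n m_g` on `D₊(f g)` (these are the global
sections of `F(n)` when the `D₊(f)` cover).  `GammaStar = ⨁ n, Mn n` is a graded `A`-module: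
`a ∈ 𝒜 d` acts by `(a • m)_f = (a / f^d) m_f`.

ns `Groth.Agent.Lib.Proj.GammaStar`.
-/

set_option autoImplicit false
universe u
open CategoryTheory AlgebraicGeometry Opposite TopologicalSpace DirectSum

namespace Groth.Agent.Lib.Proj.GammaStar

open Groth.Agent.Lib.Proj.QCohTwist Groth.Agent.Lib.Proj.FracFn Groth.Agent.Lib.QCoh.Glue74

variable {R A : Type u} [CommRing R] [CommRing A] [Algebra R A] (𝒜 : ℕ → Submodule R A)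
  [GradedAlgebra 𝒜] (s : Finset A) (hs1 : ∀ f ∈ s, f ∈ 𝒜 1) (F : (Proj 𝒜).Modules)

lemma pow_mem1 {f : A} (hf : f ∈ 𝒜 1) (d : ℕ) : f ^ d ∈ 𝒜 d := by
  simpa using SetLike.pow_mem_graded d hf

/-- restriction of functions -/
noncomputable abbrev resO {U' U : (Proj 𝒜).Opens} (h : U' ≤ U) (r : Γ(Proj 𝒜, U)) : Γ(Proj 𝒜, U') :=
  (Proj 𝒜).presheaf.map (homOfLE h).op r

/-- `D₊(f)` -/
abbrev D (f : s) : (Proj 𝒜).Opens := Proj.basicOpen 𝒜 (f : A)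

lemma not_mem_of_mem_D {f : s} {U : (Proj 𝒜).Opens} (hU : U ≤ D 𝒜 s f) (x : U) :
    (f : A) ∉ x.1.asHomogeneousIdeal := hU x.2

/-- the function `a / b` on `U`, `a b ∈ 𝒜 d` -/
noncomputable abbrev fr (U : (Proj 𝒜).Opens) (d : ℕ) (a b : A) (ha : a ∈ 𝒜 d) (hb : b ∈ 𝒜 d)
    (hbU : ∀ x : U, b ∉ x.1.asHomogeneousIdeal) : Γ(Proj 𝒜, U) := fracFn U d a b ha hb hbU

lemma pow_not_mem_of_le {f : s} {U : (Proj 𝒜).Opens} (hU : U ≤ D 𝒜 s f) (d : ℕ) (x : U) :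
    (f : A) ^ d ∉ x.1.asHomogeneousIdeal :=
  fun h => hU x.2 (x.1.isPrime.mem_of_pow_mem d h)

/-- the function `a / f ^ d` on `U ≤ D₊(f)` for `a ∈ 𝒜 d` -/
noncomputable def coef (f : s) (U : (Proj 𝒜).Opens) (hU : U ≤ D 𝒜 s f) (d : ℕ) (a : A) (ha : a ∈ 𝒜 d) :
    Γ(Proj 𝒜, U) :=
  fracFn U d a ((f : A) ^ d) ha (pow_mem1 𝒜 (hs1 f f.2) d) (pow_not_mem_of_le 𝒜 s hU d)

/-- the function `(g / f) ^ n` on `U ≤ D₊(f)` -/
noncomputable def ratio (f g : s) (U : (Proj 𝒜).Opens) (hU : U ≤ D 𝒜 s f) (n : ℕ) : Γ(Proj 𝒜, U) :=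
  coef 𝒜 s hs1 f U hU n ((g : A) ^ n) (pow_mem1 𝒜 (hs1 g g.2) n)

lemma fval_coef (f : s) (U : (Proj 𝒜).Opens) (hU : U ≤ D 𝒜 s f) (d : ℕ) (a : A) (ha : a ∈ 𝒜 d) (p : U) :
    fval 𝒜 (coef 𝒜 s hs1 f U hU d a ha) p =
      (Localization.mk a ⟨(f : A) ^ d, pow_not_mem_of_le 𝒜 s hU d p⟩ : Twist.Loc 𝒜 p.1) :=
  fval_fracFn _ _ _ _ _ _ _ _

lemma resO_coef (f : s) {U' U : (Proj 𝒜).Opens} (h : U' ≤ U) (hU : U ≤ D 𝒜 s f) (d : ℕ) (a : A)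
    (ha : a ∈ 𝒜 d) :
    resO 𝒜 h (coef 𝒜 s hs1 f U hU d a ha) = coef 𝒜 s hs1 f U' (h.trans hU) d a ha :=
  map_fracFn _ _ _ _ _ _ _

/-- equality of functions from equality of values, closing with cross-multiplication -/
lemma mk_eq_mk_of_mul_eq (x : ProjectiveSpectrum 𝒜) (a b c d : A) (hb : b ∉ x.asHomogeneousIdeal)
    (hd : d ∉ x.asHomogeneousIdeal) (h : a * d = c * b) :
    (Localization.mk a ⟨b, hb⟩ : Twist.Loc 𝒜 x) = Localization.mk c ⟨d, hd⟩ := by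
  rw [Localization.mk_eq_mk_iff, Localization.r_iff_exists]
  exact ⟨1, by simp only [OneMemClass.coe_one, one_mul]; rw [mul_comm d a, h, mul_comm]⟩

lemma coef_mul_coef (f : s) (U : (Proj 𝒜).Opens) (hU : U ≤ D 𝒜 s f) (d e : ℕ) (a b : A)
    (ha : a ∈ 𝒜 d) (hb : b ∈ 𝒜 e) :
    coef 𝒜 s hs1 f U hU d a ha * coef 𝒜 s hs1 f U hU e b hb =
      coef 𝒜 s hs1 f U hU (d + e) (a * b) (SetLike.mul_mem_graded ha hb) := by
  apply fval_ext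
  intro p
  rw [fval_mul, fval_coef, fval_coef, fval_coef, Localization.mk_mul]
  exact mk_eq_mk_of_mul_eq 𝒜 p.1 _ _ _ _ _ _ (by ring)

lemma coef_one (f : s) (U : (Proj 𝒜).Opens) (hU : U ≤ D 𝒜 s f) :
    coef 𝒜 s hs1 f U hU 0 1 SetLike.GradedOne.one_mem = 1 := by
  apply fval_ext
  intro p
  rw [fval_coef, fval_one]
  have := mk_self' (𝒜 := 𝒜) p.1 1 (fun h => p.1.isPrime.ne_top ((Ideal.eq_top_iff_one _).mpr h))
  rw [← this]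
  exact mk_eq_mk_of_mul_eq 𝒜 p.1 _ _ _ _ _ _ (by simp)

lemma coef_self_pow (f : s) (U : (Proj 𝒜).Opens) (hU : U ≤ D 𝒜 s f) (d : ℕ) :
    coef 𝒜 s hs1 f U hU d ((f : A) ^ d) (pow_mem1 𝒜 (hs1 f f.2) d) = 1 :=
  fracFn_self _ _ _ _ _

lemma coef_add (f : s) (U : (Proj 𝒜).Opens) (hU : U ≤ D 𝒜 s f) (d : ℕ) (a b : A)
    (ha : a ∈ 𝒜 d) (hb : b ∈ 𝒜 d) :
    coef 𝒜 s hs1 f U hU d (a + b) (add_mem ha hb) =
      coef 𝒜 s hs1 f U hU d a ha + coef 𝒜 s hs1 f U hU d b hb := by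
  apply fval_ext
  intro p
  rw [fval_add, fval_coef, fval_coef, fval_coef, Localization.add_mk_self]

lemma coef_zero (f : s) (U : (Proj 𝒜).Opens) (hU : U ≤ D 𝒜 s f) (d : ℕ) :
    coef 𝒜 s hs1 f U hU d 0 (zero_mem _) = 0 := by
  apply fval_ext
  intro p
  rw [fval_coef, Localization.mk_zero]
  change _ = ((0 : Twist.A0 𝒜 (p.1 : ProjectiveSpectrum 𝒜))).val
  rw [HomogeneousLocalization.val_zero]

/-- `(g/f)^n * (a/g^d) = (g/f)^(d+n) ...`: the basic compatibility identity -/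
lemma coef_mul_ratio (f g : s) (U : (Proj 𝒜).Opens) (hUf : U ≤ D 𝒜 s f) (hUg : U ≤ D 𝒜 s g) (d n : ℕ)
    (a : A) (ha : a ∈ 𝒜 d) :
    coef 𝒜 s hs1 f U hUf d a ha * ratio 𝒜 s hs1 f g U hUf n =
      ratio 𝒜 s hs1 f g U hUf (d + n) * coef 𝒜 s hs1 g U hUg d a ha := by
  apply fval_ext
  intro p
  rw [ratio, ratio, fval_mul, fval_mul, fval_coef, fval_coef, fval_coef, fval_coef,
    Localization.mk_mul, Localization.mk_mul]
  exact mk_eq_mk_of_mul_eq 𝒜 p.1 _ _ _ _ _ _ (by ring)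

/-- compatible families of degree `n` -/
def Mn (n : ℕ) : AddSubgroup (∀ f : s, Γ(F, D 𝒜 s f)) where
  carrier := {m | ∀ f g : s, res F (inf_le_left : D 𝒜 s f ⊓ D 𝒜 s g ≤ D 𝒜 s f) (m f) =
    ratio 𝒜 s hs1 f g (D 𝒜 s f ⊓ D 𝒜 s g) inf_le_left n •
      res F (inf_le_right : D 𝒜 s f ⊓ D 𝒜 s g ≤ D 𝒜 s g) (m g)}
  zero_mem' := by
    intro f g
    simp only [Pi.zero_apply, res, map_zero, smul_zero]
  add_mem' := by
    intro m m' hm hm' f g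
    simp only [Pi.add_apply, res_add, smul_add]
    rw [hm f g, hm' f g]
  neg_mem' := by
    intro m hm f g
    simp only [Pi.neg_apply, res, map_neg, smul_neg]
    exact congrArg _ (hm f g)

lemma mem_Mn {n : ℕ} {m : ∀ f : s, Γ(F, D 𝒜 s f)} :
    m ∈ Mn 𝒜 s hs1 F n ↔ ∀ f g : s, res F (inf_le_left : D 𝒜 s f ⊓ D 𝒜 s g ≤ D 𝒜 s f) (m f) =
      ratio 𝒜 s hs1 f g (D 𝒜 s f ⊓ D 𝒜 s g) inf_le_left n •
        res F (inf_le_right : D 𝒜 s f ⊓ D 𝒜 s g ≤ D 𝒜 s g) (m g) := Iff.rfl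

/-- the action of `a ∈ 𝒜 d` on families -/
noncomputable def act (d : ℕ) (a : A) (ha : a ∈ 𝒜 d) (m : ∀ f : s, Γ(F, D 𝒜 s f)) :
    ∀ f : s, Γ(F, D 𝒜 s f) :=
  fun f => coef 𝒜 s hs1 f (D 𝒜 s f) le_rfl d a ha • m f

lemma act_mem (d n : ℕ) (a : A) (ha : a ∈ 𝒜 d) {m : ∀ f : s, Γ(F, D 𝒜 s f)}
    (hm : m ∈ Mn 𝒜 s hs1 F n) : act 𝒜 s hs1 F d a ha m ∈ Mn 𝒜 s hs1 F (d + n) := by
  intro f g
  simp only [act]
  rw [res_smul, res_smul, hm f g, ← mul_smul, ← mul_smul]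
  congr 1
  exact coef_mul_ratio 𝒜 s hs1 f g _ inf_le_left inf_le_right d n a ha


/-! ### The graded module structure -/

noncomputable instance gsmul : GradedMonoid.GSMul (fun i => 𝒜 i) (fun n => Mn 𝒜 s hs1 F n) where
  smul {i j} a m := ⟨act 𝒜 s hs1 F i a.1 a.2 m.1, act_mem 𝒜 s hs1 F i j a.1 a.2 m.2⟩

lemma gsmul_val {i j : ℕ} (a : 𝒜 i) (m : Mn 𝒜 s hs1 F j) (f : s) :
    (GradedMonoid.GSMul.smul (A := fun i => ↥(𝒜 i)) (M := fun n => ↥(Mn 𝒜 s hs1 F n)) a m).1 f =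
      coef 𝒜 s hs1 f (D 𝒜 s f) le_rfl i a.1 a.2 • m.1 f := rfl

noncomputable instance gmulAction :
    GradedMonoid.GMulAction (fun i => 𝒜 i) (fun n => Mn 𝒜 s hs1 F n) :=
  { gsmul 𝒜 s hs1 F with
    one_smul := fun ⟨j, m⟩ => Sigma.subtype_ext (zero_vadd _ _) (by
      funext f
      change coef 𝒜 s hs1 f (D 𝒜 s f) le_rfl 0 1 _ • m.1 f = m.1 f
      rw [coef_one, one_smul])
    mul_smul := fun ⟨i, a⟩ ⟨i', a'⟩ ⟨j, m⟩ => Sigma.subtype_ext (add_vadd _ _ _) (by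
      funext f
      change coef 𝒜 s hs1 f (D 𝒜 s f) le_rfl (i + i') (a.1 * a'.1) _ • m.1 f =
        coef 𝒜 s hs1 f (D 𝒜 s f) le_rfl i a.1 a.2 •
          (coef 𝒜 s hs1 f (D 𝒜 s f) le_rfl i' a'.1 a'.2 • m.1 f)
      rw [← mul_smul, coef_mul_coef]) }

noncomputable instance gmodule : DirectSum.Gmodule (fun i => 𝒜 i) (fun n => Mn 𝒜 s hs1 F n) :=
  { gmulAction 𝒜 s hs1 F with
    smul_add := fun a m m' => Subtype.ext (funext fun f => smul_add _ _ _)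
    smul_zero := fun a => Subtype.ext (funext fun f => smul_zero _)
    add_smul := fun {i j} a a' m => Subtype.ext (funext fun f => by
      change coef 𝒜 s hs1 f (D 𝒜 s f) le_rfl i (a.1 + a'.1) _ • m.1 f =
        coef 𝒜 s hs1 f (D 𝒜 s f) le_rfl i a.1 a.2 • m.1 f +
          coef 𝒜 s hs1 f (D 𝒜 s f) le_rfl i a'.1 a'.2 • m.1 f
      rw [coef_add 𝒜 s hs1 f _ _ i a.1 a'.1 a.2 a'.2, add_smul])
    zero_smul := fun {i j} m => Subtype.ext (funext fun f => by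
      change coef 𝒜 s hs1 f (D 𝒜 s f) le_rfl i 0 _ • m.1 f = 0
      rw [coef_zero, zero_smul]) }

/-- `Γ_*(F) = ⨁ n, Mn n` -/
def GStar : Type u := ⨁ n, Mn 𝒜 s hs1 F n

noncomputable instance : AddCommGroup (GStar 𝒜 s hs1 F) :=
  inferInstanceAs (AddCommGroup (⨁ n, Mn 𝒜 s hs1 F n))

noncomputable instance modDS : Module (⨁ i, 𝒜 i) (GStar 𝒜 s hs1 F) :=
  inferInstanceAs (Module (⨁ i, 𝒜 i) (⨁ n, Mn 𝒜 s hs1 F n))

noncomputable instance modA : Module A (GStar 𝒜 s hs1 F) :=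
  Module.compHom _ (DirectSum.decomposeRingEquiv 𝒜).toRingHom

noncomputable instance modR : Module R (GStar 𝒜 s hs1 F) :=
  Module.compHom _ (algebraMap R A)

instance : IsScalarTower R A (GStar 𝒜 s hs1 F) :=
  IsScalarTower.of_algebraMap_smul fun _ _ => rfl

/-- the inclusion of the degree `n` part -/
noncomputable def ofN (n : ℕ) : Mn 𝒜 s hs1 F n →+ GStar 𝒜 s hs1 F :=
  DirectSum.of (fun n => Mn 𝒜 s hs1 F n) n

lemma smul_def (a : A) (z : GStar 𝒜 s hs1 F) :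
    a • z = (DirectSum.decompose 𝒜 a : ⨁ i, 𝒜 i) • (show ⨁ n, Mn 𝒜 s hs1 F n from z) := rfl

lemma smul_ofN {d n : ℕ} (a : A) (ha : a ∈ 𝒜 d) (m : Mn 𝒜 s hs1 F n) :
    a • ofN 𝒜 s hs1 F n m =
      ofN 𝒜 s hs1 F (d + n) ⟨act 𝒜 s hs1 F d a ha m.1, act_mem 𝒜 s hs1 F d n a ha m.2⟩ := by
  change (DirectSum.decompose 𝒜 a : ⨁ i, 𝒜 i) • (DirectSum.of (fun n => Mn 𝒜 s hs1 F n) n m) =
    DirectSum.of (fun n => Mn 𝒜 s hs1 F n) (d + n)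
      ⟨act 𝒜 s hs1 F d a ha m.1, act_mem 𝒜 s hs1 F d n a ha m.2⟩
  rw [DirectSum.decompose_of_mem 𝒜 ha]
  exact DirectSum.Gmodule.of_smul_of (fun i => 𝒜 i) (fun n => Mn 𝒜 s hs1 F n) (⟨a, ha⟩ : 𝒜 d) m

lemma ofN_mem_range_of_eq {i j : ℕ} (h : i = j) (m : Mn 𝒜 s hs1 F i) :
    ofN 𝒜 s hs1 F i m ∈ Set.range (ofN 𝒜 s hs1 F j) := by
  subst h
  exact ⟨m, rfl⟩

/-- the grading -/
def grading (n : ℕ) : Submodule R (GStar 𝒜 s hs1 F) where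
  carrier := Set.range (ofN 𝒜 s hs1 F n)
  add_mem' := by
    rintro _ _ ⟨m, rfl⟩ ⟨m', rfl⟩
    exact ⟨m + m', map_add _ _ _⟩
  zero_mem' := ⟨0, map_zero _⟩
  smul_mem' := by
    rintro r _ ⟨m, rfl⟩
    change (algebraMap R A r) • ofN 𝒜 s hs1 F n m ∈ _
    rw [smul_ofN 𝒜 s hs1 F (algebraMap R A r) (SetLike.algebraMap_mem_graded 𝒜 r) m]
    exact ofN_mem_range_of_eq 𝒜 s hs1 F (zero_add n) _

lemma mem_grading {n : ℕ} {z : GStar 𝒜 s hs1 F} :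
    z ∈ grading 𝒜 s hs1 F n ↔ ∃ m, ofN 𝒜 s hs1 F n m = z := Iff.rfl

instance : SetLike.GradedSMul 𝒜 (grading 𝒜 s hs1 F) where
  smul_mem := by
    rintro i j a _ ha ⟨m, rfl⟩
    rw [smul_ofN 𝒜 s hs1 F a ha m]
    exact ⟨_, rfl⟩


/-- the component map into the `n`-th graded piece -/
noncomputable def toPiece (n : ℕ) : Mn 𝒜 s hs1 F n →+ grading 𝒜 s hs1 F n where
  toFun m := ⟨ofN 𝒜 s hs1 F n m, ⟨m, rfl⟩⟩
  map_zero' := Subtype.ext (map_zero _)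
  map_add' m m' := Subtype.ext (map_add _ _ _)

/-- the decomposition map -/
noncomputable def decomp : GStar 𝒜 s hs1 F →+ ⨁ n, grading 𝒜 s hs1 F n :=
  DirectSum.toAddMonoid (β := fun n => Mn 𝒜 s hs1 F n)
    (fun n => (DirectSum.of (fun n => grading 𝒜 s hs1 F n) n).comp (toPiece 𝒜 s hs1 F n))

lemma decomp_ofN (n : ℕ) (m : Mn 𝒜 s hs1 F n) :
    decomp 𝒜 s hs1 F (ofN 𝒜 s hs1 F n m) =
      DirectSum.of (fun n => grading 𝒜 s hs1 F n) n (toPiece 𝒜 s hs1 F n m) :=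
  DirectSum.toAddMonoid_of _ _ _

noncomputable instance decomposition : DirectSum.Decomposition (grading 𝒜 s hs1 F) :=
  DirectSum.Decomposition.ofAddHom _ (decomp 𝒜 s hs1 F)
    (by
      refine DirectSum.addHom_ext (β := fun n => Mn 𝒜 s hs1 F n) fun n m => ?_
      change DirectSum.coeAddMonoidHom _ (decomp 𝒜 s hs1 F (ofN 𝒜 s hs1 F n m)) = ofN 𝒜 s hs1 F n m
      rw [decomp_ofN, DirectSum.coeAddMonoidHom_of]
      rfl)
    (by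
      refine DirectSum.addHom_ext fun n z => ?_
      obtain ⟨z, m, rfl⟩ := z
      change decomp 𝒜 s hs1 F (DirectSum.coeAddMonoidHom _ (DirectSum.of _ n _)) = DirectSum.of _ n _
      rw [DirectSum.coeAddMonoidHom_of]
      exact decomp_ofN 𝒜 s hs1 F n m)

/-- the `f`-component of the degree `n` part of `z` -/
noncomputable def cmp (z : GStar 𝒜 s hs1 F) (n : ℕ) (f : s) : Γ(F, D 𝒜 s f) :=
  ((show ⨁ n, Mn 𝒜 s hs1 F n from z) n).1 f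

lemma cmp_ofN (n : ℕ) (m : Mn 𝒜 s hs1 F n) (f : s) : cmp 𝒜 s hs1 F (ofN 𝒜 s hs1 F n m) n f = m.1 f := by
  change ((DirectSum.of (fun n => Mn 𝒜 s hs1 F n) n m) n).1 f = m.1 f
  rw [DirectSum.of_eq_same]

lemma cmp_add (z z' : GStar 𝒜 s hs1 F) (n : ℕ) (f : s) :
    cmp 𝒜 s hs1 F (z + z') n f = cmp 𝒜 s hs1 F z n f + cmp 𝒜 s hs1 F z' n f := rfl

lemma cmp_zero (n : ℕ) (f : s) : cmp 𝒜 s hs1 F 0 n f = 0 := rfl

/-- compatibility of the components -/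
lemma cmp_compat (z : GStar 𝒜 s hs1 F) (n : ℕ) (f g : s) :
    res F (inf_le_left : D 𝒜 s f ⊓ D 𝒜 s g ≤ D 𝒜 s f) (cmp 𝒜 s hs1 F z n f) =
      ratio 𝒜 s hs1 f g (D 𝒜 s f ⊓ D 𝒜 s g) inf_le_left n •
        res F (inf_le_right : D 𝒜 s f ⊓ D 𝒜 s g ≤ D 𝒜 s g) (cmp 𝒜 s hs1 F z n g) :=
  ((show ⨁ n, Mn 𝒜 s hs1 F n from z) n).2 f g

/-- the action on components -/
lemma cmp_smul {d e : ℕ} {a : A} (ha : a ∈ 𝒜 d) {z : GStar 𝒜 s hs1 F} (hz : z ∈ grading 𝒜 s hs1 F e)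
    (f : s) :
    cmp 𝒜 s hs1 F (a • z) (d + e) f =
      coef 𝒜 s hs1 f (D 𝒜 s f) le_rfl d a ha • cmp 𝒜 s hs1 F z e f := by
  obtain ⟨m, rfl⟩ := hz
  rw [smul_ofN 𝒜 s hs1 F a ha m, cmp_ofN, cmp_ofN]
  rfl

/-- a homogeneous element is determined by its components -/
lemma eq_zero_of_cmp {e : ℕ} {z : GStar 𝒜 s hs1 F} (hz : z ∈ grading 𝒜 s hs1 F e)
    (h : ∀ f, cmp 𝒜 s hs1 F z e f = 0) : z = 0 := by
  obtain ⟨m, rfl⟩ := hz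
  have : m = 0 := Subtype.ext (funext fun f => by rw [← cmp_ofN 𝒜 s hs1 F e m f, h f]; rfl)
  rw [this, map_zero]

/-- every compatible family is the family of components of a homogeneous element -/
lemma exists_of_family {e : ℕ} (q : ∀ f : s, Γ(F, D 𝒜 s f)) (hq : q ∈ Mn 𝒜 s hs1 F e) :
    ∃ z ∈ grading 𝒜 s hs1 F e, ∀ f, cmp 𝒜 s hs1 F z e f = q f :=
  ⟨ofN 𝒜 s hs1 F e ⟨q, hq⟩, ⟨_, rfl⟩, fun f => cmp_ofN 𝒜 s hs1 F e ⟨q, hq⟩ f⟩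

end Groth.Agent.Lib.Proj.GammaStar
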