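import Mathlib
import Groth.Prelude.Def_GrMod2
import Groth.Agent.Lib.Proj.Helper66_QCoh
import Groth.Agent.Lib.Helper18.GrTildeBasic
import Groth.Agent.S3586

/-!
# Quasi-coherence of `M(n)~` on `Proj` of an arbitrary graded ring (helper66)

ns `Groth.Agent.Lib.Proj.QCohTilde`: `mval` (value of a section of `M(n)~` at a point, in `M_x`), `mval_map`,
`mval_smul`, `mval_ext`, `tilde_surj`, `tilde_inj`, `tilde_isQuasicoherent`.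
-/

set_option autoImplicit false
set_option linter.unusedSectionVars false
universe u
open CategoryTheory AlgebraicGeometry Opposite TopologicalSpace

namespace Groth.Agent.Lib.Proj.QCohTilde

open Groth.Agent.Lib.Proj.QCohTwist

variable {R A : Type u} [CommRing R] [CommRing A] [Algebra R A] (𝒜 : ℕ → Submodule R A)
  [GradedAlgebra 𝒜]
  {M : Type u} [AddCommGroup M] [Module R M] [Module A M] [IsScalarTower R A M]
  (ℳ : ℕ → Submodule R M) [DirectSum.Decomposition ℳ] [SetLike.GradedSMul 𝒜 ℳ]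

/-- value of a section of `M(n)~` at a point -/
noncomputable abbrev mval (n : ℤ) {U : (Proj 𝒜).Opens} (x : Γ(GrTilde.tilde 𝒜 ℳ n, U)) (p : U) :
    GrTilde.LocMod 𝒜 (M := M) p.1 :=
  (((x : GrTilde.sect 𝒜 ℳ n (op U)).1 p : GrTilde.tildeAt 𝒜 ℳ n p.1) :
    GrTilde.LocMod 𝒜 (M := M) p.1)

lemma mval_map (n : ℤ) {U V : (Proj 𝒜).Opens} (i : V ⟶ U) (x : Γ(GrTilde.tilde 𝒜 ℳ n, U)) (p : V) :
    mval 𝒜 ℳ n ((GrTilde.tilde 𝒜 ℳ n).presheaf.map i.op x) p = mval 𝒜 ℳ n x ⟨p.1, i.le p.2⟩ := rfl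

lemma mval_smul (n : ℤ) {U : (Proj 𝒜).Opens} (r : Γ(Proj 𝒜, U)) (x : Γ(GrTilde.tilde 𝒜 ℳ n, U))
    (p : U) : mval 𝒜 ℳ n (r • x) p = fval 𝒜 r p • mval 𝒜 ℳ n x p := by
  change (((r : Twist.O (𝒜 := 𝒜) (op U)).1 p • (x : GrTilde.sect 𝒜 ℳ n (op U)).1 p :
    GrTilde.tildeAt 𝒜 ℳ n p.1) : GrTilde.LocMod 𝒜 (M := M) p.1) = _
  exact GrTilde.coe_smul_val n p.1 _ _

lemma mval_ext (n : ℤ) {U : (Proj 𝒜).Opens} {x y : Γ(GrTilde.tilde 𝒜 ℳ n, U)}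
    (h : ∀ p : U, mval 𝒜 ℳ n x p = mval 𝒜 ℳ n y p) : x = y := by
  apply Subtype.ext
  funext p
  exact Subtype.ext (h p)

lemma mval_zero (n : ℤ) {U : (Proj 𝒜).Opens} (p : U) :
    mval 𝒜 ℳ n (0 : Γ(GrTilde.tilde 𝒜 ℳ n, U)) p = 0 := rfl

/-- **Surjectivity part** for `M(n)~`. -/
theorem tilde_surj (n : ℤ) {d : ℕ} (hd : 0 < d) {f : A} (hf : f ∈ 𝒜 d) {k : ℕ} {b : A}
    (hb : b ∈ 𝒜 (k * d)) (W : (Proj 𝒜).Opens) (hW : W = Proj.basicOpen 𝒜 (f * b))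
    (hWV : W ≤ Proj.basicOpen 𝒜 f) (y : Γ(GrTilde.tilde 𝒜 ℳ n, W)) :
    ∃ (N : ℕ) (x : Γ(GrTilde.tilde 𝒜 ℳ n, Proj.basicOpen 𝒜 f)), ∀ p : W,
      mval 𝒜 ℳ n x ⟨p.1, hWV p.2⟩ =
        (Localization.mk b ⟨f ^ k, fun h => (ProjectiveSpectrum.mem_basicOpen 𝒜 f p.1).mp (hWV p.2)
            (p.1.isPrime.mem_of_pow_mem k h)⟩ : Twist.Loc 𝒜 p.1) ^ N • mval 𝒜 ℳ n y p := by
  subst hW
  have hfb : f * b ∈ 𝒜 (d + k * d) := SetLike.mul_mem_graded hf hb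
  obtain ⟨j, i, a, hi, hy⟩ := Groth.Agent.S3586.result 𝒜 ℳ n (d := d + k * d) (by omega) hfb y
  have hfm : f ^ ((k + 1) * j) ∈ 𝒜 ((k + 1) * j * d) := by
    have := SetLike.pow_mem_graded ((k + 1) * j) hf
    simpa [smul_eq_mul] using this
  have hij : (i : ℤ) = (((k + 1) * j * d : ℕ) : ℤ) + n := by
    rw [hi]; push_cast; ring
  have hle : ProjectiveSpectrum.basicOpen 𝒜 f ≤ ProjectiveSpectrum.basicOpen 𝒜 (f ^ ((k + 1) * j)) := by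
    intro p hp
    rw [ProjectiveSpectrum.mem_basicOpen] at hp ⊢
    exact fun h => hp (p.isPrime.mem_of_pow_mem _ h)
  refine ⟨j, GrTilde.res 𝒜 ℳ n (homOfLE hle).op
    (Groth.Agent.Lib.Helper18.GrTildeBasic.fracSect 𝒜 ℳ n a ⟨f ^ ((k + 1) * j), hfm⟩ hij),
    fun p => ?_⟩
  have h1 := hy p
  change (LocalizedModule.mk a.1 _ : GrTilde.LocMod 𝒜 (M := M) p.1) = _
  refine Eq.trans ?_ (congrArg (fun q => _ • q) h1.symm)
  rw [Localization.mk_pow, LocalizedModule.mk_smul_mk, LocalizedModule.mk_eq]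
  refine ⟨1, ?_⟩
  simp only [one_smul, Submonoid.smul_def, Submonoid.coe_mul, SubmonoidClass.coe_pow, ← mul_smul]
  congr 1
  ring

/-- **Injectivity part** for `M(n)~`. -/
theorem tilde_inj (n : ℤ) {d : ℕ} (hd : 0 < d) {f : A} (hf : f ∈ 𝒜 d) {k : ℕ} {b : A}
    (hb : b ∈ 𝒜 (k * d)) (W : (Proj 𝒜).Opens) (hW : W = Proj.basicOpen 𝒜 (f * b))
    (hWV : W ≤ Proj.basicOpen 𝒜 f) (x : Γ(GrTilde.tilde 𝒜 ℳ n, Proj.basicOpen 𝒜 f))
    (hx : ∀ p : W, mval 𝒜 ℳ n x ⟨p.1, hWV p.2⟩ = 0) :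
    ∃ N : ℕ, ∀ p : Proj.basicOpen 𝒜 f,
      (Localization.mk b ⟨f ^ k, fun h => (ProjectiveSpectrum.mem_basicOpen 𝒜 f p.1).mp p.2
            (p.1.isPrime.mem_of_pow_mem k h)⟩ : Twist.Loc 𝒜 p.1) ^ N • mval 𝒜 ℳ n x p = 0 := by
  subst hW
  have hfb : f * b ∈ 𝒜 (d + k * d) := SetLike.mul_mem_graded hf hb
  obtain ⟨j, i, a, hi, hxa⟩ := Groth.Agent.S3586.result 𝒜 ℳ n hd hf x
  obtain ⟨N, hN⟩ := Groth.Agent.Lib.Helper18.GrTildeBasic.exists_pow_smul_eq_zero 𝒜 ℳ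
    (d := d + k * d) (by omega) hfb i a.1 a.2
    (fun p hp => by
      have hp' : p ∈ Proj.basicOpen 𝒜 (f * b) := hp
      have h1 := hx ⟨p, hp'⟩
      have h2 := hxa ⟨p, hWV hp'⟩
      exact Groth.Agent.Lib.Helper18.GrTildeBasic.exists_smul_eq_zero_of_mk_eq_zero 𝒜 p a.1 _
        (h2.symm.trans h1))
  refine ⟨N, fun p => ?_⟩
  have h2 := hxa p
  refine (congrArg (fun q => _ • q) h2).trans ?_
  rw [Localization.mk_pow, LocalizedModule.mk_smul_mk, ← LocalizedModule.zero_mk 1,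
    LocalizedModule.mk_eq]
  refine ⟨⟨f ^ N, fun hh => (ProjectiveSpectrum.mem_basicOpen 𝒜 f p.1).mp p.2
    (p.1.isPrime.mem_of_pow_mem N hh)⟩, ?_⟩
  simp only [one_smul, Submonoid.smul_def, smul_zero, ← mul_smul]
  rw [← mul_pow]
  exact hN

/-- **`M(n)~` is quasi-coherent on `Proj` of any graded ring.** -/
theorem tilde_isQuasicoherent (n : ℤ) : (GrTilde.tilde 𝒜 ℳ n).IsQuasicoherent := by
  refine Groth.Agent.Lib.QCoh.LocCrit.isQuasicoherent_of_elementwise _ _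
    (isOpenCover_basicOpen 𝒜) ?_ ?_ ?_
  · rintro ⟨f, d, hd, hf⟩
    exact Proj.isAffineOpen_basicOpen 𝒜 f hf hd
  · rintro ⟨f, d, hd, hf⟩ g y
    obtain ⟨k, b, hb, hg⟩ := exists_frac_fn 𝒜 hd hf g
    have e := basicOpen_eq 𝒜 g k b hg
    obtain ⟨N, x, hx⟩ := tilde_surj 𝒜 ℳ n hd hf hb _ e ((Proj 𝒜).basicOpen_le g) y
    refine ⟨N, x, mval_ext 𝒜 ℳ n fun p => ?_⟩
    rw [mval_map, mval_smul, fval_pow, fval_map]
    refine (hx p).trans ?_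
    congr 2
    exact (hg ⟨p.1, (Proj 𝒜).basicOpen_le g p.2⟩).symm
  · rintro ⟨f, d, hd, hf⟩ g x hx
    obtain ⟨k, b, hb, hg⟩ := exists_frac_fn 𝒜 hd hf g
    have e := basicOpen_eq 𝒜 g k b hg
    obtain ⟨N, hN⟩ := tilde_inj 𝒜 ℳ n hd hf hb _ e ((Proj 𝒜).basicOpen_le g) x
      (fun p => by
        have := congrArg (fun s => mval 𝒜 ℳ n s p) hx
        exact this)
    refine ⟨N, mval_ext 𝒜 ℳ n fun p => ?_⟩
    rw [mval_smul, fval_pow, mval_zero]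
    refine Eq.trans ?_ (hN p)
    congr 2
    exact hg _

end Groth.Agent.Lib.Proj.QCohTilde
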