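import Mathlib
import Groth.Agent.Lib.Helper18.ProjBasic

/-!
# Graded rings with finitely generated irrelevant ideal (helper66)

ns `Groth.Agent.Lib.Proj.FinGen`.  For `𝒜 : ℕ → Submodule R A` with `𝒜₊` finitely generated:
* `exists_finset_homogeneous_span`: `𝒜₊ = span T`, `T` a FINITE set of homogeneous elements of positive degree;
* `exists_finset_gen`: every `𝒜 t` is generated over `𝒜 0` by a finite set `B ⊆ 𝒜 t`;
* `exists_bound_le_span_pow`: for `d > 0` there is `T₀` with `𝒜 t ≤ span {x ^ d | x ∈ T}` for `t ≥ T₀`.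
-/

set_option autoImplicit false
universe u
open DirectSum

namespace Groth.Agent.Lib.Proj.FinGen

variable {R A : Type u} [CommRing R] [CommRing A] [Algebra R A] (𝒜 : ℕ → Submodule R A)
  [GradedAlgebra 𝒜]

/-- a finitely generated irrelevant ideal is generated by finitely many homogeneous elements of positive
degree -/
theorem exists_finset_homogeneous_span (hfg : (HomogeneousIdeal.irrelevant 𝒜).toIdeal.FG) :
    ∃ (T : Finset A) (δ : A → ℕ), (∀ x ∈ T, 0 < δ x ∧ x ∈ 𝒜 (δ x)) ∧
      (HomogeneousIdeal.irrelevant 𝒜).toIdeal = Ideal.span (T : Set A) := by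
  classical
  obtain ⟨T₀, hT₀⟩ := hfg
  let T : Finset A := T₀.biUnion fun t =>
    (DirectSum.decompose 𝒜 t).support.image (fun i => (DirectSum.decompose 𝒜 t i : A))
  have hT : ∀ x ∈ T, ∃ d : ℕ, 0 < d ∧ x ∈ 𝒜 d := by
    intro x hx
    obtain ⟨t, ht, hx⟩ := Finset.mem_biUnion.mp hx
    obtain ⟨i, hi, rfl⟩ := Finset.mem_image.mp hx
    have htI : t ∈ (HomogeneousIdeal.irrelevant 𝒜).toIdeal := by
      rw [← hT₀]; exact Ideal.subset_span ht
    refine ⟨i, ?_, Subtype.prop _⟩
    rw [Nat.pos_iff_ne_zero]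
    rintro rfl
    rw [DFinsupp.mem_support_iff] at hi
    apply hi
    have : (DirectSum.decompose 𝒜 t 0 : A) = 0 := htI
    exact Subtype.ext this
  refine ⟨T, fun x => if h : ∃ d : ℕ, 0 < d ∧ x ∈ 𝒜 d then h.choose else 0, ?_, ?_⟩
  · intro x hx
    have h := hT x hx
    simp only [dif_pos h]
    exact h.choose_spec
  · apply le_antisymm
    · rw [← hT₀, Ideal.span_le]
      intro t ht
      rw [SetLike.mem_coe, ← DirectSum.sum_support_decompose 𝒜 t]
      apply Ideal.sum_mem
      intro i hi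
      apply Ideal.subset_span
      exact Finset.mem_biUnion.mpr ⟨t, ht, Finset.mem_image.mpr ⟨i, hi, rfl⟩⟩
    · rw [Ideal.span_le]
      intro x hx
      obtain ⟨d, hd, hxd⟩ := hT x hx
      exact HomogeneousIdeal.mem_irrelevant_of_mem 𝒜 hd hxd

/-- the degree-`t` component of an element of the ideal generated by homogeneous elements is a combination with
homogeneous coefficients -/
theorem decompose_mem_of_mem_span (T : Finset A) (δ : A → ℕ) (hT : ∀ x ∈ T, x ∈ 𝒜 (δ x))
    {a : A} (ha : a ∈ Ideal.span (T : Set A)) (t : ℕ) :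
    ∃ u : A → A, (∀ x ∈ T, δ x ≤ t → u x ∈ 𝒜 (t - δ x)) ∧
      (DirectSum.decompose 𝒜 a t : A) = ∑ x ∈ T.filter (fun x => δ x ≤ t), u x * x := by
  classical
  obtain ⟨v, hv⟩ := (Submodule.mem_span_finset).mp ha
  refine ⟨fun x => (DirectSum.decompose 𝒜 (v x) (t - δ x) : A), fun x _ _ => Subtype.prop _, ?_⟩
  rw [← hv.2, DirectSum.decompose_sum, DFinsupp.finsetSum_apply, AddSubmonoidClass.coe_finsetSum,
    Finset.sum_filter]
  refine Finset.sum_congr rfl fun x hx => ?_
  rw [smul_eq_mul]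
  split_ifs with h
  · exact DirectSum.coe_decompose_mul_of_right_mem_of_le 𝒜 (hT x hx) h
  · exact DirectSum.coe_decompose_mul_of_right_mem_of_not_le 𝒜 (hT x hx) h

/-- every graded piece is finitely generated over the degree-zero part -/
theorem exists_finset_gen (hfg : (HomogeneousIdeal.irrelevant 𝒜).toIdeal.FG) (t : ℕ) :
    ∃ B : Finset A, (∀ b ∈ B, b ∈ 𝒜 t) ∧ ∀ a ∈ 𝒜 t,
      a ∈ AddSubmonoid.closure {y : A | ∃ c ∈ 𝒜 0, ∃ b ∈ B, y = c * b} := by
  classical
  obtain ⟨T, δ, hT, hspan⟩ := exists_finset_homogeneous_span 𝒜 hfg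
  induction t using Nat.strong_induction_on with
  | _ t ih =>
    rcases Nat.eq_zero_or_pos t with rfl | ht
    · refine ⟨{1}, fun b hb => ?_, fun a ha => ?_⟩
      · rw [Finset.mem_singleton.mp hb]; exact SetLike.GradedOne.one_mem
      · exact AddSubmonoid.subset_closure ⟨a, ha, 1, Finset.mem_singleton_self 1, (mul_one a).symm⟩
    · let B' : ℕ → Finset A := fun m => if h : m < t then (ih m h).choose else ∅
      have hB' : ∀ m, m < t → (∀ b ∈ B' m, b ∈ 𝒜 m) ∧ ∀ a ∈ 𝒜 m,
          a ∈ AddSubmonoid.closure {y : A | ∃ c ∈ 𝒜 0, ∃ b ∈ B' m, y = c * b} := by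
        intro m hm
        simp only [B', dif_pos hm]
        exact (ih m hm).choose_spec
      let B : Finset A := (T.filter (fun x => δ x ≤ t)).biUnion
        (fun x => (B' (t - δ x)).image (fun b => b * x))
      refine ⟨B, fun b hb => ?_, fun a ha => ?_⟩
      · obtain ⟨x, hx, hb⟩ := Finset.mem_biUnion.mp hb
        obtain ⟨b', hb', rfl⟩ := Finset.mem_image.mp hb
        obtain ⟨hxT, hxt⟩ := Finset.mem_filter.mp hx
        have hδ := (hT x hxT).1
        have h1 := (hB' (t - δ x) (by omega)).1 b' hb'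
        have h2 := SetLike.mul_mem_graded h1 (hT x hxT).2
        have e : t - δ x + δ x = t := by omega
        rwa [e] at h2
      · have haI : a ∈ Ideal.span (T : Set A) := by
          rw [← hspan]; exact HomogeneousIdeal.mem_irrelevant_of_mem 𝒜 ht ha
        obtain ⟨u, hu, hsum⟩ := decompose_mem_of_mem_span 𝒜 T δ (fun x hx => (hT x hx).2) haI t
        rw [DirectSum.decompose_of_mem_same 𝒜 ha] at hsum
        rw [hsum]
        refine AddSubmonoid.sum_mem _ fun x hx => ?_
        obtain ⟨hxT, hxt⟩ := Finset.mem_filter.mp hx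
        have hδ := (hT x hxT).1
        have h1 := (hB' (t - δ x) (by omega)).2 (u x) (hu x hxT hxt)
        generalize u x = w at h1
        induction h1 using AddSubmonoid.closure_induction with
        | zero => rw [zero_mul]; exact zero_mem _
        | add y z _ _ hy hz => rw [add_mul]; exact add_mem hy hz
        | mem y hy =>
          obtain ⟨c, hc, b, hb, rfl⟩ := hy
          refine AddSubmonoid.subset_closure ⟨c, hc, b * x, ?_, mul_assoc _ _ _⟩
          exact Finset.mem_biUnion.mpr ⟨x, hx, Finset.mem_image.mpr ⟨b, hb, rfl⟩⟩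

/-- for `d > 0` the graded pieces of large degree lie in the ideal generated by the `d`-th powers of the
generators -/
theorem exists_bound_le_span_pow [DecidableEq A] (T : Finset A) (δ : A → ℕ) (hT : ∀ x ∈ T, 0 < δ x ∧ x ∈ 𝒜 (δ x))
    (hspan : (HomogeneousIdeal.irrelevant 𝒜).toIdeal = Ideal.span (T : Set A)) (d : ℕ) :
    ∃ T₀ : ℕ, ∀ t, T₀ ≤ t → ∀ a ∈ 𝒜 t,
      a ∈ Ideal.span ((T.image (fun x => x ^ d) : Finset A) : Set A) := by
  have hrad : (HomogeneousIdeal.irrelevant 𝒜).toIdeal ≤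
      (Ideal.span ((T.image (fun x => x ^ d) : Finset A) : Set A)).radical := by
    rw [hspan, Ideal.span_le]
    intro x hx
    exact ⟨d, Ideal.subset_span (Finset.mem_coe.mpr (Finset.mem_image.mpr ⟨x, hx, rfl⟩))⟩
  have hfg : (HomogeneousIdeal.irrelevant 𝒜).toIdeal.FG := ⟨T, hspan.symm⟩
  obtain ⟨K, hK⟩ := Ideal.exists_pow_le_of_le_radical_of_fg hrad hfg
  refine ⟨K * (T.sup δ) + 1, fun t ht a ha => ?_⟩
  have h1 := Groth.Agent.Lib.Helper18.ProjBasic.graded_piece_le_irrelevant_pow 𝒜 (T : Set A) (T.sup δ)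
    (fun x hx => ⟨δ x, (hT x hx).1, Finset.le_sup (f := δ) hx, (hT x hx).2⟩) hspan K t ht a ha
  exact hK (Ideal.pow_le_pow_right (Nat.le_succ K) h1)

end Groth.Agent.Lib.Proj.FinGen
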