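import Mathlib
import Groth.Agent.Lib.Proj.Helper66_QCohTilde
import Groth.Agent.Lib.Proj.Helper66_FinGen
import Groth.Agent.S3562

/-!
# Finite type of `M~` on `Proj` under (TF) (helper66)

ns `Groth.Agent.Lib.Proj.TildeFinite`.
-/

set_option autoImplicit false
set_option linter.unusedSectionVars false
universe u
open CategoryTheory AlgebraicGeometry Opposite TopologicalSpace DirectSum

namespace Groth.Agent.Lib.Proj.TildeFinite

open Groth.Agent.Lib.Proj.QCohTwist Groth.Agent.Lib.Proj.QCohTilde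

variable {R A : Type u} [CommRing R] [CommRing A] [Algebra R A] (𝒜 : ℕ → Submodule R A)
  [GradedAlgebra 𝒜]
  {M : Type u} [AddCommGroup M] [Module R M] [Module A M] [IsScalarTower R A M]
  (ℳ : ℕ → Submodule R M) [DirectSum.Decomposition ℳ] [SetLike.GradedSMul 𝒜 ℳ]

lemma mk_add_same {S : Submonoid A} (m m' : M) (s : S) :
    LocalizedModule.mk (m + m') s = LocalizedModule.mk m s + LocalizedModule.mk m' s := by
  rw [LocalizedModule.mk_add_mk, LocalizedModule.mk_eq]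
  refine ⟨1, ?_⟩
  simp only [one_smul, smul_add, mul_smul]

section

variable {d : ℕ} {f : A} (hf : f ∈ 𝒜 d)

include hf in
lemma pow_mem (k : ℕ) : f ^ k ∈ 𝒜 (k * d) := by
  have := SetLike.pow_mem_graded k hf
  simpa [smul_eq_mul] using this

lemma basicOpen_le_pow (f : A) (k : ℕ) :
    ProjectiveSpectrum.basicOpen 𝒜 f ≤ ProjectiveSpectrum.basicOpen 𝒜 (f ^ k) := by
  intro p hp
  rw [ProjectiveSpectrum.mem_basicOpen] at hp ⊢
  exact fun h => hp (p.isPrime.mem_of_pow_mem _ h)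

/-- the section `m / f ^ k` of `M~` over `D₊(f)` -/
noncomputable def sec (k : ℕ) (m : ℳ (k * d)) : Γ(GrTilde.tilde 𝒜 ℳ 0, Proj.basicOpen 𝒜 f) :=
  GrTilde.res 𝒜 ℳ 0 (homOfLE (basicOpen_le_pow 𝒜 f k)).op
    (Groth.Agent.Lib.Helper18.GrTildeBasic.fracSect 𝒜 ℳ 0 m ⟨f ^ k, pow_mem 𝒜 hf k⟩ (by simp))

lemma mval_sec (k : ℕ) (m : ℳ (k * d)) (p : Proj.basicOpen 𝒜 f) :
    mval 𝒜 ℳ 0 (sec 𝒜 ℳ hf k m) p =
      (LocalizedModule.mk m.1 ⟨f ^ k, fun h => (ProjectiveSpectrum.mem_basicOpen 𝒜 f p.1).mp p.2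
        (p.1.isPrime.mem_of_pow_mem k h)⟩ : GrTilde.LocMod 𝒜 (M := M) p.1) := rfl

/-- the function `b / f ^ k` on `D₊(f)` -/
noncomputable def fn (k : ℕ) (b : 𝒜 (k * d)) : Γ(Proj 𝒜, Proj.basicOpen 𝒜 f) :=
  (Proj.awayToSection 𝒜 f).hom (HomogeneousLocalization.Away.mk 𝒜 hf k b.1
    (by simp [smul_eq_mul]))

lemma fval_fn (k : ℕ) (b : 𝒜 (k * d)) (p : Proj.basicOpen 𝒜 f) :
    fval 𝒜 (fn 𝒜 hf k b) p =
      (Localization.mk b.1 ⟨f ^ k, fun h => (ProjectiveSpectrum.mem_basicOpen 𝒜 f p.1).mp p.2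
        (p.1.isPrime.mem_of_pow_mem k h)⟩ : Twist.Loc 𝒜 p.1) := by
  have h4 := ProjectiveSpectrum.Proj.awayToSection_apply 𝒜 f
    (HomogeneousLocalization.Away.mk 𝒜 hf k b.1 (by simp [smul_eq_mul])) p
  refine h4.trans ?_
  rw [HomogeneousLocalization.Away.val_mk, Localization.mk_eq_mk', IsLocalization.map_mk',
    Localization.mk_eq_mk']
  rfl

end

section Main

variable {d : ℕ} {f : A} (hf : f ∈ 𝒜 d)

lemma mval_add {U : (Proj 𝒜).Opens} (x y : Γ(GrTilde.tilde 𝒜 ℳ 0, U)) (p : U) :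
    mval 𝒜 ℳ 0 (x + y) p = mval 𝒜 ℳ 0 x p + mval 𝒜 ℳ 0 y p := rfl

/-- additive version of `sec`: `m ↦ (m)_{k d} / f ^ k` -/
noncomputable def secL (k : ℕ) : M →+ Γ(GrTilde.tilde 𝒜 ℳ 0, Proj.basicOpen 𝒜 f) where
  toFun m := sec 𝒜 ℳ hf k (DirectSum.decompose ℳ m (k * d))
  map_zero' := by
    refine mval_ext 𝒜 ℳ 0 fun p => ?_
    rw [mval_sec, mval_zero, DirectSum.decompose_zero, DirectSum.zero_apply, ZeroMemClass.coe_zero,
      LocalizedModule.zero_mk]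
  map_add' m m' := by
    refine mval_ext 𝒜 ℳ 0 fun p => ?_
    rw [mval_add, mval_sec, mval_sec, mval_sec, DirectSum.decompose_add, DirectSum.add_apply,
      Submodule.coe_add, mk_add_same]

lemma mval_secL (k : ℕ) (m : M) (p : Proj.basicOpen 𝒜 f) :
    mval 𝒜 ℳ 0 (secL 𝒜 ℳ hf k m) p =
      (LocalizedModule.mk (DirectSum.decompose ℳ m (k * d) : M)
        ⟨f ^ k, fun h => (ProjectiveSpectrum.mem_basicOpen 𝒜 f p.1).mp p.2
          (p.1.isPrime.mem_of_pow_mem k h)⟩ : GrTilde.LocMod 𝒜 (M := M) p.1) := rfl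

lemma mval_secL_of_mem (k : ℕ) {m : M} (hm : m ∈ ℳ (k * d)) (p : Proj.basicOpen 𝒜 f) :
    mval 𝒜 ℳ 0 (secL 𝒜 ℳ hf k m) p =
      (LocalizedModule.mk m
        ⟨f ^ k, fun h => (ProjectiveSpectrum.mem_basicOpen 𝒜 f p.1).mp p.2
          (p.1.isPrime.mem_of_pow_mem k h)⟩ : GrTilde.LocMod 𝒜 (M := M) p.1) := by
  rw [mval_secL, DirectSum.decompose_of_mem_same ℳ hm]

/-- only the right homogeneous component of the coefficient matters -/
lemma secL_smul_of_mem (k : ℕ) {e : ℕ} {z : M} (hz : z ∈ ℳ e) (he : e ≤ k * d) (a : A) :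
    secL 𝒜 ℳ hf k (a • z) = secL 𝒜 ℳ hf k ((DirectSum.decompose 𝒜 a (k * d - e) : A) • z) := by
  refine mval_ext 𝒜 ℳ 0 fun p => ?_
  have h1 : (DirectSum.decompose 𝒜 a (k * d - e) : A) • z ∈ ℳ (k * d) := by
    have := SetLike.GradedSMul.smul_mem (A := 𝒜) (B := ℳ)
      (Subtype.prop (DirectSum.decompose 𝒜 a (k * d - e))) hz
    rw [vadd_eq_add] at this
    have e' : k * d - e + e = k * d := by omega
    rwa [e'] at this
  rw [mval_secL, mval_secL_of_mem 𝒜 ℳ hf k h1,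
    Groth.Agent.S3562.decompose_smul_of_mem 𝒜 ℳ hz a (k * d) he]

/-- `(b / f ^ j) • (m / f ^ k) = (b m) / f ^ (j + k)` -/
lemma fn_smul_secL (j k : ℕ) (b : 𝒜 (j * d)) {m : M} (hm : m ∈ ℳ (k * d)) :
    fn 𝒜 hf j b • secL 𝒜 ℳ hf k m = secL 𝒜 ℳ hf (j + k) (b.1 • m) := by
  refine mval_ext 𝒜 ℳ 0 fun p => ?_
  have h1 : b.1 • m ∈ ℳ ((j + k) * d) := by
    have := SetLike.GradedSMul.smul_mem (A := 𝒜) (B := ℳ) b.2 hm
    rw [vadd_eq_add] at this
    have e' : j * d + k * d = (j + k) * d := by ring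
    rwa [e'] at this
  rw [mval_smul, fval_fn, mval_secL_of_mem 𝒜 ℳ hf k hm, mval_secL_of_mem 𝒜 ℳ hf (j + k) h1,
    LocalizedModule.mk_smul_mk, LocalizedModule.mk_eq]
  refine ⟨1, ?_⟩
  simp only [one_smul, Submonoid.smul_def, Submonoid.coe_mul, pow_add]

/-- `(f ^ j m) / f ^ (j + k) = m / f ^ k` -/
lemma secL_pow_smul (j k : ℕ) {m : M} (hm : m ∈ ℳ (k * d)) :
    secL 𝒜 ℳ hf (j + k) (f ^ j • m) = secL 𝒜 ℳ hf k m := by
  refine mval_ext 𝒜 ℳ 0 fun p => ?_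
  have h1 : f ^ j • m ∈ ℳ ((j + k) * d) := by
    have := SetLike.GradedSMul.smul_mem (A := 𝒜) (B := ℳ) (pow_mem 𝒜 hf j) hm
    rw [vadd_eq_add] at this
    have e' : j * d + k * d = (j + k) * d := by ring
    rwa [e'] at this
  rw [mval_secL_of_mem 𝒜 ℳ hf k hm, mval_secL_of_mem 𝒜 ℳ hf (j + k) h1, LocalizedModule.mk_eq]
  refine ⟨1, ?_⟩
  simp only [one_smul, Submonoid.smul_def, pow_add, mul_smul]
  rw [smul_comm]

/-- every section of `M~` over `D₊(f)` is `m / f ^ k` -/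
lemma exists_eq_secL (hd : 0 < d) (x : Γ(GrTilde.tilde 𝒜 ℳ 0, Proj.basicOpen 𝒜 f)) :
    ∃ (k : ℕ) (m : M), m ∈ ℳ (k * d) ∧ x = secL 𝒜 ℳ hf k m := by
  obtain ⟨k, i, m, hi, hx⟩ := Groth.Agent.S3586.result 𝒜 ℳ 0 hd hf x
  have hi' : i = k * d := by
    have : (i : ℤ) = ((k * d : ℕ) : ℤ) := by rw [hi]; push_cast; ring
    exact_mod_cast this
  subst hi'
  refine ⟨k, m.1, m.2, mval_ext 𝒜 ℳ 0 fun p => ?_⟩
  rw [mval_secL_of_mem 𝒜 ℳ hf k m.2]
  exact hx p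

end Main

section Finite

variable {d : ℕ} {f : A}

/-- **(TF) ⇒ sections of `M~` over `D₊(f)` form a finite module** (when `𝒜₊` is finitely generated). -/
theorem finite_sections (hd : 0 < d) (hf : f ∈ 𝒜 d) (hfg : (HomogeneousIdeal.irrelevant 𝒜).toIdeal.FG)
    (hTF : ∃ n : ℕ, (Submodule.span A (⋃ k ∈ Set.Ici n, (ℳ k : Set M))).FG) :
    Module.Finite Γ(Proj 𝒜, Proj.basicOpen 𝒜 f)
      Γ(GrTilde.tilde 𝒜 ℳ 0, Proj.basicOpen 𝒜 f) := by
  classical
  obtain ⟨n, hn⟩ := hTF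
  obtain ⟨G₀, hG₀sub, hG₀span⟩ := (Submodule.fg_span_iff_fg_span_finset_subset _).mp hn
  have hdeg : ∀ z ∈ G₀, ∃ e : ℕ, n ≤ e ∧ z ∈ ℳ e := by
    intro z hz
    have := hG₀sub hz
    simp only [Set.mem_iUnion, Set.mem_Ici, SetLike.mem_coe, exists_prop] at this
    exact this
  choose! ε hε using hdeg
  obtain ⟨T, δ, hT, hspan⟩ := FinGen.exists_finset_homogeneous_span 𝒜 hfg
  obtain ⟨T₀, hT₀⟩ := FinGen.exists_bound_le_span_pow 𝒜 T δ hT hspan d
  choose B hB using FinGen.exists_finset_gen 𝒜 hfg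
  let 𝒢 : Finset Γ(GrTilde.tilde 𝒜 ℳ 0, Proj.basicOpen 𝒜 f) :=
    G₀.biUnion fun z => (Finset.range T₀).biUnion fun t =>
      (B t).image fun b => secL 𝒜 ℳ hf ((t + ε z) / d) (b • z)
  let P : Submodule Γ(Proj 𝒜, Proj.basicOpen 𝒜 f) Γ(GrTilde.tilde 𝒜 ℳ 0, Proj.basicOpen 𝒜 f) :=
    Submodule.span _ (𝒢 : Set Γ(GrTilde.tilde 𝒜 ℳ 0, Proj.basicOpen 𝒜 f))
  -- preimages of the `d`-th powers
  have hpre : ∀ y ∈ T.image (fun x => x ^ d), ∃ x ∈ T, x ^ d = y :=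
    fun y hy => Finset.mem_image.mp hy
  choose! ξ hξ using hpre
  have hT' : ∀ y ∈ T.image (fun x => x ^ d), y ∈ 𝒜 (δ (ξ y) * d) := by
    intro y hy
    have h1 := SetLike.pow_mem_graded d (hT _ (hξ y hy).1).2
    rw [(hξ y hy).2, smul_eq_mul, mul_comm] at h1
    exact h1
  -- homogeneous coefficients
  have claim : ∀ t : ℕ, ∀ a ∈ 𝒜 t, ∀ z ∈ G₀, ∀ k : ℕ, t + ε z = k * d →
      secL 𝒜 ℳ hf k (a • z) ∈ P := by
    intro t
    induction t using Nat.strong_induction_on with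
    | _ t ih =>
      intro a ha z hz k hk
      by_cases ht : t < T₀
      · have h1 := (hB t).2 a ha
        have hkd : k = (t + ε z) / d := by rw [hk, Nat.mul_div_cancel _ hd]
        clear ha
        induction h1 using AddSubmonoid.closure_induction with
        | zero => rw [zero_smul, map_zero]; exact zero_mem _
        | add y w _ _ hy hw => rw [add_smul, map_add]; exact add_mem hy hw
        | mem y hy =>
          obtain ⟨c, hc, b, hb, rfl⟩ := hy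
          have hbz : b • z ∈ ℳ (k * d) := by
            have := SetLike.GradedSMul.smul_mem (A := 𝒜) (B := ℳ) ((hB t).1 b hb) (hε z hz).2
            rw [vadd_eq_add, hk] at this
            exact this
          have h2 := fn_smul_secL 𝒜 ℳ hf 0 k ⟨c, by simpa using hc⟩ hbz
          rw [zero_add] at h2
          rw [mul_smul, ← h2]
          refine P.smul_mem _ (Submodule.subset_span ?_)
          rw [Finset.mem_coe, Finset.mem_biUnion]
          exact ⟨z, hz, Finset.mem_biUnion.mpr ⟨t, Finset.mem_range.mpr ht,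
            Finset.mem_image.mpr ⟨b, hb, by rw [hkd]⟩⟩⟩
      · push Not at ht
        have h1 := hT₀ t ht a ha
        obtain ⟨u, hu, hsum⟩ := FinGen.decompose_mem_of_mem_span 𝒜 (T.image (fun x => x ^ d))
          (fun y => δ (ξ y) * d) hT' h1 t
        rw [DirectSum.decompose_of_mem_same 𝒜 ha] at hsum
        rw [hsum, Finset.sum_smul, map_sum]
        refine sum_mem fun y hy => ?_
        obtain ⟨hyT', hyt⟩ := Finset.mem_filter.mp hy
        have hj : 0 < δ (ξ y) := (hT _ (hξ y hyT').1).1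
        have hjd : 0 < δ (ξ y) * d := Nat.mul_pos hj hd
        have hjk : δ (ξ y) ≤ k := by
          have : δ (ξ y) * d ≤ k * d := by omega
          exact Nat.le_of_mul_le_mul_right this hd
        have hkj : (t - δ (ξ y) * d) + ε z = (k - δ (ξ y)) * d := by
          rw [Nat.sub_mul]; omega
        have huz : u y • z ∈ ℳ ((k - δ (ξ y)) * d) := by
          have := SetLike.GradedSMul.smul_mem (A := 𝒜) (B := ℳ) (hu y hyT' hyt) (hε z hz).2
          rw [vadd_eq_add, hkj] at this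
          exact this
        have h2 := fn_smul_secL 𝒜 ℳ hf (δ (ξ y)) (k - δ (ξ y)) ⟨y, hT' y hyT'⟩ huz
        rw [Nat.add_sub_cancel' hjk] at h2
        rw [mul_comm, mul_smul, ← h2]
        exact P.smul_mem _ (ih (t - δ (ξ y) * d) (by omega) (u y) (hu y hyT' hyt) z hz _ hkj)
  have claim' : ∀ (a : A), ∀ z ∈ G₀, ∀ k : ℕ, ε z ≤ k * d → secL 𝒜 ℳ hf k (a • z) ∈ P := by
    intro a z hz k hk
    rw [secL_smul_of_mem 𝒜 ℳ hf k (hε z hz).2 hk a]
    exact claim (k * d - ε z) _ (Subtype.prop _) z hz k (by omega)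
  have step2 : ∀ k : ℕ, n ≤ k * d → (∀ z ∈ G₀, ε z ≤ k * d) → ∀ m ∈ ℳ (k * d),
      secL 𝒜 ℳ hf k m ∈ P := by
    intro k hk hE m hm
    have hmN : m ∈ Submodule.span A (G₀ : Set M) := by
      rw [← hG₀span]
      exact Submodule.subset_span (Set.mem_iUnion₂.mpr ⟨k * d, hk, hm⟩)
    obtain ⟨v, hv⟩ := Submodule.mem_span_finset.mp hmN
    rw [← hv.2, map_sum]
    exact sum_mem fun z hz => claim' (v z) z hz k (hE z hz)
  have step1 : ∀ (k : ℕ) (m : M), m ∈ ℳ (k * d) → secL 𝒜 ℳ hf k m ∈ P := by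
    intro k m hm
    rw [← secL_pow_smul 𝒜 ℳ hf (max n (G₀.sup ε)) k hm]
    have hle : max n (G₀.sup ε) ≤ (max n (G₀.sup ε) + k) * d := by
      calc max n (G₀.sup ε) ≤ max n (G₀.sup ε) + k := Nat.le_add_right _ _
        _ ≤ (max n (G₀.sup ε) + k) * d := Nat.le_mul_of_pos_right _ hd
    refine step2 (max n (G₀.sup ε) + k) ((le_max_left _ _).trans hle)
      (fun z hz => ((Finset.le_sup (f := ε) hz).trans (le_max_right _ _)).trans hle) _ ?_
    have := SetLike.GradedSMul.smul_mem (A := 𝒜) (B := ℳ)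
      (pow_mem 𝒜 hf (max n (G₀.sup ε))) hm
    rw [vadd_eq_add] at this
    have e' : max n (G₀.sup ε) * d + k * d = (max n (G₀.sup ε) + k) * d := by ring
    rwa [e'] at this
  refine ⟨⟨𝒢, ?_⟩⟩
  rw [eq_top_iff]
  intro x _
  obtain ⟨k, m, hm, rfl⟩ := exists_eq_secL 𝒜 ℳ hf hd x
  exact step1 k m hm

/-- **(TF) ⇒ `M~` is of finite type** (when `𝒜₊` is finitely generated). -/
theorem tilde_isFiniteType (hfg : (HomogeneousIdeal.irrelevant 𝒜).toIdeal.FG)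
    (hTF : ∃ n : ℕ, (Submodule.span A (⋃ k ∈ Set.Ici n, (ℳ k : Set M))).FG) :
    (GrTilde.tilde 𝒜 ℳ 0).IsFiniteType := by
  have hq := tilde_isQuasicoherent 𝒜 ℳ 0
  refine Groth.Agent.Lib.QCoh.isFiniteType_of_isOpenCover _ _ (isOpenCover_basicOpen 𝒜) ?_
  rintro ⟨f, d, hd, hf⟩
  exact Groth.Agent.Lib.QCoh.exists_generatingSections_restrict_of_finite
    (Proj.isAffineOpen_basicOpen 𝒜 f hf hd) _ (finite_sections 𝒜 ℳ hd hf hfg hTF)

end Finite

end Groth.Agent.Lib.Proj.TildeFinite
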