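import Mathlib
import Groth.Prelude.Def_GrMod2
import Groth.Agent.Lib.Proj.Helper66_GammaStar
import Groth.Agent.Lib.Proj.Helper66_QCohTilde
import Groth.Agent.Lib.Proj.Helper66_TildeFinite
import Groth.Agent.Lib.Helper18.GrTildeBasic
import Groth.Agent.Lib.Helper22.QCohLoc
import Groth.Agent.Lib.Proj.TwistAmple

/-!
# Quasi-coherent modules on `Proj` are `M~` (helper66)

`s : Finset A` degree-one elements generating the irrelevant ideal.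

ns `Groth.Agent.Lib.Proj.QCohProj`.
* `EvalData`: a graded module `N` with compatible evaluation maps `𝒩 e → F(D₊(f))`
* `nonempty_tilde_iso_of_evalData`: if the induced maps `N_(f) → F(D₊(f))` are bijective, `N~ ≅ F`
-/

set_option autoImplicit false
universe u
open CategoryTheory AlgebraicGeometry Opposite TopologicalSpace

namespace Groth.Agent.Lib.Proj.QCohProj

open Groth.Agent.Lib.Proj.QCohTwist Groth.Agent.Lib.Proj.FracFn Groth.Agent.Lib.QCoh.Glue74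
  Groth.Agent.Lib.Proj.GammaStar Groth.Agent.Lib.Proj.QCohTilde

variable {R A : Type u} [CommRing R] [CommRing A] [Algebra R A] (𝒜 : ℕ → Submodule R A)
  [GradedAlgebra 𝒜] (s : Finset A) (hs1 : ∀ f ∈ s, f ∈ 𝒜 1) (F : (Proj 𝒜).Modules)
  {N : Type u} [AddCommGroup N] [Module R N] [Module A N] [IsScalarTower R A N]
  (𝒩 : ℕ → Submodule R N) [DirectSum.Decomposition 𝒩] [SetLike.GradedSMul 𝒜 𝒩]

/-- evaluation maps from a graded module to the compatible families -/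
structure EvalData where
  E : ∀ (f : s), ℕ → N → Γ(F, D 𝒜 s f)
  E_add : ∀ (f : s) (e : ℕ) {m m' : N}, m ∈ 𝒩 e → m' ∈ 𝒩 e → E f e (m + m') = E f e m + E f e m'
  E_smul : ∀ (f : s) {d e : ℕ} {a : A} {m : N} (ha : a ∈ 𝒜 d), m ∈ 𝒩 e →
    E f (d + e) (a • m) = coef 𝒜 s hs1 f (D 𝒜 s f) le_rfl d a ha • E f e m
  E_compat : ∀ (f g : s) (e : ℕ) {m : N}, m ∈ 𝒩 e →
    res F (inf_le_left : D 𝒜 s f ⊓ D 𝒜 s g ≤ D 𝒜 s f) (E f e m) =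
      ratio 𝒜 s hs1 f g (D 𝒜 s f ⊓ D 𝒜 s g) inf_le_left e •
        res F (inf_le_right : D 𝒜 s f ⊓ D 𝒜 s g ≤ D 𝒜 s g) (E g e m)

variable {𝒜 s hs1 F 𝒩}
variable (ED : EvalData 𝒜 s hs1 F 𝒩)

namespace EvalData

lemma E_zero (f : s) (e : ℕ) : ED.E f e 0 = 0 := by
  have h := ED.E_add f e (zero_mem (𝒩 e)) (zero_mem (𝒩 e))
  rw [add_zero] at h
  exact left_eq_add.mp h

/-- compatibility on any open inside `D₊(f) ⊓ D₊(g)` -/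
lemma E_compat' (f g : s) (e : ℕ) {m : N} (hm : m ∈ 𝒩 e) (W : (Proj 𝒜).Opens) (hWf : W ≤ D 𝒜 s f)
    (hWg : W ≤ D 𝒜 s g) :
    res F hWf (ED.E f e m) = ratio 𝒜 s hs1 f g W hWf e • res F hWg (ED.E g e m) := by
  have h := congrArg (res F (le_inf hWf hWg)) (ED.E_compat f g e hm)
  rw [res_res, res_smul, res_res] at h
  rw [h]
  congr 1

/-- `m / h ∈ F(W)` for `m ∈ 𝒩 e`, `h ∈ 𝒜 e` nowhere vanishing on `W ≤ D₊(f)` -/
noncomputable def ev (W : (Proj 𝒜).Opens) (f : s) (hWf : W ≤ D 𝒜 s f) (e : ℕ) (h : A) (hh : h ∈ 𝒜 e)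
    (hhW : ∀ x : W, h ∉ x.1.asHomogeneousIdeal) (m : N) : Γ(F, W) :=
  fracFn W e ((f : A) ^ e) h (pow_mem1 𝒜 (hs1 f f.2) e) hh hhW • res F hWf (ED.E f e m)

lemma res_ev {W' W : (Proj 𝒜).Opens} (hW : W' ≤ W) (f : s) (hWf : W ≤ D 𝒜 s f) (e : ℕ) (h : A)
    (hh : h ∈ 𝒜 e) (hhW : ∀ x : W, h ∉ x.1.asHomogeneousIdeal) (m : N) :
    res F hW (ED.ev W f hWf e h hh hhW m) =
      ED.ev W' f (hW.trans hWf) e h hh (fun x => hhW ⟨x.1, hW x.2⟩) m := by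
  rw [ev, ev, res_smul, res_res]
  congr 1

end EvalData

/-- some homogeneous component of an element outside a homogeneous prime is outside it -/
lemma exists_decompose_not_mem (x : ProjectiveSpectrum 𝒜) {c : A} (hc : c ∉ x.asHomogeneousIdeal) :
    ∃ d : ℕ, (DirectSum.decompose 𝒜 c d : A) ∉ x.asHomogeneousIdeal := by
  classical
  by_contra hcon
  push Not at hcon
  apply hc
  rw [← DirectSum.sum_support_decompose 𝒜 c]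
  exact sum_mem fun d _ => hcon d

namespace EvalData

/-- vanishing criterion -/
lemma res_E_eq_zero (f : s) (W : (Proj 𝒜).Opens) (hWf : W ≤ D 𝒜 s f) {k : ℕ} {z : N} (hz : z ∈ 𝒩 k)
    (h : ∀ p : W, ∃ c : A, c ∉ p.1.asHomogeneousIdeal ∧ c • z = 0) :
    res F hWf (ED.E f k z) = 0 := by
  have key : ∀ p : W, ∃ (d : ℕ) (c : A), c ∈ 𝒜 d ∧ c ∉ p.1.asHomogeneousIdeal ∧ c • z = 0 := by
    intro p
    obtain ⟨c, hc, hcz⟩ := h p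
    obtain ⟨d, hd⟩ := exists_decompose_not_mem p.1 hc
    exact ⟨d, _, Subtype.prop _, hd,
      Groth.Agent.Lib.Helper18.GrTildeBasic.decompose_smul_eq_zero 𝒜 𝒩 c z k hz hcz d⟩
  choose d c hcd hcp hcz using key
  refine Groth.Agent.Lib.QCoh.sections_ext_of_cover F (fun p : W => W ⊓ Proj.basicOpen 𝒜 (c p)) W (fun p => inf_le_left)
    (fun x hx => Opens.mem_iSup.2 ⟨⟨x, hx⟩, ⟨hx, hcp ⟨x, hx⟩⟩⟩) _ _ fun p => ?_
  change res F _ (res F hWf (ED.E f k z)) = res F _ 0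
  rw [res_res, res, res, map_zero]
  have h1 : coef 𝒜 s hs1 f (D 𝒜 s f) le_rfl (d p) (c p) (hcd p) • ED.E f k z = 0 := by
    rw [← ED.E_smul f (hcd p) hz, hcz p, ED.E_zero]
  have h2 := congrArg (res F ((inf_le_left : W ⊓ Proj.basicOpen 𝒜 (c p) ≤ W).trans hWf)) h1
  rw [res_smul] at h2
  have hu : IsUnit (resO 𝒜 ((inf_le_left : W ⊓ Proj.basicOpen 𝒜 (c p) ≤ W).trans hWf)
      (coef 𝒜 s hs1 f (D 𝒜 s f) le_rfl (d p) (c p) (hcd p))) := by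
    rw [resO_coef]
    exact isUnit_fracFn (W ⊓ Proj.basicOpen 𝒜 (c p)) (d p) (c p) _ (hcd p) _ (fun x => x.2.2) _
  have h3 := (hu.smul_eq_zero).mp (h2.trans (by rw [res, map_zero]))
  exact h3

end EvalData


/-- prove an identity between products of fraction functions -/
macro "fn_id" : tactic => `(tactic| (
  apply fval_ext
  intro p
  simp only [fval_mul, fval_fracFn, fval_coef, ratio, fval_map, Localization.mk_mul]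
  exact mk_eq_mk_of_mul_eq _ _ _ _ _ _ _ _
    (by first | ring1 | (simp only [Submonoid.coe_mul, Submonoid.mk_mul_mk]; ring1))))

namespace EvalData

/-- **well-definedness**: `m / h = m' / h'` in `N_x` for all `x ∈ W` implies `m / h = m' / h'` in `F(W)` -/
lemma ev_eq_ev (W : (Proj 𝒜).Opens) (f f' : s) (hWf : W ≤ D 𝒜 s f) (hWf' : W ≤ D 𝒜 s f') (e e' : ℕ)
    (h h' : A) (hh : h ∈ 𝒜 e) (hh' : h' ∈ 𝒜 e') (hhW : ∀ x : W, h ∉ x.1.asHomogeneousIdeal)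
    (hhW' : ∀ x : W, h' ∉ x.1.asHomogeneousIdeal) {m m' : N} (hm : m ∈ 𝒩 e) (hm' : m' ∈ 𝒩 e')
    (heq : ∀ p : W, (LocalizedModule.mk m ⟨h, hhW p⟩ : GrTilde.LocMod 𝒜 (M := N) p.1) =
      LocalizedModule.mk m' ⟨h', hhW' p⟩) :
    ED.ev W f hWf e h hh hhW m = ED.ev W f' hWf' e' h' hh' hhW' m' := by
  have h1 : h' • m ∈ 𝒩 (e' + e) := SetLike.GradedSMul.smul_mem hh' hm
  have h2 : h • m' ∈ 𝒩 (e' + e) := by
    have := SetLike.GradedSMul.smul_mem (A := 𝒜) (B := 𝒩) hh hm'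
    rwa [vadd_eq_add, Nat.add_comm e e'] at this
  have hz : h' • m - h • m' ∈ 𝒩 (e' + e) := sub_mem h1 h2
  have hann : ∀ p : W, ∃ c : A, c ∉ p.1.asHomogeneousIdeal ∧ c • (h' • m - h • m') = 0 := by
    intro p
    obtain ⟨u, hu⟩ := LocalizedModule.mk_eq.mp (heq p)
    refine ⟨u.1, u.2, ?_⟩
    rw [smul_sub, sub_eq_zero]
    exact hu
  have h0 := ED.res_E_eq_zero f W hWf hz hann
  have h3 : ED.E f (e' + e) (h' • m) = ED.E f (e' + e) (h' • m - h • m') + ED.E f (e' + e) (h • m') := by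
    rw [← ED.E_add f (e' + e) hz h2, sub_add_cancel]
  have h4 : ED.E f (e' + e) (h' • m) =
      coef 𝒜 s hs1 f (D 𝒜 s f) le_rfl e' h' hh' • ED.E f e m := ED.E_smul f hh' hm
  have h5 : ED.E f (e' + e) (h • m') = coef 𝒜 s hs1 f (D 𝒜 s f) le_rfl e h hh • ED.E f e' m' := by
    have := ED.E_smul f hh hm'
    rwa [Nat.add_comm e e'] at this
  have h6 : coef 𝒜 s hs1 f W hWf e' h' hh' • res F hWf (ED.E f e m) =
      coef 𝒜 s hs1 f W hWf e h hh • res F hWf (ED.E f e' m') := by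
    have := congrArg (res F hWf) h3
    rw [res_add, h0, zero_add, h4, h5, res_smul, res_smul] at this
    exact this
  have h7 := ED.E_compat' f f' e' hm' W hWf hWf'
  have h8 := congrArg (fun t => (fracFn W e ((f : A) ^ e) h (pow_mem1 𝒜 (hs1 f f.2) e) hh hhW *
    fracFn W e' ((f : A) ^ e') h' (pow_mem1 𝒜 (hs1 f f.2) e') hh' hhW') • t) h6
  simp only [← mul_smul] at h8
  have i1 : fracFn W e ((f : A) ^ e) h (pow_mem1 𝒜 (hs1 f f.2) e) hh hhW *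
      fracFn W e' ((f : A) ^ e') h' (pow_mem1 𝒜 (hs1 f f.2) e') hh' hhW' *
        coef 𝒜 s hs1 f W hWf e' h' hh' =
      fracFn W e ((f : A) ^ e) h (pow_mem1 𝒜 (hs1 f f.2) e) hh hhW := by fn_id
  have i2 : fracFn W e ((f : A) ^ e) h (pow_mem1 𝒜 (hs1 f f.2) e) hh hhW *
      fracFn W e' ((f : A) ^ e') h' (pow_mem1 𝒜 (hs1 f f.2) e') hh' hhW' *
        coef 𝒜 s hs1 f W hWf e h hh =
      fracFn W e' ((f : A) ^ e') h' (pow_mem1 𝒜 (hs1 f f.2) e') hh' hhW' := by fn_id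
  have i3 : fracFn W e' ((f : A) ^ e') h' (pow_mem1 𝒜 (hs1 f f.2) e') hh' hhW' *
      ratio 𝒜 s hs1 f f' W hWf e' =
      fracFn W e' ((f' : A) ^ e') h' (pow_mem1 𝒜 (hs1 f' f'.2) e') hh' hhW' := by fn_id
  rw [i1, i2, h7, ← mul_smul, i3] at h8
  exact h8

end EvalData


/-- the module `N~` -/
noncomputable abbrev Nt (𝒜 : ℕ → Submodule R A) [GradedAlgebra 𝒜] (𝒩 : ℕ → Submodule R N)
    [DirectSum.Decomposition 𝒩] [SetLike.GradedSMul 𝒜 𝒩] : (Proj 𝒜).Modules := GrTilde.tilde 𝒜 𝒩 0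

namespace EvalData

/-- `t ∈ F(W)` represents the section `σ` of `N~` over `W` -/
def Rep (W : (Proj 𝒜).Opens) (σ : Γ(Nt 𝒜 𝒩, W)) (t : Γ(F, W)) : Prop :=
  ∃ (f : s) (hWf : W ≤ D 𝒜 s f) (e : ℕ) (h : A) (hh : h ∈ 𝒜 e)
    (hhW : ∀ x : W, h ∉ x.1.asHomogeneousIdeal) (m : N) (_ : m ∈ 𝒩 e),
    (∀ p : W, mval 𝒜 𝒩 0 σ p = LocalizedModule.mk m ⟨h, hhW p⟩) ∧ t = ED.ev W f hWf e h hh hhW m

lemma Rep.unique {W : (Proj 𝒜).Opens} {σ : Γ(Nt 𝒜 𝒩, W)} {t t' : Γ(F, W)}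
    (h1 : ED.Rep W σ t) (h2 : ED.Rep W σ t') : t = t' := by
  obtain ⟨f, hWf, e, h, hh, hhW, m, hm, hσ, rfl⟩ := h1
  obtain ⟨f', hWf', e', h', hh', hhW', m', hm', hσ', rfl⟩ := h2
  exact ED.ev_eq_ev W f f' hWf hWf' e e' h h' hh hh' hhW hhW' hm hm'
    (fun p => (hσ p).symm.trans (hσ' p))

/-- a representation w.r.t. `f` can be moved to any other `f'` -/
lemma Rep.change {W : (Proj 𝒜).Opens} {σ : Γ(Nt 𝒜 𝒩, W)} {t : Γ(F, W)}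
    (h1 : ED.Rep W σ t) (f' : s) (hWf' : W ≤ D 𝒜 s f') :
    ∃ (e : ℕ) (h : A) (hh : h ∈ 𝒜 e)
      (hhW : ∀ x : W, h ∉ x.1.asHomogeneousIdeal) (m : N) (_ : m ∈ 𝒩 e),
      (∀ p : W, mval 𝒜 𝒩 0 σ p = LocalizedModule.mk m ⟨h, hhW p⟩) ∧
        t = ED.ev W f' hWf' e h hh hhW m := by
  obtain ⟨f, hWf, e, h, hh, hhW, m, hm, hσ, rfl⟩ := h1
  exact ⟨e, h, hh, hhW, m, hm, hσ,
    ED.ev_eq_ev W f f' hWf hWf' e e h h hh hh hhW hhW hm hm (fun _ => rfl)⟩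

lemma Rep.res {W W' : (Proj 𝒜).Opens} {σ : Γ(Nt 𝒜 𝒩, W)} {t : Γ(F, W)}
    (h1 : ED.Rep W σ t) (hW : W' ≤ W) :
    ED.Rep W' (res (Nt 𝒜 𝒩) hW σ) (res F hW t) := by
  obtain ⟨f, hWf, e, h, hh, hhW, m, hm, hσ, rfl⟩ := h1
  exact ⟨f, hW.trans hWf, e, h, hh, fun x => hhW ⟨x.1, hW x.2⟩, m, hm,
    fun p => hσ ⟨p.1, hW p.2⟩, ED.res_ev hW f hWf e h hh hhW m⟩

lemma Rep.add {W : (Proj 𝒜).Opens} {σ σ' : Γ(Nt 𝒜 𝒩, W)} {t t' : Γ(F, W)}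
    (h1 : ED.Rep W σ t) (h2 : ED.Rep W σ' t') : ED.Rep W (σ + σ') (t + t') := by
  obtain ⟨f, hWf, e, h, hh, hhW, m, hm, hσ, rfl⟩ := h1
  obtain ⟨e', h', hh', hhW', m', hm', hσ', rfl⟩ := EvalData.Rep.change ED h2 f hWf
  have hm1 : h' • m ∈ 𝒩 (e + e') := by
    have := SetLike.GradedSMul.smul_mem (A := 𝒜) (B := 𝒩) hh' hm
    rwa [vadd_eq_add, Nat.add_comm e' e] at this
  have hm2 : h • m' ∈ 𝒩 (e + e') := SetLike.GradedSMul.smul_mem hh hm'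
  have hhh : ∀ x : W, h * h' ∉ x.1.asHomogeneousIdeal :=
    fun x hx => (x.1.isPrime.mem_or_mem hx).elim (hhW x) (hhW' x)
  refine ⟨f, hWf, e + e', h * h', SetLike.mul_mem_graded hh hh', hhh, h' • m + h • m',
    add_mem hm1 hm2, fun p => ?_, ?_⟩
  · change mval 𝒜 𝒩 0 σ p + mval 𝒜 𝒩 0 σ' p = _
    rw [hσ p, hσ' p, LocalizedModule.mk_add_mk]
    rfl
  · have e1 : ED.E f (e + e') (h' • m) = coef 𝒜 s hs1 f (D 𝒜 s f) le_rfl e' h' hh' • ED.E f e m := by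
      have := ED.E_smul f hh' hm
      rwa [Nat.add_comm e' e] at this
    have e2 : ED.E f (e + e') (h • m') = coef 𝒜 s hs1 f (D 𝒜 s f) le_rfl e h hh • ED.E f e' m' :=
      ED.E_smul f hh hm'
    simp only [ev]
    rw [ED.E_add f (e + e') hm1 hm2, e1, e2, res_add, res_smul, res_smul, smul_add, ← mul_smul,
      ← mul_smul]
    congr 1
    · congr 1
      fn_id
    · congr 1
      fn_id

/-- multiplication by a fraction function -/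
lemma Rep.smul_frac {W : (Proj 𝒜).Opens} {σ : Γ(Nt 𝒜 𝒩, W)} {t : Γ(F, W)}
    (h1 : ED.Rep W σ t) (d : ℕ) (b g : A) (hb : b ∈ 𝒜 d) (hg : g ∈ 𝒜 d)
    (hgW : ∀ x : W, g ∉ x.1.asHomogeneousIdeal) :
    ED.Rep W (fracFn W d b g hb hg hgW • σ) (fracFn W d b g hb hg hgW • t) := by
  obtain ⟨f, hWf, e, h, hh, hhW, m, hm, hσ, rfl⟩ := h1
  have hgh : ∀ x : W, g * h ∉ x.1.asHomogeneousIdeal :=
    fun x hx => (x.1.isPrime.mem_or_mem hx).elim (hgW x) (hhW x)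
  refine ⟨f, hWf, d + e, g * h, SetLike.mul_mem_graded hg hh, hgh, b • m,
    SetLike.GradedSMul.smul_mem hb hm, fun p => ?_, ?_⟩
  · rw [mval_smul, hσ p, fval_fracFn]
    exact LocalizedModule.mk_smul_mk _ _ _ _
  · simp only [ev]
    rw [ED.E_smul f hb hm, res_smul, ← mul_smul, ← mul_smul]
    congr 1
    fn_id

end EvalData


variable (𝒜 s) in
/-- good opens: homogeneous basic opens inside some `D₊(f)`, `f ∈ s` -/
def good (W : (Proj 𝒜).Opens) : Prop :=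
  ∃ (f : s) (e : ℕ) (h₀ : A), 0 < e ∧ h₀ ∈ 𝒜 e ∧ W = Proj.basicOpen 𝒜 h₀ ∧ W ≤ D 𝒜 s f

lemma good_basis (hcov : ∀ x : Proj 𝒜, ∃ f : s, x ∈ D 𝒜 s f) (V : (Proj 𝒜).Opens) (x : Proj 𝒜)
    (hx : x ∈ V) : ∃ W : (Proj 𝒜).Opens, good 𝒜 s W ∧ x ∈ W ∧ W ≤ V := by
  obtain ⟨f, hf⟩ := hcov x
  obtain ⟨i, hi, a, ha, hxa, hle⟩ :=
    Groth.Agent.Lib.Helper18.ProjBasic.exists_pos_homogeneous_basicOpen_le 𝒜 x (V ⊓ D 𝒜 s f) ⟨hx, hf⟩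
  exact ⟨Proj.basicOpen 𝒜 a, ⟨f, i, a, hi, ha, rfl, hle.trans inf_le_right⟩, hxa, hle.trans inf_le_left⟩

lemma good_inf {W₁ W₂ : (Proj 𝒜).Opens} (h1 : good 𝒜 s W₁) (h2 : good 𝒜 s W₂) : good 𝒜 s (W₁ ⊓ W₂) := by
  obtain ⟨f, e, h₀, he, hh₀, rfl, hWf⟩ := h1
  obtain ⟨f', e', h₀', he', hh₀', rfl, hWf'⟩ := h2
  exact ⟨f, e + e', h₀ * h₀', by omega, SetLike.mul_mem_graded hh₀ hh₀', (Proj.basicOpen_mul 𝒜 _ _).symm,
    inf_le_left.trans hWf⟩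

namespace EvalData

lemma exists_rep {W : (Proj 𝒜).Opens} (hW : good 𝒜 s W) (σ : Γ(Nt 𝒜 𝒩, W)) :
    ∃ t : Γ(F, W), ED.Rep W σ t := by
  obtain ⟨f, e, h₀, he, hh₀, rfl, hWf⟩ := hW
  obtain ⟨k, m, hm, rfl⟩ := Groth.Agent.Lib.Proj.TildeFinite.exists_eq_secL 𝒜 𝒩 hh₀ he σ
  have hhW : ∀ x : Proj.basicOpen 𝒜 h₀, h₀ ^ k ∉ x.1.asHomogeneousIdeal :=
    fun x hx => x.2 (x.1.isPrime.mem_of_pow_mem k hx)
  exact ⟨_, f, hWf, k * e, h₀ ^ k, Groth.Agent.Lib.Proj.TildeFinite.pow_mem 𝒜 hh₀ k, hhW, m, hm,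
    fun p => Groth.Agent.Lib.Proj.TildeFinite.mval_secL_of_mem 𝒜 𝒩 hh₀ k hm p, rfl⟩

/-- every function on a good open is a fraction -/
lemma exists_eq_fracFn {W : (Proj 𝒜).Opens} (hW : good 𝒜 s W) (r : Γ(Proj 𝒜, W)) :
    ∃ (d : ℕ) (b g : A) (hb : b ∈ 𝒜 d) (hg : g ∈ 𝒜 d) (hgW : ∀ x : W, g ∉ x.1.asHomogeneousIdeal),
      r = fracFn W d b g hb hg hgW := by
  obtain ⟨f, e, h₀, he, hh₀, rfl, hWf⟩ := hW
  obtain ⟨k, b, hb, hr⟩ := exists_frac_fn 𝒜 he hh₀ r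
  have hhW : ∀ x : Proj.basicOpen 𝒜 h₀, h₀ ^ k ∉ x.1.asHomogeneousIdeal :=
    fun x hx => x.2 (x.1.isPrime.mem_of_pow_mem k hx)
  refine ⟨k * e, b, h₀ ^ k, hb, Groth.Agent.Lib.Proj.TildeFinite.pow_mem 𝒜 hh₀ k, hhW, ?_⟩
  apply fval_ext
  intro p
  rw [fval_fracFn]
  exact hr p

/-- **the comparison morphism `N~ ⟶ F`** -/
theorem exists_hom (hcov : ∀ x : Proj 𝒜, ∃ f : s, x ∈ D 𝒜 s f) :
    ∃ φ : Nt 𝒜 𝒩 ⟶ F, ∀ (W : (Proj 𝒜).Opens) (σ : Γ(Nt 𝒜 𝒩, W)) (t : Γ(F, W)),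
      ED.Rep W σ t → φ.app W σ = t := by
  have hbasis := good_basis (𝒜 := 𝒜) (s := s) hcov
  choose φ hφ using fun (W : (Proj 𝒜).Opens) (hW : good 𝒜 s W) (σ : Γ(Nt 𝒜 𝒩, W)) =>
    ED.exists_rep hW σ
  obtain ⟨ψ, hnat, hψ⟩ := exists_family (Nt 𝒜 𝒩) F (good 𝒜 s) hbasis φ (fun W' W => W' ≤ W)
    (fun h => h)
    (fun hW' hW h a => EvalData.Rep.unique ED (hφ _ hW' _) (EvalData.Rep.res ED (hφ _ hW a) h))
    (fun W₁ W₂ h1 h2 x hx => ⟨W₁ ⊓ W₂, good_inf h1 h2, hx, inf_le_left, inf_le_right⟩)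
  have hadd : ∀ (U : (Proj 𝒜).Opens) (a b : Γ(Nt 𝒜 𝒩, U)), ψ U (a + b) = ψ U a + ψ U b := by
    intro U a b
    refine eq_of_good F (good 𝒜 s) hbasis _ _ fun W hW hWU => ?_
    rw [← hnat hWU, res_add, res_add, ← hnat hWU, ← hnat hWU, hψ W hW, hψ W hW, hψ W hW]
    exact EvalData.Rep.unique ED (hφ _ hW _) (EvalData.Rep.add ED (hφ _ hW _) (hφ _ hW _))
  have hsmul : ∀ (U : (Proj 𝒜).Opens) (r : Γ(Proj 𝒜, U)) (a : Γ(Nt 𝒜 𝒩, U)),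
      ψ U (r • a) = r • ψ U a := by
    intro U r a
    refine eq_of_good F (good 𝒜 s) hbasis _ _ fun W hW hWU => ?_
    rw [← hnat hWU, res_smul, res_smul, ← hnat hWU, hψ W hW, hψ W hW]
    obtain ⟨d, b, g, hb, hg, hgW, hr⟩ := exists_eq_fracFn hW
      ((Proj 𝒜).presheaf.map (homOfLE hWU).op r)
    rw [hr]
    exact EvalData.Rep.unique ED (hφ _ hW _) (EvalData.Rep.smul_frac ED (hφ _ hW _) d b g hb hg hgW)
  refine ⟨homOfFamily ψ hnat hadd hsmul, fun W σ t hrep => ?_⟩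
  rw [homOfFamily_app]
  refine eq_of_good F (good 𝒜 s) hbasis _ _ fun W' hW' hWW => ?_
  rw [← hnat hWW, hψ W' hW']
  exact EvalData.Rep.unique ED (hφ _ hW' _) (EvalData.Rep.res ED hrep hWW)

end EvalData


section Wrappers

variable {X : Scheme.{u}} (G : X.Modules) [G.IsQuasicoherent]

lemma exists_pow_smul_eq_zero' {V W : X.Opens} (hV : IsAffineOpen V) (g : Γ(X, V))
    (hW : W = X.basicOpen g) (hWV : W ≤ V) (x : Γ(G, V)) (hx : res G hWV x = 0) :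
    ∃ n : ℕ, g ^ n • x = 0 := by
  subst hW
  exact Groth.Agent.Lib.Helper22.exists_pow_smul_eq_zero_of_isAffineOpen G hV g x hx

lemma exists_pow_smul_eq_map' {V W : X.Opens} (hV : IsAffineOpen V) (g : Γ(X, V))
    (hW : W = X.basicOpen g) (hWV : W ≤ V) (y : Γ(G, W)) :
    ∃ (n : ℕ) (x : Γ(G, V)), res G hWV x = (X.presheaf.map (homOfLE hWV).op g) ^ n • y := by
  subst hW
  exact Groth.Agent.Lib.Helper22.exists_pow_smul_eq_map_of_isAffineOpen G hV g y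

end Wrappers

lemma mk_eq_one_of_eq (x : ProjectiveSpectrum 𝒜) (a b : A) (hb : b ∉ x.asHomogeneousIdeal) (h : a = b) :
    (Localization.mk a ⟨b, hb⟩ : Twist.Loc 𝒜 x) = 1 := by
  subst h
  exact mk_self' x a hb

omit [IsScalarTower R A N] [DirectSum.Decomposition 𝒩] [SetLike.GradedSMul 𝒜 𝒩] [Module R N] in
lemma mk_eq_zero_of_smul_eq_zero (x : ProjectiveSpectrum 𝒜) (m : N) (h : A)
    (hh : h ∉ x.asHomogeneousIdeal) (c : A) (hc : c ∉ x.asHomogeneousIdeal) (hcm : c • m = 0) :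
    (LocalizedModule.mk m ⟨h, hh⟩ : GrTilde.LocMod 𝒜 (M := N) x) = 0 := by
  rw [← LocalizedModule.zero_mk 1, LocalizedModule.mk_eq]
  refine ⟨⟨c, hc⟩, ?_⟩
  change c • (1 : x.asHomogeneousIdeal.toIdeal.primeCompl) • m = c • _ • (0 : N)
  rw [one_smul, smul_zero, smul_zero, hcm]

/-- the section `m / h` of `N~` over `W` -/
noncomputable def fracSec (W : (Proj 𝒜).Opens) (e : ℕ) (h : A) (hh : h ∈ 𝒜 e)
    (hhW : ∀ x : W, h ∉ x.1.asHomogeneousIdeal) (m : N) (hm : m ∈ 𝒩 e) : Γ(Nt 𝒜 𝒩, W) :=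
  (⟨fun x => ⟨LocalizedModule.mk m ⟨h, hhW x⟩,
      Groth.Agent.Lib.Helper18.GrTildeBasic.frac_mem_tildeAt 𝒜 𝒩 0 ⟨m, hm⟩ ⟨h, hh⟩ (by simp) x.1 (hhW x)⟩,
    fun x => ⟨W, x.2, 𝟙 _, e, e, ⟨m, hm⟩, ⟨h, hh⟩, fun y => hhW y, Or.inl (by simp), fun _ => rfl⟩⟩ :
    GrTilde.sect 𝒜 𝒩 0 (op W))

lemma mval_fracSec (W : (Proj 𝒜).Opens) (e : ℕ) (h : A) (hh : h ∈ 𝒜 e)
    (hhW : ∀ x : W, h ∉ x.1.asHomogeneousIdeal) (m : N) (hm : m ∈ 𝒩 e) (p : W) :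
    mval 𝒜 𝒩 0 (fracSec W e h hh hhW m hm) p = LocalizedModule.mk m ⟨h, hhW p⟩ := rfl

namespace EvalData

lemma rep_fracSec (W : (Proj 𝒜).Opens) (f : s) (hWf : W ≤ D 𝒜 s f) (e : ℕ) (h : A) (hh : h ∈ 𝒜 e)
    (hhW : ∀ x : W, h ∉ x.1.asHomogeneousIdeal) (m : N) (hm : m ∈ 𝒩 e) :
    ED.Rep W (fracSec W e h hh hhW m hm) (ED.ev W f hWf e h hh hhW m) :=
  ⟨f, hWf, e, h, hh, hhW, m, hm, fun _ => rfl, rfl⟩

variable [F.IsQuasicoherent]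

include ED in
theorem app_injective_of_good (φ : Nt 𝒜 𝒩 ⟶ F)
    (hφ : ∀ (W : (Proj 𝒜).Opens) (σ : Γ(Nt 𝒜 𝒩, W)) (t : Γ(F, W)), ED.Rep W σ t → φ.app W σ = t)
    (hinj : ∀ (f : s) (K : ℕ) (m : N), m ∈ 𝒩 K → ED.E f K m = 0 → ∃ L : ℕ, (f : A) ^ L • m = 0)
    {W : (Proj 𝒜).Opens} (hW : good 𝒜 s W) : Function.Injective (φ.app W) := by
  suffices key : ∀ σ : Γ(Nt 𝒜 𝒩, W), φ.app W σ = 0 → σ = 0 by
    intro σ σ' h
    have := key (σ - σ') (by rw [map_sub, h, sub_self])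
    exact sub_eq_zero.mp this
  intro σ hσ
  obtain ⟨f, e, h₀, he, hh₀, rfl, hWf⟩ := hW
  obtain ⟨k, m, hm, rfl⟩ := Groth.Agent.Lib.Proj.TildeFinite.exists_eq_secL 𝒜 𝒩 hh₀ he σ
  have hhW : ∀ x : Proj.basicOpen 𝒜 h₀, h₀ ^ k ∉ x.1.asHomogeneousIdeal :=
    fun x hx => x.2 (x.1.isPrime.mem_of_pow_mem k hx)
  have hrep : ED.Rep (Proj.basicOpen 𝒜 h₀) (Groth.Agent.Lib.Proj.TildeFinite.secL 𝒜 𝒩 hh₀ k m)
      (ED.ev _ f hWf (k * e) (h₀ ^ k) (Groth.Agent.Lib.Proj.TildeFinite.pow_mem 𝒜 hh₀ k) hhW m) :=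
    ⟨f, hWf, k * e, h₀ ^ k, _, hhW, m, hm,
      fun p => Groth.Agent.Lib.Proj.TildeFinite.mval_secL_of_mem 𝒜 𝒩 hh₀ k hm p, rfl⟩
  have h0 := (hφ _ _ _ hrep).symm.trans hσ
  -- the restriction of `E f (k e) m` to `W` vanishes
  have h1 : res F hWf (ED.E f (k * e) m) = 0 := by
    have hu : IsUnit (fracFn (Proj.basicOpen 𝒜 h₀) (k * e) ((f : A) ^ (k * e)) (h₀ ^ k)
        (pow_mem1 𝒜 (hs1 f f.2) (k * e)) (Groth.Agent.Lib.Proj.TildeFinite.pow_mem 𝒜 hh₀ k) hhW) :=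
      isUnit_fracFn _ _ _ _ _ _ (pow_not_mem_of_le 𝒜 s hWf (k * e)) _
    exact hu.smul_eq_zero.mp h0
  -- quasi-coherence on `D₊(f)`
  have hWeq : Proj.basicOpen 𝒜 h₀ =
      (Proj 𝒜).basicOpen (coef 𝒜 s hs1 f (D 𝒜 s f) le_rfl e h₀ hh₀) := by
    unfold coef
    rw [basicOpen_fracFn]
    exact (inf_eq_right.mpr hWf).symm
  obtain ⟨n, hn⟩ := exists_pow_smul_eq_zero' F
    (Proj.isAffineOpen_basicOpen 𝒜 (f : A) (hs1 f f.2) one_pos)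
    (coef 𝒜 s hs1 f (D 𝒜 s f) le_rfl e h₀ hh₀) hWeq hWf _ h1
  have hpow : coef 𝒜 s hs1 f (D 𝒜 s f) le_rfl e h₀ hh₀ ^ n =
      coef 𝒜 s hs1 f (D 𝒜 s f) le_rfl (n * e) (h₀ ^ n)
        (Groth.Agent.Lib.Proj.TildeFinite.pow_mem 𝒜 hh₀ n) := by
    apply fval_ext
    intro p
    rw [fval_pow, fval_coef, fval_coef, Localization.mk_pow]
    exact mk_eq_mk_of_mul_eq _ _ _ _ _ _ _ _ (by first | ring1 | (simp only [SubmonoidClass.coe_pow]; ring1))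
  rw [hpow, ← ED.E_smul f (Groth.Agent.Lib.Proj.TildeFinite.pow_mem 𝒜 hh₀ n) hm] at hn
  obtain ⟨L, hL⟩ := hinj f _ _
    (SetLike.GradedSMul.smul_mem (Groth.Agent.Lib.Proj.TildeFinite.pow_mem 𝒜 hh₀ n) hm) hn
  refine mval_ext 𝒜 𝒩 0 fun p => ?_
  rw [Groth.Agent.Lib.Proj.TildeFinite.mval_secL_of_mem 𝒜 𝒩 hh₀ k hm p, mval_zero]
  refine mk_eq_zero_of_smul_eq_zero p.1 m _ _ ((f : A) ^ L * h₀ ^ n)
    (fun hmem => (p.1.isPrime.mem_or_mem hmem).elim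
      (fun h' => hWf p.2 (p.1.isPrime.mem_of_pow_mem L h'))
      (fun h' => p.2 (p.1.isPrime.mem_of_pow_mem n h'))) ?_
  rw [mul_smul, hL]

include ED in
theorem app_surjective_of_good (φ : Nt 𝒜 𝒩 ⟶ F)
    (hφ : ∀ (W : (Proj 𝒜).Opens) (σ : Γ(Nt 𝒜 𝒩, W)) (t : Γ(F, W)), ED.Rep W σ t → φ.app W σ = t)
    (hsurj : ∀ (f : s) (q : Γ(F, D 𝒜 s f)), ∃ (K : ℕ) (m : N), m ∈ 𝒩 K ∧ ED.E f K m = q)
    {W : (Proj 𝒜).Opens} (hW : good 𝒜 s W) : Function.Surjective (φ.app W) := by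
  intro t
  obtain ⟨f, e, h₀, he, hh₀, rfl, hWf⟩ := hW
  have hWeq : Proj.basicOpen 𝒜 h₀ =
      (Proj 𝒜).basicOpen (coef 𝒜 s hs1 f (D 𝒜 s f) le_rfl e h₀ hh₀) := by
    unfold coef
    rw [basicOpen_fracFn]
    exact (inf_eq_right.mpr hWf).symm
  obtain ⟨n, q, hq⟩ := exists_pow_smul_eq_map' F
    (Proj.isAffineOpen_basicOpen 𝒜 (f : A) (hs1 f f.2) one_pos)
    (coef 𝒜 s hs1 f (D 𝒜 s f) le_rfl e h₀ hh₀) hWeq hWf t
  obtain ⟨K, m, hm, rfl⟩ := hsurj f q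
  have hfn : (f : A) ^ (n * e) ∈ 𝒜 (n * e) := pow_mem1 𝒜 (hs1 f f.2) (n * e)
  have hh1 : h₀ ^ n * (f : A) ^ K ∈ 𝒜 (n * e + K) :=
    SetLike.mul_mem_graded (Groth.Agent.Lib.Proj.TildeFinite.pow_mem 𝒜 hh₀ n) (pow_mem1 𝒜 (hs1 f f.2) K)
  have hh1W : ∀ x : Proj.basicOpen 𝒜 h₀, h₀ ^ n * (f : A) ^ K ∉ x.1.asHomogeneousIdeal :=
    fun x hx => (x.1.isPrime.mem_or_mem hx).elim
      (fun h' => x.2 (x.1.isPrime.mem_of_pow_mem n h'))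
      (fun h' => hWf x.2 (x.1.isPrime.mem_of_pow_mem K h'))
  have hm1 : (f : A) ^ (n * e) • m ∈ 𝒩 (n * e + K) := SetLike.GradedSMul.smul_mem hfn hm
  refine ⟨fracSec _ (n * e + K) (h₀ ^ n * (f : A) ^ K) hh1 hh1W _ hm1, ?_⟩
  rw [hφ _ _ _ (ED.rep_fracSec _ f hWf (n * e + K) _ hh1 hh1W _ hm1)]
  simp only [ev]
  rw [ED.E_smul f hfn hm, coef_self_pow, one_smul, hq, ← mul_smul]
  have hone : fracFn (Proj.basicOpen 𝒜 h₀) (n * e + K) ((f : A) ^ (n * e + K)) (h₀ ^ n * (f : A) ^ K)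
      (pow_mem1 𝒜 (hs1 f f.2) (n * e + K)) hh1 hh1W *
      ((Proj 𝒜).presheaf.map (homOfLE hWf).op (coef 𝒜 s hs1 f (D 𝒜 s f) le_rfl e h₀ hh₀)) ^ n = 1 := by
    apply fval_ext
    intro p
    rw [fval_mul, fval_pow, fval_map, fval_fracFn, fval_coef, Localization.mk_pow, Localization.mk_mul,
      fval_one]
    exact mk_eq_one_of_eq _ _ _ _
      (by simp only [SubmonoidClass.coe_pow, Submonoid.coe_mul]; ring1)
  rw [hone, one_smul]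

/-- **Main theorem**: if the evaluation maps induce bijections `N_(f) ≃ F(D₊(f))`, then `N~ ≅ F`. -/
theorem nonempty_iso (hcov : ∀ x : Proj 𝒜, ∃ f : s, x ∈ D 𝒜 s f)
    (hsurj : ∀ (f : s) (q : Γ(F, D 𝒜 s f)), ∃ (K : ℕ) (m : N), m ∈ 𝒩 K ∧ ED.E f K m = q)
    (hinj : ∀ (f : s) (K : ℕ) (m : N), m ∈ 𝒩 K → ED.E f K m = 0 → ∃ L : ℕ, (f : A) ^ L • m = 0) :
    Nonempty (Nt 𝒜 𝒩 ≅ F) := by
  obtain ⟨φ, hφ⟩ := ED.exists_hom hcov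
  have : IsIso φ := by
    refine Groth.Agent.Lib.QCoh.isIso_of_bijective_app_of_isBasis φ
      (fun W : {W : (Proj 𝒜).Opens // good 𝒜 s W} => W.1) ?_ ?_
    · rw [Opens.isBasis_iff_nbhd]
      intro V x hx
      obtain ⟨W, hW, hxW, hWV⟩ := good_basis (𝒜 := 𝒜) (s := s) hcov V x hx
      exact ⟨W, ⟨⟨W, hW⟩, rfl⟩, hxW, hWV⟩
    · intro W
      exact ⟨ED.app_injective_of_good φ hφ hinj W.2, ED.app_surjective_of_good φ hφ hsurj W.2⟩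
  exact ⟨asIso φ⟩

end EvalData

end Groth.Agent.Lib.Proj.QCohProj
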