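import Mathlib
import Groth.Agent.Lib.Proj.Helper66_QCohProj

/-!
# `Γ_*(F)~ ≅ F` for quasi-coherent `F` on `Proj` (helper66)

ns `Groth.Agent.Lib.Proj.GStarQCoh`.
* `gstarEval : EvalData 𝒜 s hs1 F (grading 𝒜 s hs1 F)`
* `gstar_inj`, `gstar_surj` (use quasi-coherence of `F`)
* `nonempty_tilde_gstar_iso`
-/

set_option autoImplicit false
universe u
open CategoryTheory AlgebraicGeometry Opposite TopologicalSpace

namespace Groth.Agent.Lib.Proj.GStarQCoh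

open Groth.Agent.Lib.Proj.QCohTwist Groth.Agent.Lib.Proj.FracFn Groth.Agent.Lib.QCoh.Glue74
  Groth.Agent.Lib.Proj.GammaStar Groth.Agent.Lib.Proj.QCohTilde Groth.Agent.Lib.Proj.QCohProj

variable {R A : Type u} [CommRing R] [CommRing A] [Algebra R A] (𝒜 : ℕ → Submodule R A)
  [GradedAlgebra 𝒜] (s : Finset A) (hs1 : ∀ f ∈ s, f ∈ 𝒜 1) (F : (Proj 𝒜).Modules)

/-- the evaluation data of `Γ_*(F)` -/
noncomputable def gstarEval : EvalData 𝒜 s hs1 F (grading 𝒜 s hs1 F) where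
  E f e z := cmp 𝒜 s hs1 F z e f
  E_add f e _ _ _ _ := cmp_add 𝒜 s hs1 F _ _ e f
  E_smul f _ _ _ _ ha hz := cmp_smul 𝒜 s hs1 F ha hz f
  E_compat f g e _ _ := cmp_compat 𝒜 s hs1 F _ e f g

/-- power identities for `f₀ / g` -/
lemma coef_one_pow (f₀ g : s) (U : (Proj 𝒜).Opens) (hU : U ≤ D 𝒜 s g) (L : ℕ) :
    coef 𝒜 s hs1 g U hU 1 (f₀ : A) (hs1 f₀ f₀.2) ^ L =
      coef 𝒜 s hs1 g U hU L ((f₀ : A) ^ L) (pow_mem1 𝒜 (hs1 f₀ f₀.2) L) := by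
  apply fval_ext
  intro p
  rw [fval_pow, fval_coef, fval_coef, Localization.mk_pow]
  exact mk_eq_mk_of_mul_eq _ _ _ _ _ _ _ _
    (by first | ring1 | (simp only [SubmonoidClass.coe_pow]; ring1))

include hs1 in
lemma isAffineOpen_D (f : s) : IsAffineOpen (D 𝒜 s f) :=
  Proj.isAffineOpen_basicOpen 𝒜 (f : A) (hs1 f f.2) one_pos

include hs1 in
lemma isAffineOpen_D_inf (f g : s) : IsAffineOpen (D 𝒜 s f ⊓ D 𝒜 s g) := by
  have := Proj.isAffineOpen_basicOpen 𝒜 ((f : A) * g)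
    (SetLike.mul_mem_graded (hs1 f f.2) (hs1 g g.2)) (by norm_num : 0 < 1 + 1)
  rwa [Proj.basicOpen_mul] at this

lemma basicOpen_coef_one (f₀ g : s) (U : (Proj 𝒜).Opens) (hU : U ≤ D 𝒜 s g) :
    U ⊓ D 𝒜 s f₀ = (Proj 𝒜).basicOpen (coef 𝒜 s hs1 g U hU 1 (f₀ : A) (hs1 f₀ f₀.2)) := by
  unfold coef
  rw [basicOpen_fracFn]

variable [F.IsQuasicoherent]

/-- injectivity: a homogeneous element whose `f`-component vanishes is killed by a power of `f` -/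
theorem gstar_inj (f : s) (K : ℕ) (z : GStar 𝒜 s hs1 F) (hz : z ∈ grading 𝒜 s hs1 F K)
    (h0 : cmp 𝒜 s hs1 F z K f = 0) : ∃ L : ℕ, (f : A) ^ L • z = 0 := by
  have key : ∀ g : s, ∃ L : ℕ,
      coef 𝒜 s hs1 g (D 𝒜 s g) le_rfl 1 (f : A) (hs1 f f.2) ^ L • cmp 𝒜 s hs1 F z K g = 0 := by
    intro g
    refine exists_pow_smul_eq_zero' F (isAffineOpen_D 𝒜 s hs1 g) _
      (basicOpen_coef_one 𝒜 s hs1 f g _ le_rfl) inf_le_left _ ?_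
    rw [cmp_compat 𝒜 s hs1 F z K g f, h0, res, map_zero, smul_zero]
  choose L hL using key
  refine ⟨Finset.univ.sup L, ?_⟩
  have hfL : (f : A) ^ Finset.univ.sup L ∈ 𝒜 (Finset.univ.sup L) := pow_mem1 𝒜 (hs1 f f.2) _
  refine eq_zero_of_cmp 𝒜 s hs1 F (SetLike.GradedSMul.smul_mem hfL hz) fun g => ?_
  rw [vadd_eq_add, cmp_smul 𝒜 s hs1 F hfL hz g, ← coef_one_pow,
    ← Nat.sub_add_cancel (Finset.le_sup (f := L) (Finset.mem_univ g)), pow_add, mul_smul, hL g,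
    smul_zero]


omit [F.IsQuasicoherent] in
lemma map_coef (f : s) {U' U : (Proj 𝒜).Opens} (h : U' ≤ U) (hU : U ≤ D 𝒜 s f) (d : ℕ) (a : A)
    (ha : a ∈ 𝒜 d) :
    (Proj 𝒜).presheaf.map (homOfLE h).op (coef 𝒜 s hs1 f U hU d a ha) =
      coef 𝒜 s hs1 f U' (h.trans hU) d a ha :=
  resO_coef 𝒜 s hs1 f h hU d a ha

omit [F.IsQuasicoherent] in
lemma coef_self_one (f : s) (U : (Proj 𝒜).Opens) (hU : U ≤ D 𝒜 s f) :
    coef 𝒜 s hs1 f U hU 1 (f : A) (hs1 f f.2) = 1 := by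
  apply fval_ext
  intro p
  rw [fval_coef, fval_one]
  exact mk_eq_one_of_eq _ _ _ _ (pow_one _).symm

/-- surjectivity: every section over `D₊(f₀)` is the `f₀`-component of a homogeneous element -/
theorem gstar_surj (f₀ : s) (q : Γ(F, D 𝒜 s f₀)) :
    ∃ (K : ℕ) (z : GStar 𝒜 s hs1 F), z ∈ grading 𝒜 s hs1 F K ∧ cmp 𝒜 s hs1 F z K f₀ = q := by
  classical
  have hf₀ := hs1 f₀ f₀.2
  -- Step 1: extend `q` to each `D₊(g)` after multiplying by a power of `f₀ / g`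
  have h1 : ∀ g : s, ∃ (n : ℕ) (t : Γ(F, D 𝒜 s g)),
      res F (inf_le_left : D 𝒜 s g ⊓ D 𝒜 s f₀ ≤ D 𝒜 s g) t =
        coef 𝒜 s hs1 g (D 𝒜 s g ⊓ D 𝒜 s f₀) inf_le_left 1 (f₀ : A) hf₀ ^ n •
          res F (inf_le_right : D 𝒜 s g ⊓ D 𝒜 s f₀ ≤ D 𝒜 s f₀) q := by
    intro g
    obtain ⟨n, t, ht⟩ := exists_pow_smul_eq_map' F (isAffineOpen_D 𝒜 s hs1 g)
      (coef 𝒜 s hs1 g (D 𝒜 s g) le_rfl 1 (f₀ : A) hf₀)
      (basicOpen_coef_one 𝒜 s hs1 f₀ g _ le_rfl) inf_le_left (res F inf_le_right q)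
    rw [map_coef] at ht
    exact ⟨n, t, ht⟩
  choose n₁ t₁ ht₁ using h1
  -- Step 2: uniform exponent
  obtain ⟨N₁, hN₁⟩ : ∃ N₁ : ℕ, ∀ g : s, n₁ g ≤ N₁ :=
    ⟨Finset.univ.sup n₁, fun g => Finset.le_sup (Finset.mem_univ g)⟩
  obtain ⟨t₂, t₂def⟩ : ∃ t₂ : ∀ g : s, Γ(F, D 𝒜 s g), ∀ g, t₂ g =
      coef 𝒜 s hs1 g (D 𝒜 s g) le_rfl 1 (f₀ : A) hf₀ ^ (N₁ - n₁ g) • t₁ g := ⟨_, fun _ => rfl⟩
  have ht₂ : ∀ g : s, res F (inf_le_left : D 𝒜 s g ⊓ D 𝒜 s f₀ ≤ D 𝒜 s g) (t₂ g) =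
      coef 𝒜 s hs1 g (D 𝒜 s g ⊓ D 𝒜 s f₀) inf_le_left 1 (f₀ : A) hf₀ ^ N₁ •
        res F (inf_le_right : D 𝒜 s g ⊓ D 𝒜 s f₀ ≤ D 𝒜 s f₀) q := by
    intro g
    rw [t₂def g, res_smul, map_pow, map_coef, ht₁ g, ← mul_smul, ← pow_add, Nat.sub_add_cancel (hN₁ g)]
  -- Step 3: the pairwise differences are killed by a power of `f₀ / g`
  have h3 : ∀ g g' : s, ∃ k : ℕ,
      coef 𝒜 s hs1 g (D 𝒜 s g ⊓ D 𝒜 s g') inf_le_left 1 (f₀ : A) hf₀ ^ k •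
        (res F (inf_le_left : D 𝒜 s g ⊓ D 𝒜 s g' ≤ D 𝒜 s g) (t₂ g) -
          ratio 𝒜 s hs1 g g' (D 𝒜 s g ⊓ D 𝒜 s g') inf_le_left N₁ •
            res F (inf_le_right : D 𝒜 s g ⊓ D 𝒜 s g' ≤ D 𝒜 s g') (t₂ g')) = 0 := by
    intro g g'
    refine exists_pow_smul_eq_zero' F (isAffineOpen_D_inf 𝒜 s hs1 g g') _
      (basicOpen_coef_one 𝒜 s hs1 f₀ g _ inf_le_left) inf_le_left _ ?_
    have e1 : res F ((inf_le_left : D 𝒜 s g ⊓ D 𝒜 s g' ⊓ D 𝒜 s f₀ ≤ D 𝒜 s g ⊓ D 𝒜 s g').trans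
          inf_le_left) (t₂ g) =
        coef 𝒜 s hs1 g (D 𝒜 s g ⊓ D 𝒜 s g' ⊓ D 𝒜 s f₀) (inf_le_left.trans inf_le_left) 1
          (f₀ : A) hf₀ ^ N₁ • res F inf_le_right q := by
      have := congrArg (res F (le_inf (inf_le_left.trans inf_le_left) inf_le_right :
        D 𝒜 s g ⊓ D 𝒜 s g' ⊓ D 𝒜 s f₀ ≤ D 𝒜 s g ⊓ D 𝒜 s f₀)) (ht₂ g)
      rw [res_res, res_smul, res_res, map_pow, map_coef] at this
      exact this
    have e2 : res F ((inf_le_left : D 𝒜 s g ⊓ D 𝒜 s g' ⊓ D 𝒜 s f₀ ≤ D 𝒜 s g ⊓ D 𝒜 s g').trans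
          inf_le_right) (t₂ g') =
        coef 𝒜 s hs1 g' (D 𝒜 s g ⊓ D 𝒜 s g' ⊓ D 𝒜 s f₀) (inf_le_left.trans inf_le_right) 1
          (f₀ : A) hf₀ ^ N₁ • res F inf_le_right q := by
      have := congrArg (res F (le_inf (inf_le_left.trans inf_le_right) inf_le_right :
        D 𝒜 s g ⊓ D 𝒜 s g' ⊓ D 𝒜 s f₀ ≤ D 𝒜 s g' ⊓ D 𝒜 s f₀)) (ht₂ g')
      rw [res_res, res_smul, res_res, map_pow, map_coef] at this
      exact this
    rw [res, map_sub, ← res, ← res, res_smul, res_res, res_res, e1, e2, ← mul_smul, sub_eq_zero]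
    congr 1
    apply fval_ext
    intro p
    simp only [fval_mul, fval_pow, fval_coef, fval_map, ratio, Localization.mk_pow, Localization.mk_mul]
    exact mk_eq_mk_of_mul_eq _ _ _ _ _ _ _ _
      (by simp only [SubmonoidClass.coe_pow, Submonoid.coe_mul]; ring1)
  choose k hk using h3
  obtain ⟨K₂, hK₂⟩ : ∃ K₂ : ℕ, ∀ g g' : s, k g g' ≤ K₂ :=
    ⟨Finset.univ.sup (fun gg : s × s => k gg.1 gg.2),
      fun g g' => Finset.le_sup (f := fun gg : s × s => k gg.1 gg.2) (Finset.mem_univ (g, g'))⟩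
  -- Step 4: the corrected family is compatible
  obtain ⟨t₃, t₃def⟩ : ∃ t₃ : ∀ g : s, Γ(F, D 𝒜 s g), ∀ g, t₃ g =
      coef 𝒜 s hs1 g (D 𝒜 s g) le_rfl 1 (f₀ : A) hf₀ ^ K₂ • t₂ g := ⟨_, fun _ => rfl⟩
  have hmem : t₃ ∈ Mn 𝒜 s hs1 F (N₁ + K₂) := by
    intro g g'
    rw [t₃def g, t₃def g', res_smul, res_smul, map_pow, map_pow, map_coef, map_coef, ← mul_smul]
    have hid : ratio 𝒜 s hs1 g g' (D 𝒜 s g ⊓ D 𝒜 s g') inf_le_left (N₁ + K₂) *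
        coef 𝒜 s hs1 g' (D 𝒜 s g ⊓ D 𝒜 s g') inf_le_right 1 (f₀ : A) hf₀ ^ K₂ =
        coef 𝒜 s hs1 g (D 𝒜 s g ⊓ D 𝒜 s g') inf_le_left 1 (f₀ : A) hf₀ ^ K₂ *
          ratio 𝒜 s hs1 g g' (D 𝒜 s g ⊓ D 𝒜 s g') inf_le_left N₁ := by
      apply fval_ext
      intro p
      simp only [fval_mul, fval_pow, fval_coef, ratio, Localization.mk_pow, Localization.mk_mul]
      exact mk_eq_mk_of_mul_eq _ _ _ _ _ _ _ _
        (by simp only [SubmonoidClass.coe_pow, Submonoid.coe_mul]; ring1)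
    rw [hid, mul_smul, ← sub_eq_zero, ← smul_sub, ← Nat.sub_add_cancel (hK₂ g g'), pow_add, mul_smul,
      hk g g', smul_zero]
  -- Step 5
  obtain ⟨z, hz, hzc⟩ := exists_of_family 𝒜 s hs1 F t₃ hmem
  refine ⟨N₁ + K₂, z, hz, ?_⟩
  rw [hzc f₀, t₃def f₀, t₂def f₀]
  rw [coef_self_one, one_pow, one_pow, one_smul, one_smul]
  refine Groth.Agent.Lib.QCoh.sections_ext_of_cover F (fun _ : Unit => D 𝒜 s f₀ ⊓ D 𝒜 s f₀) (D 𝒜 s f₀)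
    (fun _ => inf_le_left) (fun x hx => Opens.mem_iSup.2 ⟨(), ⟨hx, hx⟩⟩) _ _ fun _ => ?_
  have := ht₁ f₀
  rw [coef_self_one, one_pow, one_smul] at this
  exact this

/-- **`Γ_*(F)~ ≅ F`** for quasi-coherent `F` when `s` generates the irrelevant ideal -/
theorem nonempty_tilde_gstar_iso
    (hs : (HomogeneousIdeal.irrelevant 𝒜).toIdeal = Ideal.span (s : Set A)) :
    Nonempty (GrTilde.tilde 𝒜 (grading 𝒜 s hs1 F) 0 ≅ F) := by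
  have hcov : ∀ x : Proj 𝒜, ∃ f : s, x ∈ D 𝒜 s f := by
    intro x
    have h := Proj.iSup_basicOpen_eq_top 𝒜 (fun i : s => (i : A)) (by simpa using hs.le)
    have hx : x ∈ (⨆ i : s, Proj.basicOpen 𝒜 (i : A)) := by rw [h]; trivial
    exact Opens.mem_iSup.mp hx
  exact (gstarEval 𝒜 s hs1 F).nonempty_iso hcov
    (fun f q => by
      obtain ⟨K, z, hz, hq⟩ := gstar_surj 𝒜 s hs1 F f q
      exact ⟨K, z, hz, hq⟩)
    (fun f K z hz h0 => gstar_inj 𝒜 s hs1 F f K z hz h0)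

end Groth.Agent.Lib.Proj.GStarQCoh
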