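import Groth.Agent.Lib.Proj.Helper56_Charts

/-!
# Global functions on projective space: `Γ(ℙⁿ_R, O) = R`
-/

set_option maxHeartbeats 400000

universe u

open CategoryTheory AlgebraicGeometry MvPolynomial HomogeneousLocalization

namespace Groth.Agent.Lib.Proj

noncomputable section

section Algebra

/-- If `p` is homogeneous of degree `m` and `p * X_j ^ k = q * X_i ^ m` with `i ≠ j`, then
`p = c * X_i ^ m`. -/
theorem eq_C_mul_X_pow_of_mul_X_pow_eq {σ : Type*} {R : Type*} [CommRing R] {i j : σ} (hij : i ≠ j)
    {p q : MvPolynomial σ R} {m k : ℕ} (hp : p.IsHomogeneous m)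
    (h : p * X j ^ k = q * X i ^ m) :
    p = C (coeff (Finsupp.single i m) p) * X i ^ m := by
  classical
  have key : ∀ d, coeff d p ≠ 0 → d = Finsupp.single i m := by
    intro d hd
    have h1 : coeff (d + Finsupp.single j k) (p * X j ^ k) = coeff d p := by
      rw [X_pow_eq_monomial, coeff_mul_monomial, mul_one]
    have h2 : coeff (d + Finsupp.single j k) (q * X i ^ m) ≠ 0 := by
      rw [← h, h1]; exact hd
    rw [X_pow_eq_monomial, coeff_mul_monomial'] at h2
    have h3 : Finsupp.single i m ≤ d + Finsupp.single j k := by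
      by_contra hcon
      rw [if_neg hcon] at h2
      exact h2 rfl
    have h4 : m ≤ d i := by
      have := h3 i
      simpa [Finsupp.single_apply, hij, hij.symm] using this
    have h5 : d.degree = m := by
      rw [Finsupp.degree_apply]
      exact (hp.degree_eq_sum_deg_support (mem_support_iff.mpr hd)).symm
    have hle : Finsupp.single i m ≤ d := Finsupp.single_le_iff.mpr h4
    have h6 : d = (d - Finsupp.single i m) + Finsupp.single i m := (tsub_add_cancel_of_le hle).symm
    have h7 : (d - Finsupp.single i m).degree = 0 := by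
      have := congrArg Finsupp.degree h6
      rw [map_add, Finsupp.degree_single, h5] at this
      omega
    rw [Finsupp.degree_eq_zero_iff] at h7
    rw [h6, h7, zero_add]
  rw [C_mul_X_pow_eq_monomial]
  ext d
  rw [coeff_monomial]
  split_ifs with hd
  · rw [hd]
  · by_contra hne
    exact hd (key d hne).symm

variable (n : ℕ) (R : Type u) [CommRing R]

theorem awayXEquiv_constHom (i : Fin (n + 1)) (r : R) :
    awayXEquiv n R i (constHom n R i r) = C r :=
  awayToChart_constHom n R i r

/-- Two degree-zero fractions on `D₊(X_i)` and `D₊(X_j)` (`i ≠ j`) that agree on the overlap are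
one and the same constant. -/
theorem exists_const_of_awayMap_eq {i j : Fin (n + 1)} (hij : i ≠ j)
    (a : Away (CohB1.polyGrading n R) (X i : MvPolynomial (Fin (n + 1)) R))
    (b : Away (CohB1.polyGrading n R) (X j : MvPolynomial (Fin (n + 1)) R))
    {x : MvPolynomial (Fin (n + 1)) R} (hx : x = X i * X j)
    (h : awayMap (CohB1.polyGrading n R) (X_mem n R j) hx a =
      awayMap (CohB1.polyGrading n R) (X_mem n R i) (hx.trans (mul_comm _ _)) b) :
    ∃ r : R, awayXEquiv n R i a = C r ∧ awayXEquiv n R j b = C r := by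
  obtain ⟨m, p, hp, rfl⟩ := Away.mk_surjective (CohB1.polyGrading n R) (X_mem n R i) a
  obtain ⟨k, q, hq, rfl⟩ := Away.mk_surjective (CohB1.polyGrading n R) (X_mem n R j) b
  rw [awayMap_mk, awayMap_mk] at h
  have hv := congrArg HomogeneousLocalization.val h
  rw [Away.val_mk, Away.val_mk, Localization.mk_eq_mk_iff, Localization.r_iff_exists] at hv
  obtain ⟨c, hc⟩ := hv
  have hxreg : IsRegular x := by
    rw [hx]; exact (isRegular_X).mul (isRegular_X)
  have hcreg : IsRegular (c : MvPolynomial (Fin (n + 1)) R) := by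
    obtain ⟨N, hN⟩ := c.2
    rw [← hN]; exact hxreg.pow N
  have hc' := hcreg.left hc
  simp only at hc'
  subst hx
  have hmain : p * X j ^ k = q * X i ^ m := by
    have hreg : IsRegular ((X i : MvPolynomial (Fin (n + 1)) R) ^ k * X j ^ m) :=
      (isRegular_X_pow k).mul (isRegular_X_pow m)
    apply hreg.left
    simp only
    rw [mul_pow, mul_pow] at hc'
    linear_combination hc'
  have hp' : p.IsHomogeneous m := by
    have := hp
    rw [smul_eq_mul, mul_one] at this
    exact this
  have hpc := eq_C_mul_X_pow_of_mul_X_pow_eq hij hp' hmain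
  set r := coeff (Finsupp.single i m) p with hr
  have hqc : q = C r * X j ^ k := by
    have hreg : IsRegular ((X i : MvPolynomial (Fin (n + 1)) R) ^ m) := isRegular_X_pow m
    apply hreg.right
    simp only
    rw [← hmain, hpc]
    ring
  refine ⟨r, ?_, ?_⟩
  · rw [awayXEquiv_mk, hpc, map_mul, map_pow, dehom_C, dehom_X_self, one_pow, mul_one]
  · rw [awayXEquiv_mk, hqc, map_mul, map_pow, dehom_C, dehom_X_self, one_pow, mul_one]

end Algebra

section Scheme

variable (n : ℕ) (R : Type u) [CommRing R]

/-- Restriction of a global function to `D₊(X i)`, as a degree-zero fraction. -/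
def toAway (i : Fin (n + 1)) : Γ(Proj (CohB1.polyGrading n R), ⊤) ⟶
    CommRingCat.of (Away (CohB1.polyGrading n R) (X i : MvPolynomial (Fin (n + 1)) R)) :=
  (Proj.awayι (CohB1.polyGrading n R) (X i) (X_mem n R i) Nat.one_pos).appTop ≫
    (Scheme.ΓSpecIso _).hom

theorem toAway_awayMap (i j : Fin (n + 1)) {x : MvPolynomial (Fin (n + 1)) R}
    (hx : x = X i * X j) :
    toAway n R i ≫ CommRingCat.ofHom (awayMap (CohB1.polyGrading n R) (X_mem n R j) hx) =
      (Proj.awayι (CohB1.polyGrading n R) x
        (hx ▸ SetLike.mul_mem_graded (X_mem n R i) (X_mem n R j))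
        (Nat.one_pos.trans_le (Nat.le_add_right 1 1))).appTop ≫ (Scheme.ΓSpecIso _).hom := by
  rw [toAway, Category.assoc, ← Scheme.ΓSpecIso_naturality, ← Category.assoc,
    ← Scheme.Hom.comp_appTop, Proj.SpecMap_awayMap_awayι]

theorem toAway_awayMap_eq (i j : Fin (n + 1)) {x : MvPolynomial (Fin (n + 1)) R}
    (hx : x = X i * X j) :
    toAway n R i ≫ CommRingCat.ofHom (awayMap (CohB1.polyGrading n R) (X_mem n R j) hx) =
    toAway n R j ≫ CommRingCat.ofHom
      (awayMap (CohB1.polyGrading n R) (X_mem n R i) (hx.trans (mul_comm _ _))) := by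
  rw [toAway_awayMap n R i j hx, toAway_awayMap n R j i (hx.trans (mul_comm _ _))]

/-- The restriction of a global function to the `i`-th chart, as a polynomial. -/
def toChart (i : Fin (n + 1)) : Γ(CohB1.ProjSpace n R, ⊤) ⟶
    CommRingCat.of (MvPolynomial {j : Fin (n + 1) // j ≠ i} R) :=
  (chart n R i).appTop ≫ (Scheme.ΓSpecIso _).hom

theorem toChart_eq (i : Fin (n + 1)) :
    toChart n R i = toAway n R i ≫ (awayXEquiv n R i).toCommRingCatIso.hom := by
  change (chart' n R i).appTop ≫ _ = _
  rw [toAway, chart', Scheme.Hom.comp_appTop, Category.assoc, Category.assoc,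
    Scheme.ΓSpecIso_naturality]

theorem toChart_apply (i : Fin (n + 1)) (s : Γ(CohB1.ProjSpace n R, ⊤)) :
    (toChart n R i).hom s = awayXEquiv n R i ((toAway n R i).hom s) := by
  rw [toChart_eq]; rfl

/-- The structure map `R → Γ(ℙⁿ_R, O)`. -/
def constΓ : CommRingCat.of R ⟶ Γ(CohB1.ProjSpace n R, ⊤) :=
  (Scheme.ΓSpecIso (CommRingCat.of R)).inv ≫ (CohB1.ProjSpace.toSpec n R).appTop

theorem constΓ_toChart (i : Fin (n + 1)) :
    constΓ n R ≫ toChart n R i =
      CommRingCat.ofHom (C : R →+* MvPolynomial {j : Fin (n + 1) // j ≠ i} R) := by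
  rw [constΓ, toChart, Category.assoc, ← Category.assoc _ (chart n R i).appTop,
    ← Scheme.Hom.comp_appTop, chart_toSpec, Scheme.ΓSpecIso_naturality, Iso.inv_hom_id_assoc]

theorem toChart_constΓ_apply (i : Fin (n + 1)) (r : R) :
    (toChart n R i).hom ((constΓ n R).hom r) = C r := by
  have := congrArg (fun φ => φ.hom r) (constΓ_toChart n R i)
  exact this

/-- Global functions are determined by their restrictions to the charts. -/
theorem ext_of_toChart (s t : Γ(CohB1.ProjSpace n R, ⊤))
    (h : ∀ i, (toChart n R i).hom s = (toChart n R i).hom t) : s = t := by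
  refine Scheme.OpenCover.ext_elem s t (openCover n R) (fun i => ?_)
  have hi := h i
  simp only [toChart, CommRingCat.hom_comp, RingHom.comp_apply] at hi
  exact (ConcreteCategory.bijective_of_isIso (Scheme.ΓSpecIso _).hom).1 hi

/-- Every global function restricts to constants on the charts, with one and the same constant. -/
theorem exists_const (s : Γ(CohB1.ProjSpace n R, ⊤)) :
    ∃ r : R, ∀ i, (toChart n R i).hom s = C r := by
  have hpair : ∀ i j : Fin (n + 1), i ≠ j →
      ∃ r : R, (toChart n R i).hom s = C r ∧ (toChart n R j).hom s = C r := by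
    intro i j hij
    have h := congrArg (fun φ => φ.hom s) (toAway_awayMap_eq n R i j rfl)
    simp only [CommRingCat.hom_comp, CommRingCat.hom_ofHom] at h
    obtain ⟨r, h1, h2⟩ := exists_const_of_awayMap_eq n R hij _ _ rfl h
    exact ⟨r, by rw [toChart_apply]; exact h1, by rw [toChart_apply]; exact h2⟩
  have h0 : ∃ r : R, (toChart n R 0).hom s = C r := by
    rcases Nat.eq_zero_or_pos n with hn | hn
    · subst hn
      have : IsEmpty {j : Fin (0 + 1) // j ≠ 0} := ⟨fun j => j.2 (Fin.fin_one_eq_zero j.1)⟩
      obtain ⟨r, hr⟩ := MvPolynomial.C_surjective {j : Fin (0 + 1) // j ≠ 0}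
        ((toChart 0 R 0).hom s)
      exact ⟨r, hr.symm⟩
    · have h01 : (0 : Fin (n + 1)) ≠ ⟨1, by omega⟩ := by
        intro h
        have := congrArg Fin.val h
        simp at this
      obtain ⟨r, hr, -⟩ := hpair 0 ⟨1, by omega⟩ h01
      exact ⟨r, hr⟩
  obtain ⟨r, hr⟩ := h0
  refine ⟨r, fun i => ?_⟩
  by_cases hi : i = 0
  · rw [hi]; exact hr
  · obtain ⟨r', h1, h2⟩ := hpair 0 i (Ne.symm hi)
    have : r' = r := MvPolynomial.C_injective _ _ (h1.symm.trans hr)
    rw [h2, this]

theorem bijective_constΓ : Function.Bijective (constΓ n R).hom := by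
  constructor
  · intro r r' h
    have := congrArg (toChart n R 0).hom h
    rw [toChart_constΓ_apply, toChart_constΓ_apply] at this
    exact MvPolynomial.C_injective _ _ this
  · intro s
    obtain ⟨r, hr⟩ := exists_const n R s
    refine ⟨r, ext_of_toChart n R _ _ (fun i => ?_)⟩
    rw [toChart_constΓ_apply, hr]

instance isIso_constΓ : IsIso (constΓ n R) :=
  (ConcreteCategory.isIso_iff_bijective _).mpr (bijective_constΓ n R)

/-- **Global functions on projective space are constants.** -/
theorem isIso_toSpec_appTop : IsIso (CohB1.ProjSpace.toSpec n R).appTop := by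
  have : (CohB1.ProjSpace.toSpec n R).appTop =
      (Scheme.ΓSpecIso (CommRingCat.of R)).hom ≫ constΓ n R := by
    rw [constΓ, Iso.hom_inv_id_assoc]
  rw [this]
  infer_instance

end Scheme

end

end Groth.Agent.Lib.Proj
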