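import Mathlib
import Groth.Agent.Lib.Proj.Helper66_GStarQCoh
import Groth.Agent.Lib.Helper66.HomogSubmodule
import Groth.Agent.Lib.QCoh.AffineOpen

/-!
# Quasi-coherent modules of finite type on `Proj` are `N~`, `N` finitely generated (helper66)

ns `Groth.Agent.Lib.Proj.GStarFinite`.
* `exists_finite_graded_iso` (= S3551)
-/

set_option autoImplicit false
universe u
open CategoryTheory AlgebraicGeometry Opposite TopologicalSpace

namespace Groth.Agent.Lib.Proj.GStarFinite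

open Groth.Agent.Lib.Proj.QCohTwist Groth.Agent.Lib.Proj.FracFn Groth.Agent.Lib.QCoh.Glue74
  Groth.Agent.Lib.Proj.GammaStar Groth.Agent.Lib.Proj.QCohTilde Groth.Agent.Lib.Proj.QCohProj
  Groth.Agent.Lib.Proj.GStarQCoh Groth.Agent.Lib.Helper66

variable {R A : Type u} [CommRing R] [CommRing A] [Algebra R A] (𝒜 : ℕ → Submodule R A)
  [GradedAlgebra 𝒜] (s : Finset A) (hs1 : ∀ f ∈ s, f ∈ 𝒜 1) (F : (Proj 𝒜).Modules)

/-- the sections over `D₊(f)` reached from homogeneous elements of a submodule `P` -/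
def reach (P : Submodule A (GStar 𝒜 s hs1 F)) (f : s) :
    Submodule Γ(Proj 𝒜, D 𝒜 s f) Γ(F, D 𝒜 s f) where
  carrier := {q | ∃ (K : ℕ) (m : GStar 𝒜 s hs1 F), m ∈ P ∧ m ∈ grading 𝒜 s hs1 F K ∧
    cmp 𝒜 s hs1 F m K f = q}
  zero_mem' := ⟨0, 0, zero_mem _, zero_mem _, cmp_zero 𝒜 s hs1 F 0 f⟩
  add_mem' := by
    rintro _ _ ⟨K, m, hmP, hm, rfl⟩ ⟨K', m', hmP', hm', rfl⟩
    have hfK : (f : A) ^ K ∈ 𝒜 K := pow_mem1 𝒜 (hs1 f f.2) K
    have hfK' : (f : A) ^ K' ∈ 𝒜 K' := pow_mem1 𝒜 (hs1 f f.2) K'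
    have h1 : (f : A) ^ K' • m ∈ grading 𝒜 s hs1 F (K' + K) := SetLike.GradedSMul.smul_mem hfK' hm
    have h2 : (f : A) ^ K • m' ∈ grading 𝒜 s hs1 F (K' + K) := by
      have := SetLike.GradedSMul.smul_mem (A := 𝒜) (B := grading 𝒜 s hs1 F) hfK hm'
      rwa [vadd_eq_add, Nat.add_comm K K'] at this
    refine ⟨K' + K, (f : A) ^ K' • m + (f : A) ^ K • m', add_mem (P.smul_mem _ hmP) (P.smul_mem _ hmP'),
      add_mem h1 h2, ?_⟩
    have e2 : cmp 𝒜 s hs1 F ((f : A) ^ K • m') (K' + K) f = cmp 𝒜 s hs1 F m' K' f := by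
      have := cmp_smul 𝒜 s hs1 F hfK hm' f
      rw [coef_self_pow, one_smul, Nat.add_comm K K'] at this
      exact this
    rw [cmp_add, cmp_smul 𝒜 s hs1 F hfK' hm f, coef_self_pow, one_smul, e2]
  smul_mem' := by
    rintro r _ ⟨K, m, hmP, hm, rfl⟩
    obtain ⟨k, b, hb, hr⟩ := exists_frac_fn 𝒜 one_pos (hs1 f f.2) r
    rw [mul_one] at hb
    refine ⟨k + K, b • m, P.smul_mem _ hmP, SetLike.GradedSMul.smul_mem hb hm, ?_⟩
    rw [cmp_smul 𝒜 s hs1 F hb hm f]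
    congr 1
    apply fval_ext
    intro p
    rw [fval_coef]
    exact (hr p).symm

variable [F.IsQuasicoherent]

/-- **finite type quasi-coherent modules on `Proj` come from finitely generated graded modules** -/
theorem exists_finite_graded_iso
    (hs : (HomogeneousIdeal.irrelevant 𝒜).toIdeal = Ideal.span (s : Set A))
    (hfin : ∀ f : s, Module.Finite Γ(Proj 𝒜, D 𝒜 s f) Γ(F, D 𝒜 s f)) :
    ∃ (P : Submodule A (GStar 𝒜 s hs1 F))
      (hP : ∀ z ∈ P, ∀ n, (DirectSum.decompose (grading 𝒜 s hs1 F) z n : GStar 𝒜 s hs1 F) ∈ P),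
      Module.Finite A P ∧
        Nonempty (GrTilde.tilde 𝒜 (HomogSub.grading (grading 𝒜 s hs1 F) P) 0 ≅ F) := by
  classical
  -- generators of the sections
  have hG : ∀ f : s, ∃ G : Finset Γ(F, D 𝒜 s f),
      Submodule.span Γ(Proj 𝒜, D 𝒜 s f) (G : Set Γ(F, D 𝒜 s f)) = ⊤ := fun f => (hfin f).fg_top
  choose G hG using hG
  choose K z hz hzq using fun (f : s) (q : Γ(F, D 𝒜 s f)) => gstar_surj 𝒜 s hs1 F f q
  let Z : Finset (GStar 𝒜 s hs1 F) := Finset.univ.biUnion fun f : s => (G f).image (z f)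
  let P : Submodule A (GStar 𝒜 s hs1 F) := Submodule.span A (Z : Set (GStar 𝒜 s hs1 F))
  have hZ : ∀ x ∈ Z, ∃ k, x ∈ grading 𝒜 s hs1 F k := by
    intro x hx
    obtain ⟨f, -, hx⟩ := Finset.mem_biUnion.mp hx
    obtain ⟨q, -, rfl⟩ := Finset.mem_image.mp hx
    exact ⟨K f q, hz f q⟩
  have hP : ∀ x ∈ P, ∀ n, (DirectSum.decompose (grading 𝒜 s hs1 F) x n : GStar 𝒜 s hs1 F) ∈ P :=
    fun x hx n => HomogSub.decompose_mem_span_finset 𝒜 (grading 𝒜 s hs1 F) Z hZ hx n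
  refine ⟨P, hP, Module.Finite.span_of_finite A Z.finite_toSet, ?_⟩
  letI : DirectSum.Decomposition (HomogSub.grading (grading 𝒜 s hs1 F) P) :=
    HomogSub.decomposition (grading 𝒜 s hs1 F) P hP
  -- evaluation data
  let ED : EvalData 𝒜 s hs1 F (HomogSub.grading (grading 𝒜 s hs1 F) P) :=
    { E := fun f e x => cmp 𝒜 s hs1 F x.1 e f
      E_add := fun f e _ _ _ _ => cmp_add 𝒜 s hs1 F _ _ e f
      E_smul := fun f _ _ _ _ ha hx => cmp_smul 𝒜 s hs1 F ha hx f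
      E_compat := fun f g e _ _ => cmp_compat 𝒜 s hs1 F _ e f g }
  have hcov : ∀ x : Proj 𝒜, ∃ f : s, x ∈ D 𝒜 s f := by
    intro x
    have h := Proj.iSup_basicOpen_eq_top 𝒜 (fun i : s => (i : A)) (by simpa using hs.le)
    have hx : x ∈ (⨆ i : s, Proj.basicOpen 𝒜 (i : A)) := by rw [h]; trivial
    exact Opens.mem_iSup.mp hx
  refine ED.nonempty_iso hcov ?_ ?_
  · -- surjectivity
    intro f q
    have htop : reach 𝒜 s hs1 F P f = ⊤ := by
      rw [eq_top_iff, ← hG f, Submodule.span_le]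
      intro q hq
      exact ⟨K f q, z f q, Submodule.subset_span (Finset.mem_biUnion.mpr
        ⟨f, Finset.mem_univ f, Finset.mem_image.mpr ⟨q, hq, rfl⟩⟩), hz f q, hzq f q⟩
    obtain ⟨K', m, hmP, hm, hq⟩ : q ∈ reach 𝒜 s hs1 F P f := htop ▸ Submodule.mem_top
    exact ⟨K', ⟨m, hmP⟩, hm, hq⟩
  · -- injectivity
    intro f K' m hm h0
    obtain ⟨L, hL⟩ := gstar_inj 𝒜 s hs1 F f K' m.1 hm h0
    exact ⟨L, Subtype.ext hL⟩

end Groth.Agent.Lib.Proj.GStarFinite
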