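/-
Abstract Serre duality by dimension shifting (helper44).  Setting: `X` over a field `k`, `ω` an
`O_X`-module with a trace `t : H^n(X, ω) → k`, a class `P` of modules such that
(H1) `φ ↦ t ∘ H^n(φ)` is bijective `Hom(F, ω) → H^n(F)^*` for `F ∈ P`;
(H2) every `F ∈ P` is a quotient `E ↠ F` with `E, ker ∈ P`, `Ext^j(E, ω) = 0` (`j ≥ 1`), `H^j(E) = 0` (`j < n`).
Then `Ext^i(F, ω) ≃ₗ[k] H^{n-i}(F)^*` for `i ≤ n` and `Ext^i(F, ω) = 0` for `i > n`, `F ∈ P`.

ns `Groth.Agent.Lib.Proj.ExtDual`.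
-/
import Groth.Agent.Lib.Cohomology.helper5_HHLES
import Groth.Prelude.Def_KLin
import Mathlib.Algebra.Homology.DerivedCategory.Ext.Linear
import Mathlib.LinearAlgebra.Dual.Lemmas

set_option autoImplicit false
universe u

open CategoryTheory CategoryTheory.Limits AlgebraicGeometry Abelian
open Groth.Agent.Lib.Cohomology.HHLES

namespace Groth.Agent.Lib.Proj.ExtDual

variable {X : Scheme.{u}} (k : Type u) [Field k] [X.Over (Spec (CommRingCat.of k))]

/-- multiplication by a scalar on cohomology is induced by multiplication on the module -/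
lemma hmap_smulMod (F : X.Modules) (n : ℕ) (a : k) (x : Coh.HH X F n) :
    hmap (Formal.smulMod k F a) n x = a • x := rfl

variable {ω : X.Modules} (n : ℕ) (t : Coh.HH X ω n →ₗ[k] k)

/-- the duality map `φ ↦ t ∘ H^n(φ)`, as a linear map -/
noncomputable def Θ (F : X.Modules) : (F ⟶ ω) →ₗ[k] Module.Dual k (Coh.HH X F n) where
  toFun φ := t ∘ₗ Canon.HHlin k φ n
  map_add' φ φ' := by
    ext x
    change t (hmap (φ + φ') n x) = t (hmap φ n x) + t (hmap φ' n x)
    rw [hmap_add, map_add]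
  map_smul' a φ := by
    ext x
    change t (hmap (a • φ) n x) = a • t (hmap φ n x)
    rw [KLin.smul_def, hmap_comp, hmap_smulMod, ← HHlin_apply k φ n, map_smul, map_smul]
    rfl

lemma Θ_apply (F : X.Modules) (φ : F ⟶ ω) (x : Coh.HH X F n) :
    Θ k n t F φ x = t (hmap φ n x) := rfl

/-- naturality of the duality map -/
lemma Θ_comp {F' F : X.Modules} (g : F' ⟶ F) (φ : F ⟶ ω) :
    Θ k n t F' (g ≫ φ) = (Canon.HHlin k g n).dualMap (Θ k n t F φ) := by
  ext x
  change t (hmap (g ≫ φ) n x) = t (hmap φ n (hmap g n x))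
  rw [hmap_comp]

section shifts

variable [HasExt.{u} X.Modules] {S : ShortComplex X.Modules} (hS : S.ShortExact)

/-- connecting map of `Ext(-, Y)`, as a linear map -/
noncomputable def δE (Y : X.Modules) (j : ℕ) :
    Ext.{u} S.X₁ Y j →ₗ[k] Ext.{u} S.X₃ Y (j + 1) :=
  Ext.bilinearCompOfLinear k S.X₃ S.X₁ Y 1 j (j + 1) (add_comm 1 j) hS.extClass

lemma δE_apply (Y : X.Modules) (j : ℕ) (x : Ext.{u} S.X₁ Y j) :
    δE k hS Y j x = hS.extClass.comp x (add_comm 1 j) := rfl

lemma δE_surjective (Y : X.Modules) (j : ℕ) (h : Subsingleton (Ext.{u} S.X₂ Y (j + 1))) :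
    Function.Surjective (δE k hS Y j) := fun y =>
  Ext.contravariant_sequence_exact₃ hS Y y (Subsingleton.elim _ _) (add_comm 1 j)

lemma δE_injective (Y : X.Modules) (j : ℕ) (h : Subsingleton (Ext.{u} S.X₂ Y j)) :
    Function.Injective (δE k hS Y j) := by
  rw [injective_iff_map_eq_zero]
  intro x hx
  obtain ⟨x₂, rfl⟩ := Ext.contravariant_sequence_exact₁ hS Y x (add_comm 1 j) hx
  rw [Subsingleton.elim x₂ 0, Ext.comp_zero]

/-- the pull-back map `Ext^0(E, Y) → Ext^0(K, Y)` -/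
noncomputable def fE (S : ShortComplex X.Modules) (Y : X.Modules) :
    Ext.{u} S.X₂ Y 0 →ₗ[k] Ext.{u} S.X₁ Y 0 :=
  Ext.bilinearCompOfLinear k S.X₁ S.X₂ Y 0 0 0 (zero_add 0) (Ext.mk₀ S.f)

lemma fE_apply (Y : X.Modules) (x : Ext.{u} S.X₂ Y 0) :
    fE k S Y x = (Ext.mk₀ S.f).comp x (zero_add 0) := rfl

lemma ker_δE_zero (Y : X.Modules) :
    LinearMap.ker (δE k hS Y 0) = LinearMap.range (fE k S Y) := by
  ext x
  constructor
  · intro hx
    obtain ⟨x₂, hx₂⟩ := Ext.contravariant_sequence_exact₁ hS Y x (add_comm 1 0) hx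
    exact ⟨x₂, hx₂⟩
  · rintro ⟨x₂, rfl⟩
    change hS.extClass.comp ((Ext.mk₀ S.f).comp x₂ (zero_add 0)) (add_comm 1 0) = 0
    exact hS.extClass_comp_assoc x₂

omit [HasExt.{u} X.Modules] in
lemma δlin_injective (m : ℕ) (h : Subsingleton (Coh.HH X S.X₂ m)) :
    Function.Injective (δlin hS k m) := by
  rw [injective_iff_map_eq_zero]
  intro x hx
  obtain ⟨y, rfl⟩ := exact₃ hS m x hx
  rw [Subsingleton.elim y 0, map_zero]

omit [HasExt.{u} X.Modules] in
lemma δlin_surjective (m : ℕ) (h : Subsingleton (Coh.HH X S.X₂ (m + 1))) :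
    Function.Surjective (δlin hS k m) := fun y =>
  exact₁ hS m y (Subsingleton.elim _ _)

end shifts

section degreeZeroOne

variable [HasExt.{u} X.Modules]

/-- the degree-zero duality isomorphism -/
noncomputable def L0 {F : X.Modules} (h : Function.Bijective (Θ k n t F)) :
    Ext.{u} F ω 0 ≃ₗ[k] Module.Dual k (Coh.HH X F n) :=
  (Ext.linearEquiv₀ (R := k)).trans (LinearEquiv.ofBijective (Θ k n t F) h)

lemma L0_mk₀ {F : X.Modules} (h : Function.Bijective (Θ k n t F)) (φ : F ⟶ ω) :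
    L0 k n t h (Ext.mk₀ φ) = Θ k n t F φ := by
  have h1 : (Ext.linearEquiv₀ (R := k)) (Ext.mk₀ φ) = φ :=
    (Ext.linearEquiv₀ (R := k)).symm.injective (by
      rw [LinearEquiv.symm_apply_apply, Ext.linearEquiv₀_symm_apply])
  change (LinearEquiv.ofBijective (Θ k n t F) h) ((Ext.linearEquiv₀ (R := k)) (Ext.mk₀ φ)) = _
  rw [h1]
  rfl

variable {S : ShortComplex X.Modules} (hS : S.ShortExact)

/-- naturality of `L0` along `S.f` -/
lemma L0_fE (h₁ : Function.Bijective (Θ k n t S.X₁)) (h₂ : Function.Bijective (Θ k n t S.X₂))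
    (x : Ext.{u} S.X₂ ω 0) :
    L0 k n t h₁ (fE k S ω x) = (Canon.HHlin k S.f n).dualMap (L0 k n t h₂ x) := by
  obtain ⟨φ, rfl⟩ := (Ext.mk₀_bijective S.X₂ ω).surjective x
  rw [fE_apply, Ext.mk₀_comp_mk₀, L0_mk₀, L0_mk₀, Θ_comp]

include hS in
/-- `Ext^1(F, ω) ≃ (ker (H^n(K) → H^n(E)))^*` for `0 → K → E → F → 0` with `Ext^1(E, ω) = 0` -/
theorem nonempty_ext_one_equiv (h₁ : Function.Bijective (Θ k n t S.X₁))
    (h₂ : Function.Bijective (Θ k n t S.X₂)) (hE : Subsingleton (Ext.{u} S.X₂ ω 1)) :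
    Nonempty (Ext.{u} S.X₃ ω 1 ≃ₗ[k]
      Module.Dual k (LinearMap.ker (Canon.HHlin k S.f n))) := by
  let g := Canon.HHlin k S.f n
  let W : Subspace k (Coh.HH X S.X₁ n) := LinearMap.ker g
  let ρ : Ext.{u} S.X₁ ω 0 →ₗ[k] Module.Dual k W :=
    W.dualRestrict ∘ₗ (L0 k n t h₁).toLinearMap
  have hρ : Function.Surjective ρ :=
    (Subspace.dualRestrict_surjective (W := W)).comp (L0 k n t h₁).surjective
  have hker : LinearMap.ker ρ = LinearMap.ker (δE k hS ω 0) := by
    rw [ker_δE_zero]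
    ext x
    rw [LinearMap.mem_ker, LinearMap.mem_range]
    change W.dualRestrict (L0 k n t h₁ x) = 0 ↔ _
    rw [← LinearMap.mem_ker, Submodule.dualRestrict_ker_eq_dualAnnihilator,
      ← LinearMap.range_dualMap_eq_dualAnnihilator_ker, LinearMap.mem_range]
    constructor
    · rintro ⟨y, hy⟩
      obtain ⟨x₂, rfl⟩ := (L0 k n t h₂).surjective y
      refine ⟨x₂, (L0 k n t h₁).injective ?_⟩
      rw [L0_fE k n t h₁ h₂]
      exact hy
    · rintro ⟨x₂, rfl⟩
      exact ⟨L0 k n t h₂ x₂, (L0_fE k n t h₁ h₂ x₂).symm⟩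
  exact ⟨((δE k hS ω 0).quotKerEquivOfSurjective (δE_surjective k hS ω 0 hE)).symm ≪≫ₗ
    (Submodule.quotEquivOfEq _ _ hker.symm) ≪≫ₗ ρ.quotKerEquivOfSurjective hρ⟩

end degreeZeroOne

section main

variable [HasExt.{u} X.Modules] (P : X.Modules → Prop)

/-- hypothesis (H2): `F` is a quotient of an acyclic `E ∈ P` with kernel in `P` -/
def HasPres (F : X.Modules) : Prop :=
  ∃ (K E : X.Modules) (f : K ⟶ E) (g : E ⟶ F) (w : f ≫ g = 0),
    (ShortComplex.mk f g w).ShortExact ∧ P K ∧ P E ∧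
      (∀ j : ℕ, 1 ≤ j → Subsingleton (Ext.{u} E ω j)) ∧
      (∀ j : ℕ, j < n → Subsingleton (Coh.HH X E j))

lemma subsingleton_dual_of_subsingleton (V : Type u) [AddCommGroup V] [Module k V]
    (h : Subsingleton V) : Subsingleton (Module.Dual k V) :=
  ⟨fun a b => LinearMap.ext fun x => by rw [Subsingleton.elim x 0, map_zero, map_zero]⟩

/-- **`Ext^i(F, ω) ≃ H^{n-i}(F)^*` for `i ≤ n`** -/
theorem nonempty_ext_equiv (hP1 : ∀ F, P F → Function.Bijective (Θ k n t F))
    (hP2 : ∀ F, P F → HasPres (ω := ω) n P F) :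
    ∀ i : ℕ, i ≤ n → ∀ F, P F →
      Nonempty (Ext.{u} F ω i ≃ₗ[k] Module.Dual k (Coh.HH X F (n - i))) := by
  intro i
  induction i with
  | zero =>
    intro _ F hF
    exact ⟨L0 k n t (hP1 F hF)⟩
  | succ j ih =>
    intro hj F hF
    obtain ⟨K, E, f, g, w, hS, hK, hE, hExt, hHH⟩ := hP2 F hF
    obtain ⟨m, hm⟩ : ∃ m, n = m + (j + 1) := ⟨n - (j + 1), by omega⟩
    have e1 : n - (j + 1) = m := by omega
    have e2 : n - j = m + 1 := by omega
    rw [e1]
    rcases Nat.eq_zero_or_pos j with hj0 | hjpos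
    · subst hj0
      have hn : n = m + 1 := hm
      subst hn
      obtain ⟨e⟩ := nonempty_ext_one_equiv k (m + 1) t hS (hP1 K hK) (hP1 E hE) (hExt 1 le_rfl)
      let D : Coh.HH X F m ≃ₗ[k] LinearMap.ker (Canon.HHlin k f (m + 1)) :=
        (LinearEquiv.ofInjective (δlin hS k m)
          (δlin_injective k hS m (hHH m (Nat.lt_succ_self m)))).trans
          (LinearEquiv.ofEq _ _ (range_δ_eq_ker_f hS k m))
      exact ⟨e.trans D.dualMap⟩
    · obtain ⟨eK⟩ := ih (by omega) K hK
      rw [e2] at eK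
      have hb : Function.Bijective (δE k hS ω j) :=
        ⟨δE_injective k hS ω j (hExt j hjpos), δE_surjective k hS ω j (hExt (j + 1) (by omega))⟩
      have hd : Function.Bijective (δlin hS k m) :=
        ⟨δlin_injective k hS m (hHH m (by omega)), δlin_surjective k hS m (hHH (m + 1) (by omega))⟩
      exact ⟨(LinearEquiv.ofBijective _ hb).symm.trans
        (eK.trans (LinearEquiv.ofBijective _ hd).dualMap)⟩

set_option maxHeartbeats 800000 in
/-- **`Ext^i(F, ω) = 0` for `i > n`** -/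
theorem subsingleton_ext_of_lt (hP1 : ∀ F, P F → Function.Bijective (Θ k n t F))
    (hP2 : ∀ F, P F → HasPres (ω := ω) n P F) :
    ∀ i : ℕ, n < i → ∀ F, P F → Subsingleton (Ext.{u} F ω i) := by
  intro i
  induction i with
  | zero => intro h; exact absurd h (Nat.not_lt_zero n)
  | succ j ih =>
    intro hj F hF
    obtain ⟨K, E, f, g, w, hS, hK, hE, hExt, hHH⟩ := hP2 F hF
    rcases Nat.eq_zero_or_pos j with hj0 | hjpos
    · subst hj0
      have hn : n = 0 := by omega
      subst hn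
      obtain ⟨e⟩ := nonempty_ext_one_equiv k 0 t hS (hP1 K hK) (hP1 E hE) (hExt 1 le_rfl)
      have hinj : Function.Injective (Canon.HHlin k f 0) := hmap_f_injective_zero hS
      have hker : Subsingleton (LinearMap.ker (Canon.HHlin k f 0)) := by
        rw [LinearMap.ker_eq_bot.2 hinj]
        infer_instance
      have := subsingleton_dual_of_subsingleton k _ hker
      exact e.injective.subsingleton
    · have hb : Function.Bijective (δE k hS ω j) :=
        ⟨δE_injective k hS ω j (hExt j hjpos), δE_surjective k hS ω j (hExt (j + 1) (by omega))⟩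
      have hKj : Subsingleton (Ext.{u} K ω j) := by
        rcases Nat.lt_or_ge n j with hlt | hge
        · exact ih hlt K hK
        · have hjn : j = n := by omega
          subst hjn
          obtain ⟨eK⟩ := nonempty_ext_equiv k j t P hP1 hP2 j le_rfl K hK
          rw [Nat.sub_self] at eK
          have hinj := hmap_f_injective_zero hS
          have hE0 : Subsingleton (Coh.HH X E 0) := hHH 0 hjpos
          have hK0 : Subsingleton (Coh.HH X K 0) :=
            @Function.Injective.subsingleton _ _ _ hinj hE0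
          have := subsingleton_dual_of_subsingleton k _ hK0
          exact eK.injective.subsingleton
      exact (LinearEquiv.ofBijective _ hb).symm.injective.subsingleton

end main

end Groth.Agent.Lib.Proj.ExtDual
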