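/-
R1 bridge (helper44), part 3: `R`-linearity.

ns `Groth.Agent.Lib.Proj.Bridge`.
* `toSpecZero_appTop_apply` : pointwise value of a global function coming from `Proj.toSpecZero`.
* `toGlobal_apply_val` : on `P^n_R`, `Coh.toGlobal _ r` is pointwise the constant `r / 1`.
* `cB_of_const_mul`, `cW_of_const_mul`, `cI_of_const_mul` : a section which is pointwise `r/1` times `σ` has
  coordinates `r • (coordinates of σ)`.
* `smulAb_pointwise`, `cI_smulAb` : `cI (smulAb M (toGlobal r) σ) = r • cI σ`.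
-/
import Groth.Agent.Lib.Proj.Helper44_BridgeW
import Groth.Agent.Lib.Proj.Helper3_PnCoh
import Groth.Agent.S0022

set_option autoImplicit false
universe u

open CategoryTheory AlgebraicGeometry Opposite TopologicalSpace HomogeneousLocalization

namespace Groth.Agent.Lib.Proj.Bridge

section General

variable {R A : Type u} [CommRing R] [CommRing A] [Algebra R A] (𝒜 : ℕ → Submodule R A)
  [GradedAlgebra 𝒜]

lemma ι_toSpecZero {m : ℕ} (f : A) (f_deg : f ∈ 𝒜 m) (hm : 0 < m) :
    (Proj.basicOpen 𝒜 f).ι ≫ Proj.toSpecZero 𝒜 =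
      Proj.basicOpenToSpec 𝒜 f ≫ Spec.map (CommRingCat.ofHom (fromZeroRingHom 𝒜 _)) := by
  rw [← Proj.awayι_toSpecZero 𝒜 f f_deg hm, ← Proj.basicOpenIsoSpec_inv_ι, ← Category.assoc,
    ← Category.assoc, ← Proj.basicOpenIsoSpec_hom 𝒜 f f_deg hm, Iso.hom_inv_id, Category.id_comp]

set_option maxHeartbeats 800000 in
lemma ι_appTop_toSpecZero {m : ℕ} (f : A) (f_deg : f ∈ 𝒜 m) (hm : 0 < m)
    (s : Γ(Spec (CommRingCat.of (𝒜 0)), ⊤)) :
    (Proj.basicOpen 𝒜 f).ι.appTop ((Proj.toSpecZero 𝒜).appTop s) =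
      (Proj.basicOpen 𝒜 f).topIso.inv (Proj.awayToSection 𝒜 f
        (fromZeroRingHom 𝒜 _ ((Scheme.ΓSpecIso (CommRingCat.of (𝒜 0))).hom s))) := by
  have h := congrArg (fun φ => φ.appTop) (ι_toSpecZero 𝒜 f f_deg hm)
  simp only [Scheme.Hom.comp_appTop] at h
  have h2 : (Proj.basicOpen 𝒜 f).ι.appTop.hom ((Proj.toSpecZero 𝒜).appTop.hom s) =
      (Proj.basicOpenToSpec 𝒜 f).appTop.hom ((Spec.map (CommRingCat.ofHom (fromZeroRingHom 𝒜
        (Submonoid.powers f)))).appTop.hom s) := ConcreteCategory.congr_hom h s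
  have h3 := Proj.basicOpenToSpec_app_top 𝒜 f
  have h4 : (Proj.basicOpenToSpec 𝒜 f).appTop.hom ((Spec.map (CommRingCat.ofHom (fromZeroRingHom 𝒜
        (Submonoid.powers f)))).appTop.hom s) =
      (Proj.basicOpen 𝒜 f).topIso.inv.hom ((Proj.awayToSection 𝒜 f).hom
        ((Scheme.ΓSpecIso _).hom.hom ((Spec.map (CommRingCat.ofHom (fromZeroRingHom 𝒜
        (Submonoid.powers f)))).appTop.hom s))) := ConcreteCategory.congr_hom h3 _
  have h5 := Scheme.ΓSpecIso_naturality (CommRingCat.ofHom (fromZeroRingHom 𝒜 (Submonoid.powers f)))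
  have h6 : (Scheme.ΓSpecIso _).hom.hom ((Spec.map (CommRingCat.ofHom (fromZeroRingHom 𝒜
        (Submonoid.powers f)))).appTop.hom s) =
      fromZeroRingHom 𝒜 (Submonoid.powers f) ((Scheme.ΓSpecIso _).hom.hom s) :=
    ConcreteCategory.congr_hom h5 s
  exact h2.trans (h4.trans (by rw [h6]))

set_option maxHeartbeats 800000 in
lemma toSpecZero_appTop_apply {m : ℕ} (f : A) (f_deg : f ∈ 𝒜 m) (hm : 0 < m)
    (s : Γ(Spec (CommRingCat.of (𝒜 0)), ⊤)) (x : ProjectiveSpectrum.top 𝒜)
    (hx : x ∈ ProjectiveSpectrum.basicOpen 𝒜 f) :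
    (((Proj.toSpecZero 𝒜).appTop s :
        (ProjectiveSpectrum.Proj.structureSheaf 𝒜).1.obj (op ⊤)).1 ⟨x, trivial⟩) =
      ((Proj.awayToSection 𝒜 f (fromZeroRingHom 𝒜 _
        ((Scheme.ΓSpecIso (CommRingCat.of (𝒜 0))).hom s)) :
          (ProjectiveSpectrum.Proj.structureSheaf 𝒜).1.obj
            (op (ProjectiveSpectrum.basicOpen 𝒜 f))).1 ⟨x, hx⟩) := by
  have key := ι_appTop_toSpecZero 𝒜 f f_deg hm s
  rw [Scheme.Opens.ι_appTop] at key
  have hx' : x ∈ (Proj.basicOpen 𝒜 f).ι ''ᵁ ⊤ := by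
    rw [Scheme.Opens.ι_image_top]
    exact hx
  exact congrArg (fun t : (ProjectiveSpectrum.Proj.structureSheaf 𝒜).1.obj
    (op ((Proj.basicOpen 𝒜 f).ι ''ᵁ ⊤)) => t.1 ⟨x, hx'⟩) key

end General

section Pn

variable (n : ℕ) (R : Type u) [CommRing R]

lemma exists_mem_basicOpen_X (x : ProjectiveSpectrum (CohB1.polyGrading n R)) :
    ∃ i : Fin (n + 1), x ∈ ProjectiveSpectrum.basicOpen (CohB1.polyGrading n R)
      (MvPolynomial.X i : MvPolynomial (Fin (n + 1)) R) := by
  have h := Groth.Agent.S0022.iSup_basicOpen_X n R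
  have hx : x ∈ (⨆ k : Fin (n + 1), Proj.basicOpen (CohB1.polyGrading n R)
      (MvPolynomial.X k : MvPolynomial (Fin (n + 1)) R)) := by
    rw [h]
    trivial
  obtain ⟨i, hi⟩ := TopologicalSpace.Opens.mem_iSup.mp hx
  exact ⟨i, hi⟩

set_option maxHeartbeats 800000 in
/-- the global function attached to `r : R` is pointwise the constant `r / 1` -/
lemma toGlobal_apply_val (r : R) (x : ProjectiveSpectrum (CohB1.polyGrading n R)) :
    (((Coh.toGlobal (CohB1.ProjSpace n R ↘ Spec (CommRingCat.of R)) r :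
        (ProjectiveSpectrum.Proj.structureSheaf (CohB1.polyGrading n R)).1.obj (op ⊤)).1
          ⟨x, trivial⟩).val : Localization.AtPrime x.asHomogeneousIdeal.toIdeal) =
      Localization.mk (MvPolynomial.C r) 1 := by
  obtain ⟨i, hi⟩ := exists_mem_basicOpen_X n R x
  have hf : (CohB1.ProjSpace n R ↘ Spec (CommRingCat.of R)) =
      Proj.toSpecZero (CohB1.polyGrading n R) ≫
        Spec.map (CommRingCat.ofHom (algebraMap R (CohB1.polyGrading n R 0))) := rfl
  have h1 : Coh.toGlobal (CohB1.ProjSpace n R ↘ Spec (CommRingCat.of R)) r =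
      (Proj.toSpecZero (CohB1.polyGrading n R)).appTop.hom
        ((Spec.map (CommRingCat.ofHom (algebraMap R (CohB1.polyGrading n R 0)))).appTop.hom
          ((Scheme.ΓSpecIso (CommRingCat.of R)).inv.hom r)) := by
    rw [Coh.toGlobal, hf, Scheme.Hom.comp_appTop]
    rfl
  have h2 : (Scheme.ΓSpecIso (CommRingCat.of (CohB1.polyGrading n R 0))).hom.hom
      ((Spec.map (CommRingCat.ofHom (algebraMap R (CohB1.polyGrading n R 0)))).appTop.hom
          ((Scheme.ΓSpecIso (CommRingCat.of R)).inv.hom r)) =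
      algebraMap R (CohB1.polyGrading n R 0) r := by
    have h5 := Scheme.ΓSpecIso_naturality
      (CommRingCat.ofHom (algebraMap R (CohB1.polyGrading n R 0)))
    have h6 := ConcreteCategory.congr_hom h5 ((Scheme.ΓSpecIso (CommRingCat.of R)).inv.hom r)
    refine h6.trans ?_
    have h7 : (Scheme.ΓSpecIso (CommRingCat.of R)).hom.hom
        ((Scheme.ΓSpecIso (CommRingCat.of R)).inv.hom r) = r :=
      ConcreteCategory.congr_hom (Scheme.ΓSpecIso (CommRingCat.of R)).inv_hom_id r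
    exact congrArg (algebraMap R (CohB1.polyGrading n R 0)) h7
  rw [h1]
  have h3 := toSpecZero_appTop_apply (CohB1.polyGrading n R) (MvPolynomial.X i)
    (MvPolynomial.isHomogeneous_X R i) Nat.one_pos
    ((Spec.map (CommRingCat.ofHom (algebraMap R (CohB1.polyGrading n R 0)))).appTop.hom
          ((Scheme.ΓSpecIso (CommRingCat.of R)).inv.hom r)) x hi
  rw [h2] at h3
  refine (congrArg HomogeneousLocalization.val h3).trans ?_
  rfl

variable {n R}

open Groth.Agent.Lib.Proj.CechComb in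
/-- a section which is pointwise `r` times `σ` has coordinates `r • (coordinates of σ)` -/
lemma isRep_of_const_mul (d : ℤ) {p : ℕ} (b : Fin (p + 1) → Fin (n + 1)) (σ τ : Sec (R := R) d b)
    {k : ℕ} {a : MvPolynomial (Fin (n + 1)) R} (h : IsRep d b σ k a) (r : R)
    (hτ : ∀ x : DP R b, ((τ.1 x : Twist.twistAt (CohB1.polyGrading n R) d x.1) :
        Twist.Loc (CohB1.polyGrading n R) x.1) = Localization.mk (MvPolynomial.C r) 1 *
          ((σ.1 x : Twist.twistAt (CohB1.polyGrading n R) d x.1) :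
            Twist.Loc (CohB1.polyGrading n R) x.1)) :
    IsRep d b τ k (MvPolynomial.C r * a) := by
  obtain ⟨⟨i, hi, hai⟩, hx⟩ := h
  refine ⟨⟨i, hi, ?_⟩, fun x => ?_⟩
  · have := SetLike.mul_mem_graded (A := CohB1.polyGrading n R)
      (MvPolynomial.isHomogeneous_C (Fin (n + 1)) r) hai
    rwa [zero_add] at this
  · rw [hτ x, hx x, Localization.mk_mul, one_mul]

open Groth.Agent.Lib.Proj.CechComb in
lemma cB_of_const_mul (d : ℤ) {p : ℕ} (b : Fin (p + 1) → Fin (n + 1)) (σ τ : Sec (R := R) d b) (r : R)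
    (hτ : ∀ x : DP R b, ((τ.1 x : Twist.twistAt (CohB1.polyGrading n R) d x.1) :
        Twist.Loc (CohB1.polyGrading n R) x.1) = Localization.mk (MvPolynomial.C r) 1 *
          ((σ.1 x : Twist.twistAt (CohB1.polyGrading n R) d x.1) :
            Twist.Loc (CohB1.polyGrading n R) x.1)) :
    cB d b τ = r • cB d b σ := by
  obtain ⟨k, a, h⟩ := exists_isRep d b σ
  rw [cB_eq d b _ (isRep_of_const_mul d b σ τ h r hτ), cB_eq d b σ h, MvPolynomial.C_mul', map_smul]

open Groth.Agent.Lib.Proj.CechComb in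
lemma cW_of_const_mul (d : ℤ) {p : ℕ} (b : Fin (p + 1) → Fin (n + 1))
    (W : Opens (ProjectiveSpectrum.top (CohB1.polyGrading n R))) (hW : W = DP R b)
    (σ τ : Twist.sectN (𝒜 := CohB1.polyGrading n R) d (op W)) (r : R)
    (hτ : ∀ x : W, ((τ.1 x : Twist.twistAt (CohB1.polyGrading n R) d x.1) :
        Twist.Loc (CohB1.polyGrading n R) x.1) = Localization.mk (MvPolynomial.C r) 1 *
          ((σ.1 x : Twist.twistAt (CohB1.polyGrading n R) d x.1) :
            Twist.Loc (CohB1.polyGrading n R) x.1)) :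
    cW d b W hW τ = r • cW d b W hW σ :=
  cB_of_const_mul d b (Twist.resN d (homOfLE hW.ge).op σ) (Twist.resN d (homOfLE hW.ge).op τ) r
    (fun x => hτ ⟨x.1, hW.ge x.2⟩)

open Groth.Agent.Lib.Proj.CechComb in
lemma lauCongr_smul {ι' : Type*} [Fintype ι'] (e : ι' ≃ Fin (n + 1)) (r : R)
    (v : Lau (Fin (n + 1)) R) : lauCongr e (r • v) = r • lauCongr e v := by
  ext m
  rw [lauCongr_apply, Finsupp.smul_apply, Finsupp.smul_apply, lauCongr_apply]

open Groth.Agent.Lib.Proj.CechComb in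
lemma cI_of_const_mul {ι' : Type*} [Fintype ι'] (e : ι' ≃ Fin (n + 1)) (d : ℤ) {p : ℕ}
    (b : Fin (p + 1) → ι')
    (W : Opens (ProjectiveSpectrum.top (CohB1.polyGrading n R))) (hW : W = DP R (e ∘ b))
    (σ τ : Twist.sectN (𝒜 := CohB1.polyGrading n R) d (op W)) (r : R)
    (hτ : ∀ x : W, ((τ.1 x : Twist.twistAt (CohB1.polyGrading n R) d x.1) :
        Twist.Loc (CohB1.polyGrading n R) x.1) = Localization.mk (MvPolynomial.C r) 1 *
          ((σ.1 x : Twist.twistAt (CohB1.polyGrading n R) d x.1) :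
            Twist.Loc (CohB1.polyGrading n R) x.1)) :
    cI e d b W hW τ = r • cI e d b W hW σ :=
  (congrArg (lauCongr e) (cW_of_const_mul d (e ∘ b) W hW σ τ r hτ)).trans (lauCongr_smul e r _)

set_option maxHeartbeats 1600000 in
/-- the action of `r : R` (through `Coh.toGlobal`) on sections of `O(d)` is pointwise multiplication
by `r / 1` -/
lemma smulAb_pointwise (d : ℤ) (r : R)
    (W : Opens (ProjectiveSpectrum.top (CohB1.polyGrading n R)))
    (σ : Twist.sectN (𝒜 := CohB1.polyGrading n R) d (op W)) (x : W) :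
    (((((Coh.smulAb (Twist.twistProjSpace n R d)
        (Coh.toGlobal (CohB1.ProjSpace n R ↘ Spec (CommRingCat.of R)) r)).hom.app (op W) σ :
        Twist.sectN (𝒜 := CohB1.polyGrading n R) d (op W)).1 x :
          Twist.twistAt (CohB1.polyGrading n R) d x.1) : Twist.Loc (CohB1.polyGrading n R) x.1)) =
      Localization.mk (MvPolynomial.C r) 1 *
          ((σ.1 x : Twist.twistAt (CohB1.polyGrading n R) d x.1) :
            Twist.Loc (CohB1.polyGrading n R) x.1) := by
  rw [← toGlobal_apply_val n R r x.1]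
  exact Twist.coe_smul_val d x.1 _ (σ.1 x)

set_option maxHeartbeats 1600000 in
/-- **`R`-linearity of the coordinates**: the action of `r : R` on sections (through the structure map
`P^n_R ⟶ Spec R`, as in `Coh.moduleOver`) becomes scalar multiplication by `r` on Laurent coordinates. -/
theorem cI_smulAb {ι' : Type*} [Fintype ι'] (e : ι' ≃ Fin (n + 1)) (d : ℤ) {p : ℕ}
    (b : Fin (p + 1) → ι')
    (W : Opens (ProjectiveSpectrum.top (CohB1.polyGrading n R))) (hW : W = DP R (e ∘ b)) (r : R)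
    (σ : Twist.sectN (𝒜 := CohB1.polyGrading n R) d (op W)) :
    cI e d b W hW ((Coh.smulAb (Twist.twistProjSpace n R d)
        (Coh.toGlobal (CohB1.ProjSpace n R ↘ Spec (CommRingCat.of R)) r)).hom.app (op W) σ) =
      r • cI e d b W hW σ :=
  cI_of_const_mul e d b W hW σ _ r (fun x => smulAb_pointwise d r W σ x)

end Pn

end Groth.Agent.Lib.Proj.Bridge
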