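/-
Multiplication of Laurent polynomials by fractions `F / x^ε` in the monomial coordinates (helper44; for the
Serre duality pairing on `P^n`).

ns `Groth.Agent.Lib.Proj.CechComb`.
* `trans ν` : translation of the exponents by `ν : ι → ℤ`; `trans_apply`, `trans_single`.
* `toZ μ` : the exponent `μ : ι →₀ ℕ` as a function `ι → ℤ`.
* `mulFracL F ε` : multiplication by `F / x^ε`; `mulFracL_apply`, `mulFracL_monomial`.
* `lauN_mul : lauN (ε' + ε) (F * a) = mulFracL F ε (lauN ε' a)`.
-/
import Groth.Agent.Lib.Proj.Helper44_LauPoly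

set_option autoImplicit false
universe u v

namespace Groth.Agent.Lib.Proj.CechComb

variable {ι : Type u} {R : Type v} [CommRing R]

/-- translation of the exponents of a Laurent polynomial -/
noncomputable def trans (ν : ι → ℤ) : Lau ι R →ₗ[R] Lau ι R :=
  Finsupp.lmapDomain R R (fun m => m + ν)

lemma trans_def (ν : ι → ℤ) (w : Lau ι R) : trans ν w = Finsupp.mapDomain (fun m => m + ν) w := rfl

lemma trans_apply (ν : ι → ℤ) (w : Lau ι R) (m : ι → ℤ) : trans ν w m = w (m - ν) := by
  have h : m = (fun m => m + ν) (m - ν) := by simp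
  conv_lhs => rw [h]
  rw [trans_def]
  exact Finsupp.mapDomain_apply (add_left_injective ν) w (m - ν)

lemma trans_single (ν m : ι → ℤ) (c : R) :
    trans ν (Finsupp.single m c : Lau ι R) = Finsupp.single (m + ν) c := by
  rw [trans_def]
  exact Finsupp.mapDomain_single

lemma trans_zero (w : Lau ι R) : trans 0 w = w := by
  ext m
  rw [trans_apply, sub_zero]

lemma trans_trans (ν ν' : ι → ℤ) (w : Lau ι R) : trans ν (trans ν' w) = trans (ν' + ν) w := by
  ext m
  rw [trans_apply, trans_apply, trans_apply]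
  congr 1
  abel

lemma trans_injective (ν : ι → ℤ) : Function.Injective (trans (R := R) ν) := by
  intro w w' h
  have := congrArg (trans (-ν)) h
  rwa [trans_trans, trans_trans, add_neg_cancel, trans_zero, trans_zero] at this

/-- an exponent in `ι →₀ ℕ` as a function to `ℤ` -/
def toZ (μ : ι →₀ ℕ) : ι → ℤ := fun i => (μ i : ℤ)

lemma toZ_apply (μ : ι →₀ ℕ) (i : ι) : toZ μ i = (μ i : ℤ) := rfl

lemma toZ_add (μ μ' : ι →₀ ℕ) : toZ (μ + μ') = toZ μ + toZ μ' := by
  funext i
  simp [toZ]

lemma toZ_zero : toZ (0 : ι →₀ ℕ) = 0 := rfl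

lemma toZ_injective : Function.Injective (toZ (ι := ι)) := by
  intro μ μ' h
  ext i
  have := congrFun h i
  simpa [toZ] using this

lemma shiftExp_eq (ε μ : ι →₀ ℕ) : shiftExp ε μ = toZ μ - toZ ε := rfl

/-- multiplication by `F / x^ε` on Laurent polynomials, in coordinates -/
noncomputable def mulFracL (F : MvPolynomial ι R) (ε : ι →₀ ℕ) : Lau ι R →ₗ[R] Lau ι R :=
  ∑ μ ∈ F.support, (MvPolynomial.coeff μ F) • trans (toZ μ - toZ ε)

lemma mulFracL_apply (F : MvPolynomial ι R) (ε : ι →₀ ℕ) (w : Lau ι R) (m : ι → ℤ) :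
    mulFracL F ε w m = ∑ μ ∈ F.support, MvPolynomial.coeff μ F * w (m - toZ μ + toZ ε) := by
  rw [mulFracL, LinearMap.sum_apply, Finsupp.finsetSum_apply]
  refine Finset.sum_congr rfl (fun μ _ => ?_)
  rw [LinearMap.smul_apply, Finsupp.smul_apply, trans_apply, smul_eq_mul]
  congr 2
  abel

/-- `(c x^v a) / x^(ε' + ε) = c • (x^v / x^ε) (a / x^ε')` -/
lemma lauN_monomial_mul_gen (ε ε' v : ι →₀ ℕ) (c : R) (a : MvPolynomial ι R) :
    lauN (ε' + ε) (MvPolynomial.monomial v c * a) = c • trans (toZ v - toZ ε) (lauN ε' a) := by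
  classical
  ext m
  rw [Finsupp.smul_apply, trans_apply, smul_eq_mul]
  by_cases hm : m ∈ Set.range (shiftExp (ε' + ε))
  · obtain ⟨ν, rfl⟩ := hm
    rw [lauN_shift, MvPolynomial.coeff_monomial_mul']
    have harg : shiftExp (ε' + ε) ν - (toZ v - toZ ε) = toZ ν - toZ v - toZ ε' := by
      rw [shiftExp_eq, toZ_add]
      abel
    rw [harg]
    split_ifs with hle
    · have h2 : toZ ν - toZ v - toZ ε' = shiftExp ε' (ν - v) := by
        rw [shiftExp_eq]
        congr 1
        funext i
        have := hle i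
        simp only [toZ, Pi.sub_apply, Finsupp.coe_tsub]
        omega
      rw [h2, lauN_shift]
    · rw [lauN_notin, mul_zero]
      rintro ⟨κ, hκ⟩
      apply hle
      intro i
      have := congrFun hκ i
      simp only [shiftExp_apply, toZ, Pi.sub_apply] at this
      omega
  · rw [lauN_notin _ _ m hm, lauN_notin, mul_zero]
    rintro ⟨κ, hκ⟩
    apply hm
    refine ⟨κ + v, ?_⟩
    rw [shiftExp_eq, toZ_add, toZ_add]
    rw [shiftExp_eq] at hκ
    have : m = toZ κ - toZ ε' + (toZ v - toZ ε) := by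
      rw [hκ]
      abel
    rw [this]
    abel

/-- **multiplication in coordinates**: `(F a) / x^(ε' + ε) = (F / x^ε) (a / x^ε')` -/
theorem lauN_mul (ε ε' : ι →₀ ℕ) (F a : MvPolynomial ι R) :
    lauN (ε' + ε) (F * a) = mulFracL F ε (lauN ε' a) := by
  conv_lhs => rw [F.as_sum]
  rw [Finset.sum_mul, map_sum, mulFracL, LinearMap.sum_apply]
  refine Finset.sum_congr rfl (fun μ _ => ?_)
  rw [lauN_monomial_mul_gen, LinearMap.smul_apply]

lemma mulFracL_monomial (v ε : ι →₀ ℕ) (w : Lau ι R) [Nontrivial R] :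
    mulFracL (MvPolynomial.monomial v (1 : R)) ε w = trans (toZ v - toZ ε) w := by
  classical
  rw [mulFracL, MvPolynomial.support_monomial, if_neg one_ne_zero, Finset.sum_singleton,
    MvPolynomial.coeff_monomial, if_pos rfl, one_smul]

lemma lauN_monomial (ε μ : ι →₀ ℕ) (c : R) :
    lauN ε (MvPolynomial.monomial μ c) = Finsupp.single (shiftExp ε μ) c := by
  rw [lauN_def]
  have h : AddMonoidAlgebra.coeff (MvPolynomial.monomial μ c) = Finsupp.single μ c := by
    ext ν
    change MvPolynomial.coeff ν (MvPolynomial.monomial μ c) = _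
    classical
    rw [MvPolynomial.coeff_monomial, Finsupp.single_apply]
  rw [h, Finsupp.mapDomain_single]

lemma lauN_one : lauN (0 : ι →₀ ℕ) (1 : MvPolynomial ι R) = Finsupp.single 0 1 := by
  have h : (1 : MvPolynomial ι R) = MvPolynomial.monomial 0 1 := rfl
  rw [h, lauN_monomial]
  rfl

lemma mulFracL_trans_comm (F : MvPolynomial ι R) (ε : ι →₀ ℕ) (m : ι → ℤ) (w : Lau ι R) :
    mulFracL F ε (trans m w) = trans m (mulFracL F ε w) := by
  rw [mulFracL, LinearMap.sum_apply, LinearMap.sum_apply, map_sum]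
  refine Finset.sum_congr rfl (fun μ _ => ?_)
  rw [LinearMap.smul_apply, LinearMap.smul_apply, map_smul, trans_trans, trans_trans, add_comm]

/-- `F · 1 = F` in coordinates -/
lemma mulFracL_single_zero (F : MvPolynomial ι R) :
    mulFracL F 0 (Finsupp.single (0 : ι → ℤ) (1 : R)) = lauN 0 F := by
  have h := lauN_mul (0 : ι →₀ ℕ) 0 F (1 : MvPolynomial ι R)
  rw [mul_one, add_zero, lauN_one] at h
  exact h.symm

lemma mulFracL_single (F : MvPolynomial ι R) (m : ι → ℤ) :
    mulFracL F 0 (Finsupp.single m (1 : R)) = trans m (lauN 0 F) := by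
  have h : (Finsupp.single m (1 : R) : Lau ι R) = trans m (Finsupp.single 0 1) := by
    rw [trans_single, zero_add]
  rw [h, mulFracL_trans_comm, mulFracL_single_zero]

lemma shiftExp_zero (μ : ι →₀ ℕ) : shiftExp 0 μ = toZ μ := by
  funext i
  simp [shiftExp_apply, toZ]

lemma lauN_zero_apply (f : MvPolynomial ι R) (μ : ι →₀ ℕ) : lauN 0 f (toZ μ) = MvPolynomial.coeff μ f := by
  rw [← shiftExp_zero, lauN_shift]

/-- a Laurent polynomial with nonnegative exponents is a polynomial -/
lemma exists_lauN_zero_eq [Finite ι] (w : Lau ι R) (hw : ∀ m, w m ≠ 0 → ∀ i, 0 ≤ m i) :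
    ∃ f : MvPolynomial ι R, lauN 0 f = w ∧ ∀ μ, MvPolynomial.coeff μ f = w (toZ μ) := by
  classical
  have hsupp : (w.support : Set (ι → ℤ)) ⊆ Set.range (toZ (ι := ι)) := by
    intro m hm
    have hm' : w m ≠ 0 := Finsupp.mem_support_iff.1 hm
    refine ⟨Finsupp.equivFunOnFinite.symm (fun i => (m i).toNat), ?_⟩
    funext i
    have := hw m hm' i
    simp only [toZ, Finsupp.equivFunOnFinite_symm_apply_apply]
    omega
  refine ⟨(AddMonoidAlgebra.coeffLinearEquiv R).symm
    (Finsupp.comapDomain toZ w toZ_injective.injOn), ?_, fun μ => ?_⟩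
  · rw [lauN_def]
    have h1 : AddMonoidAlgebra.coeff ((AddMonoidAlgebra.coeffLinearEquiv R).symm
        (Finsupp.comapDomain toZ w (toZ_injective (ι := ι)).injOn)) =
        Finsupp.comapDomain toZ w (toZ_injective (ι := ι)).injOn :=
      (AddMonoidAlgebra.coeffLinearEquiv R).apply_symm_apply _
    rw [h1]
    have h2 : shiftExp (0 : ι →₀ ℕ) = toZ := funext shiftExp_zero
    rw [h2]
    exact Finsupp.mapDomain_comapDomain toZ toZ_injective w hsupp
  · have h1 : MvPolynomial.coeff μ ((AddMonoidAlgebra.coeffLinearEquiv R).symm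
        (Finsupp.comapDomain toZ w (toZ_injective (ι := ι)).injOn)) =
        (Finsupp.comapDomain toZ w (toZ_injective (ι := ι)).injOn) μ :=
      DFunLike.congr_fun ((AddMonoidAlgebra.coeffLinearEquiv R).apply_symm_apply _) μ
    rw [h1, Finsupp.comapDomain_apply]

end Groth.Agent.Lib.Proj.CechComb
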