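/-
Laurent coordinates of products: if `fb^l · τ = F · σ` pointwise then the coordinates of `τ` are those of `σ`
multiplied by `F / fb^l` (helper44; for the Serre duality pairing on `P^n`).

ns `Groth.Agent.Lib.Proj.Bridge`: `isRep_of_frac_mul`, `cB_of_frac_mul`, `cW_of_frac_mul`, `cI_of_frac_mul_apply`.
-/
import Groth.Agent.Lib.Proj.Helper44_BridgeLin
import Groth.Agent.Lib.Proj.Helper44_LauMul

set_option autoImplicit false
universe u

open CategoryTheory AlgebraicGeometry Opposite TopologicalSpace HomogeneousLocalization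
open Groth.Agent.Lib.Proj.CechComb

namespace Groth.Agent.Lib.Proj.Bridge

variable {n : ℕ} {R : Type u} [CommRing R]

/-- if `fb^l · τ = F · σ` pointwise and `σ = a / fb^k`, then `τ = (F a) / fb^(k+l)` -/
lemma isRep_of_frac_mul (d d' : ℤ) {p : ℕ} (b : Fin (p + 1) → Fin (n + 1)) (σ : Sec (R := R) d b)
    (τ : Sec (R := R) d' b) {k : ℕ} {a : MvPolynomial (Fin (n + 1)) R} (h : IsRep d b σ k a)
    (F : MvPolynomial (Fin (n + 1)) R) (D l : ℕ) (hF : F ∈ CohB1.polyGrading n R D)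
    (hdeg : d' + (l : ℤ) * ((p : ℤ) + 1) = d + D)
    (hτ : ∀ x : DP R b, Localization.mk (fb b ^ l) 1 *
        ((τ.1 x : Twist.twistAt (CohB1.polyGrading n R) d' x.1) :
          Twist.Loc (CohB1.polyGrading n R) x.1) = Localization.mk F 1 *
        ((σ.1 x : Twist.twistAt (CohB1.polyGrading n R) d x.1) :
          Twist.Loc (CohB1.polyGrading n R) x.1)) :
    IsRep d' b τ (k + l) (F * a) := by
  obtain ⟨⟨i, hi, hai⟩, hx⟩ := h
  refine ⟨⟨D + i, ?_, SetLike.mul_mem_graded hF hai⟩, fun x => ?_⟩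
  · push_cast
    rw [hi]
    push_cast
    linarith
  · have hu : IsUnit (Localization.mk (fb (R := R) b ^ l) 1 :
        Twist.Loc (CohB1.polyGrading n R) x.1) := by
      have := IsLocalization.map_units (Twist.Loc (CohB1.polyGrading n R) x.1)
        (⟨fb (R := R) b ^ l, pow_mem_primeCompl b l x⟩ :
          x.1.asHomogeneousIdeal.toIdeal.primeCompl)
      rwa [← Localization.mk_one_eq_algebraMap] at this
    apply hu.mul_left_cancel
    rw [hτ x, hx x, Localization.mk_mul, Localization.mk_mul, Localization.mk_eq_mk_iff,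
      Localization.r_iff_exists]
    refine ⟨1, ?_⟩
    simp only [OneMemClass.coe_one, one_mul]
    rw [pow_add]
    ring

lemma cB_of_frac_mul (d d' : ℤ) {p : ℕ} (b : Fin (p + 1) → Fin (n + 1)) (σ : Sec (R := R) d b)
    (τ : Sec (R := R) d' b)
    (F : MvPolynomial (Fin (n + 1)) R) (D l : ℕ) (hF : F ∈ CohB1.polyGrading n R D)
    (hdeg : d' + (l : ℤ) * ((p : ℤ) + 1) = d + D)
    (hτ : ∀ x : DP R b, Localization.mk (fb b ^ l) 1 *
        ((τ.1 x : Twist.twistAt (CohB1.polyGrading n R) d' x.1) :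
          Twist.Loc (CohB1.polyGrading n R) x.1) = Localization.mk F 1 *
        ((σ.1 x : Twist.twistAt (CohB1.polyGrading n R) d x.1) :
          Twist.Loc (CohB1.polyGrading n R) x.1)) :
    cB d' b τ = mulFracL F (l • expo b) (cB d b σ) := by
  obtain ⟨k, a, h⟩ := exists_isRep d b σ
  rw [cB_eq d' b τ (isRep_of_frac_mul d d' b σ τ h F D l hF hdeg hτ), cB_eq d b σ h, add_smul,
    lauN_mul]

lemma cW_of_frac_mul (d d' : ℤ) {p : ℕ} (b : Fin (p + 1) → Fin (n + 1))
    (W : Opens (ProjectiveSpectrum.top (CohB1.polyGrading n R))) (hW : W = DP R b)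
    (σ : Twist.sectN (𝒜 := CohB1.polyGrading n R) d (op W))
    (τ : Twist.sectN (𝒜 := CohB1.polyGrading n R) d' (op W))
    (F : MvPolynomial (Fin (n + 1)) R) (D l : ℕ) (hF : F ∈ CohB1.polyGrading n R D)
    (hdeg : d' + (l : ℤ) * ((p : ℤ) + 1) = d + D)
    (hτ : ∀ x : W, Localization.mk (fb b ^ l) 1 *
        ((τ.1 x : Twist.twistAt (CohB1.polyGrading n R) d' x.1) :
          Twist.Loc (CohB1.polyGrading n R) x.1) = Localization.mk F 1 *
        ((σ.1 x : Twist.twistAt (CohB1.polyGrading n R) d x.1) :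
          Twist.Loc (CohB1.polyGrading n R) x.1)) :
    cW d' b W hW τ = mulFracL F (l • expo b) (cW d b W hW σ) :=
  cB_of_frac_mul d d' b (Twist.resN d (homOfLE hW.ge).op σ) (Twist.resN d' (homOfLE hW.ge).op τ)
    F D l hF hdeg (fun x => hτ ⟨x.1, hW.ge x.2⟩)

/-- coordinates of `τ = (F / fb^l) σ`, elementwise, for index types `ι' ≃ Fin (n + 1)` -/
lemma cI_of_frac_mul_apply {ι' : Type*} [Fintype ι'] (e : ι' ≃ Fin (n + 1)) (d d' : ℤ) {p : ℕ}
    (b : Fin (p + 1) → ι')
    (W : Opens (ProjectiveSpectrum.top (CohB1.polyGrading n R))) (hW : W = DP R (e ∘ b))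
    (σ : Twist.sectN (𝒜 := CohB1.polyGrading n R) d (op W))
    (τ : Twist.sectN (𝒜 := CohB1.polyGrading n R) d' (op W))
    (F : MvPolynomial (Fin (n + 1)) R) (D l : ℕ) (hF : F ∈ CohB1.polyGrading n R D)
    (hdeg : d' + (l : ℤ) * ((p : ℤ) + 1) = d + D)
    (hτ : ∀ x : W, Localization.mk (fb (e ∘ b) ^ l) 1 *
        ((τ.1 x : Twist.twistAt (CohB1.polyGrading n R) d' x.1) :
          Twist.Loc (CohB1.polyGrading n R) x.1) = Localization.mk F 1 *
        ((σ.1 x : Twist.twistAt (CohB1.polyGrading n R) d x.1) :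
          Twist.Loc (CohB1.polyGrading n R) x.1)) (m : ι' → ℤ) :
    cI e d' b W hW τ m = ∑ μ ∈ F.support, MvPolynomial.coeff μ F *
      cI e d b W hW σ (m - toZ μ ∘ e + toZ (l • expo (e ∘ b)) ∘ e) := by
  have h1 : cI e d' b W hW τ m = cW d' (e ∘ b) W hW τ (m ∘ e.symm) :=
    lauCongr_apply e _ m
  have h2 := cW_of_frac_mul d d' (e ∘ b) W hW σ τ F D l hF hdeg hτ
  have h4 : cW d' (e ∘ b) W hW τ (m ∘ e.symm) =
      mulFracL F (l • expo (e ∘ b)) (cW d (e ∘ b) W hW σ) (m ∘ e.symm) :=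
    DFunLike.congr_fun h2 (m ∘ e.symm)
  refine h1.trans (h4.trans ((mulFracL_apply _ _ _ _).trans ?_))
  refine Finset.sum_congr rfl (fun μ _ => ?_)
  have h3 : cI e d b W hW σ (m - toZ μ ∘ e + toZ (l • expo (e ∘ b)) ∘ e) =
      cW d (e ∘ b) W hW σ ((m - toZ μ ∘ e + toZ (l • expo (e ∘ b)) ∘ e) ∘ e.symm) :=
    lauCongr_apply e _ _
  rw [h3]
  congr 2
  funext j
  simp only [Function.comp_apply, Pi.add_apply, Pi.sub_apply, Equiv.apply_symm_apply]

end Groth.Agent.Lib.Proj.Bridge
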