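/-
Morphisms between Serre twists on `Proj 𝒜` are determined by their values on local generators (helper44; for
the Serre duality pairing on `P^n`).

ns `Groth.Agent.Lib.Proj.HomTwist`.
* `powElt t k : 𝒜 k` (the power `t^k` of a degree-one element), `gen t a V hV : Sec 𝒜 a (op V)` the generator
  `t^a` of `O(a)` over `V ≤ D₊(t)`; `val_gen`, `exists_smul_gen`, `res_gen`.
* `app_res` : naturality of `φ.app` with respect to restriction.
* `hom_ext_of_gen` : two morphisms `O(a) ⟶ O(b)` agreeing on the generators over a cover by `D₊(t_i)` are equal.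
-/
import Groth.Agent.Lib.Proj.TwistTriv

set_option autoImplicit false
universe u

open CategoryTheory CategoryTheory.Limits AlgebraicGeometry TopologicalSpace Opposite TopCat

namespace Groth.Agent.Lib.Proj.HomTwist

open Twist Groth.Agent.Lib.Proj

variable {R A : Type u} [CommRing R] [CommRing A] [Algebra R A] {𝒜 : ℕ → Submodule R A} [GradedAlgebra 𝒜]

/-- the power `t^k` of a degree one element, as an element of degree `k` -/
def powElt (t : 𝒜 1) (k : ℕ) : 𝒜 k :=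
  ⟨t.1 ^ k, by simpa using SetLike.pow_mem_graded k t.2⟩

@[simp] lemma powElt_val (t : 𝒜 1) (k : ℕ) : (powElt t k).1 = t.1 ^ k := rfl

lemma powElt_not_mem (t : 𝒜 1) (k : ℕ) {V : (Proj 𝒜).Opens} (hV : V ≤ Proj.basicOpen 𝒜 t.1)
    (x : V) : (powElt t k).1 ∉ x.1.asHomogeneousIdeal :=
  pow_not_mem (hV x.2) k

/-- the generator `t^a` of `O(a)` over an open contained in `D₊(t)` -/
noncomputable def gen (t : 𝒜 1) (a : ℤ) (V : (Proj 𝒜).Opens) (hV : V ≤ Proj.basicOpen 𝒜 t.1) :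
    Sec 𝒜 a (op V) :=
  mulFracSect (op V) (powElt t a.toNat) (powElt t (-a).toNat) (fun x => powElt_not_mem t _ hV x) 0 a
    (by omega) (toTwistZeroSect (op V) 1)

lemma val_gen (t : 𝒜 1) (a : ℤ) (V : (Proj 𝒜).Opens) (hV : V ≤ Proj.basicOpen 𝒜 t.1) (x : V) :
    val (gen t a V hV) x =
      frac x.1 (t.1 ^ a.toNat) (t.1 ^ (-a).toNat) (powElt_not_mem t _ hV x) := by
  have h1 : val (gen t a V hV) x =
      frac x.1 (t.1 ^ a.toNat) (t.1 ^ (-a).toNat) (powElt_not_mem t _ hV x) *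
        val (toTwistZeroSect (𝒜 := 𝒜) (op V) 1) x := rfl
  rw [h1]
  have h2 : val (toTwistZeroSect (𝒜 := 𝒜) (op V) 1) x = 1 := HomogeneousLocalization.val_one
  rw [h2, mul_one]

/-- scalar multiplication on sections, with rigid types -/
noncomputable def smulSec {m : ℤ} {U : (Opens (ProjectiveSpectrum.top 𝒜))ᵒᵖ} (r : O (𝒜 := 𝒜) U)
    (s : Sec 𝒜 m U) : Sec 𝒜 m U := r • s

lemma val_smulSec {m : ℤ} {U : (Opens (ProjectiveSpectrum.top 𝒜))ᵒᵖ} (r : O (𝒜 := 𝒜) U)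
    (s : Sec 𝒜 m U) (x : U.unop) : val (smulSec r s) x = (r.1 x).val * val s x :=
  val_smul r s x

/-- every section of `O(a)` over `V ≤ D₊(t)` is a multiple of the generator -/
lemma exists_smul_gen (t : 𝒜 1) (a : ℤ) (V : (Proj 𝒜).Opens) (hV : V ≤ Proj.basicOpen 𝒜 t.1)
    (s : Sec 𝒜 a (op V)) : ∃ r : O (𝒜 := 𝒜) (op V), s = smulSec r (gen t a V hV) := by
  obtain ⟨s0, hs0⟩ := (mulFracSect_bijective (op V) (powElt t a.toNat) (powElt t (-a).toNat)
    (fun x => powElt_not_mem t _ hV x) (fun x => powElt_not_mem t _ hV x) 0 a (by omega)).2 s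
  obtain ⟨r, hr⟩ := (toTwistZeroSect_bijective (𝒜 := 𝒜) (op V)).2 s0
  refine ⟨r, ?_⟩
  rw [smulSec, gen, ← map_smul, ← map_smul, smul_eq_mul, mul_one, hr, hs0]

lemma res_gen (t : 𝒜 1) (a : ℤ) {V V' : (Proj 𝒜).Opens} (hV : V ≤ Proj.basicOpen 𝒜 t.1)
    (h : V' ≤ V) :
    resN a (homOfLE h).op (gen t a V hV) = gen t a V' (h.trans hV) := by
  apply sec_ext
  intro x
  rw [val_gen]
  exact val_gen t a V hV ⟨x.1, h x.2⟩

/-- naturality of the components of a morphism of twists -/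
lemma app_res {a b : ℤ} (φ : twist 𝒜 a ⟶ twist 𝒜 b) {V V' : (Proj 𝒜).Opens} (h : V' ≤ V)
    (s : Sec 𝒜 a (op V)) :
    (φ.app V').hom (resN a (homOfLE h).op s) = resN b (homOfLE h).op ((φ.app V).hom s) :=
  ConcreteCategory.congr_hom (φ.mapPresheaf.naturality (homOfLE h).op) s

lemma app_smul' {a b : ℤ} (φ : twist 𝒜 a ⟶ twist 𝒜 b) (V : (Proj 𝒜).Opens)
    (r : O (𝒜 := 𝒜) (op V)) (s : Sec 𝒜 a (op V)) :
    (φ.app V).hom (smulSec r s) = smulSec r ((φ.app V).hom s) :=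
  Scheme.Modules.Hom.app_smul φ r s

/-- two morphisms of twists which agree on the local generators over a cover are equal -/
theorem hom_ext_of_gen {ι : Type*} (T : ι → 𝒜 1)
    (hcov : ∀ x : Proj 𝒜, ∃ i, x ∈ Proj.basicOpen 𝒜 (T i).1) (a b : ℤ)
    (φ φ' : twist 𝒜 a ⟶ twist 𝒜 b)
    (h : ∀ i, (φ.app (Proj.basicOpen 𝒜 (T i).1)).hom (gen (T i) a _ le_rfl) =
      (φ'.app (Proj.basicOpen 𝒜 (T i).1)).hom (gen (T i) a _ le_rfl)) : φ = φ' := by
  apply Scheme.Modules.hom_ext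
  intro V
  ext s
  apply sec_ext (𝒜 := 𝒜) (m := b) (V := op V)
  intro x
  obtain ⟨i, hi⟩ := hcov x.1
  have hV' : V ⊓ Proj.basicOpen 𝒜 (T i).1 ≤ V := inf_le_left
  have hVi : V ⊓ Proj.basicOpen 𝒜 (T i).1 ≤ Proj.basicOpen 𝒜 (T i).1 := inf_le_right
  obtain ⟨r, hr⟩ := exists_smul_gen (T i) a _ hVi (resN a (homOfLE hV').op s)
  have key : ∀ ψ : twist 𝒜 a ⟶ twist 𝒜 b,
      resN b (homOfLE hV').op ((ψ.app V).hom s) =
        smulSec r (resN b (homOfLE hVi).op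
          ((ψ.app (Proj.basicOpen 𝒜 (T i).1)).hom (gen (T i) a _ le_rfl))) := by
    intro ψ
    have e1 : resN b (homOfLE hV').op ((ψ.app V).hom s) =
        (ψ.app (V ⊓ Proj.basicOpen 𝒜 (T i).1)).hom (resN a (homOfLE hV').op s) :=
      (app_res ψ hV' s).symm
    have e2 : (ψ.app (V ⊓ Proj.basicOpen 𝒜 (T i).1)).hom (resN a (homOfLE hV').op s) =
        (ψ.app (V ⊓ Proj.basicOpen 𝒜 (T i).1)).hom (smulSec r (gen (T i) a _ hVi)) :=
      congrArg (fun q => (ψ.app (V ⊓ Proj.basicOpen 𝒜 (T i).1)).hom q) hr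
    have e3 := app_smul' ψ (V ⊓ Proj.basicOpen 𝒜 (T i).1) r (gen (T i) a _ hVi)
    have e4 : (ψ.app (V ⊓ Proj.basicOpen 𝒜 (T i).1)).hom (gen (T i) a _ hVi) =
        resN b (homOfLE hVi).op
          ((ψ.app (Proj.basicOpen 𝒜 (T i).1)).hom (gen (T i) a _ le_rfl)) := by
      rw [← res_gen (T i) a le_rfl hVi]
      exact app_res ψ hVi _
    exact e1.trans (e2.trans (e3.trans (congrArg (smulSec r) e4)))
  have h1 := key φ
  have h2 := key φ'
  rw [h i] at h1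
  have h3 := h1.trans h2.symm
  exact congrArg (fun q : Sec 𝒜 b (op (V ⊓ Proj.basicOpen 𝒜 (T i).1)) =>
    val q (⟨x.1, ⟨x.2, hi⟩⟩ : ↥(V ⊓ Proj.basicOpen 𝒜 (T i).1))) h3

end Groth.Agent.Lib.Proj.HomTwist
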