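/-
Classification of the morphisms `O(a) ⟶ O(b)` on `P^n_R`, `n ≥ 1`: each one is multiplication by a unique
form of degree `b - a` (helper44; for the Serre duality pairing on `P^n`).

ns `Groth.Agent.Lib.Proj.PnHom`.
* `T i`, `U i`, `s1 i`, `s2 i j`, `cW_gen` (coordinates of the generator `X_i^a` over `D₊(X_i)`);
* `G φ i` coordinates of `φ (X_i^a)`, `G_overlap`;
* `cW_mulHom` : coordinates of `mulHom f σ`;
* **`hom_class`** : every `φ : O(a) ⟶ O(b)` is `mulHom f` for a form `f` of degree `b - a`, or `b < a` and `φ = 0`.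
-/
import Groth.Agent.Lib.Proj.Helper44_BridgeMul
import Groth.Agent.Lib.Proj.Helper44_HomTwist

set_option autoImplicit false
universe u

open CategoryTheory CategoryTheory.Limits AlgebraicGeometry TopologicalSpace Opposite
open Groth.Agent.Lib.Proj.CechComb

namespace Groth.Agent.Lib.Proj.PnHom

open Twist Groth.Agent.Lib.Proj Groth.Agent.Lib.Proj.HomTwist Groth.Agent.Lib.Proj.Bridge

variable {n : ℕ} {R : Type u} [CommRing R]

/-- the coordinate `X i` as an element of degree one -/
noncomputable def T (i : Fin (n + 1)) : CohB1.polyGrading n R 1 :=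
  ⟨MvPolynomial.X i, MvPolynomial.isHomogeneous_X R i⟩

/-- `D₊(X i)` -/
noncomputable abbrev U (i : Fin (n + 1)) : (Proj (CohB1.polyGrading n R)).Opens :=
  Proj.basicOpen (CohB1.polyGrading n R) (T (R := R) i).1

/-- the 1-tuple `(i)` -/
def s1 (i : Fin (n + 1)) : Fin 1 → Fin (n + 1) := fun _ => i

/-- the 2-tuple `(i, j)` -/
def s2 (i j : Fin (n + 1)) : Fin 2 → Fin (n + 1) := ![i, j]

lemma fb_s1 (i : Fin (n + 1)) : fb (R := R) (s1 i) = MvPolynomial.X i := by
  simp [fb, s1]

lemma fb_s2 (i j : Fin (n + 1)) : fb (R := R) (s2 i j) = MvPolynomial.X i * MvPolynomial.X j := by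
  simp [fb, s2, Fin.prod_univ_two]

lemma U_eq (i : Fin (n + 1)) :
    (U (R := R) i : Opens (ProjectiveSpectrum.top (CohB1.polyGrading n R))) = DP R (s1 i) := by
  unfold DP
  rw [fb_s1]
  rfl

lemma s2_comp_zero (i j : Fin (n + 1)) : s2 i j ∘ (0 : Fin 2).succAbove = s1 j := by
  funext k
  have : k = 0 := Subsingleton.elim _ _
  subst this
  rfl

lemma s2_comp_one (i j : Fin (n + 1)) : s2 i j ∘ (1 : Fin 2).succAbove = s1 i := by
  funext k
  have : k = 0 := Subsingleton.elim _ _
  subst this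
  rfl

lemma expo_s1 (i : Fin (n + 1)) : expo (s1 i) = Finsupp.single i 1 := by
  simp [expo, s1]

lemma expo_s2 (i j : Fin (n + 1)) : expo (s2 i j) = Finsupp.single i 1 + Finsupp.single j 1 := by
  simp [expo, s2, Fin.sum_univ_two]

lemma hcov (x : Proj (CohB1.polyGrading n R)) : ∃ i, x ∈ U (R := R) i :=
  exists_mem_basicOpen_X n R x

/-- coordinates of the generator `X_i^a` -/
lemma cW_gen (a : ℤ) (i : Fin (n + 1)) :
    cW a (s1 i) (U i) (U_eq i) (gen (T (R := R) i) a (U i) le_rfl) =
      Finsupp.single (Pi.single i a) 1 := by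
  have hrep : IsRep a (s1 i) (Twist.resN a (homOfLE (U_eq (R := R) i).ge).op
      (gen (T (R := R) i) a (U i) le_rfl)) (-a).toNat (MvPolynomial.X i ^ a.toNat) := by
    refine ⟨⟨a.toNat, by push_cast; omega, ?_⟩, fun x => ?_⟩
    · have := (MvPolynomial.isHomogeneous_X R i).pow a.toNat
      simpa using this
    · have h1 := val_gen (T (R := R) i) a (U i) le_rfl ⟨x.1, (U_eq (R := R) i).ge x.2⟩
      refine h1.trans ?_
      simp only [frac, T]
      congr 1
      apply Subtype.ext
      change MvPolynomial.X i ^ (-a).toNat = fb (s1 i) ^ (-a).toNat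
      rw [fb_s1]
  refine (cW_apply _ _ _ _ _).trans ((cB_eq a (s1 i) _ hrep).trans ?_)
  rw [MvPolynomial.X_pow_eq_monomial, lauN_monomial, expo_s1]
  congr 1
  funext k
  by_cases hk : k = i
  · subst hk
    simp only [shiftExp_apply, Finsupp.single_eq_same, Finsupp.smul_apply, smul_eq_mul, mul_one,
      Pi.single_eq_same]
    omega
  · simp [shiftExp_apply, hk]

/-- pointwise value of `mulHom f σ` -/
lemma val_mulHom {k : ℕ} (f : CohB1.polyGrading n R k) (a b : ℤ) (hk : b = a + k)
    (V : (Proj (CohB1.polyGrading n R)).Opens) (σ : Sec (CohB1.polyGrading n R) a (op V)) (x : V) :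
    val (((mulHom f a b hk).app V).hom σ : Sec (CohB1.polyGrading n R) b (op V)) x =
      Localization.mk f.1 1 * val σ x := rfl

/-- coordinates of `mulHom f σ` -/
lemma cW_mulHom {k : ℕ} (f : CohB1.polyGrading n R k) (a b : ℤ) (hk : b = a + k) {p : ℕ}
    (t : Fin (p + 1) → Fin (n + 1)) (W : (Proj (CohB1.polyGrading n R)).Opens) (hW : W = DP R t)
    (σ : Sec (CohB1.polyGrading n R) a (op W)) :
    cW b t W hW (((mulHom f a b hk).app W).hom σ) = mulFracL f.1 0 (cW a t W hW σ) := by
  have h := cW_of_frac_mul a b t W hW σ (((mulHom f a b hk).app W).hom σ) f.1 k 0 f.2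
    (by rw [hk]; push_cast; ring) (fun x => by
      rw [pow_zero, Localization.mk_one, one_mul]
      exact val_mulHom f a b hk W σ x)
  rw [zero_smul] at h
  exact h

/-- coordinates of `φ (X_i^a)` -/
noncomputable def G {a b : ℤ} (φ : twist (CohB1.polyGrading n R) a ⟶ twist (CohB1.polyGrading n R) b)
    (i : Fin (n + 1)) : Lau (Fin (n + 1)) R :=
  cW b (s1 i) (U i) (U_eq i) ((φ.app (U i)).hom (gen (T (R := R) i) a (U i) le_rfl))

lemma G_mem {a b : ℤ} (φ : twist (CohB1.polyGrading n R) a ⟶ twist (CohB1.polyGrading n R) b)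
    (i : Fin (n + 1)) (m : Fin (n + 1) → ℤ) (hm : G φ i m ≠ 0) : m ∈ Allowed b {i} := by
  have := cW_mem_allowed b (s1 i) (U i) (U_eq i) _ m hm
  have hr : Set.range (s1 i) = {i} := by
    ext k
    simp [s1, eq_comm]
  rwa [hr] at this

lemma cW_congr (d : ℤ) {p : ℕ} (t t' : Fin (p + 1) → Fin (n + 1)) (h : t = t')
    (W : Opens (ProjectiveSpectrum.top (CohB1.polyGrading n R))) (hW : W = DP R t) (hW' : W = DP R t')
    (s : Twist.sectN (𝒜 := CohB1.polyGrading n R) d (op W)) :
    cW d t W hW s = cW d t' W hW' s := by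
  subst h
  rfl

lemma mk_mul_algebraMap (x : ProjectiveSpectrum (CohB1.polyGrading n R))
    (p q : MvPolynomial (Fin (n + 1)) R) (hq : q ∉ x.asHomogeneousIdeal) :
    frac x p q hq * algebraMap _ (Loc (CohB1.polyGrading n R) x) q =
      algebraMap _ (Loc (CohB1.polyGrading n R) x) p := by
  rw [frac, Localization.mk_eq_mk']
  exact IsLocalization.mk'_spec _ p ⟨q, hq⟩

lemma alg_key {K : Type*} [CommRing K] (ξi ξj u fi fj σ' : K) (p q : ℕ) (hj : fj * ξj ^ q = ξj ^ p)
    (hi : fi * ξi ^ q = ξi ^ p) (hrel : fj = u * fi) :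
    (ξi * ξj) ^ (p + q) * (u * σ') = ξj ^ (2 * p) * ξi ^ (2 * q) * σ' := by
  have hrel2 : ξj ^ p * ξi ^ q = u * ξi ^ p * ξj ^ q := by
    linear_combination (-(ξi ^ q)) * hj + (u * ξj ^ q) * hi + (ξj ^ q * ξi ^ q) * hrel
  linear_combination (-(σ' * ξi ^ q * ξj ^ p)) * hrel2

/-- the pointwise relation between `φ (X_j^a)` and `φ (X_i^a)` on `D₊(X_i X_j)` -/
lemma overlap_pointwise {a b : ℤ}
    (φ : twist (CohB1.polyGrading n R) a ⟶ twist (CohB1.polyGrading n R) b) (i j : Fin (n + 1))
    (hWi : DP R (s2 i j) ≤ U (R := R) i) (hWj : DP R (s2 i j) ≤ U (R := R) j) (x : DP R (s2 i j)) :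
    Localization.mk (fb (s2 i j) ^ (a.toNat + (-a).toNat)) 1 *
      val (resN b (homOfLE hWj).op ((φ.app (U j)).hom (gen (T (R := R) j) a (U j) le_rfl))) x =
    Localization.mk (MvPolynomial.monomial (Finsupp.single j (2 * a.toNat) +
        Finsupp.single i (2 * (-a).toNat)) (1 : R)) 1 *
      val (resN b (homOfLE hWi).op ((φ.app (U i)).hom (gen (T (R := R) i) a (U i) le_rfl))) x := by
  obtain ⟨h, hh⟩ := exists_smul_gen (T (R := R) i) a (DP R (s2 i j)) hWi
    (gen (T (R := R) j) a (DP R (s2 i j)) hWj)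
  have e1 : resN b (homOfLE hWj).op ((φ.app (U j)).hom (gen (T (R := R) j) a (U j) le_rfl)) =
      (φ.app (DP R (s2 i j))).hom (gen (T (R := R) j) a (DP R (s2 i j)) hWj) := by
    rw [← res_gen (T (R := R) j) a le_rfl hWj]
    exact (app_res φ hWj _).symm
  have e2 : resN b (homOfLE hWi).op ((φ.app (U i)).hom (gen (T (R := R) i) a (U i) le_rfl)) =
      (φ.app (DP R (s2 i j))).hom (gen (T (R := R) i) a (DP R (s2 i j)) hWi) := by
    rw [← res_gen (T (R := R) i) a le_rfl hWi]
    exact (app_res φ hWi _).symm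
  have e3 : (φ.app (DP R (s2 i j))).hom (gen (T (R := R) j) a (DP R (s2 i j)) hWj) =
      smulSec h ((φ.app (DP R (s2 i j))).hom (gen (T (R := R) i) a (DP R (s2 i j)) hWi)) :=
    (congrArg (fun q => (φ.app (DP R (s2 i j))).hom q) hh).trans (app_smul' φ _ h _)
  have hx1 : val (resN b (homOfLE hWj).op ((φ.app (U j)).hom (gen (T (R := R) j) a (U j) le_rfl))) x
      = (h.1 x).val * val (resN b (homOfLE hWi).op
          ((φ.app (U i)).hom (gen (T (R := R) i) a (U i) le_rfl))) x := by
    have := congrArg (fun q : Sec (CohB1.polyGrading n R) b (op (DP R (s2 i j))) => val q x)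
      (e1.trans (e3.trans (congrArg (smulSec h) e2.symm)))
    exact this.trans (val_smulSec h _ x)
  have hrel : val (gen (T (R := R) j) a (DP R (s2 i j)) hWj) x =
      (h.1 x).val * val (gen (T (R := R) i) a (DP R (s2 i j)) hWi) x :=
    (congrArg (fun q : Sec (CohB1.polyGrading n R) a (op (DP R (s2 i j))) => val q x) hh).trans
      (val_smulSec h _ x)
  have hj := mk_mul_algebraMap x.1 (MvPolynomial.X j ^ a.toNat) (MvPolynomial.X j ^ (-a).toNat)
    (powElt_not_mem (T (R := R) j) _ hWj x)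
  have hi := mk_mul_algebraMap x.1 (MvPolynomial.X i ^ a.toNat) (MvPolynomial.X i ^ (-a).toNat)
    (powElt_not_mem (T (R := R) i) _ hWi x)
  have hgj := val_gen (T (R := R) j) a (DP R (s2 i j)) hWj x
  have hgi := val_gen (T (R := R) i) a (DP R (s2 i j)) hWi x
  have hmono : (MvPolynomial.monomial (Finsupp.single j (2 * a.toNat) +
      Finsupp.single i (2 * (-a).toNat)) (1 : R)) =
      MvPolynomial.X j ^ (2 * a.toNat) * MvPolynomial.X i ^ (2 * (-a).toNat) := by
    rw [MvPolynomial.X_pow_eq_monomial, MvPolynomial.X_pow_eq_monomial, MvPolynomial.monomial_mul,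
      one_mul]
  rw [hmono, hx1, Localization.mk_one_eq_algebraMap, Localization.mk_one_eq_algebraMap, fb_s2,
    map_pow, map_mul, map_mul, map_pow, map_pow]
  rw [map_pow, map_pow] at hj hi
  refine alg_key _ _ (h.1 x).val _ _ _ a.toNat (-a).toNat hj hi ?_
  exact hgj.symm.trans (hrel.trans (congrArg (fun q => (h.1 x).val * q) hgi))

set_option maxHeartbeats 1600000 in
/-- **compatibility of the coordinates of `φ (X_i^a)` and `φ (X_j^a)`** -/
lemma G_overlap {a b : ℤ}
    (φ : twist (CohB1.polyGrading n R) a ⟶ twist (CohB1.polyGrading n R) b) (i j : Fin (n + 1)) :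
    G φ j = trans (Pi.single j a - Pi.single i a) (G φ i) := by
  have hWi : DP R (s2 i j) ≤ U (R := R) i := DP_le_basicOpen (s2 i j) 0
  have hWj : DP R (s2 i j) ≤ U (R := R) j := DP_le_basicOpen (s2 i j) 1
  have hGj : cW b (s2 i j) (DP R (s2 i j)) rfl (resN b (homOfLE hWj).op
      ((φ.app (U j)).hom (gen (T (R := R) j) a (U j) le_rfl))) = G φ j := by
    refine (cW_res b (s2 i j) 0 (DP R (s2 i j)) (U j) rfl
      (by rw [s2_comp_zero]; exact U_eq j) (homOfLE hWj).op _).trans ?_
    exact cW_congr b _ _ (s2_comp_zero i j) _ _ _ _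
  have hGi : cW b (s2 i j) (DP R (s2 i j)) rfl (resN b (homOfLE hWi).op
      ((φ.app (U i)).hom (gen (T (R := R) i) a (U i) le_rfl))) = G φ i := by
    refine (cW_res b (s2 i j) 1 (DP R (s2 i j)) (U i) rfl
      (by rw [s2_comp_one]; exact U_eq i) (homOfLE hWi).op _).trans ?_
    exact cW_congr b _ _ (s2_comp_one i j) _ _ _ _
  have hF : (MvPolynomial.monomial (Finsupp.single j (2 * a.toNat) + Finsupp.single i (2 * (-a).toNat))
      (1 : R)) ∈ CohB1.polyGrading n R (2 * (a.toNat + (-a).toNat)) := by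
    refine MvPolynomial.isHomogeneous_monomial _ ?_
    rw [map_add, Finsupp.degree_single, Finsupp.degree_single]
    ring
  have key := cW_of_frac_mul b b (s2 i j) (DP R (s2 i j)) rfl
    (resN b (homOfLE hWi).op ((φ.app (U i)).hom (gen (T (R := R) i) a (U i) le_rfl)))
    (resN b (homOfLE hWj).op ((φ.app (U j)).hom (gen (T (R := R) j) a (U j) le_rfl)))
    (MvPolynomial.monomial (Finsupp.single j (2 * a.toNat) + Finsupp.single i (2 * (-a).toNat)) (1 : R))
    (2 * (a.toNat + (-a).toNat)) (a.toNat + (-a).toNat) hF (by push_cast; ring)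
    (fun x => overlap_pointwise φ i j hWi hWj x)
  rw [hGj, hGi] at key
  rw [key]
  rcases subsingleton_or_nontrivial R with hR | hR
  · exact Subsingleton.elim _ _
  · rw [mulFracL_monomial]
    have hexp : toZ (Finsupp.single j (2 * a.toNat) + Finsupp.single i (2 * (-a).toNat)) -
        toZ ((a.toNat + (-a).toNat) • expo (s2 i j)) = Pi.single j a - Pi.single i a := by
      funext k
      simp only [Pi.sub_apply, toZ_apply, expo_s2, Finsupp.add_apply, Finsupp.smul_apply, smul_eq_mul,
        Finsupp.single_apply, Pi.single_apply]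
      by_cases hjk : j = k
      · by_cases hik : i = k
        · have hkj : k = j := hjk.symm
          have hki : k = i := hik.symm
          simp only [hjk, hik, if_true]
          push_cast
          omega
        · have hkj : k = j := hjk.symm
          have hki : ¬ k = i := fun h => hik h.symm
          simp only [hjk, hik, hki, if_true, if_false]
          push_cast
          omega
      · by_cases hik : i = k
        · have hkj : ¬ k = j := fun h => hjk h.symm
          have hki : k = i := hik.symm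
          simp only [hjk, hik, hkj, if_true, if_false]
          push_cast
          omega
        · have hkj : ¬ k = j := fun h => hjk h.symm
          have hki : ¬ k = i := fun h => hik h.symm
          simp only [hjk, hik, hkj, hki, if_false]
          push_cast
          omega
    rw [hexp]

/-- the Laurent polynomial `φ (X_i^a) / X_i^a` -/
noncomputable def Fφ {a b : ℤ}
    (φ : twist (CohB1.polyGrading n R) a ⟶ twist (CohB1.polyGrading n R) b) (i : Fin (n + 1)) :
    Lau (Fin (n + 1)) R :=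
  trans (-(Pi.single i a)) (G φ i)

lemma Fφ_indep {a b : ℤ}
    (φ : twist (CohB1.polyGrading n R) a ⟶ twist (CohB1.polyGrading n R) b) (i j : Fin (n + 1)) :
    Fφ φ i = Fφ φ j := by
  rw [Fφ, Fφ, G_overlap φ i j, trans_trans]
  congr 1
  abel

lemma G_eq_trans {a b : ℤ}
    (φ : twist (CohB1.polyGrading n R) a ⟶ twist (CohB1.polyGrading n R) b) (i : Fin (n + 1)) :
    G φ i = trans (Pi.single i a) (Fφ φ i) := by
  rw [Fφ, trans_trans, neg_add_cancel, trans_zero]

lemma Fφ_supp (hn : 1 ≤ n) {a b : ℤ}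
    (φ : twist (CohB1.polyGrading n R) a ⟶ twist (CohB1.polyGrading n R) b) (i : Fin (n + 1))
    (m : Fin (n + 1) → ℤ) (hm : Fφ φ i m ≠ 0) : (∀ k, 0 ≤ m k) ∧ ∑ k, m k = b - a := by
  have key : ∀ i' : Fin (n + 1), m - -(Pi.single i' a) ∈ Allowed b {i'} := by
    intro i'
    have hm' : Fφ φ i' m ≠ 0 := by rwa [Fφ_indep φ i' i]
    rw [Fφ, trans_apply] at hm'
    exact G_mem φ i' _ hm'
  constructor
  · intro k
    have : Nontrivial (Fin (n + 1)) := Fin.nontrivial_iff_two_le.2 (by omega)
    obtain ⟨i', hi'⟩ := exists_ne k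
    by_contra hk
    push Not at hk
    have := (key i').2 k (by
      simp only [Pi.sub_apply, Pi.neg_apply, Pi.single_apply, if_neg hi'.symm]
      simpa using hk)
    exact hi'.symm (Set.mem_singleton_iff.1 this)
  · have h1 := (key i).1
    simp only [Pi.sub_apply, Pi.neg_apply, sub_neg_eq_add] at h1
    rw [Finset.sum_add_distrib, Finset.sum_pi_single'] at h1
    simp only [Finset.mem_univ, if_true] at h1
    omega

/-- **classification of the morphisms between twists on `P^n`, `n ≥ 1`** -/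
theorem hom_class (hn : 1 ≤ n) (a b : ℤ)
    (φ : twist (CohB1.polyGrading n R) a ⟶ twist (CohB1.polyGrading n R) b) :
    (∃ (k : ℕ) (hk : b = a + k) (f : CohB1.polyGrading n R k), φ = mulHom f a b hk) ∨
      (b < a ∧ φ = 0) := by
  obtain ⟨f, hf1, hf2⟩ := exists_lauN_zero_eq (Fφ φ 0) (fun m hm => (Fφ_supp hn φ 0 m hm).1)
  rcases lt_or_ge b a with hlt | hge
  · right
    refine ⟨hlt, ?_⟩
    have hF0 : Fφ φ 0 = 0 := by
      ext m
      by_contra hm
      obtain ⟨h1, h2⟩ := Fφ_supp hn φ 0 m hm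
      have : 0 ≤ ∑ k, m k := Finset.sum_nonneg (fun k _ => h1 k)
      omega
    apply hom_ext_of_gen (T (R := R)) hcov a b φ 0
    intro i
    apply cW_injective b (s1 i) (U i) (U_eq i)
    have h1 : cW b (s1 i) (U i) (U_eq i) ((φ.app (U i)).hom (gen (T (R := R) i) a (U i) le_rfl)) = 0 := by
      change G φ i = 0
      rw [G_eq_trans, Fφ_indep φ i 0, hF0, map_zero]
    rw [h1]
    exact (map_zero _).symm
  · left
    obtain ⟨k, hk⟩ : ∃ k : ℕ, b = a + k := ⟨(b - a).toNat, by omega⟩
    have hfk : f ∈ CohB1.polyGrading n R k := by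
      rw [MvPolynomial.mem_homogeneousSubmodule]
      intro d hd
      rw [hf2] at hd
      have h2 := (Fφ_supp hn φ 0 _ hd).2
      have h3 : ((d.degree : ℕ) : ℤ) = k := by
        rw [Finsupp.degree_eq_sum]
        push_cast
        simp only [toZ_apply] at h2
        omega
      have h4 : d.degree = k := by exact_mod_cast h3
      rw [← h4]
      exact (DFunLike.congr_fun (Finsupp.degree_eq_weight_one (R := ℕ)) d).symm
    refine ⟨k, hk, ⟨f, hfk⟩, ?_⟩
    apply hom_ext_of_gen (T (R := R)) hcov a b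
    intro i
    apply cW_injective b (s1 i) (U i) (U_eq i)
    have h1 := cW_mulHom (⟨f, hfk⟩ : CohB1.polyGrading n R k) a b hk (s1 i) (U i) (U_eq i)
      (gen (T (R := R) i) a (U i) le_rfl)
    refine Eq.trans ?_ h1.symm
    have h2 : G φ i = mulFracL f 0 (cW a (s1 i) (U i) (U_eq i) (gen (T (R := R) i) a (U i) le_rfl)) := by
      rw [cW_gen, mulFracL_single, hf1, Fφ_indep φ 0 i, ← G_eq_trans]
    exact h2

end Groth.Agent.Lib.Proj.PnHom
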