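/-
Elementwise computation of the homology of a cochain complex of abelian groups (helper44).

ns `Groth.Agent.Lib.Proj.HomologyEquiv`.
* `exists_homology_equiv` : if `Φ : K.X n →+ T` kills coboundaries, detects coboundaries among cocycles and
  is onto on cocycles, then `K.homology n ≃+ T`, compatibly with `homologyπ`.
* `homologyMap_apply_of` : transport of an endomorphism of the complex acting by a scalar on `Φ`.
-/
import Mathlib.Algebra.Homology.ShortComplex.HomologicalComplex
import Mathlib.Algebra.Homology.ShortComplex.Ab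
import Mathlib.Algebra.Category.Grp.Abelian
import Mathlib.Algebra.Category.Grp.EpiMono
import Mathlib.Algebra.Homology.HomologicalComplex

set_option autoImplicit false
universe u

open CategoryTheory Limits

namespace Groth.Agent.Lib.Proj.HomologyEquiv

variable (K : CochainComplex AddCommGrpCat.{u} ℕ) (n : ℕ) {T : Type u} [AddCommGroup T]

lemma homologyπ_surjective : Function.Surjective (K.homologyπ n) :=
  (AddCommGrpCat.epi_iff_surjective _).1 inferInstance

lemma iCycles_injective : Function.Injective (K.iCycles n) :=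
  (AddCommGrpCat.mono_iff_injective _).1 inferInstance

lemma iCycles_d_apply (c : K.cycles n) : K.d n (n + 1) (K.iCycles n c) = 0 :=
  ConcreteCategory.congr_hom (K.iCycles_d n (n + 1)) c

/-- a cocycle gives an element of `K.cycles n` -/
lemma exists_cycle_of_d_eq_zero (z : K.X n) (hz : K.d n (n + 1) z = 0) :
    ∃ c : K.cycles n, K.iCycles n c = z := by
  let f : AddCommGrpCat.of (AddSubgroup.zmultiples z) ⟶ K.X n :=
    AddCommGrpCat.ofHom (AddSubgroup.subtype _)
  have hf : f ≫ K.d n (n + 1) = 0 := by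
    ext ⟨w, hw⟩
    obtain ⟨m, rfl⟩ := AddSubgroup.mem_zmultiples_iff.1 hw
    change K.d n (n + 1) (m • z) = 0
    rw [map_zsmul, hz, smul_zero]
  refine ⟨K.liftCycles f (n + 1) (by simp) hf ⟨z, AddSubgroup.mem_zmultiples z⟩, ?_⟩
  exact ConcreteCategory.congr_hom (K.liftCycles_i f (n + 1) (by simp) hf)
    ⟨z, AddSubgroup.mem_zmultiples z⟩

variable {K n}

/-- **Elementwise computation of homology.** -/
theorem exists_homology_equiv (i : ℕ) (hi : (ComplexShape.up ℕ).prev n = i) (Φ : K.X n →+ T)
    (h1 : ∀ y : K.X i, Φ (K.d i n y) = 0)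
    (h2 : ∀ z : K.X n, K.d n (n + 1) z = 0 → Φ z = 0 → ∃ y : K.X i, K.d i n y = z)
    (h3 : ∀ t : T, ∃ z : K.X n, K.d n (n + 1) z = 0 ∧ Φ z = t) :
    ∃ ψ : K.homology n ≃+ T, ∀ c : K.cycles n, ψ (K.homologyπ n c) = Φ (K.iCycles n c) := by
  have hzero : K.toCycles i n ≫ (K.iCycles n ≫ AddCommGrpCat.ofHom Φ) = 0 := by
    rw [← Category.assoc, K.toCycles_i]
    ext y
    exact h1 y
  let desc : K.homology n ⟶ AddCommGrpCat.of T :=
    (K.homologyIsCokernel i n hi).desc (CokernelCofork.ofπ _ hzero)
  have hdesc : K.homologyπ n ≫ desc = K.iCycles n ≫ AddCommGrpCat.ofHom Φ :=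
    (K.homologyIsCokernel i n hi).fac (CokernelCofork.ofπ _ hzero) WalkingParallelPair.one
  have hdesc' : ∀ c : K.cycles n, desc (K.homologyπ n c) = Φ (K.iCycles n c) :=
    fun c => ConcreteCategory.congr_hom hdesc c
  have hinj : Function.Injective desc := by
    rw [injective_iff_map_eq_zero]
    intro x hx
    obtain ⟨c, rfl⟩ := homologyπ_surjective K n x
    rw [hdesc'] at hx
    obtain ⟨y, hy⟩ := h2 (K.iCycles n c) (iCycles_d_apply K n c) hx
    have hc : c = K.toCycles i n y := by
      apply iCycles_injective K n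
      rw [← hy]
      exact (ConcreteCategory.congr_hom (K.toCycles_i i n) y).symm
    rw [hc]
    exact ConcreteCategory.congr_hom (K.toCycles_comp_homologyπ i n) y
  have hsurj : Function.Surjective desc := by
    intro t
    obtain ⟨z, hz1, hz2⟩ := h3 t
    obtain ⟨c, hc⟩ := exists_cycle_of_d_eq_zero K n z hz1
    exact ⟨K.homologyπ n c, by rw [hdesc', hc, hz2]⟩
  exact ⟨AddEquiv.ofBijective desc.hom ⟨hinj, hsurj⟩, hdesc'⟩

/-- An endomorphism of the complex which multiplies `Φ` by `r` acts on homology by `r`. -/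
theorem homologyMap_apply_of {S : Type*} [Monoid S] [DistribMulAction S T] (Φ : K.X n →+ T)
    (ψ : K.homology n ≃+ T) (hψ : ∀ c : K.cycles n, ψ (K.homologyπ n c) = Φ (K.iCycles n c))
    (f : K ⟶ K) (r : S) (hf : ∀ z : K.X n, Φ (f.f n z) = r • Φ z) (x : K.homology n) :
    ψ (HomologicalComplex.homologyMap f n x) = r • ψ x := by
  obtain ⟨c, rfl⟩ := homologyπ_surjective K n x
  have h1 : HomologicalComplex.homologyMap f n (K.homologyπ n c) =
      K.homologyπ n (HomologicalComplex.cyclesMap f n c) :=
    ConcreteCategory.congr_hom (HomologicalComplex.homologyπ_naturality f n) c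
  have h2 : K.iCycles n (HomologicalComplex.cyclesMap f n c) = f.f n (K.iCycles n c) :=
    ConcreteCategory.congr_hom (HomologicalComplex.cyclesMap_i f n) c
  rw [h1, hψ, h2, hf, hψ]

end Groth.Agent.Lib.Proj.HomologyEquiv
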