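/-
Top Čech cohomology from a Laurent bridge (helper44, T3 of the S0845 plan).

ns `Groth.Agent.Lib.Proj.CechBridge`.
* `cechEquiv_map`, `cE`, `cE_d`, `cE_map` : componentwise description of the map induced on the Čech complex.
* `Bridge.topΦ e` : the top functional `K.X c →+ (NegMon ι d →₀ R)`;
* `Bridge.exists_top_equiv` : `K.homology c ≃+ (NegMon ι d →₀ R)` for `card ι = c + 1`, `d < 0`;
* `Bridge.topΦ_map` : endomorphisms acting by `r` in coordinates act by `r` on `topΦ`.
-/
import Groth.Agent.Lib.Proj.Helper3_CechBridge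
import Groth.Agent.Lib.Proj.Helper44_HomologyEquiv

set_option autoImplicit false
universe u

open CategoryTheory Limits Opposite TopologicalSpace
open Groth.Agent.Lib.Cohomology Groth.Agent.Lib.Proj.CechComb Groth.Agent.Lib.Proj.HomologyEquiv

namespace Groth.Agent.Lib.Proj.CechBridge

variable {X : TopCat.{u}} {ι : Type u} (V : ι → Opens X)

/-- the map induced on Čech cochains by a morphism of presheaves, componentwise -/
lemma cechEquiv_map {P Q : (Opens X)ᵒᵖ ⥤ AddCommGrpCat.{u}} (α : P ⟶ Q) (n : ℕ)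
    (z : ((cechComplexFunctor V).obj P).X n) (a : Fin (n + 1) → ι) :
    cechEquiv V Q n ((((cechComplexFunctor V).map α).f n) z) a =
      α.app (op (∏ᶜ (V ∘ a))) (cechEquiv V P n z a) := by
  have h1 : cechEquiv V Q n ((((cechComplexFunctor V).map α).f n) z) a =
      Pi.π (fun (a : Fin (n + 1) → ι) => Q.obj (op (∏ᶜ (V ∘ a)))) a
        ((((cechComplexFunctor V).map α).f n) z) := cechEquiv_apply V Q n _ a
  have h2 : cechEquiv V P n z a =
      Pi.π (fun (a : Fin (n + 1) → ι) => P.obj (op (∏ᶜ (V ∘ a)))) a z := cechEquiv_apply V P n z a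
  rw [h1, h2]
  have h : ((cechComplexFunctor V).map α).f n ≫
      Pi.π (fun (a : Fin (n + 1) → ι) => Q.obj (op (∏ᶜ (V ∘ a)))) a =
      Pi.π (fun (a : Fin (n + 1) → ι) => P.obj (op (∏ᶜ (V ∘ a)))) a ≫ α.app (op (∏ᶜ (V ∘ a))) :=
    Pi.map_π (fun a : Fin (n + 1) → ι => α.app (op (∏ᶜ (V ∘ a)))) a
  exact ConcreteCategory.congr_hom h z

/-- `cechEquiv` with its domain typed as the term of the Čech complex -/
noncomputable def cE (P : (Opens X)ᵒᵖ ⥤ AddCommGrpCat.{u}) (n : ℕ) :
    ((cechComplexFunctor V).obj P).X n ≃+ CC V P n := cechEquiv V P n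

lemma cE_d (P : (Opens X)ᵒᵖ ⥤ AddCommGrpCat.{u}) (n : ℕ) (z : ((cechComplexFunctor V).obj P).X n) :
    cE V P (n + 1) (((cechComplexFunctor V).obj P).d n (n + 1) z) = dC V P n (cE V P n z) :=
  cechEquiv_d V P n z

lemma cE_map {P Q : (Opens X)ᵒᵖ ⥤ AddCommGrpCat.{u}} (α : P ⟶ Q) (n : ℕ)
    (z : ((cechComplexFunctor V).obj P).X n) (a : Fin (n + 1) → ι) :
    cE V Q n ((((cechComplexFunctor V).map α).f n) z) a =
      α.app (op (∏ᶜ (V ∘ a))) (cE V P n z a) :=
  cechEquiv_map V α n z a

namespace Bridge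

variable {V} [Fintype ι] {P : (Opens X)ᵒᵖ ⥤ AddCommGrpCat.{u}} {R : Type u} [CommRing R] {d : ℤ}
  (B : Bridge V P R d)

lemma toLau_add {n : ℕ} (s t : CC V P n) : B.toLau (s + t) = B.toLau s + B.toLau t := by
  funext b
  simp [toLau]

lemma toLau_zero {n : ℕ} : B.toLau (0 : CC V P n) = 0 := by
  funext b
  simp [toLau]

/-- the top-degree functional on Čech cochains -/
noncomputable def topΦ {c : ℕ} (e : Fin (c + 1) → ι) :
    ((cechComplexFunctor V).obj P).X c →+ (NegMon ι d →₀ R) :=
  AddMonoidHom.mk' (fun z => topPart d e (B.toLau (cE V P c z))) (fun z w => by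
    rw [map_add, toLau_add, map_add])

lemma topΦ_apply {c : ℕ} (e : Fin (c + 1) → ι) (z : ((cechComplexFunctor V).obj P).X c) :
    B.topΦ e z = topPart d e (B.toLau (cE V P c z)) := rfl

lemma dC_eq_zero_of_d_eq_zero {c : ℕ} (z : ((cechComplexFunctor V).obj P).X c)
    (hz : ((cechComplexFunctor V).obj P).d c (c + 1) z = 0) :
    dC V P c (cE V P c z) = 0 := by
  rw [← cE_d, hz]
  exact map_zero (cE V P (c + 1))

lemma dT_toLau_eq_zero {c : ℕ} (s : CC V P c) (hs : dC V P c s = 0) :
    dT (c + 1) (B.toLau s) = 0 := by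
  rw [← B.toLau_dC, hs, toLau_zero]

include B in
/-- **The top Čech cohomology** of the Laurent model. -/
theorem exists_top_equiv {c : ℕ} (hc : Fintype.card ι = c + 1) (e : Fin (c + 1) → ι)
    (he : Function.Bijective e) (hd : d < 0) :
    ∃ ψ : ((cechComplexFunctor V).obj P).homology c ≃+ (NegMon ι d →₀ R),
      ∀ z : ((cechComplexFunctor V).obj P).cycles c,
        ψ (((cechComplexFunctor V).obj P).homologyπ c z) =
          B.topΦ e (((cechComplexFunctor V).obj P).iCycles c z) := by
  refine exists_homology_equiv ((ComplexShape.up ℕ).prev c) rfl (B.topΦ e) ?_ ?_ ?_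
  · intro y
    cases c with
    | zero =>
      have h0 : ((cechComplexFunctor V).obj P).d ((ComplexShape.up ℕ).prev 0) 0 = 0 := by
        apply HomologicalComplex.shape
        simp
      rw [h0]
      exact map_zero _
    | succ c' =>
      have hprev : (ComplexShape.up ℕ).prev (c' + 1) = c' := by simp
      revert y
      rw [hprev]
      intro y
      rw [topΦ_apply, cE_d, B.toLau_dC]
      exact topPart_dT d hc e _ (B.toLau_inW _)
  · intro z hz hΦ
    have hs := dC_eq_zero_of_d_eq_zero z hz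
    obtain ⟨t, ht1, ht2⟩ := top_exact d hc e he (B.toLau (cE V P c z)) (B.toLau_inW _)
      (B.dT_toLau_eq_zero _ hs) hΦ
    cases c with
    | zero =>
      have ht0 : t = 0 := by
        funext b
        ext m
        by_contra hne
        obtain ⟨hsum, hneg⟩ := ht1 b m hne
        have hnn : ∀ i, 0 ≤ m i := by
          intro i
          by_contra hi
          push Not at hi
          obtain ⟨k, -⟩ := hneg i hi
          exact k.elim0
        have : 0 ≤ ∑ i, m i := Finset.sum_nonneg (fun i _ => hnn i)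
        omega
      have hz0 : z = 0 := by
        apply (cE V P 0).injective
        apply B.toLau_injective
        rw [← ht2, ht0, dT_zero, map_zero, toLau_zero]
      refine ⟨0, ?_⟩
      rw [map_zero, hz0]
    | succ c' =>
      have hprev : (ComplexShape.up ℕ).prev (c' + 1) = c' := by simp
      rw [hprev]
      obtain ⟨s', hs'⟩ := B.exists_of_inW t ht1
      refine ⟨(cE V P c').symm s', ?_⟩
      apply (cE V P (c' + 1)).injective
      rw [cE_d, AddEquiv.apply_symm_apply]
      apply B.toLau_injective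
      rw [B.toLau_dC, hs', ht2]
  · intro y
    obtain ⟨s, hs1, hs2, hs3⟩ := top_surj d hc e he y
    obtain ⟨s', hs'⟩ := B.exists_of_inW s hs1
    refine ⟨(cE V P c).symm s', ?_, ?_⟩
    · apply (cE V P (c + 1)).injective
      rw [cE_d, AddEquiv.apply_symm_apply, map_zero]
      apply B.toLau_injective
      rw [B.toLau_dC, hs', hs2, toLau_zero]
    · rw [topΦ_apply, AddEquiv.apply_symm_apply, hs', hs3]

/-- linearity of `topΦ` for endomorphisms of the presheaf acting by `r` in coordinates -/
lemma topΦ_map {c : ℕ} (e : Fin (c + 1) → ι) (α : P ⟶ P) (r : R)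
    (hα : ∀ {p : ℕ} (b : Fin (p + 1) → ι) (σ : P.obj (op (∏ᶜ (V ∘ b)))),
      B.c b (α.app (op (∏ᶜ (V ∘ b))) σ) = r • B.c b σ)
    (z : ((cechComplexFunctor V).obj P).X c) :
    B.topΦ e ((((cechComplexFunctor V).map α).f c) z) = r • B.topΦ e z := by
  rw [topΦ_apply, topΦ_apply, ← map_smul]
  congr 1
  funext b
  change B.c b (cE V P c ((((cechComplexFunctor V).map α).f c) z) b) = _
  rw [cE_map, hα]
  rfl

end Bridge

end Groth.Agent.Lib.Proj.CechBridge
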