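/-
Degree-zero Čech cohomology from a Laurent bridge (helper44; for S0843).

ns `Groth.Agent.Lib.Proj.CechComb` : `PosMon`, `zeroPart`, `zero_inj`, `zero_surj`, `posEquiv`, `zeroIso`.
ns `Groth.Agent.Lib.Proj.CechBridge` : `Bridge.zeroΦ`, `Bridge.exists_zero_equiv`, `Bridge.zeroΦ_map`.
-/
import Groth.Agent.Lib.Proj.Helper44_CechTop

set_option autoImplicit false
universe u v

namespace Groth.Agent.Lib.Proj.CechComb

section ZeroLaurent

variable {ι : Type u} {R : Type v} [CommRing R] [Fintype ι]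

/-- the multidegrees with all exponents nonnegative, of total degree `d` -/
def PosMon (ι : Type u) [Fintype ι] (d : ℤ) : Set (ι → ℤ) := {m | (∀ i, 0 ≤ m i) ∧ ∑ i, m i = d}

/-- the degree-zero functional: the part of `s e` in the all-nonnegative multidegrees -/
noncomputable def zeroPart (d : ℤ) (e : Fin 1 → ι) :
    ((Fin 1 → ι) → Lau ι R) →ₗ[R] (PosMon ι d →₀ R) :=
  (Finsupp.lsubtypeDomain (PosMon ι d)).comp (LinearMap.proj e)

lemma zeroPart_apply (d : ℤ) (e : Fin 1 → ι) (s : (Fin 1 → ι) → Lau ι R) (n : PosMon ι d) :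
    zeroPart d e s n = s e n.1 := rfl

/-- a degree-zero cocycle with vanishing nonnegative part is zero -/
theorem zero_inj (d : ℤ) (hpd : 1 ≠ Fintype.card ι ∨ -(Fintype.card ι : ℤ) < d) (e : Fin 1 → ι)
    (s : (Fin 1 → ι) → Lau ι R) (hs : InW d s) (hd : dT 1 s = 0) (h0 : zeroPart d e s = 0) :
    s = 0 := by
  obtain ⟨w, hw1, hw2⟩ := cocycle_zero_const d hpd s hs hd
  have hw : w = 0 := by
    ext m
    by_contra h
    obtain ⟨h1, h2⟩ := hw1 m h
    have := DFunLike.congr_fun h0 (⟨m, h2, h1⟩ : PosMon ι d)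
    rw [zeroPart_apply, hw2 e] at this
    exact h this
  funext b
  rw [hw2 b, hw]
  rfl

/-- every element of `PosMon d →₀ R` is the nonnegative part of a degree-zero cocycle -/
theorem zero_surj (d : ℤ) (e : Fin 1 → ι) (y : PosMon ι d →₀ R) :
    ∃ s : (Fin 1 → ι) → Lau ι R, InW d s ∧ dT 1 s = 0 ∧ zeroPart d e s = y := by
  classical
  let w : Lau ι R := Finsupp.embDomain (Function.Embedding.subtype _) y
  have hw : ∀ m, w m ≠ 0 → m ∈ PosMon ι d := by
    intro m hm
    by_contra hne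
    apply hm
    apply Finsupp.embDomain_of_notMem_range
    rintro ⟨a, rfl⟩
    exact hne a.2
  refine ⟨fun _ => w, ?_, ?_, ?_⟩
  · intro b m hm
    obtain ⟨h1, h2⟩ := hw m hm
    refine ⟨h2, fun i hi => ?_⟩
    have := h1 i
    omega
  · funext b
    rw [dT_apply, Fin.sum_univ_two]
    simp
  · ext n
    rw [zeroPart_apply]
    exact Finsupp.embDomain_apply_self (Function.Embedding.subtype _) y n

/-- all-nonnegative multidegrees of total degree `k` ↔ monomials of degree `k` -/
noncomputable def posEquiv (k : ℕ) :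
    PosMon ι (k : ℤ) ≃ {μ : ι →₀ ℕ | μ.degree = k} where
  toFun n := ⟨Finsupp.equivFunOnFinite.symm (fun i => (n.1 i).toNat), by
    change Finsupp.degree _ = k
    rw [Finsupp.degree_eq_sum]
    have h : ∀ i, (((n.1 i).toNat : ℕ) : ℤ) = n.1 i :=
      fun i => Int.toNat_of_nonneg (n.2.1 i)
    have h2 : ((∑ i, (n.1 i).toNat : ℕ) : ℤ) = k := by
      push_cast
      simp only [h]
      exact n.2.2
    simp only [Finsupp.coe_equivFunOnFinite_symm]
    exact_mod_cast h2⟩
  invFun μ := ⟨fun i => ((μ.1 i : ℕ) : ℤ), fun i => Int.natCast_nonneg _, by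
    have hμ : μ.1.degree = k := μ.2
    rw [Finsupp.degree_eq_sum] at hμ
    rw [← Nat.cast_sum, hμ]⟩
  left_inv n := by
    apply Subtype.ext
    funext i
    have := n.2.1 i
    simp only [Finsupp.coe_equivFunOnFinite_symm]
    omega
  right_inv μ := by
    apply Subtype.ext
    ext i
    simp

/-- the degree-zero cohomology module is the module of homogeneous polynomials of degree `k` -/
noncomputable def zeroIso (k : ℕ) :
    (PosMon ι (k : ℤ) →₀ R) ≃ₗ[R] MvPolynomial.homogeneousSubmodule ι R k :=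
  (Finsupp.domLCongr (posEquiv k)) ≪≫ₗ
    (AddMonoidAlgebra.supportedEquivFinsupp (R := R) (S := R) {μ : ι →₀ ℕ | μ.degree = k}).symm ≪≫ₗ
    (LinearEquiv.ofEq _ _ (MvPolynomial.homogeneousSubmodule_eq_finsupp_supported ι R k)).symm

end ZeroLaurent

end Groth.Agent.Lib.Proj.CechComb

open CategoryTheory Limits Opposite TopologicalSpace
open Groth.Agent.Lib.Cohomology Groth.Agent.Lib.Proj.CechComb Groth.Agent.Lib.Proj.HomologyEquiv

namespace Groth.Agent.Lib.Proj.CechBridge

namespace Bridge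

variable {X : TopCat.{u}} {ι : Type u} {V : ι → Opens X} [Fintype ι]
  {P : (Opens X)ᵒᵖ ⥤ AddCommGrpCat.{u}} {R : Type u} [CommRing R] {d : ℤ}
  (B : Bridge V P R d)

/-- the degree-zero functional on Čech cochains -/
noncomputable def zeroΦ (e : Fin 1 → ι) :
    ((cechComplexFunctor V).obj P).X 0 →+ (PosMon ι d →₀ R) :=
  AddMonoidHom.mk' (fun z => zeroPart d e (B.toLau (cE V P 0 z))) (fun z w => by
    rw [map_add, toLau_add, map_add])

lemma zeroΦ_apply (e : Fin 1 → ι) (z : ((cechComplexFunctor V).obj P).X 0) :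
    B.zeroΦ e z = zeroPart d e (B.toLau (cE V P 0 z)) := rfl

include B in
/-- **The degree-zero Čech cohomology** of the Laurent model. -/
theorem exists_zero_equiv (e : Fin 1 → ι)
    (hpd : 1 ≠ Fintype.card ι ∨ -(Fintype.card ι : ℤ) < d) :
    ∃ ψ : ((cechComplexFunctor V).obj P).homology 0 ≃+ (PosMon ι d →₀ R),
      ∀ z : ((cechComplexFunctor V).obj P).cycles 0,
        ψ (((cechComplexFunctor V).obj P).homologyπ 0 z) =
          B.zeroΦ e (((cechComplexFunctor V).obj P).iCycles 0 z) := by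
  have h0 : ((cechComplexFunctor V).obj P).d ((ComplexShape.up ℕ).prev 0) 0 = 0 := by
    apply HomologicalComplex.shape
    simp
  refine exists_homology_equiv ((ComplexShape.up ℕ).prev 0) rfl (B.zeroΦ e) ?_ ?_ ?_
  · intro y
    rw [h0]
    exact map_zero _
  · intro z hz hΦ
    have hs := dC_eq_zero_of_d_eq_zero z hz
    have hz0 : z = 0 := by
      apply (cE V P 0).injective
      apply B.toLau_injective
      rw [map_zero, toLau_zero]
      exact zero_inj d hpd e (B.toLau (cE V P 0 z)) (B.toLau_inW _) (B.dT_toLau_eq_zero _ hs) hΦ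
    refine ⟨0, ?_⟩
    rw [map_zero, hz0]
  · intro y
    obtain ⟨s, hs1, hs2, hs3⟩ := zero_surj d e y
    obtain ⟨s', hs'⟩ := B.exists_of_inW s hs1
    refine ⟨(cE V P 0).symm s', ?_, ?_⟩
    · apply (cE V P 1).injective
      rw [cE_d, AddEquiv.apply_symm_apply, map_zero]
      apply B.toLau_injective
      rw [B.toLau_dC, hs', hs2, toLau_zero]
    · rw [zeroΦ_apply, AddEquiv.apply_symm_apply, hs', hs3]

/-- linearity of `zeroΦ` for endomorphisms of the presheaf acting by `r` in coordinates -/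
lemma zeroΦ_map (e : Fin 1 → ι) (α : P ⟶ P) (r : R)
    (hα : ∀ {p : ℕ} (b : Fin (p + 1) → ι) (σ : P.obj (op (∏ᶜ (V ∘ b)))),
      B.c b (α.app (op (∏ᶜ (V ∘ b))) σ) = r • B.c b σ)
    (z : ((cechComplexFunctor V).obj P).X 0) :
    B.zeroΦ e ((((cechComplexFunctor V).map α).f 0) z) = r • B.zeroΦ e z := by
  rw [zeroΦ_apply, zeroΦ_apply, ← map_smul]
  congr 1
  funext b
  change B.c b (cE V P 0 ((((cechComplexFunctor V).map α).f 0) z) b) = _
  rw [cE_map, hα]
  rfl

end Bridge

end Groth.Agent.Lib.Proj.CechBridge
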