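import Groth.Prelude.Def_Twist2
import Groth.Agent.Lib.QCoh.Helper50_BaseChange

/-!
# PROJ-TWIST core (lead): Serre twists `Twist.twist 𝒜 n` on `Proj 𝒜`

ns `Groth.Agent.Lib.Proj`.
* `Sec 𝒜 m V` (sections of `O(m)` over `V : (Opens _)ᵒᵖ`), `val s x : Loc 𝒜 x` (value in the localization),
  `sec_ext`, `val_smul`, `frac x a b hb` (= `a / b`), `frac_mul_frac`, `frac_mul_frac_cancel`, `mul_mem_twistAt`
* `mulFracSect V a b hb m m' h : Sec 𝒜 m V →ₗ[O V] Sec 𝒜 m' V` multiplication by `a / b` (`b` nowhere zero on `V`,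
  `m' + deg b = m + deg a`), `val_mulFracSect`, `mulFracSect_bijective` (if also `a` nowhere zero)
* `mulHom a m m' h : twist 𝒜 m ⟶ twist 𝒜 m'` (global morphism, `a ∈ 𝒜 i`, `m' = m + i`), `mulHom_app_apply`,
  `mulHom_app_bijective` (on opens `V ≤ D₊(a)`), `mulIso a m m' h U hU : O(m)|_U ≅ O(m')|_U` for `U ≤ D₊(a)`
* `isIso_restrict_of_bijective` (general: bijective on sections over opens `≤ U` ⇒ iso after restriction to `U`)
* `toTwistZeroSect`, `unitToTwistZero 𝒜 : O_X ⟶ O(0)` (iso), `twistZeroIso 𝒜 : twist 𝒜 0 ≅ Coh.structureModule _`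
-/

universe u
open CategoryTheory CategoryTheory.Limits AlgebraicGeometry TopologicalSpace Opposite TopCat

namespace Groth.Agent.Lib.Proj

open Twist

variable {R A : Type u} [CommRing R] [CommRing A] [Algebra R A] {𝒜 : ℕ → Submodule R A} [GradedAlgebra 𝒜]

/-- the fraction `a / b` in the localization at `x` -/
noncomputable abbrev frac (x : ProjectiveSpectrum 𝒜) (a b : A) (hb : b ∉ x.asHomogeneousIdeal) : Loc 𝒜 x :=
  Localization.mk a ⟨b, hb⟩

lemma frac_mul_frac (x : ProjectiveSpectrum 𝒜) (a b a' b' : A) (hb : b ∉ x.asHomogeneousIdeal)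
    (hb' : b' ∉ x.asHomogeneousIdeal) :
    frac x a b hb * frac x a' b' hb' = frac x (a * a') (b * b')
      (fun h => (x.isPrime.mem_or_mem h).elim hb hb') := by
  simp only [frac, Localization.mk_mul]
  rfl

lemma mul_mem_twistAt (x : ProjectiveSpectrum 𝒜) {i j : ℕ} {a b : A} (ha : a ∈ 𝒜 i) (hbj : b ∈ 𝒜 j)
    (hb : b ∉ x.asHomogeneousIdeal) {m m' : ℤ} (h : m' + j = m + i) {q : Loc 𝒜 x}
    (hq : q ∈ twistAt 𝒜 m x) : frac x a b hb * q ∈ twistAt 𝒜 m' x := by
  have key : twistAt 𝒜 m x ≤ (twistAt 𝒜 m' x).comap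
      (LinearMap.mulLeft (A0 𝒜 x) (frac x a b hb)) := by
    refine Submodule.span_le.mpr ?_
    rintro _ ⟨i', j', a', s, hs, hdeg, rfl⟩
    simp only [Submodule.comap_coe, Set.mem_preimage, SetLike.mem_coe, LinearMap.mulLeft_apply]
    refine Submodule.subset_span ⟨i + i', j + j', ⟨a * a'.1, SetLike.mul_mem_graded ha a'.2⟩,
      ⟨b * s.1, SetLike.mul_mem_graded hbj s.2⟩,
      fun h => (x.isPrime.mem_or_mem h).elim hb hs, by push_cast; omega, ?_⟩
    exact frac_mul_frac x a b a'.1 s.1 hb hs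
  exact key hq

/-- sections of `O(m)` over `V` -/
abbrev Sec (𝒜 : ℕ → Submodule R A) [GradedAlgebra 𝒜] (m : ℤ) (V : (Opens (ProjectiveSpectrum.top 𝒜))ᵒᵖ) :=
  sectN (𝒜 := 𝒜) m V

/-- value of a section at a point, in the localization -/
abbrev val {m : ℤ} {V : (Opens (ProjectiveSpectrum.top 𝒜))ᵒᵖ} (s : Sec 𝒜 m V) (x : V.unop) : Loc 𝒜 x.1 :=
  ((s.1 x : twistAt 𝒜 m x.1) : Loc 𝒜 x.1)

lemma sec_ext {m : ℤ} {V : (Opens (ProjectiveSpectrum.top 𝒜))ᵒᵖ} {s t : Sec 𝒜 m V}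
    (h : ∀ x, val s x = val t x) : s = t := by
  apply Subtype.ext
  funext x
  exact Subtype.ext (h x)

@[simp] lemma val_add {m : ℤ} {V : (Opens (ProjectiveSpectrum.top 𝒜))ᵒᵖ} (s t : Sec 𝒜 m V) (x : V.unop) :
    val (s + t) x = val s x + val t x := rfl

@[simp] lemma val_zero {m : ℤ} {V : (Opens (ProjectiveSpectrum.top 𝒜))ᵒᵖ} (x : V.unop) :
    val (0 : Sec 𝒜 m V) x = 0 := rfl

lemma val_smul {m : ℤ} {V : (Opens (ProjectiveSpectrum.top 𝒜))ᵒᵖ} (r : O V) (s : Sec 𝒜 m V) (x : V.unop) :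
    val (r • s) x = (r.1 x).val * val s x := by
  change ((r.1 x • s.1 x : twistAt 𝒜 m x.1) : Loc 𝒜 x.1) = _
  exact coe_smul_val m x.1 _ _

/-- pointwise multiplication by the fraction `a / b` -/
noncomputable def mulFracFun (V : (Opens (ProjectiveSpectrum.top 𝒜))ᵒᵖ) {i j : ℕ} (a : 𝒜 i) (b : 𝒜 j)
    (hb : ∀ x : V.unop, b.1 ∉ x.1.asHomogeneousIdeal) (m m' : ℤ) (h : m' + j = m + i)
    (s : Sec 𝒜 m V) : ∀ x : V.unop, twistAt 𝒜 m' x.1 :=
  fun x => ⟨frac x.1 a.1 b.1 (hb x) * val s x, mul_mem_twistAt x.1 a.2 b.2 (hb x) h (s.1 x).2⟩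

lemma mulFracFun_pred (V : (Opens (ProjectiveSpectrum.top 𝒜))ᵒᵖ) {i j : ℕ} (a : 𝒜 i) (b : 𝒜 j)
    (hb : ∀ x : V.unop, b.1 ∉ x.1.asHomogeneousIdeal) (m m' : ℤ) (h : m' + j = m + i)
    (s : Sec 𝒜 m V) : (isLocFracN 𝒜 m').pred (mulFracFun V a b hb m m' h s) := by
  intro x
  obtain ⟨W, hxW, iW, i', j', a', s', hs', hdeg, hw⟩ := s.2 x
  refine ⟨W, hxW, iW, i + i', j + j', ⟨a.1 * a'.1, SetLike.mul_mem_graded a.2 a'.2⟩,
    ⟨b.1 * s'.1, SetLike.mul_mem_graded b.2 s'.2⟩,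
    fun y h => (y.1.isPrime.mem_or_mem h).elim (hb (iW y)) (hs' y), ?_, fun y => ?_⟩
  · rcases hdeg with hdeg | hdeg
    · exact Or.inl (by push_cast; omega)
    · exact Or.inr (by simp [hdeg])
  · exact (congrArg (fun q => frac y.1 a.1 b.1 (hb (iW y)) * q) (hw y)).trans
      (frac_mul_frac _ _ _ _ _ _ _)

/-- multiplication by the fraction `a / b` (with `b` nowhere vanishing on `V`) on sections over `V` -/
noncomputable def mulFracSect (V : (Opens (ProjectiveSpectrum.top 𝒜))ᵒᵖ) {i j : ℕ} (a : 𝒜 i) (b : 𝒜 j)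
    (hb : ∀ x : V.unop, b.1 ∉ x.1.asHomogeneousIdeal) (m m' : ℤ) (h : m' + j = m + i) :
    Sec 𝒜 m V →ₗ[O V] Sec 𝒜 m' V where
  toFun s := ⟨mulFracFun V a b hb m m' h s, mulFracFun_pred V a b hb m m' h s⟩
  map_add' s t := by
    apply sec_ext
    intro x
    exact mul_add _ _ _
  map_smul' r s := by
    apply sec_ext
    intro x
    refine Eq.trans ?_ (val_smul r _ x).symm
    refine (congrArg (fun q => frac x.1 a.1 b.1 (hb x) * q) (val_smul r s x)).trans ?_
    exact mul_left_comm _ _ _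

lemma val_mulFracSect (V : (Opens (ProjectiveSpectrum.top 𝒜))ᵒᵖ) {i j : ℕ} (a : 𝒜 i) (b : 𝒜 j)
    (hb : ∀ x : V.unop, b.1 ∉ x.1.asHomogeneousIdeal) (m m' : ℤ) (h : m' + j = m + i)
    (s : Sec 𝒜 m V) (x : V.unop) :
    val (mulFracSect V a b hb m m' h s) x = frac x.1 a.1 b.1 (hb x) * val s x := rfl





lemma one_not_mem (x : ProjectiveSpectrum 𝒜) : (1 : A) ∉ x.asHomogeneousIdeal :=
  fun h => x.isPrime.ne_top ((Ideal.eq_top_iff_one _).mpr h)

/-- `1 ∈ 𝒜 0` -/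
abbrev one0 (𝒜 : ℕ → Submodule R A) [GradedAlgebra 𝒜] : 𝒜 0 := ⟨1, SetLike.GradedOne.one_mem⟩

/-- multiplication by `a ∈ 𝒜 i` on sections, as a map of presheaves of abelian groups -/
noncomputable def mulPre {i : ℕ} (a : 𝒜 i) (m m' : ℤ) (h : m' = m + i) : twistPre 𝒜 m ⟶ twistPre 𝒜 m' where
  app V := AddCommGrpCat.ofHom
    (mulFracSect V a (one0 𝒜) (fun x => one_not_mem x.1) m m' (by simp [h])).toAddMonoidHom
  naturality V W f := by
    ext s
    apply sec_ext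
    intro x
    rfl

/-- multiplication by `a ∈ 𝒜 i` : `O(m) ⟶ O(m + i)` -/
noncomputable def mulHom {i : ℕ} (a : 𝒜 i) (m m' : ℤ) (h : m' = m + i) : twist 𝒜 m ⟶ twist 𝒜 m' :=
  ⟨PresheafOfModules.homMk (mulPre a m m' h) (fun V r s =>
    (mulFracSect V a (one0 𝒜) (fun x => one_not_mem x.1) m m' (by simp [h])).map_smul r s)⟩





lemma mulHom_app_apply {i : ℕ} (a : 𝒜 i) (m m' : ℤ) (h : m' = m + i) (V : (Proj 𝒜).Opens)
    (s : Sec 𝒜 m (op V)) :
    ((mulHom a m m' h).app V).hom s =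
      mulFracSect (op V) a (one0 𝒜) (fun x => one_not_mem x.1) m m' (by simp [h]) s := rfl

lemma frac_mul_frac_cancel (x : ProjectiveSpectrum 𝒜) (a b : A) (ha : a ∉ x.asHomogeneousIdeal)
    (hb : b ∉ x.asHomogeneousIdeal) : frac x a b hb * frac x b a ha = 1 := by
  rw [frac_mul_frac]
  simp only [frac]
  rw [mul_comm a b]
  exact Localization.mk_self (⟨b * a, _⟩ : x.asHomogeneousIdeal.toIdeal.primeCompl)

lemma mulFracSect_comp_cancel (V : (Opens (ProjectiveSpectrum.top 𝒜))ᵒᵖ) {i j : ℕ} (a : 𝒜 i) (b : 𝒜 j)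
    (ha : ∀ x : V.unop, a.1 ∉ x.1.asHomogeneousIdeal)
    (hb : ∀ x : V.unop, b.1 ∉ x.1.asHomogeneousIdeal) (m m' : ℤ) (h : m' + j = m + i)
    (s : Sec 𝒜 m V) :
    mulFracSect V b a ha m' m (by omega) (mulFracSect V a b hb m m' h s) = s := by
  apply sec_ext
  intro x
  refine (mul_assoc _ _ _).symm.trans ?_
  exact (congrArg (fun q => q * val s x) (frac_mul_frac_cancel x.1 b.1 a.1 (hb x) (ha x))).trans
    (one_mul _)

lemma mulFracSect_bijective (V : (Opens (ProjectiveSpectrum.top 𝒜))ᵒᵖ) {i j : ℕ} (a : 𝒜 i) (b : 𝒜 j)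
    (ha : ∀ x : V.unop, a.1 ∉ x.1.asHomogeneousIdeal)
    (hb : ∀ x : V.unop, b.1 ∉ x.1.asHomogeneousIdeal) (m m' : ℤ) (h : m' + j = m + i) :
    Function.Bijective (mulFracSect V a b hb m m' h) :=
  Function.bijective_iff_has_inverse.mpr ⟨mulFracSect V b a ha m' m (by omega),
    fun s => mulFracSect_comp_cancel V a b ha hb m m' h s,
    fun s => mulFracSect_comp_cancel V b a hb ha m' m (by omega) s⟩

lemma mulHom_app_bijective {i : ℕ} (a : 𝒜 i) (m m' : ℤ) (h : m' = m + i) (V : (Proj 𝒜).Opens)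
    (hV : V ≤ Proj.basicOpen 𝒜 a.1) : Function.Bijective ((mulHom a m m' h).app V).hom :=
  mulFracSect_bijective (op V) a (one0 𝒜) (fun x => hV x.2) (fun x => one_not_mem x.1) m m' (by simp [h])





/-- a morphism of modules which is bijective on sections over all opens contained in `U` becomes an
isomorphism after restriction to `U` -/
theorem isIso_restrict_of_bijective {X : Scheme.{u}} {M N : X.Modules} (φ : M ⟶ N) (U : X.Opens)
    (hφ : ∀ V : X.Opens, V ≤ U → Function.Bijective (φ.app V)) :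
    IsIso ((Scheme.Modules.restrictFunctor U.ι).map φ) := by
  refine QCoh.isIso_of_bijective_app_of_isBasis _ (fun V : (U : Scheme.{u}).Opens => V) ?_ ?_
  · rw [Opens.isBasis_iff_nbhd]
    intro V x hx
    exact ⟨V, ⟨V, rfl⟩, hx, le_rfl⟩
  · intro V
    exact hφ (U.ι ''ᵁ V) (by
      intro x hx
      obtain ⟨y, -, rfl⟩ := hx
      exact y.2)

/-- restriction of `mulHom a` to an open contained in `D₊(a)` is an isomorphism -/
noncomputable def mulIso {i : ℕ} (a : 𝒜 i) (m m' : ℤ) (h : m' = m + i) (U : (Proj 𝒜).Opens)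
    (hU : U ≤ Proj.basicOpen 𝒜 a.1) :
    (twist 𝒜 m).restrict U.ι ≅ (twist 𝒜 m').restrict U.ι :=
  have : IsIso ((Scheme.Modules.restrictFunctor U.ι).map (mulHom a m m' h)) :=
    isIso_restrict_of_bijective _ U (fun V hV => mulHom_app_bijective a m m' h V (hV.trans hU))
  asIso ((Scheme.Modules.restrictFunctor U.ι).map (mulHom a m m' h))







lemma val_mem_twistAt_zero (x : ProjectiveSpectrum 𝒜) (q : A0 𝒜 x) : q.val ∈ twistAt 𝒜 0 x := by
  refine Submodule.subset_span ⟨q.deg, q.deg, ⟨q.num, q.num_mem_deg⟩, ⟨q.den, q.den_mem_deg⟩,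
    q.den_mem, by simp, ?_⟩
  exact q.eq_num_div_den

lemma twistAt_zero_le_range (x : ProjectiveSpectrum 𝒜) {q : Loc 𝒜 x} (hq : q ∈ twistAt 𝒜 0 x) :
    ∃ r : A0 𝒜 x, r.val = q := by
  have key : twistAt 𝒜 0 x ≤ LinearMap.range (Algebra.linearMap (A0 𝒜 x) (Loc 𝒜 x)) := by
    refine Submodule.span_le.mpr ?_
    rintro _ ⟨i, j, a, s, hs, hdeg, rfl⟩
    have hij : i = j := by exact_mod_cast (by simpa using hdeg : (i : ℤ) = j)
    subst hij
    exact ⟨HomogeneousLocalization.mk ⟨i, a, s, hs⟩, rfl⟩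
  obtain ⟨r, hr⟩ := key hq
  exact ⟨r, hr⟩

/-- `O(U) → O(0)(U)` -/
noncomputable def toTwistZeroSect (V : (Opens (ProjectiveSpectrum.top 𝒜))ᵒᵖ) : O V →ₗ[O V] Sec 𝒜 0 V where
  toFun r := ⟨fun x => ⟨(r.1 x).val, val_mem_twistAt_zero x.1 _⟩, by
    intro x
    obtain ⟨W, hxW, iW, i, a, s, hs, hw⟩ := r.2 x
    refine ⟨W, hxW, iW, i, i, a, s, hs, Or.inl (by simp), fun y => ?_⟩
    exact congrArg HomogeneousLocalization.val (hw y)⟩
  map_add' r r' := by
    apply sec_ext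
    intro x
    exact HomogeneousLocalization.val_add _ _
  map_smul' r r' := by
    apply sec_ext
    intro x
    refine Eq.trans ?_ (val_smul r _ x).symm
    exact HomogeneousLocalization.val_mul _ _

lemma toTwistZeroSect_bijective (V : (Opens (ProjectiveSpectrum.top 𝒜))ᵒᵖ) :
    Function.Bijective (toTwistZeroSect (𝒜 := 𝒜) V) := by
  constructor
  · intro r r' h
    apply Subtype.ext
    funext x
    apply HomogeneousLocalization.val_injective
    exact congrArg (fun s => val s x) h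
  · intro t
    choose r hr using fun x : V.unop => twistAt_zero_le_range x.1 (t.1 x).2
    refine ⟨⟨r, ?_⟩, ?_⟩
    · intro x
      obtain ⟨W, hxW, iW, i, j, a, s, hs, hdeg, hw⟩ := t.2 x
      rcases hdeg with hdeg | hdeg
      · have hij : i = j := by exact_mod_cast (by simpa using hdeg : (i : ℤ) = j)
        subst hij
        refine ⟨W, hxW, iW, i, a, s, hs, fun y => ?_⟩
        apply HomogeneousLocalization.val_injective
        exact (hr (iW y)).trans (hw y)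
      · refine ⟨W, hxW, iW, j, 0, s, hs, fun y => ?_⟩
        apply HomogeneousLocalization.val_injective
        refine (hr (iW y)).trans ((hw y).trans ?_)
        rw [hdeg]
        simp [Localization.mk_zero]
    · apply sec_ext
      intro x
      exact hr x





variable (𝒜) in
/-- `O_X ⟶ O(0)` -/
noncomputable def unitToTwistZero : Coh.structureModule (Proj 𝒜) ⟶ twist 𝒜 0 :=
  ⟨PresheafOfModules.homMk
    { app := fun V => AddCommGrpCat.ofHom (toTwistZeroSect (𝒜 := 𝒜) V).toAddMonoidHom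
      naturality := fun V W f => by
        ext s
        apply sec_ext
        intro x
        rfl }
    (fun V r s => (toTwistZeroSect (𝒜 := 𝒜) V).map_smul r s)⟩

lemma unitToTwistZero_app_bijective (V : (Proj 𝒜).Opens) :
    Function.Bijective ((unitToTwistZero 𝒜).app V).hom :=
  toTwistZeroSect_bijective (op V)

instance : IsIso (unitToTwistZero 𝒜) := by
  refine QCoh.isIso_of_bijective_app_of_isBasis _ (fun V : (Proj 𝒜).Opens => V) ?_ ?_
  · rw [Opens.isBasis_iff_nbhd]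
    intro V x hx
    exact ⟨V, ⟨V, rfl⟩, hx, le_rfl⟩
  · intro V
    exact unitToTwistZero_app_bijective V

variable (𝒜) in
/-- **`O(0) ≅ O_X`** -/
noncomputable def twistZeroIso : twist 𝒜 0 ≅ Coh.structureModule (Proj 𝒜) :=
  (asIso (unitToTwistZero 𝒜)).symm



end Groth.Agent.Lib.Proj
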