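/-
Top Čech cohomology of `O(-(n+1+k))` on `P^n_R` for the standard cover (helper44, T3 of the S0845 plan).

ns `Groth.Agent.Lib.Proj.PnTop`.
* `exists_top_equiv n k R` : `Ȟ^n(stdCover, O(-(n+1+k))) ≃+ homogeneousSubmodule (Fin (n+1)) R k`, and every
  endomorphism `φ` of the underlying abelian sheaf which is pointwise multiplication by `r / 1` acts by `r`.
-/
import Groth.Agent.Lib.Proj.Helper44_CechTop
import Groth.Agent.Lib.Proj.Helper44_PnBridge
import Groth.Agent.Lib.Proj.Helper44_BridgeLin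
import Groth.Agent.Lib.Proj.TwistCore

set_option autoImplicit false
universe u

open CategoryTheory Limits AlgebraicGeometry Opposite TopologicalSpace
open Groth.Agent.Lib.Proj.CechComb Groth.Agent.Lib.Proj.PnCoh Groth.Agent.Lib.Cohomology
open Groth.Agent.Lib.Proj Groth.Agent.Lib.Proj.CechBridge Groth.Agent.Lib.Proj.HomologyEquiv
open Groth.Agent.Lib.Proj.Bridge

namespace Groth.Agent.Lib.Proj.PnTop

variable (n : ℕ) (R : Type u) [CommRing R]

lemma sum_idx (f : Idx.{u} n → ℤ) : ∑ j : Fin (n + 1), f ⟨j⟩ = ∑ i, f i :=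
  Equiv.sum_comp (Equiv.ulift.{u, 0}.symm) f

/-- reindexing of the all-negative multidegrees along `Idx n ≃ Fin (n + 1)` -/
noncomputable def negMonEquiv (k : ℕ) :
    NegMon (Idx.{u} n) (-((n : ℤ) + 1 + k)) ≃
      NegMon (Fin (n + 1)) (-((Fintype.card (Fin (n + 1)) : ℤ) + k)) where
  toFun m := ⟨fun j => m.1 ⟨j⟩, fun j => m.2.1 ⟨j⟩, by
    have h : ∑ i, m.1 i = -((n : ℤ) + 1 + k) := m.2.2
    have h2 : ∑ j : Fin (n + 1), m.1 ⟨j⟩ = ∑ i, m.1 i := sum_idx n m.1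
    have h3 : ((Fintype.card (Fin (n + 1)) : ℕ) : ℤ) = (n : ℤ) + 1 := by
      rw [Fintype.card_fin]; push_cast; rfl
    show ∑ j : Fin (n + 1), m.1 ⟨j⟩ = -((Fintype.card (Fin (n + 1)) : ℤ) + k)
    rw [h2, h, h3]⟩
  invFun m := ⟨fun i => m.1 i.down, fun i => m.2.1 i.down, by
    have h : ∑ j, m.1 j = -((Fintype.card (Fin (n + 1)) : ℤ) + k) := m.2.2
    have h2 : ∑ j : Fin (n + 1), m.1 j = ∑ i : Idx.{u} n, m.1 i.down :=
      sum_idx n (fun i => m.1 i.down)
    have h3 : ((Fintype.card (Fin (n + 1)) : ℕ) : ℤ) = (n : ℤ) + 1 := by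
      rw [Fintype.card_fin]; push_cast; rfl
    show ∑ i : Idx.{u} n, m.1 i.down = -((n : ℤ) + 1 + k)
    rw [← h2, h, h3]⟩
  left_inv m := rfl
  right_inv m := rfl

/-- `(NegMon (Idx n) d →₀ R) ≃ₗ[R] homogeneous polynomials of degree k` -/
noncomputable def topIsoIdx (k : ℕ) :
    (NegMon (Idx.{u} n) (-((n : ℤ) + 1 + k)) →₀ R) ≃ₗ[R]
      MvPolynomial.homogeneousSubmodule (Fin (n + 1)) R k :=
  (Finsupp.domLCongr (negMonEquiv n k)) ≪≫ₗ topIso k

end Groth.Agent.Lib.Proj.PnTop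

namespace Groth.Agent.Lib.Proj.PnTop

open Groth.Agent.Lib.Proj.PnTop

set_option maxHeartbeats 1600000 in
/-- **Top Čech cohomology of `O(-(n+1+k))` on `P^n_R`.** -/
theorem exists_top_equiv (n k : ℕ) (R : Type u) [CommRing R] :
    ∃ ψ : ↑(CohB1.cechH (stdCover n R) (Twist.twistProjSpace n R (-((n : ℤ) + 1 + k))) n) ≃+
        ↥(MvPolynomial.homogeneousSubmodule (Fin (n + 1)) R k),
      ∀ (r : R) (φ : Coh.toAb (Twist.twistProjSpace n R (-((n : ℤ) + 1 + k))) ⟶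
          Coh.toAb (Twist.twistProjSpace n R (-((n : ℤ) + 1 + k)))),
        (∀ (W : (TopologicalSpace.Opens (ProjectiveSpectrum.top (CohB1.polyGrading n R)))ᵒᵖ)
          (σ : Groth.Agent.Lib.Proj.Sec (CohB1.polyGrading n R) (-((n : ℤ) + 1 + k)) W) (x : W.unop),
          Groth.Agent.Lib.Proj.val ((φ.hom.app W σ :
            Groth.Agent.Lib.Proj.Sec (CohB1.polyGrading n R) (-((n : ℤ) + 1 + k)) W)) x =
            Localization.mk (MvPolynomial.C r) 1 * Groth.Agent.Lib.Proj.val σ x) →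
        ∀ x, ψ (HomologicalComplex.homologyMap
          ((cechComplexFunctor (stdCover n R)).map φ.hom) n x) = r • ψ x := by
  have hc : Fintype.card (Idx.{u} n) = n + 1 := by simp
  have he : Function.Bijective (fun j : Fin (n + 1) => (⟨j⟩ : Idx.{u} n)) :=
    ⟨fun a b h => congrArg ULift.down h, fun i => ⟨i.down, rfl⟩⟩
  have hd : -((n : ℤ) + 1 + k) < 0 := by
    have h1 : (0 : ℤ) ≤ n := Int.natCast_nonneg n
    have h2 : (0 : ℤ) ≤ k := Int.natCast_nonneg k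
    omega
  obtain ⟨ψ0, hψ0⟩ := (pnBridge n R (-((n : ℤ) + 1 + k))).exists_top_equiv hc _ he hd
  refine ⟨ψ0.trans (topIsoIdx n R k).toAddEquiv, fun r φ hφ x => ?_⟩
  have hα : ∀ {p : ℕ} (b : Fin (p + 1) → Idx.{u} n)
      (σ : (Twist.twistProjSpace n R (-((n : ℤ) + 1 + k))).presheaf.obj
        (op (∏ᶜ (stdCover n R ∘ b)))),
      (pnBridge n R (-((n : ℤ) + 1 + k))).c b
        (φ.hom.app (op (∏ᶜ (stdCover n R ∘ b))) σ) =
      r • (pnBridge n R (-((n : ℤ) + 1 + k))).c b σ := by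
    intro p b σ
    exact cI_of_const_mul Equiv.ulift (-((n : ℤ) + 1 + k)) b _ (cechOpen_eq_DP n R b) σ _ r
      (fun x => hφ (op _) σ x)
  have h1 := homologyMap_apply_of ((pnBridge n R (-((n : ℤ) + 1 + k))).topΦ _) ψ0 hψ0
    ((cechComplexFunctor (stdCover n R)).map φ.hom) r
    (fun z => (pnBridge n R (-((n : ℤ) + 1 + k))).topΦ_map _ φ.hom r hα z) x
  exact (congrArg (topIsoIdx n R k) h1).trans (map_smul (topIsoIdx n R k) r (ψ0 x))

end Groth.Agent.Lib.Proj.PnTop
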