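/-
Degree-zero Čech cohomology of `O(d)` on `P^n_R` for the standard cover, and the passage from Čech to
derived-functor cohomology with its `R`-module structure (helper44; for S0843 / S0845).

ns `Groth.Agent.Lib.Proj.PnTop`.
* `exists_zero_equiv n d R` : `Ȟ^0(stdCover, O(d)) ≃+ homogeneousSubmodule (Fin (n+1)) R d`, and every
  endomorphism `φ` of the underlying abelian sheaf which is pointwise multiplication by `r / 1` acts by `r`.
* `nonempty_linearEquiv_of_cech` : an additive identification of `Ȟ^p(stdCover, O(d))` with an `R`-module `T`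
  with that linearity property gives `H^p(P^n_R, O(d)) ≃ₗ[R] T`.
-/
import Groth.Agent.Lib.Proj.Helper44_PnTop
import Groth.Agent.Lib.Proj.Helper44_CechZero
import Groth.Agent.Lib.Cohomology.Helper3_CechNat

set_option autoImplicit false
universe u

open CategoryTheory Limits AlgebraicGeometry Opposite TopologicalSpace
open Groth.Agent.Lib.Proj.CechComb Groth.Agent.Lib.Proj.PnCoh Groth.Agent.Lib.Cohomology
open Groth.Agent.Lib.Proj Groth.Agent.Lib.Proj.CechBridge Groth.Agent.Lib.Proj.HomologyEquiv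
open Groth.Agent.Lib.Proj.Bridge

namespace Groth.Agent.Lib.Proj.PnTop

variable (n : ℕ) (R : Type u) [CommRing R]

/-- reindexing of the all-nonnegative multidegrees along `Idx n ≃ Fin (n + 1)` -/
noncomputable def posMonEquiv (d : ℤ) :
    PosMon (Idx.{u} n) d ≃ PosMon (Fin (n + 1)) d where
  toFun m := ⟨fun j => m.1 ⟨j⟩, fun j => m.2.1 ⟨j⟩, by
    have h : ∑ i, m.1 i = d := m.2.2
    have h2 : ∑ j : Fin (n + 1), m.1 ⟨j⟩ = ∑ i, m.1 i := sum_idx n m.1
    show ∑ j : Fin (n + 1), m.1 ⟨j⟩ = d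
    rw [h2, h]⟩
  invFun m := ⟨fun i => m.1 i.down, fun i => m.2.1 i.down, by
    have h : ∑ j, m.1 j = d := m.2.2
    have h2 : ∑ j : Fin (n + 1), m.1 j = ∑ i : Idx.{u} n, m.1 i.down :=
      sum_idx n (fun i => m.1 i.down)
    show ∑ i : Idx.{u} n, m.1 i.down = d
    rw [← h2, h]⟩
  left_inv m := rfl
  right_inv m := rfl

/-- `(PosMon (Idx n) d →₀ R) ≃ₗ[R] homogeneous polynomials of degree d` -/
noncomputable def zeroIsoIdx (d : ℕ) :
    (PosMon (Idx.{u} n) (d : ℤ) →₀ R) ≃ₗ[R]
      MvPolynomial.homogeneousSubmodule (Fin (n + 1)) R d :=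
  (Finsupp.domLCongr (posMonEquiv n (d : ℤ))) ≪≫ₗ zeroIso d

end Groth.Agent.Lib.Proj.PnTop

namespace Groth.Agent.Lib.Proj.PnTop

set_option maxHeartbeats 1600000 in
/-- **Degree-zero Čech cohomology of `O(d)` on `P^n_R`, `d ≥ 0`.** -/
theorem exists_zero_equiv (n d : ℕ) (R : Type u) [CommRing R] :
    ∃ ψ : ↑(CohB1.cechH (stdCover n R) (Twist.twistProjSpace n R (d : ℤ)) 0) ≃+
        ↥(MvPolynomial.homogeneousSubmodule (Fin (n + 1)) R d),
      ∀ (r : R) (φ : Coh.toAb (Twist.twistProjSpace n R (d : ℤ)) ⟶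
          Coh.toAb (Twist.twistProjSpace n R (d : ℤ))),
        (∀ (W : (TopologicalSpace.Opens (ProjectiveSpectrum.top (CohB1.polyGrading n R)))ᵒᵖ)
          (σ : Groth.Agent.Lib.Proj.Sec (CohB1.polyGrading n R) (d : ℤ) W) (x : W.unop),
          Groth.Agent.Lib.Proj.val ((φ.hom.app W σ :
            Groth.Agent.Lib.Proj.Sec (CohB1.polyGrading n R) (d : ℤ) W)) x =
            Localization.mk (MvPolynomial.C r) 1 * Groth.Agent.Lib.Proj.val σ x) →
        ∀ x, ψ (HomologicalComplex.homologyMap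
          ((cechComplexFunctor (stdCover n R)).map φ.hom) 0 x) = r • ψ x := by
  have hc : Fintype.card (Idx.{u} n) = n + 1 := by simp
  have hpd : 1 ≠ Fintype.card (Idx.{u} n) ∨ -(Fintype.card (Idx.{u} n) : ℤ) < (d : ℤ) := by
    right
    rw [hc]
    have h2 : (0 : ℤ) ≤ d := Int.natCast_nonneg d
    push_cast
    omega
  obtain ⟨ψ0, hψ0⟩ := (pnBridge n R (d : ℤ)).exists_zero_equiv (fun _ => ⟨0⟩) hpd
  refine ⟨ψ0.trans (zeroIsoIdx n R d).toAddEquiv, fun r φ hφ x => ?_⟩
  have hα : ∀ {p : ℕ} (b : Fin (p + 1) → Idx.{u} n)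
      (σ : (Twist.twistProjSpace n R (d : ℤ)).presheaf.obj
        (op (∏ᶜ (stdCover n R ∘ b)))),
      (pnBridge n R (d : ℤ)).c b
        (φ.hom.app (op (∏ᶜ (stdCover n R ∘ b))) σ) =
      r • (pnBridge n R (d : ℤ)).c b σ := by
    intro p b σ
    exact cI_of_const_mul Equiv.ulift (d : ℤ) b _ (cechOpen_eq_DP n R b) σ _ r
      (fun x => hφ (op _) σ x)
  have h1 := homologyMap_apply_of ((pnBridge n R (d : ℤ)).zeroΦ _) ψ0 hψ0
    ((cechComplexFunctor (stdCover n R)).map φ.hom) r
    (fun z => (pnBridge n R (d : ℤ)).zeroΦ_map _ φ.hom r hα z) x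
  exact (congrArg (zeroIsoIdx n R d) h1).trans (map_smul (zeroIsoIdx n R d) r (ψ0 x))

set_option maxHeartbeats 1600000 in
/-- **From Čech to derived-functor cohomology, `R`-linearly.** -/
theorem nonempty_linearEquiv_of_cech (n : ℕ) (R : Type u) [CommRing R] (d : ℤ) (p : ℕ)
    {T : Type u} [AddCommGroup T] [Module R T]
    (ψ : ↑(CohB1.cechH (stdCover n R) (Twist.twistProjSpace n R d) p) ≃+ T)
    (hψ : ∀ (r : R) (φ : Coh.toAb (Twist.twistProjSpace n R d) ⟶
          Coh.toAb (Twist.twistProjSpace n R d)),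
        (∀ (W : (TopologicalSpace.Opens (ProjectiveSpectrum.top (CohB1.polyGrading n R)))ᵒᵖ)
          (σ : Groth.Agent.Lib.Proj.Sec (CohB1.polyGrading n R) d W) (x : W.unop),
          Groth.Agent.Lib.Proj.val ((φ.hom.app W σ :
            Groth.Agent.Lib.Proj.Sec (CohB1.polyGrading n R) d W)) x =
            Localization.mk (MvPolynomial.C r) 1 * Groth.Agent.Lib.Proj.val σ x) →
        ∀ x, ψ (HomologicalComplex.homologyMap
          ((cechComplexFunctor (stdCover n R)).map φ.hom) p x) = r • ψ x) :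
    Nonempty (Coh.HH (CohB1.ProjSpace n R) (Twist.twistProjSpace n R d) p ≃ₗ[R] T) := by
  let E := cechHHEquiv (CohB1.ProjSpace n R) (stdCover n R) (iSup_stdCover n R)
    (isAffineOpen_iInf_stdCover n R) (Twist.twistProjSpace n R d) p
  refine ⟨{ (E.symm.trans ψ) with map_smul' := ?_ }⟩
  intro r y
  let g := Coh.toGlobal (CohB1.ProjSpace n R ↘ Spec (CommRingCat.of R)) r
  have h1 : r • y = g • y := rfl
  have h2 : E (HomologicalComplex.homologyMap ((cechComplexFunctor (stdCover n R)).map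
      (Coh.smulAb (Twist.twistProjSpace n R d) g).hom) p (E.symm y)) = g • y := by
    have := cechHHEquiv_smul (CohB1.ProjSpace n R) (stdCover n R) (iSup_stdCover n R)
      (isAffineOpen_iInf_stdCover n R) (Twist.twistProjSpace n R d) p g (E.symm y)
    rw [this]
    exact congrArg (fun t => g • t) (E.apply_symm_apply y)
  have h3 : E.symm (r • y) = HomologicalComplex.homologyMap ((cechComplexFunctor (stdCover n R)).map
      (Coh.smulAb (Twist.twistProjSpace n R d) g).hom) p (E.symm y) := by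
    rw [h1, ← h2, E.symm_apply_apply]
  change ψ (E.symm (r • y)) = r • ψ (E.symm y)
  rw [h3]
  exact hψ r (Coh.smulAb (Twist.twistProjSpace n R d) g)
    (fun W σ x => smulAb_pointwise d r W.unop σ x) (E.symm y)

end Groth.Agent.Lib.Proj.PnTop
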