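/-
The Serre duality pairing on `P^r_A` in Čech–Laurent coordinates (helper44).

ns `Groth.Agent.Lib.Proj.PnPairing`.
* `exists_topLin r A d hd` : `H^r(P^r_A, O(d)) ≃ₗ[A] (NegMon (Idx r) d →₀ A)` (`d < 0`), with its description
  on Čech cocycles;
* `topLin_map` : the effect of a morphism of modules `φ : O(a) ⟶ O(b)` on `H^r` in these coordinates;
* `topLin_mulHom` : for `φ = mulHom f` it is the multiplication by `f`.
-/
import Groth.Agent.Lib.Proj.Helper44_PnZero
import Groth.Agent.Lib.Proj.Helper44_PnHom

set_option autoImplicit false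
universe u

open CategoryTheory Limits AlgebraicGeometry Opposite TopologicalSpace
open Groth.Agent.Lib.Proj.CechComb Groth.Agent.Lib.Proj.PnCoh Groth.Agent.Lib.Cohomology
open Groth.Agent.Lib.Proj Groth.Agent.Lib.Proj.CechBridge Groth.Agent.Lib.Proj.HomologyEquiv
open Groth.Agent.Lib.Proj.Bridge

namespace Groth.Agent.Lib.Proj.PnPairing

variable (r : ℕ) (A : Type u) [CommRing A]

/-- the standard enumeration of the index set of the standard cover -/
def e₀ : Fin (r + 1) → Idx.{u} r := fun j => ⟨j⟩

/-- the Čech-to-derived comparison for `O(d)` -/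
noncomputable def E (d : ℤ) (p : ℕ) :
    ↑(CohB1.cechH (stdCover r A) (Twist.twistProjSpace r A d) p) ≃+
      Coh.HH (CohB1.ProjSpace r A) (Twist.twistProjSpace r A d) p :=
  cechHHEquiv (CohB1.ProjSpace r A) (stdCover r A) (iSup_stdCover r A)
    (isAffineOpen_iInf_stdCover r A) (Twist.twistProjSpace r A d) p

set_option maxHeartbeats 1600000 in
/-- **top cohomology of `O(d)` in Laurent coordinates, linearly** -/
theorem exists_topLin (d : ℤ) (hd : d < 0) :
    ∃ T : Coh.HH (CohB1.ProjSpace r A) (Twist.twistProjSpace r A d) r ≃ₗ[A]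
        (NegMon (Idx.{u} r) d →₀ A),
      ∀ c : ((cechComplexFunctor (stdCover r A)).obj (Twist.twistProjSpace r A d).presheaf).cycles r,
        T (E r A d r
          (((cechComplexFunctor (stdCover r A)).obj (Twist.twistProjSpace r A d).presheaf).homologyπ r c)) =
        (pnBridge r A d).topΦ (e₀ r)
          (((cechComplexFunctor (stdCover r A)).obj (Twist.twistProjSpace r A d).presheaf).iCycles r c) := by
  have hc : Fintype.card (Idx.{u} r) = r + 1 := by simp
  have he : Function.Bijective (e₀.{u} r) :=
    ⟨fun a b h => congrArg ULift.down h, fun i => ⟨i.down, rfl⟩⟩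
  obtain ⟨ψ0, hψ0⟩ := (pnBridge r A d).exists_top_equiv hc (e₀ r) he hd
  have hlin : ∀ (s : A) (φ : Coh.toAb (Twist.twistProjSpace r A d) ⟶
      Coh.toAb (Twist.twistProjSpace r A d)),
      (∀ (W : (TopologicalSpace.Opens (ProjectiveSpectrum.top (CohB1.polyGrading r A)))ᵒᵖ)
        (σ : Groth.Agent.Lib.Proj.Sec (CohB1.polyGrading r A) d W) (x : W.unop),
        Groth.Agent.Lib.Proj.val ((φ.hom.app W σ :
          Groth.Agent.Lib.Proj.Sec (CohB1.polyGrading r A) d W)) x =
          Localization.mk (MvPolynomial.C s) 1 * Groth.Agent.Lib.Proj.val σ x) →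
      ∀ x, ψ0 (HomologicalComplex.homologyMap
        ((cechComplexFunctor (stdCover r A)).map φ.hom) r x) = s • ψ0 x := by
    intro s φ hφ x
    have hα : ∀ {p : ℕ} (b : Fin (p + 1) → Idx.{u} r)
        (σ : (Twist.twistProjSpace r A d).presheaf.obj (op (∏ᶜ (stdCover r A ∘ b)))),
        (pnBridge r A d).c b (φ.hom.app (op (∏ᶜ (stdCover r A ∘ b))) σ) =
        s • (pnBridge r A d).c b σ := by
      intro p b σ
      exact cI_of_const_mul Equiv.ulift d b _ (cechOpen_eq_DP r A b) σ _ s
        (fun x => hφ (op _) σ x)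
    exact homologyMap_apply_of ((pnBridge r A d).topΦ _) ψ0 hψ0
      ((cechComplexFunctor (stdCover r A)).map φ.hom) s
      (fun z => (pnBridge r A d).topΦ_map _ φ.hom s hα z) x
  refine ⟨{ ((E r A d r).symm.trans ψ0) with map_smul' := ?_ }, fun c => ?_⟩
  · intro s y
    let g := Coh.toGlobal (CohB1.ProjSpace r A ↘ Spec (CommRingCat.of A)) s
    have h1 : s • y = g • y := rfl
    have h2 : E r A d r (HomologicalComplex.homologyMap ((cechComplexFunctor (stdCover r A)).map
        (Coh.smulAb (Twist.twistProjSpace r A d) g).hom) r ((E r A d r).symm y)) = g • y := by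
      have := cechHHEquiv_smul (CohB1.ProjSpace r A) (stdCover r A) (iSup_stdCover r A)
        (isAffineOpen_iInf_stdCover r A) (Twist.twistProjSpace r A d) r g ((E r A d r).symm y)
      refine this.trans ?_
      exact congrArg (fun t => g • t) ((E r A d r).apply_symm_apply y)
    have h3 : (E r A d r).symm (s • y) = HomologicalComplex.homologyMap
        ((cechComplexFunctor (stdCover r A)).map
        (Coh.smulAb (Twist.twistProjSpace r A d) g).hom) r ((E r A d r).symm y) := by
      rw [h1, ← h2, (E r A d r).symm_apply_apply]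
    change ψ0 ((E r A d r).symm (s • y)) = s • ψ0 ((E r A d r).symm y)
    rw [h3]
    exact hlin s (Coh.smulAb (Twist.twistProjSpace r A d) g)
      (fun W σ x => smulAb_pointwise d s W.unop σ x) ((E r A d r).symm y)
  · change ψ0 ((E r A d r).symm (E r A d r _)) = _
    rw [(E r A d r).symm_apply_apply]
    exact hψ0 c

/-- the effect of a morphism of modules on the top cohomology, in Laurent coordinates -/
theorem topLin_map (a b : ℤ)
    (Tb : Coh.HH (CohB1.ProjSpace r A) (Twist.twistProjSpace r A b) r ≃ₗ[A]
        (NegMon (Idx.{u} r) b →₀ A))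
    (hTb : ∀ c : ((cechComplexFunctor (stdCover r A)).obj
        (Twist.twistProjSpace r A b).presheaf).cycles r,
        Tb (E r A b r
          (((cechComplexFunctor (stdCover r A)).obj (Twist.twistProjSpace r A b).presheaf).homologyπ r c)) =
        (pnBridge r A b).topΦ (e₀ r)
          (((cechComplexFunctor (stdCover r A)).obj (Twist.twistProjSpace r A b).presheaf).iCycles r c))
    (φ : Twist.twistProjSpace r A a ⟶ Twist.twistProjSpace r A b)
    (c : ((cechComplexFunctor (stdCover r A)).obj (Twist.twistProjSpace r A a).presheaf).cycles r)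
    (m : NegMon (Idx.{u} r) b) :
    Tb (Sheaf.H.map ((SheafOfModules.toSheaf (CohB1.ProjSpace r A).ringCatSheaf).map φ) r
      (E r A a r (((cechComplexFunctor (stdCover r A)).obj
        (Twist.twistProjSpace r A a).presheaf).homologyπ r c))) m =
    (pnBridge r A b).c (e₀ r)
      (((SheafOfModules.toSheaf (CohB1.ProjSpace r A).ringCatSheaf).map φ).hom.app
        (op (∏ᶜ (stdCover r A ∘ e₀ r)))
        (cE (stdCover r A) (Twist.twistProjSpace r A a).presheaf r
          (((cechComplexFunctor (stdCover r A)).obj (Twist.twistProjSpace r A a).presheaf).iCycles r c)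
          (e₀ r))) m.1 := by
  have h1 := cechHHEquiv_naturality (CohB1.ProjSpace r A) (stdCover r A) (iSup_stdCover r A)
    (isAffineOpen_iInf_stdCover r A) (Twist.twistProjSpace r A a) (Twist.twistProjSpace r A b)
    ((SheafOfModules.toSheaf (CohB1.ProjSpace r A).ringCatSheaf).map φ) r
    (((cechComplexFunctor (stdCover r A)).obj (Twist.twistProjSpace r A a).presheaf).homologyπ r c)
  have h2 : HomologicalComplex.homologyMap ((cechComplexFunctor (stdCover r A)).map
      ((SheafOfModules.toSheaf (CohB1.ProjSpace r A).ringCatSheaf).map φ).hom) r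
      (((cechComplexFunctor (stdCover r A)).obj (Twist.twistProjSpace r A a).presheaf).homologyπ r c) =
      ((cechComplexFunctor (stdCover r A)).obj (Twist.twistProjSpace r A b).presheaf).homologyπ r
        (HomologicalComplex.cyclesMap ((cechComplexFunctor (stdCover r A)).map
          ((SheafOfModules.toSheaf (CohB1.ProjSpace r A).ringCatSheaf).map φ).hom) r c) :=
    ConcreteCategory.congr_hom (HomologicalComplex.homologyπ_naturality _ r) c
  have h3 : ((cechComplexFunctor (stdCover r A)).obj (Twist.twistProjSpace r A b).presheaf).iCycles r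
      (HomologicalComplex.cyclesMap ((cechComplexFunctor (stdCover r A)).map
          ((SheafOfModules.toSheaf (CohB1.ProjSpace r A).ringCatSheaf).map φ).hom) r c) =
      ((cechComplexFunctor (stdCover r A)).map
          ((SheafOfModules.toSheaf (CohB1.ProjSpace r A).ringCatSheaf).map φ).hom).f r
        (((cechComplexFunctor (stdCover r A)).obj (Twist.twistProjSpace r A a).presheaf).iCycles r c) :=
    ConcreteCategory.congr_hom (HomologicalComplex.cyclesMap_i _ r) c
  have h4 : Sheaf.H.map ((SheafOfModules.toSheaf (CohB1.ProjSpace r A).ringCatSheaf).map φ) r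
      (E r A a r (((cechComplexFunctor (stdCover r A)).obj
        (Twist.twistProjSpace r A a).presheaf).homologyπ r c)) =
      E r A b r (((cechComplexFunctor (stdCover r A)).obj (Twist.twistProjSpace r A b).presheaf).homologyπ r
        (HomologicalComplex.cyclesMap ((cechComplexFunctor (stdCover r A)).map
          ((SheafOfModules.toSheaf (CohB1.ProjSpace r A).ringCatSheaf).map φ).hom) r c)) := by
    refine h1.symm.trans ?_
    exact congrArg (E r A b r) h2
  rw [h4, hTb, h3, Bridge.topΦ_apply, topPart_apply]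
  exact congrArg (fun w => (pnBridge r A b).c (e₀ r) w m.1)
    (cE_map (stdCover r A) ((SheafOfModules.toSheaf (CohB1.ProjSpace r A).ringCatSheaf).map φ).hom r _ (e₀ r))

open Classical in
/-- extension by zero of a function on `NegMon` -/
noncomputable def ext0 {d : ℤ} (y : NegMon (Idx.{u} r) d →₀ A) (m : Idx.{u} r → ℤ) : A :=
  if h : m ∈ NegMon (Idx.{u} r) d then y ⟨m, h⟩ else 0

lemma ext0_mem {d : ℤ} (y : NegMon (Idx.{u} r) d →₀ A) (m : Idx.{u} r → ℤ)
    (h : m ∈ NegMon (Idx.{u} r) d) : ext0 r A y m = y ⟨m, h⟩ := by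
  rw [ext0, dif_pos h]

variable {r A} in
lemma sub_toZ_mem {a b : ℤ} {k : ℕ} (hk : b = a + k) (m : NegMon (Idx.{u} r) b)
    (μ : Fin (r + 1) →₀ ℕ) (hμ : μ.degree = k) :
    m.1 - toZ μ ∘ Equiv.ulift ∈ NegMon (Idx.{u} r) a := by
  constructor
  · intro i
    have h1 := m.2.1 i
    have h2 : (0 : ℤ) ≤ toZ μ (Equiv.ulift i) := Int.natCast_nonneg _
    simp only [Pi.sub_apply, Function.comp_apply]
    omega
  · have h1 : ∑ i, m.1 i = b := m.2.2
    have h2 : ∑ i : Idx.{u} r, toZ μ (Equiv.ulift i) = (k : ℤ) := by
      have := PnTop.sum_idx r (fun i : Idx.{u} r => toZ μ (Equiv.ulift i))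
      rw [← this, ← hμ, Finsupp.degree_eq_sum]
      push_cast
      rfl
    simp only [Pi.sub_apply, Function.comp_apply]
    rw [Finset.sum_sub_distrib, h1, h2]
    omega

end Groth.Agent.Lib.Proj.PnPairing
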