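/-
Linear algebra of the Serre duality pairing on `P^r_A` (helper44): a linear form on the Laurent tails of degree
`a = -(r+1) - k` is the pairing with a unique form of degree `k`.

ns `Groth.Agent.Lib.Proj.PnPairing`: `m₀`, `muOf`, `pairL`, `pairL_single`, `exists_form`, `form_unique`.
-/
import Groth.Agent.Lib.Proj.Helper44_PnPairing

set_option autoImplicit false
universe u

open Groth.Agent.Lib.Proj.CechComb Groth.Agent.Lib.Proj.PnCoh

namespace Groth.Agent.Lib.Proj.PnPairing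

variable (r : ℕ) (A : Type u) [CommRing A]

/-- the exponent `(-1, …, -1)` -/
def m₀ : NegMon (Idx.{u} r) (-((r : ℤ) + 1)) :=
  ⟨fun _ => -1, fun _ => by norm_num, by
    simp only [Finset.sum_const, Finset.card_univ, Fintype.card_ulift, Fintype.card_fin]
    simp⟩

lemma m₀_val (i : Idx.{u} r) : (m₀ r).1 i = -1 := rfl

lemma eq_m₀ (m : NegMon (Idx.{u} r) (-((r : ℤ) + 1))) : m = m₀ r := by
  apply Subtype.ext
  funext i
  have h1 : ∀ j, 0 ≤ -1 - m.1 j := fun j => by have := m.2.1 j; omega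
  have h2 : ∑ j, (-1 - m.1 j) = 0 := by
    rw [Finset.sum_sub_distrib, m.2.2]
    simp only [Finset.sum_const, Finset.card_univ, Fintype.card_ulift, Fintype.card_fin]
    simp
  have h3 := (Finset.sum_eq_zero_iff_of_nonneg (fun j _ => h1 j)).1 h2 i (Finset.mem_univ i)
  rw [m₀_val]
  omega

noncomputable instance : Unique (NegMon (Idx.{u} r) (-((r : ℤ) + 1))) :=
  ⟨⟨m₀ r⟩, eq_m₀ r⟩

/-- the monomial exponent `-1 - m` -/
noncomputable def muOf (m : Idx.{u} r → ℤ) : Fin (r + 1) →₀ ℕ :=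
  Finsupp.equivFunOnFinite.symm (fun j => (-1 - m ⟨j⟩).toNat)

lemma muOf_apply (m : Idx.{u} r → ℤ) (j : Fin (r + 1)) : muOf r m j = (-1 - m ⟨j⟩).toNat := rfl

variable {r} in
lemma sub_muOf {a : ℤ} (m : NegMon (Idx.{u} r) a) :
    (m₀ r).1 - toZ (muOf r m.1) ∘ Equiv.ulift = m.1 := by
  funext i
  have := m.2.1 i
  simp only [Pi.sub_apply, Function.comp_apply, m₀_val, toZ_apply, muOf_apply, Equiv.ulift_apply]
  have hi : (⟨i.down⟩ : Idx.{u} r) = i := rfl
  rw [hi]
  omega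

variable {r} in
lemma muOf_sub (μ : Fin (r + 1) →₀ ℕ) : muOf r ((m₀ r).1 - toZ μ ∘ Equiv.ulift) = μ := by
  ext j
  simp only [muOf_apply, Pi.sub_apply, Function.comp_apply, m₀_val, toZ_apply, Equiv.ulift_apply]
  omega

variable {r} in
lemma degree_muOf {a : ℤ} {k : ℕ} (hk : -((r : ℤ) + 1) = a + k) (m : NegMon (Idx.{u} r) a) :
    (muOf r m.1).degree = k := by
  have h1 : ∑ i, m.1 i = a := m.2.2
  have h2 : ((muOf r m.1).degree : ℤ) = k := by
    rw [Finsupp.degree_eq_sum]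
    push_cast
    have h3 : ∀ j : Fin (r + 1), ((muOf r m.1 j : ℕ) : ℤ) = -1 - m.1 ⟨j⟩ := by
      intro j
      have := m.2.1 ⟨j⟩
      rw [muOf_apply]
      omega
    simp only [h3]
    have h4 := PnTop.sum_idx r (fun i : Idx.{u} r => -1 - m.1 i)
    rw [h4, Finset.sum_sub_distrib, h1]
    simp only [Finset.sum_const, Finset.card_univ, Fintype.card_ulift, Fintype.card_fin]
    simp
    omega
  exact_mod_cast h2

open Classical in
/-- evaluation of a function on `NegMon` at an arbitrary exponent (zero outside), linearly -/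
noncomputable def ext0L {d : ℤ} (m : Idx.{u} r → ℤ) : (NegMon (Idx.{u} r) d →₀ A) →ₗ[A] A :=
  if h : m ∈ NegMon (Idx.{u} r) d then Finsupp.lapply ⟨m, h⟩ else 0

lemma ext0L_apply {d : ℤ} (m : Idx.{u} r → ℤ) (y : NegMon (Idx.{u} r) d →₀ A) :
    ext0L r A m y = ext0 r A y m := by
  unfold ext0L ext0
  split_ifs with h
  · rfl
  · rfl

/-- the pairing with a form, as a linear form on Laurent tails -/
noncomputable def pairL {a : ℤ} (f : MvPolynomial (Fin (r + 1)) A) : (NegMon (Idx.{u} r) a →₀ A) →ₗ[A] A :=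
  ∑ μ ∈ f.support, (MvPolynomial.coeff μ f) • ext0L r A ((m₀ r).1 - toZ μ ∘ Equiv.ulift)

lemma pairL_apply {a : ℤ} (f : MvPolynomial (Fin (r + 1)) A) (y : NegMon (Idx.{u} r) a →₀ A) :
    pairL r A f y = ∑ μ ∈ f.support, MvPolynomial.coeff μ f *
      ext0 r A y ((m₀ r).1 - toZ μ ∘ Equiv.ulift) := by
  rw [pairL, LinearMap.sum_apply]
  refine Finset.sum_congr rfl (fun μ _ => ?_)
  rw [LinearMap.smul_apply, ext0L_apply, smul_eq_mul]

lemma pairL_single {a : ℤ} {k : ℕ} (hk : -((r : ℤ) + 1) = a + k) (f : CohB1.polyGrading r A k)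
    (m : NegMon (Idx.{u} r) a) (c : A) :
    pairL r A f.1 (Finsupp.single m c) = MvPolynomial.coeff (muOf r m.1) f.1 * c := by
  classical
  rw [pairL_apply, Finset.sum_eq_single (muOf r m.1)]
  · rw [ext0_mem r A _ _ (by rw [sub_muOf m]; exact m.2)]
    have : (⟨(m₀ r).1 - toZ (muOf r m.1) ∘ Equiv.ulift, by rw [sub_muOf m]; exact m.2⟩ :
        NegMon (Idx.{u} r) a) = m := Subtype.ext (sub_muOf m)
    rw [this, Finsupp.single_eq_same]
  · intro μ hμ hne
    have hdeg : μ.degree = k := by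
      by_contra h
      exact (MvPolynomial.mem_support_iff.1 hμ) (f.2.coeff_eq_zero h)
    have hmem := sub_toZ_mem hk (m₀ r) μ hdeg
    rw [ext0_mem r A _ _ hmem, Finsupp.single_apply, if_neg, mul_zero]
    intro heq
    apply hne
    have := congrArg (fun q : NegMon (Idx.{u} r) a => muOf r q.1) heq
    simp only [muOf_sub] at this
    exact this.symm
  · intro hnot
    rw [MvPolynomial.notMem_support_iff.1 hnot, zero_mul]

/-- uniqueness of the form -/
lemma form_unique {a : ℤ} {k : ℕ} (hk : -((r : ℤ) + 1) = a + k) (f f' : CohB1.polyGrading r A k)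
    (h : ∀ m : NegMon (Idx.{u} r) a,
      MvPolynomial.coeff (muOf r m.1) f.1 = MvPolynomial.coeff (muOf r m.1) f'.1) : f = f' := by
  apply Subtype.ext
  ext μ
  by_cases hdeg : μ.degree = k
  · have := h ⟨(m₀ r).1 - toZ μ ∘ Equiv.ulift, sub_toZ_mem hk (m₀ r) μ hdeg⟩
    simpa only [muOf_sub] using this
  · rw [f.2.coeff_eq_zero hdeg, f'.2.coeff_eq_zero hdeg]

open Classical in
/-- existence of the form -/
lemma exists_form {a : ℤ} {k : ℕ} (hk : -((r : ℤ) + 1) = a + k)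
    (ψ : (NegMon (Idx.{u} r) a →₀ A) →ₗ[A] A) :
    ∃ f : CohB1.polyGrading r A k, ∀ m : NegMon (Idx.{u} r) a,
      MvPolynomial.coeff (muOf r m.1) f.1 = ψ (Finsupp.single m 1) := by
  have hfin : {μ : Fin (r + 1) →₀ ℕ | μ.degree = k}.Finite :=
    (Finsupp.finite_of_degree_le k).subset (fun μ hμ => le_of_eq hμ)
  let g : (Fin (r + 1) →₀ ℕ) → A := fun μ =>
    if h : μ.degree = k then ψ (Finsupp.single ⟨(m₀ r).1 - toZ μ ∘ Equiv.ulift,
      sub_toZ_mem hk (m₀ r) μ h⟩ 1) else 0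
  have hcoeff : ∀ μ' : Fin (r + 1) →₀ ℕ, μ'.degree = k →
      MvPolynomial.coeff μ' (∑ μ ∈ hfin.toFinset, MvPolynomial.monomial μ (g μ)) = g μ' := by
    intro μ' hμ'
    rw [MvPolynomial.coeff_sum]
    simp only [MvPolynomial.coeff_monomial]
    rw [Finset.sum_ite_eq' hfin.toFinset μ' g, if_pos]
    exact hfin.mem_toFinset.2 hμ'
  refine ⟨⟨∑ μ ∈ hfin.toFinset, MvPolynomial.monomial μ (g μ), ?_⟩, fun m => ?_⟩
  · refine Submodule.sum_mem _ (fun μ hμ => ?_)
    exact MvPolynomial.isHomogeneous_monomial _ (hfin.mem_toFinset.1 hμ)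
  · have hd := degree_muOf hk m
    rw [hcoeff _ hd]
    simp only [g, dif_pos hd]
    congr 2
    exact Subtype.ext (sub_muOf m)

end Groth.Agent.Lib.Proj.PnPairing
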