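/-
The pairing formula for the Serre duality pairing on `P^r_A` (helper44): `H^r(mulHom f)` is multiplication by
`f` on Laurent tails.  ns `Groth.Agent.Lib.Proj.PnPairing`: `pairing_formula`.
-/
import Groth.Agent.Lib.Proj.Helper44_PnPairing

set_option autoImplicit false
universe u

open CategoryTheory Limits AlgebraicGeometry Opposite TopologicalSpace
open Groth.Agent.Lib.Proj.CechComb Groth.Agent.Lib.Proj.PnCoh Groth.Agent.Lib.Cohomology
open Groth.Agent.Lib.Proj Groth.Agent.Lib.Proj.CechBridge Groth.Agent.Lib.Proj.HomologyEquiv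
open Groth.Agent.Lib.Proj.Bridge

namespace Groth.Agent.Lib.Proj.PnPairing

variable (r : ℕ) (A : Type u) [CommRing A]

/-- coordinates of `τ = F σ`, elementwise -/
lemma cI_of_poly_mul_apply {n : ℕ} {R : Type u} [CommRing R] {ι' : Type*} [Fintype ι']
    (e : ι' ≃ Fin (n + 1)) (d d' : ℤ) {p : ℕ} (b : Fin (p + 1) → ι')
    (W : Opens (ProjectiveSpectrum.top (CohB1.polyGrading n R))) (hW : W = DP R (e ∘ b))
    (σ : Twist.sectN (𝒜 := CohB1.polyGrading n R) d (op W))
    (τ : Twist.sectN (𝒜 := CohB1.polyGrading n R) d' (op W))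
    (F : MvPolynomial (Fin (n + 1)) R) (D : ℕ) (hF : F ∈ CohB1.polyGrading n R D)
    (hdeg : d' = d + D)
    (hτ : ∀ x : W, ((τ.1 x : Twist.twistAt (CohB1.polyGrading n R) d' x.1) :
          Twist.Loc (CohB1.polyGrading n R) x.1) = Localization.mk F 1 *
        ((σ.1 x : Twist.twistAt (CohB1.polyGrading n R) d x.1) :
          Twist.Loc (CohB1.polyGrading n R) x.1)) (m : ι' → ℤ) :
    cI e d' b W hW τ m = ∑ μ ∈ F.support, MvPolynomial.coeff μ F *
      cI e d b W hW σ (m - toZ μ ∘ e) := by
  have h := cI_of_frac_mul_apply e d d' b W hW σ τ F D 0 hF (by rw [hdeg]; push_cast; ring)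
    (fun x => by rw [pow_zero, Localization.mk_one, one_mul]; exact hτ x) m
  refine h.trans (Finset.sum_congr rfl (fun μ _ => ?_))
  congr 2
  rw [zero_smul, toZ_zero]
  funext i
  simp

set_option maxHeartbeats 1600000 in
/-- **the pairing formula**: `H^r(mulHom f)` is multiplication by `f` on the Laurent tails -/
theorem pairing_formula (a b : ℤ) (k : ℕ) (hk : b = a + k) (f : CohB1.polyGrading r A k)
    (Ta : Coh.HH (CohB1.ProjSpace r A) (Twist.twistProjSpace r A a) r ≃ₗ[A]
        (NegMon (Idx.{u} r) a →₀ A))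
    (hTa : ∀ c : ((cechComplexFunctor (stdCover r A)).obj
        (Twist.twistProjSpace r A a).presheaf).cycles r,
        Ta (E r A a r
          (((cechComplexFunctor (stdCover r A)).obj (Twist.twistProjSpace r A a).presheaf).homologyπ r c)) =
        (pnBridge r A a).topΦ (e₀ r)
          (((cechComplexFunctor (stdCover r A)).obj (Twist.twistProjSpace r A a).presheaf).iCycles r c))
    (Tb : Coh.HH (CohB1.ProjSpace r A) (Twist.twistProjSpace r A b) r ≃ₗ[A]
        (NegMon (Idx.{u} r) b →₀ A))
    (hTb : ∀ c : ((cechComplexFunctor (stdCover r A)).obj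
        (Twist.twistProjSpace r A b).presheaf).cycles r,
        Tb (E r A b r
          (((cechComplexFunctor (stdCover r A)).obj (Twist.twistProjSpace r A b).presheaf).homologyπ r c)) =
        (pnBridge r A b).topΦ (e₀ r)
          (((cechComplexFunctor (stdCover r A)).obj (Twist.twistProjSpace r A b).presheaf).iCycles r c))
    (x : Coh.HH (CohB1.ProjSpace r A) (Twist.twistProjSpace r A a) r) (m : NegMon (Idx.{u} r) b) :
    Tb (Sheaf.H.map ((SheafOfModules.toSheaf (CohB1.ProjSpace r A).ringCatSheaf).map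
      (mulHom f a b hk : Twist.twistProjSpace r A a ⟶ Twist.twistProjSpace r A b)) r x) m =
    ∑ μ ∈ f.1.support, MvPolynomial.coeff μ f.1 * ext0 r A (Ta x) (m.1 - toZ μ ∘ Equiv.ulift) := by
  obtain ⟨ξ, rfl⟩ := (E r A a r).surjective x
  obtain ⟨c, rfl⟩ := homologyπ_surjective
    ((cechComplexFunctor (stdCover r A)).obj (Twist.twistProjSpace r A a).presheaf) r ξ
  refine (topLin_map r A a b Tb hTb
    (mulHom f a b hk : Twist.twistProjSpace r A a ⟶ Twist.twistProjSpace r A b) c m).trans ?_
  have key := cI_of_poly_mul_apply Equiv.ulift a b (e₀ r) _ (cechOpen_eq_DP r A (e₀ r))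
    (cE (stdCover r A) (Twist.twistProjSpace r A a).presheaf r
      (((cechComplexFunctor (stdCover r A)).obj (Twist.twistProjSpace r A a).presheaf).iCycles r c) (e₀ r))
    (((SheafOfModules.toSheaf (CohB1.ProjSpace r A).ringCatSheaf).map
      (mulHom f a b hk : Twist.twistProjSpace r A a ⟶ Twist.twistProjSpace r A b)).hom.app
        (op (∏ᶜ (stdCover r A ∘ e₀ r)))
      (cE (stdCover r A) (Twist.twistProjSpace r A a).presheaf r
        (((cechComplexFunctor (stdCover r A)).obj (Twist.twistProjSpace r A a).presheaf).iCycles r c)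
        (e₀ r)))
    f.1 k f.2 hk (fun x => rfl) m.1
  refine key.trans ?_
  refine Finset.sum_congr rfl (fun μ hμ => ?_)
  congr 1
  have hdeg : μ.degree = k := by
    by_contra hne
    exact (MvPolynomial.mem_support_iff.1 hμ) (f.2.coeff_eq_zero hne)
  have hmem := sub_toZ_mem hk m μ hdeg
  have e1 := ext0_mem r A (Ta (E r A a r
    (((cechComplexFunctor (stdCover r A)).obj (Twist.twistProjSpace r A a).presheaf).homologyπ r c)))
    _ hmem
  have e2 : (Ta (E r A a r
      (((cechComplexFunctor (stdCover r A)).obj (Twist.twistProjSpace r A a).presheaf).homologyπ r c)))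
      ⟨m.1 - toZ μ ∘ Equiv.ulift, hmem⟩ =
      ((pnBridge r A a).topΦ (e₀ r)
        (((cechComplexFunctor (stdCover r A)).obj (Twist.twistProjSpace r A a).presheaf).iCycles r c))
      ⟨m.1 - toZ μ ∘ Equiv.ulift, hmem⟩ := DFunLike.congr_fun (hTa c) _
  have e3 : ((pnBridge r A a).topΦ (e₀ r)
        (((cechComplexFunctor (stdCover r A)).obj (Twist.twistProjSpace r A a).presheaf).iCycles r c))
      ⟨m.1 - toZ μ ∘ Equiv.ulift, hmem⟩ =
      (pnBridge r A a).toLau (cE (stdCover r A) (Twist.twistProjSpace r A a).presheaf r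
        (((cechComplexFunctor (stdCover r A)).obj (Twist.twistProjSpace r A a).presheaf).iCycles r c))
        (e₀ r) (m.1 - toZ μ ∘ Equiv.ulift) := by
    rw [Bridge.topΦ_apply, topPart_apply]
  exact (e1.trans (e2.trans e3)).symm

end Groth.Agent.Lib.Proj.PnPairing
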