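/-
Serre duality pairing on `P^r_A`, `r ≥ 1` (helper44): `H^r(P^r_A, O(-r-1)) ≃ₗ[A] A` and, for every `n`,
`Hom(O(-n-r-1), O(-r-1)) → Hom_A(H^r(O(-n-r-1)), A)`, `φ ↦ t ∘ H^r(φ)`, is bijective.

ns `Groth.Agent.Lib.Proj.PnPairing`: `serre_pairing`.
-/
import Groth.Agent.Lib.Proj.Helper44_PnPairing2
import Groth.Agent.Lib.Proj.Helper44_DualCoeff

set_option autoImplicit false
universe u

open CategoryTheory Limits AlgebraicGeometry Opposite TopologicalSpace
open Groth.Agent.Lib.Proj.CechComb Groth.Agent.Lib.Proj.PnCoh Groth.Agent.Lib.Cohomology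
open Groth.Agent.Lib.Proj Groth.Agent.Lib.Proj.Bridge

namespace Groth.Agent.Lib.Proj.PnPairing

set_option maxHeartbeats 1600000 in
/-- **The Serre duality pairing on projective space.** -/
theorem serre_pairing (A : Type u) [CommRing A] (r : ℕ) (hr : 1 ≤ r) :
    ∃ t : Coh.HH (CohB1.ProjSpace r A) (Twist.twistProjSpace r A (-((r : ℤ) + 1))) r ≃ₗ[A] A,
      ∀ (n : ℤ) (ψ : Coh.HH (CohB1.ProjSpace r A) (Twist.twistProjSpace r A (-(n + r + 1))) r →ₗ[A] A),
        ∃! φ : Twist.twistProjSpace r A (-(n + r + 1)) ⟶ Twist.twistProjSpace r A (-((r : ℤ) + 1)),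
          ∀ x : Coh.HH (CohB1.ProjSpace r A) (Twist.twistProjSpace r A (-(n + r + 1))) r,
            ψ x = t (Sheaf.H.map ((SheafOfModules.toSheaf (CohB1.ProjSpace r A).ringCatSheaf).map φ) r x) := by
  have hb : -((r : ℤ) + 1) < 0 := by
    have : (0 : ℤ) ≤ r := Int.natCast_nonneg r
    omega
  obtain ⟨Tb, hTb⟩ := exists_topLin r A (-((r : ℤ) + 1)) hb
  refine ⟨Tb.trans (Finsupp.uniqueLinearEquiv A A (m₀.{u} r)),
    fun n ψ => ?_⟩
  have ht : ∀ y : Coh.HH (CohB1.ProjSpace r A) (Twist.twistProjSpace r A (-((r : ℤ) + 1))) r,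
      (Tb.trans (Finsupp.uniqueLinearEquiv A A (m₀.{u} r))) y =
        Tb y (m₀ r) := fun y => rfl
  rcases lt_or_ge n 0 with hn | hn
  · have hsub : Subsingleton (Coh.HH (CohB1.ProjSpace r A)
        (Twist.twistProjSpace r A (-(n + r + 1))) r) :=
      subsingleton_HH_twist' r A _ r (by rintro ⟨h, -⟩; omega) (by rintro ⟨-, h⟩; omega)
    refine ⟨0, fun x => ?_, fun φ' _ => ?_⟩
    · have hx : x = 0 := Subsingleton.elim _ _
      rw [hx, map_zero, map_zero, map_zero]
    · rcases PnHom.hom_class hr _ _ φ' with ⟨k, hk, f, -⟩ | ⟨-, h0⟩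
      · exfalso
        have : (0 : ℤ) ≤ k := Int.natCast_nonneg k
        omega
      · exact h0
  · obtain ⟨k, rfl⟩ := Int.eq_ofNat_of_zero_le hn
    have ha : -((k : ℤ) + r + 1) < 0 := by
      have h1 : (0 : ℤ) ≤ r := Int.natCast_nonneg r
      have h2 : (0 : ℤ) ≤ k := Int.natCast_nonneg k
      omega
    have hk : -((r : ℤ) + 1) = -((k : ℤ) + r + 1) + k := by ring
    obtain ⟨Ta, hTa⟩ := exists_topLin r A (-((k : ℤ) + r + 1)) ha
    have hpair : ∀ (g : CohB1.polyGrading r A k)
        (x : Coh.HH (CohB1.ProjSpace r A) (Twist.twistProjSpace r A (-((k : ℤ) + r + 1))) r),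
        (Tb.trans (Finsupp.uniqueLinearEquiv A A (m₀.{u} r)))
          (Sheaf.H.map ((SheafOfModules.toSheaf (CohB1.ProjSpace r A).ringCatSheaf).map
            (mulHom g _ _ hk : Twist.twistProjSpace r A (-((k : ℤ) + r + 1)) ⟶
              Twist.twistProjSpace r A (-((r : ℤ) + 1)))) r x) = pairL r A g.1 (Ta x) := by
      intro g x
      rw [ht, pairL_apply]
      exact pairing_formula r A _ _ k hk g Ta hTa Tb hTb x (m₀ r)
    have hψ : ∀ (g : CohB1.polyGrading r A k),
        (∀ m : NegMon (Idx.{u} r) (-((k : ℤ) + r + 1)),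
          MvPolynomial.coeff (muOf r m.1) g.1 = (ψ ∘ₗ Ta.symm.toLinearMap) (Finsupp.single m 1)) →
        ∀ y, (ψ ∘ₗ Ta.symm.toLinearMap) y = pairL r A g.1 y := by
      intro g hg y
      have hmaps : (ψ ∘ₗ Ta.symm.toLinearMap) = pairL r A g.1 := by
        apply Finsupp.lhom_ext
        intro m c
        rw [pairL_single r A hk g m c, hg m]
        have hsingle : (Finsupp.single m c : NegMon (Idx.{u} r) (-((k : ℤ) + r + 1)) →₀ A) =
            c • Finsupp.single m 1 := by
          rw [Finsupp.smul_single, smul_eq_mul, mul_one]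
        rw [hsingle, map_smul, smul_eq_mul, mul_comm]
      exact DFunLike.congr_fun hmaps y
    obtain ⟨f, hf⟩ := exists_form r A hk (ψ ∘ₗ Ta.symm.toLinearMap)
    refine ⟨(mulHom f _ _ hk : Twist.twistProjSpace r A (-((k : ℤ) + r + 1)) ⟶
              Twist.twistProjSpace r A (-((r : ℤ) + 1))), fun x => ?_, fun φ' hφ' => ?_⟩
    · refine Eq.trans ?_ (hpair f x).symm
      refine Eq.trans ?_ (hψ f hf (Ta x))
      change ψ x = ψ (Ta.symm (Ta x))
      rw [Ta.symm_apply_apply]
    · rcases PnHom.hom_class hr _ _ φ' with ⟨k', hk', f', rfl⟩ | ⟨hlt, -⟩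
      · have hkk : k' = k := by
          have : (k' : ℤ) = k := by linarith
          exact_mod_cast this
        subst hkk
        have hff : f = f' := by
          apply form_unique r A hk
          intro m
          rw [hf m]
          have h1 := hφ' (Ta.symm (Finsupp.single m 1))
          have h2 := h1.trans (hpair f' (Ta.symm (Finsupp.single m 1)))
          rw [Ta.apply_symm_apply, pairL_single r A hk f' m 1, mul_one] at h2
          exact h2
        rw [hff]
      · exfalso
        have h2 : (0 : ℤ) ≤ k := Int.natCast_nonneg k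
        omega

end Groth.Agent.Lib.Proj.PnPairing
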