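/-
Classification of the morphisms `O(a) ⟶ O(b)` on `P^n_R` for `a ≤ b`, valid for every `n` (including `n = 0`):
each one is multiplication by a form of degree `b - a` (helper44).

ns `Groth.Agent.Lib.Proj.PnHom`: `Fφ_supp_of_le`, **`hom_class_of_le`**.
-/
import Groth.Agent.Lib.Proj.Helper44_PnHom

set_option autoImplicit false
universe u

open CategoryTheory CategoryTheory.Limits AlgebraicGeometry TopologicalSpace Opposite
open Groth.Agent.Lib.Proj.CechComb

namespace Groth.Agent.Lib.Proj.PnHom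

open Twist Groth.Agent.Lib.Proj Groth.Agent.Lib.Proj.HomTwist Groth.Agent.Lib.Proj.Bridge

variable {n : ℕ} {R : Type u} [CommRing R]

lemma Fφ_supp_of_le {a b : ℤ} (hab : a ≤ b)
    (φ : twist (CohB1.polyGrading n R) a ⟶ twist (CohB1.polyGrading n R) b) (i : Fin (n + 1))
    (m : Fin (n + 1) → ℤ) (hm : Fφ φ i m ≠ 0) : (∀ k, 0 ≤ m k) ∧ ∑ k, m k = b - a := by
  have key : ∀ i' : Fin (n + 1), m - -(Pi.single i' a) ∈ Allowed b {i'} := by
    intro i'
    have hm' : Fφ φ i' m ≠ 0 := by rwa [Fφ_indep φ i' i]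
    rw [Fφ, trans_apply] at hm'
    exact G_mem φ i' _ hm'
  have hsum : ∀ i' : Fin (n + 1), ∑ k, m k = b - a := by
    intro i'
    have h1 := (key i').1
    simp only [Pi.sub_apply, Pi.neg_apply, sub_neg_eq_add] at h1
    rw [Finset.sum_add_distrib, Finset.sum_pi_single'] at h1
    simp only [Finset.mem_univ, if_true] at h1
    omega
  refine ⟨fun k => ?_, hsum i⟩
  by_cases hex : ∃ i' : Fin (n + 1), i' ≠ k
  · obtain ⟨i', hi'⟩ := hex
    by_contra hk
    push Not at hk
    have := (key i').2 k (by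
      simp only [Pi.sub_apply, Pi.neg_apply, Pi.single_apply, if_neg hi'.symm]
      simpa using hk)
    exact hi'.symm (Set.mem_singleton_iff.1 this)
  · push Not at hex
    have hs : ∑ j, m j = m k := by
      rw [Finset.sum_eq_single k]
      · intro j _ hj
        exact absurd (hex j) hj
      · intro hk
        exact absurd (Finset.mem_univ k) hk
    have := hsum k
    omega

/-- **classification of the morphisms `O(a) ⟶ O(b)`, `a ≤ b`, on `P^n` for every `n`** -/
theorem hom_class_of_le (a b : ℤ) (hab : a ≤ b)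
    (φ : twist (CohB1.polyGrading n R) a ⟶ twist (CohB1.polyGrading n R) b) :
    ∃ (k : ℕ) (hk : b = a + k) (f : CohB1.polyGrading n R k), φ = mulHom f a b hk := by
  obtain ⟨f, hf1, hf2⟩ := exists_lauN_zero_eq (Fφ φ 0) (fun m hm => (Fφ_supp_of_le hab φ 0 m hm).1)
  obtain ⟨k, hk⟩ : ∃ k : ℕ, b = a + k := ⟨(b - a).toNat, by omega⟩
  have hfk : f ∈ CohB1.polyGrading n R k := by
    rw [MvPolynomial.mem_homogeneousSubmodule]
    intro d hd
    rw [hf2] at hd
    have h2 := (Fφ_supp_of_le hab φ 0 _ hd).2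
    have h3 : ((d.degree : ℕ) : ℤ) = k := by
      rw [Finsupp.degree_eq_sum]
      push_cast
      simp only [toZ_apply] at h2
      omega
    have h4 : d.degree = k := by exact_mod_cast h3
    rw [← h4]
    exact (DFunLike.congr_fun (Finsupp.degree_eq_weight_one (R := ℕ)) d).symm
  refine ⟨k, hk, ⟨f, hfk⟩, ?_⟩
  apply hom_ext_of_gen (T (R := R)) hcov a b
  intro i
  apply cW_injective b (s1 i) (U i) (U_eq i)
  have h1 := cW_mulHom (⟨f, hfk⟩ : CohB1.polyGrading n R k) a b hk (s1 i) (U i) (U_eq i)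
    (gen (T (R := R) i) a (U i) le_rfl)
  refine Eq.trans ?_ h1.symm
  have h2 : G φ i = mulFracL f 0 (cW a (s1 i) (U i) (U_eq i) (gen (T (R := R) i) a (U i) le_rfl)) := by
    rw [cW_gen, mulFracL_single, hf1, Fφ_indep φ 0 i, ← G_eq_trans]
  exact h2

end Groth.Agent.Lib.Proj.PnHom
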