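/-
Serre duality pairing on `P^r_A` for every `r` (including `r = 0`), for the twists `O(-k-r-1)`, `k : ℕ`
(helper44): `H^r(P^r_A, O(-r-1)) ≃ₗ[A] A` and `Hom(O(-k-r-1), O(-r-1)) → Hom_A(H^r(O(-k-r-1)), A)`,
`φ ↦ t ∘ H^r(φ)`, is bijective.

ns `Groth.Agent.Lib.Proj.PnPairing`: `serre_pairing_nat`.
-/
import Groth.Agent.Lib.Proj.Helper44_PnDuality
import Groth.Agent.Lib.Proj.Helper44_PnHom0

set_option autoImplicit false
universe u

open CategoryTheory Limits AlgebraicGeometry Opposite TopologicalSpace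
open Groth.Agent.Lib.Proj.CechComb Groth.Agent.Lib.Proj.PnCoh Groth.Agent.Lib.Cohomology
open Groth.Agent.Lib.Proj Groth.Agent.Lib.Proj.Bridge

namespace Groth.Agent.Lib.Proj.PnPairing

set_option maxHeartbeats 1600000 in
/-- **The Serre duality pairing on projective space, sufficiently negative twists, any `r`.** -/
theorem serre_pairing_nat (A : Type u) [CommRing A] (r : ℕ) :
    ∃ t : Coh.HH (CohB1.ProjSpace r A) (Twist.twistProjSpace r A (-((r : ℤ) + 1))) r ≃ₗ[A] A,
      ∀ (k : ℕ) (ψ : Coh.HH (CohB1.ProjSpace r A)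
          (Twist.twistProjSpace r A (-((k : ℤ) + r + 1))) r →ₗ[A] A),
        ∃! φ : Twist.twistProjSpace r A (-((k : ℤ) + r + 1)) ⟶ Twist.twistProjSpace r A (-((r : ℤ) + 1)),
          ∀ x : Coh.HH (CohB1.ProjSpace r A) (Twist.twistProjSpace r A (-((k : ℤ) + r + 1))) r,
            ψ x = t (Sheaf.H.map ((SheafOfModules.toSheaf (CohB1.ProjSpace r A).ringCatSheaf).map φ) r x) := by
  have hb : -((r : ℤ) + 1) < 0 := by
    have : (0 : ℤ) ≤ r := Int.natCast_nonneg r
    omega
  obtain ⟨Tb, hTb⟩ := exists_topLin r A (-((r : ℤ) + 1)) hb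
  refine ⟨Tb.trans (Finsupp.uniqueLinearEquiv A A (m₀.{u} r)),
    fun k ψ => ?_⟩
  have ht : ∀ y : Coh.HH (CohB1.ProjSpace r A) (Twist.twistProjSpace r A (-((r : ℤ) + 1))) r,
      (Tb.trans (Finsupp.uniqueLinearEquiv A A (m₀.{u} r))) y =
        Tb y (m₀ r) := fun y => rfl
  have ha : -((k : ℤ) + r + 1) < 0 := by
    have h1 : (0 : ℤ) ≤ r := Int.natCast_nonneg r
    have h2 : (0 : ℤ) ≤ k := Int.natCast_nonneg k
    omega
  have hk : -((r : ℤ) + 1) = -((k : ℤ) + r + 1) + k := by ring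
  obtain ⟨Ta, hTa⟩ := exists_topLin r A (-((k : ℤ) + r + 1)) ha
  have hpair : ∀ (g : CohB1.polyGrading r A k)
      (x : Coh.HH (CohB1.ProjSpace r A) (Twist.twistProjSpace r A (-((k : ℤ) + r + 1))) r),
      (Tb.trans (Finsupp.uniqueLinearEquiv A A (m₀.{u} r)))
        (Sheaf.H.map ((SheafOfModules.toSheaf (CohB1.ProjSpace r A).ringCatSheaf).map
          (mulHom g _ _ hk : Twist.twistProjSpace r A (-((k : ℤ) + r + 1)) ⟶
            Twist.twistProjSpace r A (-((r : ℤ) + 1)))) r x) = pairL r A g.1 (Ta x) := by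
    intro g x
    rw [ht, pairL_apply]
    exact pairing_formula r A _ _ k hk g Ta hTa Tb hTb x (m₀ r)
  have hψ : ∀ (g : CohB1.polyGrading r A k),
      (∀ m : NegMon (Idx.{u} r) (-((k : ℤ) + r + 1)),
        MvPolynomial.coeff (muOf r m.1) g.1 = (ψ ∘ₗ Ta.symm.toLinearMap) (Finsupp.single m 1)) →
      ∀ y, (ψ ∘ₗ Ta.symm.toLinearMap) y = pairL r A g.1 y := by
    intro g hg y
    have hmaps : (ψ ∘ₗ Ta.symm.toLinearMap) = pairL r A g.1 := by
      apply Finsupp.lhom_ext
      intro m c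
      rw [pairL_single r A hk g m c, hg m]
      have hsingle : (Finsupp.single m c : NegMon (Idx.{u} r) (-((k : ℤ) + r + 1)) →₀ A) =
          c • Finsupp.single m 1 := by
        rw [Finsupp.smul_single, smul_eq_mul, mul_one]
      rw [hsingle, map_smul, smul_eq_mul, mul_comm]
    exact DFunLike.congr_fun hmaps y
  obtain ⟨f, hf⟩ := exists_form r A hk (ψ ∘ₗ Ta.symm.toLinearMap)
  refine ⟨(mulHom f _ _ hk : Twist.twistProjSpace r A (-((k : ℤ) + r + 1)) ⟶
            Twist.twistProjSpace r A (-((r : ℤ) + 1))), fun x => ?_, fun φ' hφ' => ?_⟩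
  · refine Eq.trans ?_ (hpair f x).symm
    refine Eq.trans ?_ (hψ f hf (Ta x))
    change ψ x = ψ (Ta.symm (Ta x))
    rw [Ta.symm_apply_apply]
  · have hle : -((k : ℤ) + r + 1) ≤ -((r : ℤ) + 1) := by
      have h2 : (0 : ℤ) ≤ k := Int.natCast_nonneg k
      omega
    obtain ⟨k', hk', f', rfl⟩ := PnHom.hom_class_of_le _ _ hle φ'
    have hkk : k' = k := by
      have : (k' : ℤ) = k := by linarith
      exact_mod_cast this
    subst hkk
    have hff : f = f' := by
      apply form_unique r A hk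
      intro m
      rw [hf m]
      have h1 := hφ' (Ta.symm (Finsupp.single m 1))
      have h2 := h1.trans (hpair f' (Ta.symm (Finsupp.single m 1)))
      rw [Ta.apply_symm_apply, pairL_single r A hk f' m 1, mul_one] at h2
      exact h2
    rw [hff]

end Groth.Agent.Lib.Proj.PnPairing
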