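/-
Duality for coherent modules on `P^n_k` in top degree (helper44): with `ω = O(-n-1)` and the trace
`t : H^n(ω) → k` of `serre_pairing_nat`, for every coherent `F` the map `Hom(F, ω) → Hom_k(H^n(F), k)`,
`φ ↦ t ∘ H^n(φ)`, is bijective.  Proof: presentation of `F` by sums of very negative twists,
right exactness of `H^n` (vanishing of `H^{n+1}`) and the case of twists.

ns `Groth.Agent.Lib.Proj.PnDualCoh`: `Inj`, `Surj`, `inj_sigma`, `surj_sigma`, `good_of_presentation`,
**`dual_coh`**.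
-/
import Groth.Agent.Lib.Proj.Helper44_PnDuality0
import Groth.Agent.Lib.Cohomology.helper5_PnFinite

set_option autoImplicit false
universe u

open CategoryTheory CategoryTheory.Limits AlgebraicGeometry
open Groth.Agent.Lib.Cohomology.HHLES Groth.Agent.Lib.Cohomology.R3
  Groth.Agent.Lib.Cohomology.CohSigma Groth.Agent.Lib.QCoh

namespace Groth.Agent.Lib.Proj.PnDualCoh

section general

variable {X : Scheme.{u}} (A : Type u) [CommRing A] [X.Over (Spec (CommRingCat.of A))]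
  {ω : X.Modules} (n : ℕ) (t : Coh.HH X ω n →ₗ[A] A)

/-- injectivity of the duality map of `G` -/
def Inj (G : X.Modules) : Prop :=
  ∀ φ : G ⟶ ω, (∀ x : Coh.HH X G n, t (hmap φ n x) = 0) → φ = 0

/-- surjectivity of the duality map of `G` -/
def Surj (G : X.Modules) : Prop :=
  ∀ ψ : Coh.HH X G n →ₗ[A] A, ∃ φ : G ⟶ ω, ∀ x : Coh.HH X G n, ψ x = t (hmap φ n x)

variable {A n t}

lemma inj_of_existsUnique {G : X.Modules}
    (h : ∀ ψ : Coh.HH X G n →ₗ[A] A, ∃! φ : G ⟶ ω, ∀ x : Coh.HH X G n, ψ x = t (hmap φ n x)) :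
    Inj A n t G := by
  intro φ hφ
  obtain ⟨φ₀, -, hu⟩ := h 0
  have h1 : φ = φ₀ := hu φ (fun x => by rw [hφ x]; rfl)
  have h2 : (0 : G ⟶ ω) = φ₀ := hu 0 (fun x => by rw [hmap_zero, map_zero]; rfl)
  rw [h1, ← h2]

lemma surj_of_existsUnique {G : X.Modules}
    (h : ∀ ψ : Coh.HH X G n →ₗ[A] A, ∃! φ : G ⟶ ω, ∀ x : Coh.HH X G n, ψ x = t (hmap φ n x)) :
    Surj A n t G := fun ψ => (h ψ).exists

lemma existsUnique_of_inj_surj {G : X.Modules} (hi : Inj A n t G) (hs : Surj A n t G)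
    (ψ : Coh.HH X G n →ₗ[A] A) :
    ∃! φ : G ⟶ ω, ∀ x : Coh.HH X G n, ψ x = t (hmap φ n x) := by
  obtain ⟨φ, hφ⟩ := hs ψ
  refine ⟨φ, hφ, fun φ' hφ' => ?_⟩
  have h0 : φ' - φ = 0 := by
    apply hi
    intro x
    have h1 : hmap φ' n x = hmap (φ' - φ) n x + hmap φ n x := by
      rw [← hmap_add, sub_add_cancel]
    have h2 := hφ' x
    rw [h1, map_add, ← hφ x] at h2
    exact (add_eq_right.1 h2.symm)
  exact sub_eq_zero.1 h0

/-- the duality map is injective on finite sums -/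
lemma inj_sigma {r : ℕ} (f : Fin r → X.Modules) (h : ∀ j, Inj A n t (f j)) : Inj A n t (∐ f) := by
  intro φ hφ
  apply Sigma.hom_ext
  intro j
  rw [comp_zero]
  apply h j
  intro x
  rw [hmap_comp]
  exact hφ _

/-- the duality map is surjective on finite sums -/
lemma surj_sigma {r : ℕ} (f : Fin r → X.Modules) (h : ∀ j, Surj A n t (f j)) : Surj A n t (∐ f) := by
  intro ψ
  choose φj hφj using fun j => h j (ψ ∘ₗ Canon.HHlin A (Sigma.ι f j) n)
  refine ⟨Sigma.desc φj, fun x => ?_⟩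
  have hx := eq_sum_hmap f (fun j => Sigma.ι f j) (fun j => Sigma.π f j) (sum_π_ι f) n x
  have h1 : ∀ j, ψ (hmap (Sigma.ι f j) n (hmap (Sigma.π f j) n x)) =
      t (hmap (Sigma.desc φj) n (hmap (Sigma.ι f j) n (hmap (Sigma.π f j) n x))) := by
    intro j
    have h2 := hφj j (hmap (Sigma.π f j) n x)
    rw [← hmap_comp (Sigma.ι f j) (Sigma.desc φj), Sigma.ι_desc]
    exact h2
  calc ψ x = ψ (∑ j, hmap (Sigma.ι f j) n (hmap (Sigma.π f j) n x)) := by rw [← hx]
    _ = ∑ j, ψ (hmap (Sigma.ι f j) n (hmap (Sigma.π f j) n x)) := map_sum _ _ _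
    _ = ∑ j, t (hmap (Sigma.desc φj) n (hmap (Sigma.ι f j) n (hmap (Sigma.π f j) n x))) :=
        Finset.sum_congr rfl (fun j _ => h1 j)
    _ = t (hmap (Sigma.desc φj) n (∑ j, hmap (Sigma.ι f j) n (hmap (Sigma.π f j) n x))) := by
        rw [map_sum, map_sum]
    _ = t (hmap (Sigma.desc φj) n x) := by rw [← hx]

/-- injectivity passes to quotients -/
lemma inj_of_epi {E F : X.Modules} (p : E ⟶ F) [Epi p] (hE : Inj A n t E) : Inj A n t F := by
  intro φ hφ
  have h1 : p ≫ φ = 0 := by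
    apply hE
    intro x
    rw [hmap_comp]
    exact hφ _
  exact (cancel_epi p).1 (h1.trans comp_zero.symm)

/-- surjectivity for the cokernel of a presentation -/
lemma surj_of_presentation {E₁ E₀ F : X.Modules} (p : E₀ ⟶ F) [Epi p]
    (p' : E₁ ⟶ kernel p) [Epi p']
    (hsurj : Function.Surjective (hmap p n))
    (hE₀ : Surj A n t E₀) (hE₁ : Inj A n t E₁) : Surj A n t F := by
  intro ψ
  obtain ⟨φ₀, hφ₀⟩ := hE₀ (ψ ∘ₗ Canon.HHlin A p n)
  have hd : (p' ≫ kernel.ι p) ≫ φ₀ = 0 := by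
    apply hE₁
    intro y
    rw [hmap_comp]
    have h1 := hφ₀ (hmap (p' ≫ kernel.ι p) n y)
    rw [← h1]
    change ψ (hmap p n (hmap (p' ≫ kernel.ι p) n y)) = 0
    rw [← hmap_comp, Category.assoc, kernel.condition, comp_zero, hmap_zero, map_zero]
  have hk : kernel.ι p ≫ φ₀ = 0 := by
    rw [Category.assoc] at hd
    exact (cancel_epi p').1 (hd.trans comp_zero.symm)
  let S : ShortComplex X.Modules := ShortComplex.mk (kernel.ι p) p (kernel.condition p)
  have hS : S.Exact := ShortComplex.exact_of_f_is_kernel S (kernelIsKernel p)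
  have : Epi S.g := inferInstanceAs (Epi p)
  refine ⟨hS.desc φ₀ hk, fun z => ?_⟩
  obtain ⟨x, rfl⟩ := hsurj z
  have h2 : p ≫ hS.desc φ₀ hk = φ₀ := hS.g_desc φ₀ hk
  rw [← hmap_comp, h2]
  exact hφ₀ x

end general

section Pn

variable (k : Type u) [Field k] (n : ℕ)

/-- `H^n(p)` is surjective for an epimorphism `p` of quasi-coherent modules on `P^n` -/
lemma hmap_surjective_of_epi {E F : (CohB1.ProjSpace n k).Modules} (p : E ⟶ F) [Epi p]
    (hK : Coh.IsQCoh (kernel p)) : Function.Surjective (hmap p n) := by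
  let S : ShortComplex (CohB1.ProjSpace n k).Modules :=
    ShortComplex.mk (kernel.ι p) p (kernel.condition p)
  have hS : S.ShortExact :=
    { exact := ShortComplex.exact_of_f_is_kernel S (kernelIsKernel p)
      mono_f := inferInstanceAs (Mono (kernel.ι p))
      epi_g := inferInstanceAs (Epi p) }
  intro z
  have : Coh.IsQCoh (kernel p) := hK
  have hsub : Subsingleton (Coh.HH (CohB1.ProjSpace n k) (kernel p) (n + 1)) :=
    Groth.Agent.S0022.result n k (kernel p) (n + 1) (Nat.lt_succ_self n)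
  exact exact₃ hS n z (Subsingleton.elim _ _)

/-- **duality for coherent modules on `P^n_k` in top degree**, from the case of very negative twists -/
theorem dual_coh
    (t : Coh.HH (CohB1.ProjSpace n k) (Twist.twistProjSpace n k (-((n : ℤ) + 1))) n →ₗ[k] k)
    (hbase : ∀ (m : ℕ) (ψ : Coh.HH (CohB1.ProjSpace n k)
          (Twist.twistProjSpace n k (-((m : ℤ) + n + 1))) n →ₗ[k] k),
        ∃! φ : Twist.twistProjSpace n k (-((m : ℤ) + n + 1)) ⟶ Twist.twistProjSpace n k (-((n : ℤ) + 1)),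
          ∀ x : Coh.HH (CohB1.ProjSpace n k) (Twist.twistProjSpace n k (-((m : ℤ) + n + 1))) n,
            ψ x = t (hmap φ n x))
    (F : (CohB1.ProjSpace n k).Modules) (hF : Coh.IsCoh F)
    (ψ : Coh.HH (CohB1.ProjSpace n k) F n →ₗ[k] k) :
    ∃! φ : F ⟶ Twist.twistProjSpace n k (-((n : ℤ) + 1)),
      ∀ x : Coh.HH (CohB1.ProjSpace n k) F n, ψ x = t (hmap φ n x) := by
  -- the case of a sum of very negative twists
  have hsum : ∀ (G : (CohB1.ProjSpace n k).Modules), Coh.IsCoh G →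
      ∃ (E : (CohB1.ProjSpace n k).Modules) (p : E ⟶ G), Epi p ∧ Coh.IsCoh E ∧
        Inj k n t E ∧ Surj k n t E := by
    intro G hG
    obtain ⟨m₀, hm₀⟩ := Groth.Agent.Lib.Proj.exists_epi_sigma_twistProjSpace_of_isCoh n k G hG
    have hm := hm₀ (m₀ + n + 1) (by omega)
    have hq : (-((m₀ + n + 1 : ℕ) : ℤ)) = -((m₀ : ℤ) + n + 1) := by push_cast; ring
    rw [hq] at hm
    obtain ⟨r, p, hp⟩ := hm
    refine ⟨_, p, hp, isCoh_sigma_fin _ (fun _ => Groth.Agent.Lib.Cohomology.PnFinite.isCoh_twist n k _),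
      inj_sigma _ (fun _ => inj_of_existsUnique (hbase m₀)),
      surj_sigma _ (fun _ => surj_of_existsUnique (hbase m₀))⟩
  obtain ⟨E₀, p, hp, hE₀, hi₀, hs₀⟩ := hsum F hF
  have hK : Coh.IsCoh (kernel p) := isCoh_kernel hE₀ hF p
  obtain ⟨E₁, p', hp', -, hi₁, -⟩ := hsum (kernel p) hK
  have hsurj : Function.Surjective (hmap p n) := hmap_surjective_of_epi k n p hK.1
  exact existsUnique_of_inj_surj (inj_of_epi p hi₀) (surj_of_presentation p p' hsurj hs₀ hi₁) ψ

end Pn

end Groth.Agent.Lib.Proj.PnDualCoh
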