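import Groth.Agent.Lib.Ample.Pullback
import Groth.Prelude.Def_ProjUP

/-!
# Pullback of sections (lead)

ns `Groth.Agent.Lib.Proj.PullSec`.
* `pullSecOn f M V : Γ(M, V) →+ Γ(f^*M, f⁻¹V)` : the unit of the adjunction on sections; it is
  `f^♯`-semilinear (`pullSecOn_smul`) and compatible with restriction (`pullSecOn_res`);
  `pullSecOn f M ⊤ = ProjUP.pullSec f M`.
* `secOf_pullHom` : `secOf (pullHom f s) = pullSec f L (secOf s)`.
-/

universe u
open CategoryTheory CategoryTheory.Limits AlgebraicGeometry TopologicalSpace Opposite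

namespace Groth.Agent.Lib.Proj.PullSec

open Groth.Agent.Lib.Ample Groth.Agent.Lib.QCoh Scheme.Modules

variable {X Y : Scheme.{u}} (f : X ⟶ Y) (M : Y.Modules)

/-- the unit `M ⟶ f_* f^* M` on sections over `V` -/
noncomputable def pullSecOn (V : Y.Opens) :
    Γ(M, V) →+ Γ((Scheme.Modules.pullback f).obj M, f ⁻¹ᵁ V) :=
  (((pullbackPushforwardAdjunction f).unit.app M).app V).hom

lemma pullSecOn_top (s : ProjUP.Γm M) : pullSecOn f M ⊤ s = ProjUP.pullSec f M s := rfl

lemma pushforward_smul (N : X.Modules) (V : Y.Opens) (a : Γ(Y, V))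
    (y : Γ((pushforward f).obj N, V)) :
    a • y = ((f.app V).hom a • (show Γ(N, f ⁻¹ᵁ V) from y) : Γ(N, f ⁻¹ᵁ V)) := rfl

lemma pullSecOn_smul (V : Y.Opens) (a : Γ(Y, V)) (m : Γ(M, V)) :
    pullSecOn f M V (a • m) = (f.app V).hom a • pullSecOn f M V m := by
  have h := Hom.app_smul ((pullbackPushforwardAdjunction f).unit.app M) a m
  exact h

lemma pullSecOn_res {V W : Y.Opens} (h : W ≤ V) (m : Γ(M, V)) :
    resSec ((Scheme.Modules.pullback f).obj M) ((Opens.map f.base).map (homOfLE h)).le
        (pullSecOn f M V m) = pullSecOn f M W (resSec M h m) := by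
  have h1 := ((pullbackPushforwardAdjunction f).unit.app M).mapPresheaf.naturality (homOfLE h).op
  exact (congrArg (fun k => k.hom m) h1).symm

set_option backward.isDefEq.respectTransparency false in
lemma unit_comp_pullbackUnitIso_hom :
    (pullbackPushforwardAdjunction f).unit.app (Coh.structureModule Y) ≫
      (pushforward f).map (pullbackUnitIso f).hom =
      SheafOfModules.unitToPushforwardObjUnit f.toRingCatSheafHom := by
  have h := SheafOfModules.pullbackPushforwardAdjunction_homEquiv_pullbackObjUnitToUnit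
    f.toRingCatSheafHom
  rw [Adjunction.homEquiv_unit] at h
  exact h

lemma pullbackUnitIso_hom_app_unit_one :
    ((pullbackUnitIso f).hom.app ⊤).hom
      (pullSecOn f (Coh.structureModule Y) ⊤ (oneSec ⊤)) = oneSec ⊤ := by
  have h := congrArg (fun k => (Hom.app k ⊤).hom (oneSec ⊤)) (unit_comp_pullbackUnitIso_hom f)
  refine h.trans ?_
  exact map_one (f.app ⊤).hom

lemma pullSecOn_unit_one :
    pullSecOn f (Coh.structureModule Y) ⊤ (oneSec ⊤) =
      ((pullbackUnitIso f).inv.app ⊤).hom (oneSec ⊤) := by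
  have h := congrArg ((pullbackUnitIso f).inv.app ⊤).hom (pullbackUnitIso_hom_app_unit_one f)
  rw [← h]
  have h2 := congrArg (fun k => (Hom.app k ⊤).hom
    (pullSecOn f (Coh.structureModule Y) ⊤ (oneSec ⊤))) (pullbackUnitIso f).hom_inv_id
  exact h2.symm

/-- the global section of `f^*L` defined by `pullHom f s` is the pullback of the section of `s` -/
theorem secOf_pullHom {L : Y.Modules} (s : Coh.structureModule Y ⟶ L) :
    secOf (pullHom f s) = ProjUP.pullSec f L (secOf s) := by
  have h1 := (pullbackPushforwardAdjunction f).unit.naturality s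
  have h2 := congrArg (fun k => (Hom.app k ⊤).hom (oneSec ⊤)) h1
  rw [← pullSecOn_top]
  refine Eq.trans ?_ h2.symm
  show (((pullbackUnitIso f).inv ≫ (Scheme.Modules.pullback f).map s).app ⊤).hom (oneSec ⊤) =
    (((Scheme.Modules.pullback f).map s).app ⊤).hom
      (pullSecOn f (Coh.structureModule Y) ⊤ (oneSec ⊤))
  rw [pullSecOn_unit_one]
  rfl

end Groth.Agent.Lib.Proj.PullSec
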