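import Groth.Agent.S0844
import Mathlib.RingTheory.MvPolynomial.Homogeneous

/-!
# Finiteness of `H^i(P^n_R, O(d))` over `R` (helper3)

`finite_HH_twist_of` : given the `R`-linear computations of `H^0(O(d))`, `d ≥ 0` (S0843) and of
`H^n(O(-(n+1+k)))` (S0845), every `H^i(P^n_R, O(d))` is a finite `R`-module (the other groups vanish
by S0844).
-/

set_option autoImplicit false
universe u

namespace Groth.Agent.Lib.Proj.PnTwistFinite

open CategoryTheory AlgebraicGeometry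

instance finite_homogeneousSubmodule (σ : Type*) [Finite σ] (R : Type*) [CommRing R] (k : ℕ) :
    Module.Finite R ↥(MvPolynomial.homogeneousSubmodule σ R k) :=
  Module.Finite.iff_fg.mpr (MvPolynomial.homogeneousSubmodule_fg (σ := σ) (R := R) k)

variable (n : ℕ) (R : Type u) [CommRing R]

theorem finite_HH_twist_of
    (h0 : ∀ d : ℕ, Nonempty (Coh.HH (CohB1.ProjSpace n R) (Twist.twistProjSpace n R (d : ℤ)) 0 ≃ₗ[R]
      ↥(MvPolynomial.homogeneousSubmodule (Fin (n + 1)) R d)))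
    (hn : ∀ k : ℕ, Nonempty (Coh.HH (CohB1.ProjSpace n R)
      (Twist.twistProjSpace n R (-((n : ℤ) + 1 + k))) n ≃ₗ[R]
        ↥(MvPolynomial.homogeneousSubmodule (Fin (n + 1)) R k)))
    (d : ℤ) (i : ℕ) :
    Module.Finite R (Coh.HH (CohB1.ProjSpace n R) (Twist.twistProjSpace n R d) i) := by
  by_cases hc0 : i = 0 ∧ 0 ≤ d
  · obtain ⟨rfl, hd⟩ := hc0
    obtain ⟨e, rfl⟩ : ∃ e : ℕ, d = (e : ℤ) := ⟨d.toNat, (Int.toNat_of_nonneg hd).symm⟩
    obtain ⟨φ⟩ := h0 e
    exact Module.Finite.equiv φ.symm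
  · by_cases hcn : i = n ∧ d ≤ -((n : ℤ) + 1)
    · obtain ⟨rfl, hd⟩ := hcn
      obtain ⟨k, rfl⟩ : ∃ k : ℕ, d = -((i : ℤ) + 1 + k) :=
        ⟨(-((i : ℤ) + 1) - d).toNat, by
          rw [Int.toNat_of_nonneg (by omega)]
          ring⟩
      obtain ⟨φ⟩ := hn k
      exact Module.Finite.equiv φ.symm
    · have := Groth.Agent.S0844.result R n d i hc0 hcn
      infer_instance

end Groth.Agent.Lib.Proj.PnTwistFinite
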