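import Mathlib
import Groth.Prelude.Def_GrMod3
import Groth.Agent.Lib.Proj.Helper66_GrGlue

/-!
# Sections of `GrMod.tilde` (M(n)~ for gradings by additive subgroups) over `D₊(f)` (helper66)

Port of helper18's `GrTildeBasic` and of `S3586` to `GrMod`.  ns `Groth.Agent.Lib.Proj.GrModSections`.
-/

set_option autoImplicit false
set_option linter.unusedSectionVars false
universe u
open CategoryTheory AlgebraicGeometry Opposite TopologicalSpace

namespace Groth.Agent.Lib.Proj.GrModSections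

variable {A σ : Type u} [CommRing A] [SetLike σ A] [AddSubgroupClass σ A] (𝒜 : ℕ → σ) [GradedRing 𝒜]
variable {M τ : Type u} [AddCommGroup M] [Module A M] [SetLike τ M] [AddSubgroupClass τ M]
  (ℳ : ℕ → τ) [DirectSum.Decomposition ℳ] [SetLike.GradedSMul 𝒜 ℳ]

/-- vanishing of a fraction in the localized module -/
theorem exists_smul_eq_zero_of_mk_eq_zero (x : ProjectiveSpectrum 𝒜) (m : M)
    (s : x.asHomogeneousIdeal.toIdeal.primeCompl)
    (h : (LocalizedModule.mk m s : GrMod.LocMod 𝒜 (M := M) x) = 0) :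
    ∃ u : A, u ∉ x.asHomogeneousIdeal ∧ u • m = 0 := by
  rw [← LocalizedModule.zero_mk 1, LocalizedModule.mk_eq] at h
  obtain ⟨u, hu⟩ := h
  refine ⟨u.1, u.2, ?_⟩
  have h2 : u • m = 0 := by simpa using hu
  exact h2

/-- If all stalks `tildeAt` are trivial, `M(n)~` is zero. -/
theorem isZero_tilde_of_subsingleton (n : ℤ)
    (h : ∀ x : ProjectiveSpectrum 𝒜, Subsingleton (GrMod.tildeAt 𝒜 ℳ n x)) :
    Limits.IsZero (GrMod.tilde 𝒜 ℳ n) := by
  rw [Limits.IsZero.iff_id_eq_zero]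
  apply Scheme.Modules.hom_ext
  intro U
  have hsub : Subsingleton (GrMod.sect 𝒜 ℳ n (op U)) := by
    constructor
    intro a b
    apply Subtype.ext
    funext x
    exact (h x.1).elim _ _
  ext s
  exact hsub.elim _ _

/-- If every element of `M` is killed by a power of every homogeneous element of positive
degree, all the localizations `M_x`, `x ∈ Proj`, vanish. -/
theorem subsingleton_locMod_of_locally_nilpotent
    (h : ∀ (z : M) (d : ℕ) (f : A), 0 < d → f ∈ 𝒜 d → ∃ k : ℕ, f ^ k • z = 0)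
    (x : ProjectiveSpectrum 𝒜) : Subsingleton (GrMod.LocMod 𝒜 (M := M) x) := by
  obtain ⟨d, hd, f, hf, hx⟩ :=
    Groth.Agent.Lib.Proj.GrGlue.exists_pos_homogeneous_mem_basicOpen 𝒜 x
  replace hx : f ∉ x.asHomogeneousIdeal := hx
  have hzero : ∀ q : GrMod.LocMod 𝒜 (M := M) x, q = 0 := by
    intro q
    induction q using LocalizedModule.induction_on with
    | h z t =>
      obtain ⟨k, hk⟩ := h z d f hd hf
      rw [← LocalizedModule.zero_mk 1, LocalizedModule.mk_eq]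
      refine ⟨⟨f ^ k, fun hmem => hx (x.isPrime.mem_of_pow_mem k hmem)⟩, ?_⟩
      show f ^ k • (1 : x.asHomogeneousIdeal.toIdeal.primeCompl) • z = f ^ k • t • (0 : M)
      rw [one_smul, hk, smul_zero, smul_zero]
  exact ⟨fun a b => by rw [hzero a, hzero b]⟩

theorem frac_mem_tildeAt (n : ℤ) {i j : ℕ} (m : ℳ i) (s : 𝒜 j) (hij : (i : ℤ) = j + n)
    (y : ProjectiveSpectrum 𝒜) (hy : (s : A) ∉ y.asHomogeneousIdeal) :
    (LocalizedModule.mk (m : M) ⟨(s : A), hy⟩ : GrMod.LocMod 𝒜 (M := M) y) ∈ GrMod.tildeAt 𝒜 ℳ n y :=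
  Submodule.subset_span ⟨i, j, m, s, hy, hij, rfl⟩

/-- The section `m / s` of `M(n)~` over `D₊(s)`. -/
noncomputable def fracSect (n : ℤ) {i j : ℕ} (m : ℳ i) (s : 𝒜 j) (hij : (i : ℤ) = j + n) :
    GrMod.sect 𝒜 ℳ n (op (ProjectiveSpectrum.basicOpen 𝒜 (s : A))) :=
  ⟨fun y => ⟨LocalizedModule.mk (m : M) ⟨(s : A), y.2⟩, frac_mem_tildeAt 𝒜 ℳ n m s hij y.1 y.2⟩,
    fun y => ⟨ProjectiveSpectrum.basicOpen 𝒜 (s : A), y.2, 𝟙 _, i, j, m, s, fun z => z.2, Or.inl hij,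
      fun _ => rfl⟩⟩

theorem fracSect_apply (n : ℤ) {i j : ℕ} (m : ℳ i) (s : 𝒜 j) (hij : (i : ℤ) = j + n)
    (y : ProjectiveSpectrum.basicOpen 𝒜 (s : A)) :
    (((fracSect 𝒜 ℳ n m s hij).1 y : GrMod.tildeAt 𝒜 ℳ n y.1) : GrMod.LocMod 𝒜 (M := M) y.1) =
      LocalizedModule.mk (m : M) ⟨(s : A), y.2⟩ := rfl

/-- **Sections of `M(n)~` over `D₊(f)` are single fractions `m / f ^ k`.** -/
theorem exists_frac (n : ℤ) {d : ℕ} (hd : 0 < d) {f : A} (hf : f ∈ 𝒜 d)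
    (s : GrMod.sect 𝒜 ℳ n (op (ProjectiveSpectrum.basicOpen 𝒜 f))) :
    ∃ (k i : ℕ) (m : ℳ i), (i : ℤ) = k * d + n ∧
      ∀ x : ProjectiveSpectrum.basicOpen 𝒜 f,
        ((s.1 x : GrMod.tildeAt 𝒜 ℳ n x.1) : GrMod.LocMod 𝒜 (M := M) x.1) =
          (LocalizedModule.mk (m : M) ⟨f ^ k, fun h => (ProjectiveSpectrum.mem_basicOpen 𝒜 f x.1).mp x.2
            (x.1.isPrime.mem_of_pow_mem k h)⟩ : GrMod.LocMod 𝒜 (M := M) x.1) := by
  classical
  have hloc : ∀ x : ProjectiveSpectrum.basicOpen 𝒜 f, ∃ (e : ℕ) (h : A) (i : ℕ) (m : M), 0 < e ∧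
      h ∈ 𝒜 e ∧ m ∈ ℳ i ∧ (i : ℤ) = e + n ∧ h ∉ x.1.asHomogeneousIdeal ∧
      ∀ (y : ProjectiveSpectrum 𝒜) (hy : h ∉ y.asHomogeneousIdeal),
        ∃ hyf : y ∈ ProjectiveSpectrum.basicOpen 𝒜 f,
          ((s.1 ⟨y, hyf⟩ : GrMod.tildeAt 𝒜 ℳ n y) : GrMod.LocMod 𝒜 (M := M) y) =
            LocalizedModule.mk m ⟨h, hy⟩ := by
    intro x
    obtain ⟨V, hxV, iV, i', j', ⟨m', hm'⟩, ⟨s', hs'⟩, s'_nin, hdeg, hw⟩ := s.2 x
    obtain ⟨e', he'pos, h', hh', hxh', hle⟩ :=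
      Groth.Agent.Lib.Proj.GrGlue.exists_pos_homogeneous_basicOpen_le 𝒜 x.1 V hxV
    have hxh'' : h' ∉ x.1.asHomogeneousIdeal := hxh'
    have hxs' : s' ∉ x.1.asHomogeneousIdeal := s'_nin ⟨x.1, hxV⟩
    rcases hdeg with hdeg | hdeg
    · refine ⟨e' + j', h' * s', e' + i', h' • m', by omega, SetLike.mul_mem_graded hh' hs',
        SetLike.GradedSMul.smul_mem hh' hm', by push_cast; omega,
        fun hh => (x.1.isPrime.mem_or_mem hh).elim hxh'' hxs', ?_⟩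
      intro y hy
      have hyh' : h' ∉ y.asHomogeneousIdeal := fun hh => hy (Ideal.mul_mem_right _ _ hh)
      have hyV : y ∈ V := hle hyh'
      refine ⟨iV.le hyV, ?_⟩
      have h1 := hw ⟨y, hyV⟩
      refine h1.trans ?_
      rw [LocalizedModule.mk_eq]
      refine ⟨1, ?_⟩
      simp only [one_smul, Submonoid.smul_def, mul_smul]
      rw [smul_comm]
    · refine ⟨(n.natAbs + 1) * (e' + j'), (h' * s') ^ (n.natAbs + 1),
        (((n.natAbs + 1) * (e' + j') : ℕ) + n).toNat, 0, by positivity, ?_, zero_mem _, ?_,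
        fun hh => (x.1.isPrime.mem_or_mem (x.1.isPrime.mem_of_pow_mem _ hh)).elim hxh'' hxs', ?_⟩
      · have := SetLike.pow_mem_graded (n.natAbs + 1) (SetLike.mul_mem_graded hh' hs')
        simpa [smul_eq_mul] using this
      · rw [Int.toNat_of_nonneg]
        have h1 : n.natAbs + 1 ≤ (n.natAbs + 1) * (e' + j') :=
          Nat.le_mul_of_pos_right _ (by omega)
        generalize (n.natAbs + 1) * (e' + j') = X at h1 ⊢
        omega
      · intro y hy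
        have hyh' : h' ∉ y.asHomogeneousIdeal := fun hh =>
          hy (Ideal.pow_mem_of_mem _ (Ideal.mul_mem_right _ _ hh) _ (by omega))
        have hyV : y ∈ V := hle hyh'
        refine ⟨iV.le hyV, ?_⟩
        have h1 := hw ⟨y, hyV⟩
        refine h1.trans ?_
        change LocalizedModule.mk m' _ = _
        have hm0 : m' = 0 := hdeg
        rw [hm0, LocalizedModule.zero_mk, LocalizedModule.zero_mk]
  choose e h i m hpos hhe hmi hdeg hx hrep using hloc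
  have hcpt : IsCompact (ProjectiveSpectrum.basicOpen 𝒜 f : Set (ProjectiveSpectrum 𝒜)) :=
    (Proj.isAffineOpen_basicOpen 𝒜 f hf hd).isCompact
  obtain ⟨t, ht⟩ := hcpt.elim_nhds_subcover'
    (fun x hx => (ProjectiveSpectrum.basicOpen 𝒜 (h ⟨x, hx⟩) : Set (ProjectiveSpectrum 𝒜)))
    (fun x hxf => (ProjectiveSpectrum.basicOpen 𝒜 (h ⟨x, hxf⟩)).isOpen.mem_nhds (hx ⟨x, hxf⟩))
  obtain ⟨K, I, mf, hmf, hI, hglue⟩ := Groth.Agent.Lib.Proj.GrGlue.exists_glue 𝒜 ℳ (T := ↥t) n hd hf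
    (fun x => h x.1) (fun x => e x.1) (fun x => hhe x.1) (fun x => hpos x.1)
    (fun x => m x.1) (fun x => i x.1) (fun x => hmi x.1) (fun x => hdeg x.1)
    (fun z hz => by
      have hz' : z ∈ (ProjectiveSpectrum.basicOpen 𝒜 f : Set (ProjectiveSpectrum 𝒜)) := hz
      obtain ⟨x, hxt, hzx⟩ := Set.mem_iUnion₂.mp (ht hz')
      exact ⟨⟨x, hxt⟩, hzx⟩)
    (fun x y z hzx hzy => by
      obtain ⟨hzf, h1⟩ := hrep x.1 z hzx
      obtain ⟨_, h2⟩ := hrep y.1 z hzy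
      have h3 := h1.symm.trans h2
      rw [LocalizedModule.mk_eq] at h3
      obtain ⟨u, hu⟩ := h3
      refine ⟨u.1, u.2, ?_⟩
      rw [smul_sub, sub_eq_zero]
      simpa [Submonoid.smul_def] using hu)
  refine ⟨K, I, ⟨mf, hmf⟩, hI, fun z => ?_⟩
  obtain ⟨x, hxt, hzx⟩ := Set.mem_iUnion₂.mp (ht z.2)
  obtain ⟨hzf, h1⟩ := hrep x z.1 hzx
  refine h1.trans ?_
  rw [LocalizedModule.mk_eq]
  obtain ⟨N, hN⟩ := hglue ⟨x, hxt⟩
  refine ⟨⟨h x ^ N, fun hh => hzx (z.1.isPrime.mem_of_pow_mem _ hh)⟩, ?_⟩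
  simp only [Submonoid.smul_def]
  rw [smul_sub, sub_eq_zero] at hN
  exact hN.symm

end Groth.Agent.Lib.Proj.GrModSections
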