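import Mathlib

/-!
# Homogeneous localization commutes with base change (lead)

ns `Groth.Agent.Lib.Proj.AwayBaseChange`.
-/

universe u
open HomogeneousLocalization TensorProduct

namespace Groth.Agent.Lib.Proj.AwayBaseChange

section Generic

variable {C : Type u} [CommRing C] {σ : Type*} [SetLike σ C] [AddSubgroupClass σ C]
  (𝒞 : ℕ → σ) [GradedRing 𝒞] {d : ℕ} {g : C} (hg : g ∈ 𝒞 d)

/-- `c ↦ c_{md} / g^m` -/
noncomputable def mkp (m : ℕ) (c : C) : Away 𝒞 g :=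
  Away.mk 𝒞 hg m (DirectSum.decompose 𝒞 c (m • d)) (SetLike.coe_mem _)

lemma val_mkp (m : ℕ) (c : C) : (mkp 𝒞 hg m c).val =
    Localization.mk ((DirectSum.decompose 𝒞 c (m • d) : C))
      (⟨g ^ m, ⟨m, rfl⟩⟩ : Submonoid.powers g) := Away.val_mk ..

lemma mkp_add (m : ℕ) (c c' : C) : mkp 𝒞 hg m (c + c') = mkp 𝒞 hg m c + mkp 𝒞 hg m c' := by
  apply HomogeneousLocalization.val_injective
  rw [HomogeneousLocalization.val_add, val_mkp, val_mkp, val_mkp, DirectSum.decompose_add,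
    DirectSum.add_apply, AddMemClass.coe_add, Localization.add_mk_self]

lemma mkp_zero (m : ℕ) : mkp 𝒞 hg m 0 = 0 := by
  apply HomogeneousLocalization.val_injective
  rw [HomogeneousLocalization.val_zero, val_mkp, DirectSum.decompose_zero, DirectSum.zero_apply,
    ZeroMemClass.coe_zero, Localization.mk_zero]

lemma mkp_of_mem (m : ℕ) (c : C) (hc : c ∈ 𝒞 (m • d)) :
    mkp 𝒞 hg m c = Away.mk 𝒞 hg m c hc := by
  apply HomogeneousLocalization.val_injective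
  rw [val_mkp, Away.val_mk, DirectSum.decompose_of_mem_same 𝒞 hc]

lemma mkp_proj (m : ℕ) (c : C) :
    mkp 𝒞 hg m (DirectSum.decompose 𝒞 c (m • d) : C) = mkp 𝒞 hg m c := by
  rw [mkp_of_mem 𝒞 hg m _ (SetLike.coe_mem _)]
  rfl

lemma mkp_pow_mul (m k : ℕ) (c : C) : mkp 𝒞 hg (m + k) (g ^ k * c) = mkp 𝒞 hg m c := by
  apply HomogeneousLocalization.val_injective
  rw [val_mkp, val_mkp]
  have h1 : (m + k) • d = k • d + m • d := by rw [add_smul, add_comm]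
  rw [h1, DirectSum.coe_decompose_mul_add_of_left_mem 𝒞 (SetLike.pow_mem_graded k hg)]
  rw [Localization.mk_eq_mk_iff, Localization.r_iff_exists]
  refine ⟨1, ?_⟩
  simp only [OneMemClass.coe_one, one_mul]
  ring

lemma fromZero_mul_mkp (m : ℕ) (r₀ : 𝒞 0) (c : C) :
    fromZeroRingHom 𝒞 _ r₀ * mkp 𝒞 hg m c = mkp 𝒞 hg m (r₀ * c) := by
  apply HomogeneousLocalization.val_injective
  rw [HomogeneousLocalization.val_mul, val_mkp, val_mkp,
    DirectSum.coe_decompose_mul_of_left_mem_zero 𝒞 r₀.2]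
  have h1 : (fromZeroRingHom 𝒞 (Submonoid.powers g) r₀).val = Localization.mk (r₀ : C) 1 := rfl
  rw [h1, Localization.mk_mul, one_mul]

end Generic

section Map

variable {A B : Type u} [CommRing A] [CommRing B] {σ τ : Type*} [SetLike σ A]
  [AddSubgroupClass σ A] [SetLike τ B] [AddSubgroupClass τ B] {𝒜 : ℕ → σ} {ℬ : ℕ → τ}
  [GradedRing 𝒜] [GradedRing ℬ] (φ : ℬ →+*ᵍ 𝒜) {d : ℕ} {g : B} (hg : g ∈ ℬ d)

lemma map_mkp (m : ℕ) (b : B) :
    Away.map φ g (mkp ℬ hg m b) = mkp 𝒜 (GradedFunLike.map_mem φ hg) m (φ b) := by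
  unfold mkp
  rw [Away.map_mk]
  congr 1
  exact GradedRingHom.map_directSumDecompose _ _ φ

end Map

section Generic'

variable {C : Type u} [CommRing C] {σ : Type*} [SetLike σ C] [AddSubgroupClass σ C]
  (𝒞 : ℕ → σ) [GradedRing 𝒞] {d : ℕ} {g : C} (hg : g ∈ 𝒞 d)

lemma fromZero_eq_mk (r₀ : 𝒞 0) :
    fromZeroRingHom 𝒞 (Submonoid.powers g) r₀ =
      Away.mk 𝒞 hg 0 r₀ (by rw [zero_smul]; exact r₀.2) := by
  apply HomogeneousLocalization.val_injective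
  rw [Away.val_mk]
  have h1 : (fromZeroRingHom 𝒞 (Submonoid.powers g) r₀).val = Localization.mk (r₀ : C) 1 := rfl
  rw [h1]
  congr 1
  exact Subtype.ext (pow_zero g).symm

end Generic'

section BaseChange

variable {R R' A B : Type u} [CommRing R'] [CommRing R] [Algebra R' R]
  [CommRing B] [Algebra R' B] (ℬ : ℕ → Submodule R' B) [GradedAlgebra ℬ]
  [CommRing A] [Algebra R A] [Algebra R' A] [IsScalarTower R' R A] (𝒜 : ℕ → Submodule R A)
  [GradedAlgebra 𝒜] [Algebra B A] [IsScalarTower R' B A] [Algebra.IsPushout R' R B A]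
  (φ : ℬ →+*ᵍ 𝒜) (hφA : ∀ b : B, φ b = algebraMap B A b) {d : ℕ} {g : B} (hg : g ∈ ℬ d)

/-- the `R'`-algebra structure on `B_(g)` -/
@[reducible] noncomputable def algAway (g : B) : Algebra R' (Away ℬ g) :=
  ((fromZeroRingHom ℬ (Submonoid.powers g)).comp (algebraMap R' (ℬ 0))).toAlgebra

/-- the ring map `R → A_(a)` -/
noncomputable def iR (a : A) : R →+* Away 𝒜 a :=
  (fromZeroRingHom 𝒜 (Submonoid.powers a)).comp (algebraMap R (𝒜 0))

/-- the `R'`-algebra structure on `A_(a)` -/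
@[reducible] noncomputable def algAwayA (a : A) : Algebra R' (Away 𝒜 a) :=
  ((iR 𝒜 a).comp (algebraMap R' R)).toAlgebra

attribute [local instance] algAway algAwayA

/-- `b ↦ b_{md} / g^m` as an `R'`-linear map -/
noncomputable def μ' (m : ℕ) : B →ₗ[R'] Away ℬ g where
  toFun := mkp ℬ hg m
  map_add' := mkp_add ℬ hg m
  map_smul' r b := by
    show mkp ℬ hg m (r • b) = algebraMap R' (Away ℬ g) r * mkp ℬ hg m b
    rw [Algebra.smul_def]
    exact (fromZero_mul_mkp ℬ hg m (algebraMap R' (ℬ 0) r) b).symm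

/-- `id ⊗ μ'` -/
noncomputable def M (m : ℕ) : R ⊗[R'] B →ₗ[R'] R ⊗[R'] Away ℬ g :=
  LinearMap.lTensor R (μ' ℬ hg m)

/-- multiplication by `g^k` on `R ⊗ B` -/
noncomputable def G (g : B) (k : ℕ) : R ⊗[R'] B →ₗ[R'] R ⊗[R'] B :=
  LinearMap.lTensor R (LinearMap.mulLeft R' (g ^ k))

/-- the projection onto degree `i` on `R ⊗ B` -/
noncomputable def P (i : ℕ) : R ⊗[R'] B →ₗ[R'] R ⊗[R'] B :=
  LinearMap.lTensor R (GradedAlgebra.proj ℬ i)

lemma M_G (m k : ℕ) (s : R ⊗[R'] B) : M ℬ hg (m + k) (G (R := R) g k s) = M ℬ hg m s := by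
  have h : μ' ℬ hg (m + k) ∘ₗ LinearMap.mulLeft R' (g ^ k) = μ' ℬ hg m := by
    refine LinearMap.ext fun b => ?_
    exact mkp_pow_mul ℬ hg m k b
  unfold M G
  rw [← LinearMap.comp_apply, ← LinearMap.lTensor_comp, h]

lemma M_P (m : ℕ) (s : R ⊗[R'] B) : M ℬ hg m (P (R := R) ℬ (m • d) s) = M ℬ hg m s := by
  have h : μ' ℬ hg m ∘ₗ GradedAlgebra.proj ℬ (m • d) = μ' ℬ hg m := by
    refine LinearMap.ext fun b => ?_
    exact mkp_proj ℬ hg m b
  unfold M P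
  rw [← LinearMap.comp_apply, ← LinearMap.lTensor_comp, h]

/-- every element of `R ⊗ B_(g)` comes from `R ⊗ B` -/
lemma exists_M (t : R ⊗[R'] Away ℬ g) : ∃ (m : ℕ) (s : R ⊗[R'] B), M ℬ hg m s = t := by
  induction t using TensorProduct.induction_on with
  | zero => exact ⟨0, 0, map_zero _⟩
  | tmul r x =>
    obtain ⟨m, b, hb, rfl⟩ := Away.mk_surjective ℬ hg x
    refine ⟨m, r ⊗ₜ b, ?_⟩
    show r ⊗ₜ[R'] (mkp ℬ hg m b) = _
    rw [mkp_of_mem ℬ hg m b hb]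
  | add t₁ t₂ h₁ h₂ =>
    obtain ⟨m₁, s₁, rfl⟩ := h₁
    obtain ⟨m₂, s₂, rfl⟩ := h₂
    refine ⟨m₁ + m₂, G g m₂ s₁ + G g m₁ s₂, ?_⟩
    rw [map_add, M_G]
    rw [add_comm m₁ m₂, M_G]

include hφA hg in
lemma map_algebraMap (r : R') :
    Away.map φ g (algebraMap R' (Away ℬ g) r) = algebraMap R' (Away 𝒜 (φ g)) r := by
  show Away.map φ g (fromZeroRingHom ℬ _ (algebraMap R' (ℬ 0) r)) =
    fromZeroRingHom 𝒜 _ (algebraMap R (𝒜 0) (algebraMap R' R r))
  rw [fromZero_eq_mk ℬ hg, fromZero_eq_mk 𝒜 (GradedFunLike.map_mem φ hg), Away.map_mk]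
  congr 1
  show φ (algebraMap R' B r) = algebraMap R A (algebraMap R' R r)
  rw [hφA, ← IsScalarTower.algebraMap_apply, ← IsScalarTower.algebraMap_apply]

/-- `R → A_(φ g)` as an `R'`-algebra map -/
noncomputable def iRₐ (a : A) : R →ₐ[R'] Away 𝒜 a :=
  { iR 𝒜 a with commutes' := fun _ => rfl }

/-- `B_(g) → A_(φ g)` as an `R'`-algebra map -/
noncomputable def mapₐ : Away ℬ g →ₐ[R'] Away 𝒜 (φ g) :=
  { Away.map φ g with commutes' := map_algebraMap ℬ 𝒜 φ hφA hg }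

/-- the comparison map `R ⊗ B_(g) → A_(φ g)` -/
noncomputable def Γ : R ⊗[R'] Away ℬ g →ₐ[R'] Away 𝒜 (φ g) :=
  Algebra.TensorProduct.productMap (iRₐ 𝒜 (φ g)) (mapₐ ℬ 𝒜 φ hφA hg)

lemma Γ_tmul (r : R) (x : Away ℬ g) :
    Γ ℬ 𝒜 φ hφA hg (r ⊗ₜ x) = iR 𝒜 (φ g) r * Away.map φ g x :=
  Algebra.TensorProduct.productMap_apply_tmul ..

/-- the key formula -/
lemma Γ_M (m : ℕ) (s : R ⊗[R'] B) :
    Γ ℬ 𝒜 φ hφA hg (M ℬ hg m s) =
      mkp 𝒜 (GradedFunLike.map_mem φ hg) m (Algebra.IsPushout.equiv R' R B A s) := by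
  induction s using TensorProduct.induction_on with
  | zero => rw [map_zero, map_zero, map_zero, mkp_zero]
  | tmul r b =>
    have h1 : M ℬ hg m (r ⊗ₜ[R'] b) = r ⊗ₜ[R'] mkp ℬ hg m b := rfl
    rw [h1, Γ_tmul, map_mkp, Algebra.IsPushout.equiv_tmul, ← hφA]
    exact fromZero_mul_mkp 𝒜 (GradedFunLike.map_mem φ hg) m (algebraMap R (𝒜 0) r) (φ b)
  | add s₁ s₂ h₁ h₂ => rw [map_add, map_add, map_add, mkp_add, h₁, h₂]

include hφA in
lemma equiv_G (k : ℕ) (s : R ⊗[R'] B) :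
    Algebra.IsPushout.equiv R' R B A (G g k s) =
      φ g ^ k * Algebra.IsPushout.equiv R' R B A s := by
  induction s using TensorProduct.induction_on with
  | zero => rw [map_zero, map_zero, mul_zero]
  | tmul r b =>
    have h1 : G g k (r ⊗ₜ[R'] b) = r ⊗ₜ[R'] (g ^ k * b) := rfl
    rw [h1, Algebra.IsPushout.equiv_tmul, Algebra.IsPushout.equiv_tmul, map_mul, map_pow,
      ← hφA]
    ring
  | add s₁ s₂ h₁ h₂ => simp only [map_add]; rw [mul_add, h₁, h₂]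

include hφA in
lemma equiv_P (i : ℕ) (s : R ⊗[R'] B) :
    Algebra.IsPushout.equiv R' R B A (P ℬ i s) =
      (DirectSum.decompose 𝒜 (Algebra.IsPushout.equiv R' R B A s) i : A) := by
  induction s using TensorProduct.induction_on with
  | zero =>
    rw [map_zero, map_zero, DirectSum.decompose_zero, DirectSum.zero_apply,
      ZeroMemClass.coe_zero]
  | tmul r b =>
    have h1 : P ℬ i (r ⊗ₜ[R'] b) = r ⊗ₜ[R'] ((DirectSum.decompose ℬ b i : B)) := rfl
    rw [h1, Algebra.IsPushout.equiv_tmul, Algebra.IsPushout.equiv_tmul, ← hφA, ← hφA,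
      GradedRingHom.map_directSumDecompose _ _ φ, ← Algebra.smul_def, ← Algebra.smul_def,
      DirectSum.decompose_smul, DirectSum.smul_apply, Submodule.coe_smul]
  | add s₁ s₂ h₁ h₂ =>
    simp only [map_add]
    rw [h₁, h₂, DirectSum.decompose_add, DirectSum.add_apply, AddMemClass.coe_add]

include hφA in
theorem Γ_injective : Function.Injective (Γ ℬ 𝒜 φ hφA hg) := by
  rw [injective_iff_map_eq_zero]
  intro t ht
  obtain ⟨m, s, rfl⟩ := exists_M ℬ hg t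
  rw [Γ_M] at ht
  have h1 := congrArg HomogeneousLocalization.val ht
  rw [val_mkp, HomogeneousLocalization.val_zero, Localization.mk_eq_mk',
    IsLocalization.mk'_eq_zero_iff] at h1
  obtain ⟨⟨_, N, rfl⟩, hN⟩ := h1
  rw [← M_G ℬ hg m N s, ← M_P ℬ hg (m + N)]
  have h2 : P (R := R) ℬ ((m + N) • d) (G g N s) = 0 := by
    apply (Algebra.IsPushout.equiv R' R B A).injective
    rw [map_zero, equiv_P ℬ 𝒜 φ hφA, equiv_G ℬ 𝒜 φ hφA]
    have h3 : (m + N) • d = N • d + m • d := by rw [add_smul, add_comm]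
    rw [h3, DirectSum.coe_decompose_mul_add_of_left_mem 𝒜
      (SetLike.pow_mem_graded N (GradedFunLike.map_mem φ hg))]
    exact hN
  rw [h2, map_zero]

theorem Γ_surjective : Function.Surjective (Γ ℬ 𝒜 φ hφA hg) := by
  intro y
  obtain ⟨m, a, ha, rfl⟩ := Away.mk_surjective 𝒜 (GradedFunLike.map_mem φ hg) y
  refine ⟨M ℬ hg m ((Algebra.IsPushout.equiv R' R B A).symm a), ?_⟩
  rw [Γ_M, AlgEquiv.apply_symm_apply, mkp_of_mem 𝒜 _ m a ha]

include hφA in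
/-- **homogeneous localization commutes with base change** -/
noncomputable def ringEquiv : R ⊗[R'] Away ℬ g ≃+* Away 𝒜 (φ g) :=
  RingEquiv.ofBijective (Γ ℬ 𝒜 φ hφA hg)
    ⟨Γ_injective ℬ 𝒜 φ hφA hg, Γ_surjective ℬ 𝒜 φ hφA hg⟩

lemma ringEquiv_tmul (r : R) (x : Away ℬ g) :
    ringEquiv ℬ 𝒜 φ hφA hg (r ⊗ₜ x) = iR 𝒜 (φ g) r * Away.map φ g x :=
  Γ_tmul ℬ 𝒜 φ hφA hg r x

end BaseChange

end Groth.Agent.Lib.Proj.AwayBaseChange
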