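import Mathlib
import Groth.Agent.Lib.Proj.AwayLaurent

/-!
# `Â_(f) ≃ A_(f)[X]` for `Â = A[z]`, `z` and `f` of degree one (lead)

ns `Groth.Agent.Lib.Proj.AwayPoly`.
-/

universe u
open HomogeneousLocalization Polynomial

namespace Groth.Agent.Lib.Proj.AwayPoly

open Groth.Agent.Lib.Proj.AwayLaurent

variable {R A B : Type u} [CommRing R] [CommRing A] [Algebra R A] (𝒜 : ℕ → Submodule R A)
  [GradedAlgebra 𝒜] [CommRing B] [Algebra R B] (ℬ : ℕ → Submodule R B) [GradedAlgebra ℬ]
  [Algebra A B] (φ : 𝒜 →+*ᵍ ℬ) (hφ : ∀ a : A, φ a = algebraMap A B a) (z : B) (hz : z ∈ ℬ 1)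
  {f : A} (hf : f ∈ 𝒜 1)

/-- `z / φ f` -/
noncomputable def w : Away ℬ (φ f) := mk1 ℬ (GradedFunLike.map_mem φ hf) 1 z hz

/-- the comparison map `A_(f)[X] → B_(φ f)` -/
noncomputable def α : (Away 𝒜 f)[X] →+* Away ℬ (φ f) :=
  Polynomial.eval₂RingHom (Away.map φ f) (w 𝒜 ℬ φ z hz hf)

lemma α_C (c : Away 𝒜 f) : α 𝒜 ℬ φ z hz hf (C c) = Away.map φ f c := by
  simp [α]

lemma α_X : α 𝒜 ℬ φ z hz hf X = w 𝒜 ℬ φ z hz hf := by
  simp [α]

lemma map_mk1 (i : ℕ) (a : A) (ha : a ∈ 𝒜 i) :
    Away.map φ f (mk1 𝒜 hf i a ha) =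
      mk1 ℬ (GradedFunLike.map_mem φ hf) i (φ a) (GradedFunLike.map_mem φ ha) := by
  unfold mk1
  rw [Away.map_mk]

lemma w_pow (j : ℕ) :
    (w 𝒜 ℬ φ z hz hf) ^ j = mk1 ℬ (GradedFunLike.map_mem φ hf) j (z ^ j)
      (by simpa using SetLike.pow_mem_graded j hz) := by
  apply HomogeneousLocalization.val_injective
  rw [HomogeneousLocalization.val_pow, w, val_mk1, val_mk1, Localization.mk_pow]
  congr 1
  apply Subtype.ext
  simp

/-- the basic elements are in the range -/
lemma mk1_mul_mem_range (i j : ℕ) (a : A) (ha : a ∈ 𝒜 i) :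
    mk1 ℬ (GradedFunLike.map_mem φ hf) (i + j) (φ a * z ^ j)
      (SetLike.mul_mem_graded (GradedFunLike.map_mem φ ha)
        (by simpa using SetLike.pow_mem_graded j hz)) ∈ (α 𝒜 ℬ φ z hz hf).range := by
  refine ⟨C (mk1 𝒜 hf i a ha) * X ^ j, ?_⟩
  rw [map_mul, map_pow, α_C, α_X, map_mk1, w_pow, ← mk1_mul]

include hφ in
/-- surjectivity of `α` -/
lemma α_surjective (hsurj : Function.Surjective (Polynomial.aeval (R := A) z)) :
    Function.Surjective (α 𝒜 ℬ φ z hz hf) := by
  classical
  intro x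
  obtain ⟨n, b, hb, rfl⟩ := Away.mk_surjective ℬ (GradedFunLike.map_mem φ hf) x
  have hb' : b ∈ ℬ n := by rw [smul_eq_mul, mul_one] at hb; exact hb
  show mk1 ℬ (GradedFunLike.map_mem φ hf) n b hb' ∈ (α 𝒜 ℬ φ z hz hf).range
  -- the additive submonoid of good numerators
  let T : AddSubmonoid B :=
    { carrier := {b | ∃ hb : b ∈ ℬ n, mk1 ℬ (GradedFunLike.map_mem φ hf) n b hb ∈
        (α 𝒜 ℬ φ z hz hf).range}
      zero_mem' := ⟨zero_mem _, by rw [mk1_zero]; exact zero_mem _⟩
      add_mem' := by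
        rintro b₁ b₂ ⟨h₁, h₁'⟩ ⟨h₂, h₂'⟩
        refine ⟨add_mem h₁ h₂, ?_⟩
        rw [mk1_add ℬ (GradedFunLike.map_mem φ hf) n b₁ b₂ h₁ h₂]
        exact add_mem h₁' h₂' }
  suffices h : b ∈ T by
    obtain ⟨_, h'⟩ := h
    exact h'
  obtain ⟨q, rfl⟩ := hsurj b
  have h1 : (Polynomial.aeval z q : B) =
      ((DirectSum.decompose ℬ (Polynomial.aeval z q) n : ℬ n) : B) :=
    (DirectSum.decompose_of_mem_same ℬ hb').symm
  rw [h1, Polynomial.aeval_eq_sum_range, DirectSum.decompose_sum, DFinsupp.finsetSum_apply,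
    AddSubmonoidClass.coe_finsetSum]
  refine AddSubmonoid.sum_mem T fun j _ => ?_
  have hzj : z ^ j ∈ ℬ j := by simpa using SetLike.pow_mem_graded j hz
  rw [Algebra.smul_def, ← hφ]
  by_cases hjn : j ≤ n
  · rw [DirectSum.coe_decompose_mul_of_right_mem_of_le ℬ hzj hjn,
      ← GradedRingHom.map_directSumDecompose]
    have ha : (DirectSum.decompose 𝒜 (q.coeff j) (n - j) : A) ∈ 𝒜 (n - j) := SetLike.coe_mem _
    have h2 := mk1_mul_mem_range 𝒜 ℬ φ z hz hf (n - j) j _ ha
    have hnj : n - j + j = n := Nat.sub_add_cancel hjn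
    have key : ∀ {m n : ℕ} (_ : m = n) (b : B) (hb : b ∈ ℬ m)
        (_ : mk1 ℬ (GradedFunLike.map_mem φ hf) m b hb ∈ (α 𝒜 ℬ φ z hz hf).range),
        ∃ hb' : b ∈ ℬ n, mk1 ℬ (GradedFunLike.map_mem φ hf) n b hb' ∈
          (α 𝒜 ℬ φ z hz hf).range := by
      intro m n h b hb hr
      subst h
      exact ⟨hb, hr⟩
    exact key hnj _ _ h2
  · rw [DirectSum.coe_decompose_mul_of_right_mem_of_not_le ℬ hzj hjn]
    exact T.zero_mem

section Injective

/-- `X ↦ X / f` on `A_f[X]` -/
noncomputable def σ (f : A) : (Localization.Away f)[X] →+* (Localization.Away f)[X] :=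
  Polynomial.eval₂RingHom C (C (IsLocalization.Away.invSelf (S := Localization.Away f) f) * X)

lemma σ_injective (f : A) : Function.Injective (σ f) := by
  let τ : (Localization.Away f)[X] →+* (Localization.Away f)[X] :=
    Polynomial.eval₂RingHom C (C (algebraMap A (Localization.Away f) f) * X)
  have h : τ.comp (σ f) = RingHom.id _ := by
    apply Polynomial.ringHom_ext
    · intro a
      simp [σ, τ]
    · simp only [σ, τ, RingHom.comp_apply, Polynomial.coe_eval₂RingHom, Polynomial.eval₂_X,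
        Polynomial.eval₂_mul, Polynomial.eval₂_C, RingHom.id_apply]
      have hinv : IsLocalization.Away.invSelf (S := Localization.Away f) f *
          algebraMap A (Localization.Away f) f = 1 := by
        rw [mul_comm]; exact IsLocalization.Away.mul_invSelf f
      rw [← mul_assoc, ← C_mul, mul_comm, hinv, C_1, mul_one]
  exact Function.LeftInverse.injective (g := τ) (fun x => RingHom.congr_fun h x)

/-- `A_f → B_(φ f)` -/
noncomputable def lam : Localization.Away f →+* Localization.Away (φ f) :=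
  IsLocalization.Away.lift f (g := (algebraMap B (Localization.Away (φ f))).comp (φ : A →+* B))
    (IsLocalization.Away.algebraMap_isUnit (φ f))

lemma lam_algebraMap (a : A) :
    lam 𝒜 ℬ φ (f := f) (algebraMap A _ a) = algebraMap B (Localization.Away (φ f)) (φ a) :=
  IsLocalization.Away.lift_eq ..

/-- `A_f[X] → B_(φ f)`, `X ↦ z` -/
noncomputable def Ξ : (Localization.Away f)[X] →+* Localization.Away (φ f) :=
  Polynomial.eval₂RingHom (lam 𝒜 ℬ φ (f := f)) (algebraMap B (Localization.Away (φ f)) z)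

include hφ in
lemma Ξ_injective (hinj : Function.Injective (Polynomial.aeval (R := A) z)) :
    Function.Injective (Ξ 𝒜 ℬ φ z (f := f)) := by
  rw [injective_iff_map_eq_zero]
  intro P hP
  obtain ⟨b, hb, hbP⟩ := IsLocalization.integerNormalization_spec (Submonoid.powers f) P
  have h1 := IsLocalization.integerNormalization_eval₂_eq_zero (Submonoid.powers f)
    (lam 𝒜 ℬ φ (f := f)) P (x := algebraMap B (Localization.Away (φ f)) z) hP
  have h2 : (lam 𝒜 ℬ φ (f := f)).comp (algebraMap A (Localization.Away f)) =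
      (algebraMap B (Localization.Away (φ f))).comp (algebraMap A B) := by
    ext a
    simp only [RingHom.comp_apply]
    rw [lam_algebraMap]
    exact congrArg _ (hφ a)
  rw [h2, ← Polynomial.hom_eval₂] at h1
  -- `aeval z Q` maps to zero in the localization
  obtain ⟨⟨_, k, rfl⟩, hk⟩ := (IsLocalization.map_eq_zero_iff (Submonoid.powers (φ f))
    (Localization.Away (φ f)) _).1 h1
  have h3 : Polynomial.aeval z (C (f ^ k) *
      IsLocalization.integerNormalization (Submonoid.powers f) P) = 0 := by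
    rw [map_mul, Polynomial.aeval_C, ← hφ, map_pow]
    exact hk
  have h4 := (injective_iff_map_eq_zero _).1 hinj _ h3
  have h5 := congrArg (Polynomial.map (algebraMap A (Localization.Away f))) h4
  rw [Polynomial.map_mul, Polynomial.map_C, hbP, Polynomial.map_zero] at h5
  -- cancel the units
  have hu1 : IsUnit (algebraMap A (Localization.Away f) (f ^ k)) :=
    IsLocalization.map_units _ (⟨f ^ k, ⟨k, rfl⟩⟩ : Submonoid.powers f)
  have hu2 : IsUnit (algebraMap A (Localization.Away f) b) :=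
    IsLocalization.map_units _ (⟨b, hb⟩ : Submonoid.powers f)
  rw [Algebra.smul_def, ← mul_assoc] at h5
  have hu3 : IsUnit (C (algebraMap A (Localization.Away f) (f ^ k)) *
      algebraMap A (Localization.Away f)[X] b) := by
    refine IsUnit.mul (Polynomial.isUnit_C.2 hu1) ?_
    rw [IsScalarTower.algebraMap_apply A (Localization.Away f) (Localization.Away f)[X]]
    exact hu2.map _
  exact (hu3.mul_right_eq_zero).1 h5

lemma compat :
    (algebraMap (Away ℬ (φ f)) (Localization.Away (φ f))).comp (α 𝒜 ℬ φ z hz hf) =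
      (Ξ 𝒜 ℬ φ z (f := f)).comp ((σ f).comp
        (Polynomial.mapRingHom (algebraMap (Away 𝒜 f) (Localization.Away f)))) := by
  have hF := GradedFunLike.map_mem φ hf
  apply Polynomial.ringHom_ext
  · intro c
    simp only [RingHom.comp_apply, Polynomial.coe_mapRingHom, Polynomial.map_C]
    rw [α_C]
    have h1 : σ f (C (algebraMap (Away 𝒜 f) (Localization.Away f) c)) =
        C (algebraMap (Away 𝒜 f) (Localization.Away f) c) := by simp [σ]
    rw [h1]
    have h2 : Ξ 𝒜 ℬ φ z (f := f) (C (algebraMap (Away 𝒜 f) (Localization.Away f) c)) =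
        lam 𝒜 ℬ φ (f := f) (algebraMap (Away 𝒜 f) (Localization.Away f) c) := by simp [Ξ]
    rw [h2]
    obtain ⟨n, a, ha, rfl⟩ := Away.mk_surjective 𝒜 hf c
    rw [Away.map_mk, HomogeneousLocalization.algebraMap_apply,
      HomogeneousLocalization.algebraMap_apply, Away.val_mk, Away.val_mk]
    -- both sides times `(φ f)^n` agree
    have hu : IsUnit (algebraMap B (Localization.Away (φ f)) (φ f ^ n)) :=
      IsLocalization.map_units _ (⟨φ f ^ n, ⟨n, rfl⟩⟩ : Submonoid.powers (φ f))
    apply hu.mul_left_injective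
    show Localization.mk (φ a) _ * _ = _ * _
    rw [Localization.mk_eq_mk', IsLocalization.mk'_spec, Localization.mk_eq_mk']
    have h3 : algebraMap B (Localization.Away (φ f)) (φ f ^ n) =
        lam 𝒜 ℬ φ (f := f) (algebraMap A _ (f ^ n)) := by
      rw [lam_algebraMap, map_pow φ f n]
    rw [h3, ← map_mul, IsLocalization.mk'_spec, lam_algebraMap]
  · simp only [RingHom.comp_apply, Polynomial.coe_mapRingHom, Polynomial.map_X]
    rw [α_X]
    have h1 : σ f (X : (Localization.Away f)[X]) =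
        C (IsLocalization.Away.invSelf (S := Localization.Away f) f) * X := by simp [σ]
    rw [h1]
    have h2 : Ξ 𝒜 ℬ φ z (f := f)
        (C (IsLocalization.Away.invSelf (S := Localization.Away f) f) * X) =
        lam 𝒜 ℬ φ (f := f) (IsLocalization.Away.invSelf (S := Localization.Away f) f) *
          algebraMap B (Localization.Away (φ f)) z := by simp [Ξ]
    rw [h2, HomogeneousLocalization.algebraMap_apply, w, val_mk1]
    have hu : IsUnit (algebraMap B (Localization.Away (φ f)) (φ f)) :=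
      IsLocalization.Away.algebraMap_isUnit (φ f)
    apply hu.mul_left_injective
    show Localization.mk z _ * _ = _ * _
    have h4 : algebraMap B (Localization.Away (φ f)) (φ f) =
        algebraMap B (Localization.Away (φ f))
          ((⟨φ f ^ 1, ⟨1, rfl⟩⟩ : Submonoid.powers (φ f)) : B) := by simp
    rw [Localization.mk_eq_mk']
    conv_lhs => rw [h4, IsLocalization.mk'_spec]
    have h3 : algebraMap B (Localization.Away (φ f)) (φ f) =
        lam 𝒜 ℬ φ (f := f) (algebraMap A _ f) := by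
      rw [lam_algebraMap]
    have hinv : IsLocalization.Away.invSelf (S := Localization.Away f) f *
        algebraMap A (Localization.Away f) f = 1 := by
      rw [mul_comm]; exact IsLocalization.Away.mul_invSelf f
    rw [h3, mul_assoc, mul_comm (algebraMap B _ z), ← mul_assoc, ← map_mul, hinv, map_one,
      one_mul]

include hφ in
lemma α_injective (hinj : Function.Injective (Polynomial.aeval (R := A) z)) :
    Function.Injective (α 𝒜 ℬ φ z hz hf) := by
  intro P P' h
  have h1 := congrArg (algebraMap (Away ℬ (φ f)) (Localization.Away (φ f))) h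
  have h2 := compat 𝒜 ℬ φ z hz hf
  have h3 : ∀ Q, algebraMap (Away ℬ (φ f)) (Localization.Away (φ f)) (α 𝒜 ℬ φ z hz hf Q) =
      Ξ 𝒜 ℬ φ z (f := f) (σ f (Polynomial.map
        (algebraMap (Away 𝒜 f) (Localization.Away f)) Q)) := fun Q => RingHom.congr_fun h2 Q
  rw [h3, h3] at h1
  have h4 := σ_injective f (Ξ_injective 𝒜 ℬ φ hφ z hinj h1)
  exact Polynomial.map_injective _
    (HomogeneousLocalization.val_injective (𝒜 := 𝒜) (x := Submonoid.powers f)) h4

end Injective

include hφ in
/-- **`A_(f)[X] ≃ₐ[A_(f)] B_(φ f)`** for `B = A[z]`. -/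
noncomputable def ringEquiv (hhat : Function.Bijective (Polynomial.aeval (R := A) z)) :
    (Away 𝒜 f)[X] ≃+* Away ℬ (φ f) :=
  RingEquiv.ofBijective (α 𝒜 ℬ φ z hz hf)
    ⟨α_injective 𝒜 ℬ φ hφ z hz hf hhat.1, α_surjective 𝒜 ℬ φ hφ z hz hf hhat.2⟩

end Groth.Agent.Lib.Proj.AwayPoly
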