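import Groth.Agent.Lib.Proj.ToProjGlobal
import Groth.Agent.Lib.Proj.PnUnique
import Groth.Prelude.Def_Cone

/-!
# The canonical retraction of the pointed affine cone onto `Proj` (lead)

ns `Groth.Agent.Lib.Proj.ConeRetract`.
-/

universe u
open CategoryTheory CategoryTheory.Limits AlgebraicGeometry TopologicalSpace Opposite
  HomogeneousLocalization

namespace Groth.Agent.Lib.Proj.ConeRetract

open Groth.Agent.Lib.Proj.ToProj Groth.Agent.Lib.Proj.ToProjGlobal

variable {R A : Type u} [CommRing R] [CommRing A] [Algebra R A] (𝒜 : ℕ → Submodule R A)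
  [GradedAlgebra 𝒜]

/-- the ring map `A → Γ(E, ⊤)` -/
noncomputable def gE : A →+* Γ((Cone.pointed 𝒜 : Scheme.{u}), ⊤) :=
  (Cone.pointed 𝒜).ι.appTop.hom.comp (Scheme.ΓSpecIso (CommRingCat.of A)).inv.hom

variable {𝒜}

lemma chart_ι {d : ℕ} {f : A} (hf : f ∈ 𝒜 d) (hd : 0 < d) :
    Cone.chart hf hd ≫ (Cone.pointed 𝒜).ι =
      Spec.map (CommRingCat.ofHom (algebraMap A (Localization.Away f))) :=
  IsOpenImmersion.lift_fac _ _ _

instance {d : ℕ} {f : A} (hf : f ∈ 𝒜 d) (hd : 0 < d) : IsOpenImmersion (Cone.chart hf hd) := by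
  have : IsOpenImmersion (Cone.chart hf hd ≫ (Cone.pointed 𝒜).ι) := by
    rw [chart_ι]; infer_instance
  exact IsOpenImmersion.of_comp (Cone.chart hf hd) (Cone.pointed 𝒜).ι

/-- the pullback of `gE` to a chart is the localization map -/
lemma chart_appTop_gE {d : ℕ} {f : A} (hf : f ∈ 𝒜 d) (hd : 0 < d) :
    (Cone.chart hf hd).appTop.hom.comp (gE 𝒜) =
      (Scheme.ΓSpecIso (CommRingCat.of (Localization.Away f))).inv.hom.comp
        (algebraMap A (Localization.Away f)) := by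
  have h1 := congrArg (fun m => m.appTop) (chart_ι hf hd)
  rw [Scheme.Hom.comp_appTop] at h1
  have h2 : (Scheme.ΓSpecIso (CommRingCat.of A)).inv ≫
      (Spec.map (CommRingCat.ofHom (algebraMap A (Localization.Away f)))).appTop =
      CommRingCat.ofHom (algebraMap A (Localization.Away f)) ≫
        (Scheme.ΓSpecIso (CommRingCat.of (Localization.Away f))).inv :=
    (Scheme.ΓSpecIso_inv_naturality _).symm
  have h3 : (Scheme.ΓSpecIso (CommRingCat.of A)).inv ≫ (Cone.pointed 𝒜).ι.appTop ≫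
      (Cone.chart hf hd).appTop = CommRingCat.ofHom (algebraMap A (Localization.Away f)) ≫
        (Scheme.ΓSpecIso (CommRingCat.of (Localization.Away f))).inv := by
    rw [h1]; exact h2
  ext a
  exact congrArg (fun k => k.hom a) h3

/-- every point of the pointed cone lies in a chart -/
lemma exists_chart (x : (Cone.pointed 𝒜 : Scheme.{u})) :
    ∃ (d : ℕ) (f : A) (hd : 0 < d) (hf : f ∈ 𝒜 d), x ∈ Set.range (Cone.chart hf hd) := by
  classical
  have hx : x.1 ∉ PrimeSpectrum.zeroLocus ((HomogeneousIdeal.irrelevant 𝒜).toIdeal : Set A) := x.2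
  have hx' : ¬ ((HomogeneousIdeal.irrelevant 𝒜).toIdeal : Set A) ⊆ x.1.asIdeal := fun h =>
    hx ((PrimeSpectrum.mem_zeroLocus _ _).2 h)
  rw [Set.not_subset] at hx'
  obtain ⟨a, ha, hax⟩ := hx'
  -- some homogeneous component of positive degree is not in `x`
  have h1 : ∃ d, 0 < d ∧ (DirectSum.decompose 𝒜 a d : A) ∉ x.1.asIdeal := by
    by_contra hcon
    push Not at hcon
    apply hax
    rw [← DirectSum.sum_support_decompose 𝒜 a]
    refine Ideal.sum_mem _ fun c _ => ?_
    by_cases hc : c = 0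
    · subst hc
      have : (DirectSum.decompose 𝒜 a 0 : A) = 0 := ha
      rw [this]; exact Ideal.zero_mem _
    · exact hcon c (Nat.pos_of_ne_zero hc)
  obtain ⟨d, hd, hfx⟩ := h1
  refine ⟨d, (DirectSum.decompose 𝒜 a d : A), hd, (DirectSum.decompose 𝒜 a d).2, ?_⟩
  have h2 : x.1 ∈ Set.range (Spec.map (CommRingCat.ofHom
      (algebraMap A (Localization.Away (DirectSum.decompose 𝒜 a d : A))))).base := by
    have := PrimeSpectrum.localization_away_comap_range
      (Localization.Away (DirectSum.decompose 𝒜 a d : A)) (DirectSum.decompose 𝒜 a d : A)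
    show x.1 ∈ Set.range (PrimeSpectrum.comap
      (algebraMap A (Localization.Away (DirectSum.decompose 𝒜 a d : A))))
    rw [this]
    exact hfx
  obtain ⟨y, hy⟩ := h2
  refine ⟨y, ?_⟩
  apply (Cone.pointed 𝒜).ι.isOpenEmbedding.injective
  have h3 := congrArg (fun m => m.base y) (chart_ι (𝒜 := 𝒜) (DirectSum.decompose 𝒜 a d).2 hd)
  exact h3.trans hy

lemma isUnit_chart_gE {d : ℕ} {f : A} (hf : f ∈ 𝒜 d) (hd : 0 < d) :
    IsUnit ((Cone.chart hf hd).appTop.hom (gE 𝒜 f)) := by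
  have h1 := RingHom.congr_fun (chart_appTop_gE hf hd) f
  simp only [RingHom.comp_apply] at h1
  rw [h1]
  exact (IsLocalization.Away.algebraMap_isUnit f).map _

/-- the index type of the charts -/
abbrev Idx (𝒜 : ℕ → Submodule R A) : Type u := Σ' (d : ℕ) (f : A), 0 < d ∧ f ∈ 𝒜 d

lemma hAwayLift_algebraMap {d : ℕ} {f : A} (hf : f ∈ 𝒜 d)
    (hu : IsUnit (algebraMap A (Localization.Away f) f)) :
    hAwayLift 𝒜 (algebraMap A (Localization.Away f)) f hu =
      algebraMap (Away 𝒜 f) (Localization.Away f) := by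
  refine (eq_hAwayLift 𝒜 _ hf hu _ fun k a ha => ?_).symm
  rw [HomogeneousLocalization.algebraMap_apply, Away.val_mk, ← map_pow,
    Localization.mk_eq_mk', IsLocalization.mk'_spec]

variable (𝒜)

/-- **the canonical retraction `E ⟶ Proj 𝒜`**: existence and uniqueness -/
theorem existsUnique_retraction :
    ∃! π : (Cone.pointed 𝒜 : Scheme.{u}) ⟶ Proj 𝒜,
      ∀ (d : ℕ) (f : A) (hd : 0 < d) (hf : f ∈ 𝒜 d),
        Cone.chart hf hd ≫ π =
          Spec.map (CommRingCat.ofHom (algebraMap (HomogeneousLocalization.Away 𝒜 f)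
            (Localization.Away f))) ≫ Proj.awayι 𝒜 f hf hd := by
  have hcov : ∀ x : (Cone.pointed 𝒜 : Scheme.{u}), ∃ i : Idx 𝒜,
      x ∈ (Cone.pointed 𝒜 : Scheme.{u}).basicOpen (gE 𝒜 i.2.1) := by
    intro x
    obtain ⟨d, f, hd, hf, y, rfl⟩ := exists_chart x
    exact ⟨⟨d, f, hd, hf⟩, apply_mem_basicOpen_of_isUnit _ _ (isUnit_chart_gE hf hd) y⟩
  obtain ⟨r, hr⟩ := exists_toProj_of_global 𝒜 (gE 𝒜) (fun i : Idx 𝒜 => i.2.1) (fun i => i.1)
    (fun i => i.2.2.2) (fun i => i.2.2.1) hcov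
  refine ⟨r, fun d f hd hf => ?_, fun π' hπ' => ?_⟩
  · rw [hr _ (Cone.chart hf hd) ⟨d, f, hd, hf⟩ (isUnit_chart_gE hf hd)]
    have hu0 : IsUnit (algebraMap A (Localization.Away f) f) :=
      IsLocalization.Away.algebraMap_isUnit f
    rw [toProjChart_congr_hom 𝒜 _ (chart_appTop_gE hf hd) hf hd _
      (hu0.map (Scheme.ΓSpecIso (CommRingCat.of (Localization.Away f))).inv.hom)]
    unfold toProjChart
    rw [← comp_hAwayLift 𝒜 _ _ hf hu0, hAwayLift_algebraMap hf hu0]
    have h1 : CommRingCat.ofHom ((Scheme.ΓSpecIso (CommRingCat.of (Localization.Away f))).inv.hom.comp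
        (algebraMap (Away 𝒜 f) (Localization.Away f))) =
        CommRingCat.ofHom (algebraMap (Away 𝒜 f) (Localization.Away f)) ≫
          (Scheme.ΓSpecIso (CommRingCat.of (Localization.Away f))).inv := rfl
    rw [h1, Spec.map_comp, ← Category.assoc, ← Category.assoc,
      toSpecΓ_SpecMap_ΓSpecIso_inv, Category.id_comp]
  · -- uniqueness
    have hopen : TopologicalSpace.IsOpenCover (fun i : Idx 𝒜 =>
        (Cone.chart (𝒜 := 𝒜) i.2.2.2 i.2.2.1).opensRange) := by
      rw [TopologicalSpace.IsOpenCover, eq_top_iff]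
      intro x _
      obtain ⟨d, f, hd, hf, hx⟩ := exists_chart x
      exact Opens.mem_iSup.2 ⟨⟨d, f, hd, hf⟩, hx⟩
    refine ((Cone.pointed 𝒜 : Scheme.{u}).openCoverOfIsOpenCover _ hopen).hom_ext _ _ ?_
    intro (i : Idx 𝒜)
    show (Cone.chart (𝒜 := 𝒜) i.2.2.2 i.2.2.1).opensRange.ι ≫ π' =
      (Cone.chart (𝒜 := 𝒜) i.2.2.2 i.2.2.1).opensRange.ι ≫ r
    have hfac : (Cone.chart (𝒜 := 𝒜) i.2.2.2 i.2.2.1).isoOpensRange.hom ≫
        (Cone.chart (𝒜 := 𝒜) i.2.2.2 i.2.2.1).opensRange.ι = Cone.chart i.2.2.2 i.2.2.1 :=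
      Scheme.Hom.isoOpensRange_hom_ι _
    rw [← cancel_epi (Cone.chart (𝒜 := 𝒜) i.2.2.2 i.2.2.1).isoOpensRange.hom,
      ← Category.assoc, ← Category.assoc, hfac]
    rw [hπ' i.1 i.2.1 i.2.2.1 i.2.2.2]
    -- the same holds for `r`
    have hrr : ∀ (d : ℕ) (f : A) (hd : 0 < d) (hf : f ∈ 𝒜 d),
        Cone.chart hf hd ≫ r =
          Spec.map (CommRingCat.ofHom (algebraMap (HomogeneousLocalization.Away 𝒜 f)
            (Localization.Away f))) ≫ Proj.awayι 𝒜 f hf hd := by
      intro d f hd hf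
      rw [hr _ (Cone.chart hf hd) ⟨d, f, hd, hf⟩ (isUnit_chart_gE hf hd)]
      have hu0 : IsUnit (algebraMap A (Localization.Away f) f) :=
        IsLocalization.Away.algebraMap_isUnit f
      rw [toProjChart_congr_hom 𝒜 _ (chart_appTop_gE hf hd) hf hd _
        (hu0.map (Scheme.ΓSpecIso (CommRingCat.of (Localization.Away f))).inv.hom)]
      unfold toProjChart
      rw [← comp_hAwayLift 𝒜 _ _ hf hu0, hAwayLift_algebraMap hf hu0]
      have h1 : CommRingCat.ofHom
          ((Scheme.ΓSpecIso (CommRingCat.of (Localization.Away f))).inv.hom.comp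
          (algebraMap (Away 𝒜 f) (Localization.Away f))) =
          CommRingCat.ofHom (algebraMap (Away 𝒜 f) (Localization.Away f)) ≫
            (Scheme.ΓSpecIso (CommRingCat.of (Localization.Away f))).inv := rfl
      rw [h1, Spec.map_comp, ← Category.assoc, ← Category.assoc,
        toSpecΓ_SpecMap_ΓSpecIso_inv, Category.id_comp]
    exact (hrr i.1 i.2.1 i.2.2.1 i.2.2.2).symm

end Groth.Agent.Lib.Proj.ConeRetract
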