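import Groth.Agent.Lib.Proj.Helper66_GrTwistTriv
import Groth.Agent.Lib.Ample.GenLocus

/-!
# Port of lead's `TwistAmple` to `GrTwist.twist` (gradings by additive subgroups) (lead)

ns `Groth.Agent.Lib.GrTwA`.
* `HasUnitFrac 𝒜 m`, `hasUnitFrac_of_cover`
* `sectHom a : O_X ⟶ O(i)` for `a ∈ 𝒜 i`, `sectHom_app_bijective` (on `V ≤ D₊(a)`)
* `frac_ne_mul_of_mem`, **`genLocus_sectHom a hm : genLocus (twist 𝒜 i) (sectHom a) = D₊(a)`**
-/

universe u
open CategoryTheory CategoryTheory.Limits AlgebraicGeometry TopologicalSpace Opposite TopCat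

namespace Groth.Agent.Lib.GrTwA

open GrTwist Scheme.Modules Groth.Agent.Lib.Proj.GrTw

variable {A σ : Type u} [CommRing A] [SetLike σ A] [AddSubgroupClass σ A] {𝒜 : ℕ → σ} [GradedRing 𝒜]

variable (𝒜) in
/-- near every point there is a unit fraction of degree `m` -/
def HasUnitFrac (m : ℤ) : Prop :=
  ∀ x : Proj 𝒜, ∃ (i j : ℕ) (a : 𝒜 i) (b : 𝒜 j),
    x ∈ Proj.basicOpen 𝒜 a.1 ∧ x ∈ Proj.basicOpen 𝒜 b.1 ∧ m + j = i

/-- if the `D₊(f)`, `f ∈ 𝒜 1`, cover `Proj 𝒜`, every degree has unit fractions locally -/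
lemma hasUnitFrac_of_cover (hcov : (⨆ f : 𝒜 1, Proj.basicOpen 𝒜 (f : A)) = ⊤) (m : ℤ) :
    HasUnitFrac 𝒜 m := by
  intro x
  have hx : x ∈ (⨆ f : 𝒜 1, Proj.basicOpen 𝒜 (f : A)) := hcov ▸ trivial
  obtain ⟨f, hf⟩ := Opens.mem_iSup.mp hx
  have hf' : (f : A) ∉ ProjectiveSpectrum.asHomogeneousIdeal (𝒜 := 𝒜) x := hf
  have h1 : (1 : A) ∉ ProjectiveSpectrum.asHomogeneousIdeal (𝒜 := 𝒜) x := one_not_mem x
  obtain ⟨k, rfl | rfl⟩ := m.eq_nat_or_neg
  · exact ⟨k • 1, 0, ⟨f.1 ^ k, SetLike.pow_mem_graded k f.2⟩, one0 𝒜,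
      pow_not_mem hf' k, h1, by simp⟩
  · exact ⟨0, k • 1, one0 𝒜, ⟨f.1 ^ k, SetLike.pow_mem_graded k f.2⟩, h1,
      pow_not_mem hf' k, by simp⟩

/-- the morphism `O_X ⟶ O(i)` given by a homogeneous element `a ∈ 𝒜 i` (the global section `a / 1`) -/
noncomputable def sectHom {i : ℕ} (a : 𝒜 i) : Coh.structureModule (Proj 𝒜) ⟶ twist 𝒜 (i : ℤ) :=
  unitToTwistZero 𝒜 ≫ mulHom a 0 i (by simp)

lemma sectHom_app_bijective {i : ℕ} (a : 𝒜 i) (V : (Proj 𝒜).Opens) (hV : V ≤ Proj.basicOpen 𝒜 a.1) :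
    Function.Bijective ((sectHom a).app V) :=
  (mulHom_app_bijective a 0 i (by simp) V hV).comp (unitToTwistZero_app_bijective V)

/-- a unit fraction is not a multiple of `a / 1` when `a ∈ x` -/
lemma frac_ne_mul_of_mem (x : ProjectiveSpectrum 𝒜) {a b c : A} (ha : a ∈ x.asHomogeneousIdeal)
    (hb : b ∉ x.asHomogeneousIdeal) (hc : c ∉ x.asHomogeneousIdeal) (q : Loc 𝒜 x) :
    frac x b c hc ≠ frac x a 1 (one_not_mem x) * q := by
  intro h
  obtain ⟨p, ⟨w, hw⟩, rfl⟩ := IsLocalization.exists_mk'_eq x.asHomogeneousIdeal.toIdeal.primeCompl q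
  rw [← Localization.mk_eq_mk'] at h
  simp only [frac, Localization.mk_mul] at h
  rw [Localization.mk_eq_mk_iff, Localization.r_iff_exists] at h
  obtain ⟨⟨t, ht⟩, h⟩ := h
  simp only [Submonoid.coe_mul, one_mul] at h
  have hmem : t * (w * b) ∈ x.asHomogeneousIdeal.toIdeal := by
    rw [h]
    exact Ideal.mul_mem_left _ _ (Ideal.mul_mem_left _ _ (Ideal.mul_mem_right _ _ ha))
  rcases x.isPrime.mem_or_mem hmem with h1 | h1
  · exact ht h1
  · rcases x.isPrime.mem_or_mem h1 with h2 | h2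
    · exact hw h2
    · exact hb h2

/-- **the generating locus of the section `a / 1` of `O(i)` is `D₊(a)`** (when `O(i)` has local unit
fractions) -/
theorem genLocus_sectHom {i : ℕ} (a : 𝒜 i) (hm : HasUnitFrac 𝒜 (i : ℤ)) :
    CohB1.genLocus (twist 𝒜 (i : ℤ)) (sectHom a) = Proj.basicOpen 𝒜 a.1 := by
  apply le_antisymm
  · intro x hx
    by_contra hxa
    have hxa' : a.1 ∈ x.asHomogeneousIdeal := by
      by_contra h
      exact hxa h
    obtain ⟨k, j, b, c, hxb, hxc, hdeg⟩ := hm x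
    set W : (Proj 𝒜).Opens := CohB1.genLocus (twist 𝒜 (i : ℤ)) (sectHom a) ⊓
      (Proj.basicOpen 𝒜 b.1 ⊓ Proj.basicOpen 𝒜 c.1) with hW
    have hxW : x ∈ W := ⟨hx, hxb, hxc⟩
    have hbij : Function.Bijective ((sectHom a).app W) :=
      (Ample.le_genLocus_iff' _ (sectHom a) _).1 le_rfl W inf_le_left
    -- the section `b / c` of `O(i)` over `W`
    let u : Sec 𝒜 (i : ℤ) (op W) :=
      mulFracSect (op W) b c (fun y => y.2.2.2) 0 i (by omega)
        (toTwistZeroSect (op W) (1 : O (𝒜 := 𝒜) (op W)))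
    obtain ⟨r, hr⟩ := hbij.2 u
    have h1 := congrArg (fun t : Sec 𝒜 (i : ℤ) (op W) => Proj.GrTw.val t ⟨x, hxW⟩) hr
    simp only at h1
    have h2 : Proj.GrTw.val u ⟨x, hxW⟩ = frac x b.1 c.1 hxc := by
      change frac x b.1 c.1 _ * (1 : A0 𝒜 x).val = _
      rw [HomogeneousLocalization.val_one, mul_one]
    rw [h2] at h1
    exact frac_ne_mul_of_mem x hxa' hxb hxc _ h1.symm
  · rw [Ample.le_genLocus_iff']
    intro V hV
    exact sectHom_app_bijective a V hV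

end Groth.Agent.Lib.GrTwA
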