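import Groth.Agent.Lib.Cohomology.Helper1_CechConcrete
import Groth.Agent.Lib.Proj.Helper44_CechLaurent

/-!
# Abstract assembly: vanishing of Čech cohomology from a Laurent "bridge" (helper3, R1b)

Given a family of opens `V : ι → Opens X`, a presheaf of abelian groups `P` and additive injective
maps `c b : P(∏ᶜ (V ∘ b)) →+ Lau ι R` with image the Laurent polynomials supported in
`Allowed d (range b)`, compatible with the Čech restriction maps, the Čech complex of `P` is
identified with helper44's combinatorial complex, whence the vanishing of Čech cohomology.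
-/

set_option autoImplicit false
universe u

namespace Groth.Agent.Lib.Proj.CechBridge

open CategoryTheory Limits Opposite TopologicalSpace
open Groth.Agent.Lib.Cohomology Groth.Agent.Lib.Proj.CechComb

variable {X : TopCat.{u}} {ι : Type u} [Fintype ι] (V : ι → Opens X)
  (P : (Opens X)ᵒᵖ ⥤ AddCommGrpCat.{u}) (R : Type u) [CommRing R] (d : ℤ)

/-- Bridge data between the Čech complex of `P` and the Laurent model. -/
structure Bridge where
  c : ∀ {p : ℕ} (b : Fin (p + 1) → ι), P.obj (op (∏ᶜ (V ∘ b))) →+ Lau ι R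
  inj : ∀ {p : ℕ} (b : Fin (p + 1) → ι), Function.Injective (c b)
  mem : ∀ {p : ℕ} (b : Fin (p + 1) → ι) (s : P.obj (op (∏ᶜ (V ∘ b)))) (m : ι → ℤ),
    c b s m ≠ 0 → m ∈ Allowed d (Set.range b)
  surj : ∀ {p : ℕ} (b : Fin (p + 1) → ι) (w : Lau ι R),
    (∀ m, w m ≠ 0 → m ∈ Allowed d (Set.range b)) → ∃ s, c b s = w
  res : ∀ {p : ℕ} (b : Fin (p + 2) → ι) (k : Fin (p + 2))
    (s : P.obj (op (∏ᶜ (V ∘ b ∘ k.succAbove)))),
    c b (P.map (cechRes V b k).op s) = c (b ∘ k.succAbove) s

variable {V P R d}

namespace Bridge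

variable (B : Bridge V P R d)

/-- the Laurent cochain attached to a Čech cochain -/
noncomputable def toLau {n : ℕ} (s : CC V P n) : (Fin (n + 1) → ι) → Lau ι R := fun b => B.c b (s b)

lemma toLau_inW {n : ℕ} (s : CC V P n) : InW d (B.toLau s) := fun b m h => B.mem b (s b) m h

lemma toLau_injective {n : ℕ} : Function.Injective (B.toLau (n := n)) := by
  intro s t h
  funext b
  exact B.inj b (congrFun h b)

lemma toLau_dC {n : ℕ} (s : CC V P n) : B.toLau (dC V P n s) = dT (n + 1) (B.toLau s) := by
  funext b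
  simp only [toLau, dT_apply, dC_apply, map_sum, map_zsmul]
  refine Finset.sum_congr rfl (fun k _ => ?_)
  rw [B.res]

lemma exists_of_inW {n : ℕ} (t : (Fin (n + 1) → ι) → Lau ι R) (ht : InW d t) :
    ∃ s : CC V P n, B.toLau s = t := by
  choose s hs using fun b => B.surj b (t b) (fun m hm => ht b m hm)
  exact ⟨s, funext hs⟩

include B in
/-- Vanishing of Čech cohomology in degree `n + 1`. -/
theorem isZero_homology_succ (n : ℕ)
    (hpd : n + 2 ≠ Fintype.card ι ∨ -(Fintype.card ι : ℤ) < d) :
    IsZero (((cechComplexFunctor V).obj P).homology (n + 1)) := by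
  apply isZero_cech_homology_succ
  intro s hs
  have h1 : dT (n + 2) (B.toLau s) = 0 := by
    rw [← B.toLau_dC, hs]
    funext b
    simp [toLau]
  obtain ⟨τ, hτ1, hτ2⟩ := exact_lau d (n + 1) (by simpa using hpd) (B.toLau s) (B.toLau_inW s) h1
  obtain ⟨t, ht⟩ := B.exists_of_inW τ hτ1
  refine ⟨t, B.toLau_injective ?_⟩
  rw [B.toLau_dC, ht, hτ2]

end Bridge

omit [Fintype ι] in
/-- Vanishing of Čech `H^0` from injectivity of the first differential. -/
lemma isZero_cech_homology_zero
    (h : ∀ s : CC V P 0, dC V P 0 s = 0 → s = 0) :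
    IsZero (((cechComplexFunctor V).obj P).homology 0) := by
  rw [← HomologicalComplex.exactAt_iff_isZero_homology,
    HomologicalComplex.exactAt_iff' _ 0 0 1 (by simp) (by simp),
    ShortComplex.ab_exact_iff]
  intro x hx
  have hx' : ((cechComplexFunctor V).obj P).d 0 1
      (x : ((cechComplexFunctor V).obj P).X 0) = 0 := hx
  have h0 : cechEquiv V P 0 x = 0 := h _ (by
    rw [← cechEquiv_d V P 0 x, hx']
    exact map_zero (cechEquiv V P 1))
  refine ⟨0, ?_⟩
  have hx0 : x = 0 := by
    apply (cechEquiv V P 0).injective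
    rw [h0]
    exact (map_zero (cechEquiv V P 0)).symm
  rw [hx0]
  exact map_zero _

namespace Bridge

variable (B : Bridge V P R d)

include B in
/-- Vanishing of Čech `H^0` for negative twists. -/
theorem isZero_homology_zero (hd0 : d < 0) (hc : 1 ≠ Fintype.card ι) :
    IsZero (((cechComplexFunctor V).obj P).homology 0) := by
  apply isZero_cech_homology_zero
  intro s hs
  have h1 : dT 1 (B.toLau s) = 0 := by
    rw [← B.toLau_dC, hs]
    funext b
    simp [toLau]
  have h2 := cocycle_zero_eq_zero d hd0 hc (B.toLau s) (B.toLau_inW s) h1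
  apply B.toLau_injective
  rw [h2]
  funext b
  simp [toLau]

end Bridge

end Groth.Agent.Lib.Proj.CechBridge
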