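/-
Endomorphisms of `O(b)` and of `O` on `P^n_R` are scalars (helper44), for every `n ≥ 0`.
ns `Groth.Agent.Lib.Proj.EndO`: `end_twist_eq_smul`, `end_structureModule_eq_smul`,
`subsingleton_HH_of_isZero`.
-/
import Groth.Agent.Lib.Proj.Helper44_TwFun
import Groth.Agent.Lib.Proj.Helper44_BridgeLin
import Groth.Prelude.Def_KLin

set_option autoImplicit false
universe u

open CategoryTheory CategoryTheory.Limits AlgebraicGeometry TopologicalSpace Opposite
open Groth.Agent.Lib.Proj.CechComb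
open Twist Groth.Agent.Lib.Proj Groth.Agent.Lib.Proj.HomTwist Groth.Agent.Lib.Proj.Bridge
open Groth.Agent.Lib.Proj.PnHom Groth.Agent.Lib.Cohomology.HHLES

namespace Groth.Agent.Lib.Proj.EndO

variable {n : ℕ} {R : Type u} [CommRing R]

/-- every endomorphism of `O(b)` on `P^n_R` is multiplication by a scalar -/
theorem end_twist_eq_smul (b : ℤ)
    (ψ : twistProjSpace n R b ⟶ twistProjSpace n R b) :
    ∃ c : R, ψ = c • 𝟙 (twistProjSpace n R b) := by
  obtain ⟨d, hd, g, hψ⟩ := hom_class_of_le b b le_rfl ψ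
  have hd0 : d = 0 := by omega
  subst hd0
  have hg : g.1.IsHomogeneous 0 := (MvPolynomial.mem_homogeneousSubmodule _ _).1 g.2
  have hg0 := (MvPolynomial.totalDegree_zero_iff_isHomogeneous _).2 hg
  have hgC := MvPolynomial.totalDegree_eq_zero_iff_eq_C.1 hg0
  refine ⟨MvPolynomial.coeff 0 g.1, ?_⟩
  refine hψ.trans ?_
  apply hom_ext_cW
  intro i
  have h2 : cW b (s1 i) (U i) (U_eq i)
      ((((MvPolynomial.coeff 0 g.1) • 𝟙 (twistProjSpace n R b)).app (U i)).hom
        (gen (T (R := R) i) b (U i) le_rfl)) =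
      (MvPolynomial.coeff 0 g.1) • cW b (s1 i) (U i) (U_eq i) (gen (T (R := R) i) b (U i) le_rfl) :=
    cW_of_const_mul b (s1 i) (U i) (U_eq i) (gen (T (R := R) i) b (U i) le_rfl) _
      (MvPolynomial.coeff 0 g.1)
      (fun x => smulAb_pointwise b (MvPolynomial.coeff 0 g.1) (U i)
        (gen (T (R := R) i) b (U i) le_rfl) x)
  refine (cW_mulHom_gen g b b hd i).trans (Eq.trans ?_ h2.symm)
  rw [cW_gen, hgC]
  have h3 : (MvPolynomial.C (MvPolynomial.coeff 0 g.1) : MvPolynomial (Fin (n + 1)) R) =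
      (MvPolynomial.coeff 0 g.1) • 1 := by
    rw [MvPolynomial.smul_eq_C_mul, mul_one]
  simp only [MvPolynomial.coeff_C, if_true]
  rw [h3, map_smul, map_smul, trans_lauN_one]

end Groth.Agent.Lib.Proj.EndO
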