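/-
The number of summands of a splitting of a finite locally free module of rank `r` on `P^n_R` is `r`
(helper44), using helper74's `LocFree` library.

ns `Groth.Agent.Lib.Proj.SplitRank`: `isFinLocFreeOfRank_sigma_twist`, `rank_unique`, `card_eq_rank`.
-/
import Groth.Agent.Lib.QCoh.Helper74_LocFreeRank
import Groth.Agent.Lib.Proj.TwistTriv
import Groth.Agent.Lib.Proj.Helper3_PnCoh
import Groth.Agent.Lib.Helper38.PicPnC
import Groth.Prelude.Def_Twist2

set_option autoImplicit false
universe u

open CategoryTheory CategoryTheory.Limits AlgebraicGeometry TopologicalSpace Opposite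
open Groth.Agent.Lib.QCoh Groth.Agent.Lib.Proj Twist Scheme.Modules FlatMod

namespace Groth.Agent.Lib.Proj.SplitRank

variable (n : ℕ) (R : Type u) [CommRing R]

/-- a sum of `s` twisting sheaves on `P^n_R` is finite locally free of rank `s` -/
theorem isFinLocFreeOfRank_sigma_twist {s : ℕ} (d : Fin s → ℤ) :
    IsFinLocFreeOfRank s (∐ fun j => twistProjSpace n R (d j)) := by
  intro x
  have hx : x ∈ (⨆ f : CohB1.polyGrading n R 1,
      Proj.basicOpen (CohB1.polyGrading n R) (f : MvPolynomial (Fin (n + 1)) R)) := by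
    rw [Groth.Agent.Lib.Proj.PnCoh.iSup_deg_one n R]
    trivial
  obtain ⟨f, hf⟩ := Opens.mem_iSup.mp hx
  let U : (CohB1.ProjSpace n R).Opens := Proj.basicOpen (CohB1.polyGrading n R) f.1
  refine ⟨U, hf, ?_⟩
  have triv : ∀ j, Nonempty ((twistProjSpace n R (d j)).restrict U.ι ≅ Coh.structureModule ↑U) := by
    intro j
    have := nonempty_twist_mul_restrict_iso_unit' f (d j)
      (Proj.basicOpen (CohB1.polyGrading n R) f.1) le_rfl
    simp only [Nat.cast_one, mul_one] at this
    exact this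
  exact ⟨PreservesCoproduct.iso (restrictFunctor U.ι) _ ≪≫ Sigma.mapIso (fun j => (triv j).some)⟩

/-- the rank of a finite locally free module on a nonempty scheme is unique -/
theorem rank_unique {Y : Scheme.{u}} [Nonempty Y] {E : Y.Modules} {a b : ℕ}
    (ha : IsFinLocFreeOfRank a E) (hb : IsFinLocFreeOfRank b E) : a = b := by
  obtain ⟨y⟩ := ‹Nonempty Y›
  obtain ⟨V, hV, hyV, -⟩ :=
    Opens.isBasis_iff_nbhd.mp Y.isBasis_affineOpens (Opens.mem_top y)
  rw [← rankAtStalk_Γ_of_isFinLocFreeOfRank ha hV (hV.primeIdealOf ⟨y, hyV⟩),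
    rankAtStalk_Γ_of_isFinLocFreeOfRank hb hV (hV.primeIdealOf ⟨y, hyV⟩)]

/-- **rank count**: a splitting of a rank `r` bundle on `P^n_R` (`R` a domain) has `r` summands -/
theorem card_eq_rank [IsDomain R] {E : (CohB1.ProjSpace n R).Modules} {r s : ℕ}
    (hE : IsFinLocFreeOfRank r E) (d : Fin s → ℤ)
    (e : E ≅ ∐ fun j => twistProjSpace n R (d j)) : s = r := by
  have : Nonempty (CohB1.ProjSpace n R) := ⟨Groth.Agent.Lib.Helper38.PicPn.genPt R n⟩
  exact rank_unique (isFinLocFreeOfRank_of_iso e.symm (isFinLocFreeOfRank_sigma_twist n R d)) hE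

end Groth.Agent.Lib.Proj.SplitRank
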