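/-
Uniqueness of the splitting type on `P^1_k` and sorting of the twists (helper44).

ns `Groth.Agent.Lib.Proj.SplitUniq`:
* `finrank_decomp` : `dim H^i` is additive on finite direct sum decompositions (`X` over a field);
* `finrank_HH_zero_Tw_of_iso_sigma` : `h^0(E(m)) = ∑ (d j + m + 1)^+` for `E ≅ ∐ O(d j)` on `P^1_k`;
* `eq_of_hilb`, `count_eq`, `le_of_count` (combinatorics);
* **`uniq`** : antitone `d d'` with `∐ O(d j) ≅ ∐ O(d' j)` on `P^1_k` are equal;
* **`exists_antitone`** : every `∐ O(d j)` is isomorphic to some `∐ O(d' j)` with `d'` antitone (any `P^n_R`).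
-/
import Groth.Agent.Lib.Proj.Helper44_Horrocks
import Groth.Agent.Lib.Proj.Helper44_PnRank

set_option autoImplicit false
universe u

open CategoryTheory CategoryTheory.Limits AlgebraicGeometry
open Groth.Agent.Lib.Cohomology.HHLES Groth.Agent.Lib.Proj Twist
open Groth.Agent.Lib.Proj.Horrocks

namespace Groth.Agent.Lib.Proj.SplitUniq

/-! ### additivity of `dim H^i` -/

section additivity

variable {X : Scheme.{u}} (A : Type u) [Field A] [X.Over (Spec (CommRingCat.of A))]
variable {E : X.Modules} {r : ℕ} (Ej : Fin r → X.Modules) (ι : ∀ j, Ej j ⟶ E) (π : ∀ j, E ⟶ Ej j)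
  (h : ∑ j, π j ≫ ι j = 𝟙 E) (hid : ∀ j, ι j ≫ π j = 𝟙 (Ej j))
  (hne : ∀ j l, j ≠ l → ι j ≫ π l = 0)

include h hid hne in
theorem bijective_pi (i : ℕ) :
    Function.Bijective (LinearMap.pi fun j => Canon.HHlin A (π j) i :
      Coh.HH X E i →ₗ[A] (∀ j, Coh.HH X (Ej j) i)) := by
  constructor
  · rw [injective_iff_map_eq_zero]
    intro x hx
    have hx' : ∀ j, hmap (π j) i x = 0 := fun j => congrFun hx j
    rw [Groth.Agent.Lib.Cohomology.R3.eq_sum_hmap Ej ι π h i x]
    refine Finset.sum_eq_zero fun j _ => ?_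
    rw [hx' j, map_zero]
  · intro y
    refine ⟨∑ j, hmap (ι j) i (y j), ?_⟩
    funext l
    change hmap (π l) i (∑ j, hmap (ι j) i (y j)) = y l
    rw [map_sum, Finset.sum_eq_single l]
    · rw [← hmap_comp, hid, hmap_id]
    · intro j _ hjl
      rw [← hmap_comp, hne j l hjl, hmap_zero]
    · intro hl
      exact absurd (Finset.mem_univ l) hl

include h hid hne in
theorem finrank_decomp (i : ℕ) [∀ j, Module.Finite A (Coh.HH X (Ej j) i)] :
    Module.finrank A (Coh.HH X E i) = ∑ j, Module.finrank A (Coh.HH X (Ej j) i) := by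
  rw [(LinearEquiv.ofBijective _ (bijective_pi A Ej ι π h hid hne i)).finrank_eq,
    Module.finrank_pi_fintype]

end additivity

/-! ### the Hilbert function of a sum of twists on `P^1` -/

section hilb

variable (k : Type u) [Field k]

theorem finrank_HH_zero_Tw_of_iso_sigma {E : (CohB1.ProjSpace 1 k).Modules} {r : ℕ}
    (a : Fin r → ℤ) (e : E ≅ ∐ fun j => twistProjSpace 1 k (a j)) (m : ℤ) :
    Module.finrank k (Coh.HH (CohB1.ProjSpace 1 k) ((Tw 1 k m).obj E) 0) =
      ∑ j, (a j + m + 1).toNat := by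
  have hfin : ∀ j, Module.Finite k
      (Coh.HH (CohB1.ProjSpace 1 k) (twistProjSpace 1 k (a j + m)) 0) :=
    fun j => (Groth.Agent.Lib.Proj.PnRank.finrank_HH_zero k 1 le_rfl (a j + m)).1
  have hdec := finrank_decomp k (E := (Tw 1 k m).obj E)
    (fun j => twistProjSpace 1 k (a j + m))
    (fun j => (twO 1 k (a j) m (a j + m) rfl).inv ≫
      (Tw 1 k m).map (Sigma.ι (fun j => twistProjSpace 1 k (a j)) j ≫ e.inv))
    (fun j => (Tw 1 k m).map (e.hom ≫ Sigma.π (fun j => twistProjSpace 1 k (a j)) j) ≫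
      (twO 1 k (a j) m (a j + m) rfl).hom) ?_ ?_ ?_ 0
  · rw [hdec]
    refine Finset.sum_congr rfl fun j _ => ?_
    rw [(Groth.Agent.Lib.Proj.PnRank.finrank_HH_zero k 1 le_rfl (a j + m)).2]
    have h1 : (a j + m + ((1 : ℕ) : ℤ)).toNat = (a j + m + 1).toNat := by norm_num
    rw [h1, Nat.choose_one_right]
  · have h1 : ∀ j, ((Tw 1 k m).map (e.hom ≫ Sigma.π (fun j => twistProjSpace 1 k (a j)) j) ≫
        (twO 1 k (a j) m (a j + m) rfl).hom) ≫ ((twO 1 k (a j) m (a j + m) rfl).inv ≫
        (Tw 1 k m).map (Sigma.ι (fun j => twistProjSpace 1 k (a j)) j ≫ e.inv)) =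
        (Tw 1 k m).map (e.hom ≫ (Sigma.π (fun j => twistProjSpace 1 k (a j)) j ≫
          Sigma.ι (fun j => twistProjSpace 1 k (a j)) j) ≫ e.inv) := by
      intro j
      rw [Category.assoc, Iso.hom_inv_id_assoc, ← Functor.map_comp]
      simp only [Category.assoc]
    rw [Finset.sum_congr rfl (fun j _ => h1 j), ← Functor.map_sum, ← Preadditive.comp_sum,
      ← Preadditive.sum_comp, Groth.Agent.Lib.Cohomology.CohSigma.sum_π_ι, Category.id_comp,
      e.hom_inv_id, CategoryTheory.Functor.map_id]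
  · intro j
    have h2 : (Sigma.ι (fun j => twistProjSpace 1 k (a j)) j ≫ e.inv) ≫
        (e.hom ≫ Sigma.π (fun j => twistProjSpace 1 k (a j)) j) = 𝟙 _ := by
      rw [Category.assoc, Iso.inv_hom_id_assoc, Sigma.ι_π_eq_id]
    rw [Category.assoc, ← Category.assoc ((Tw 1 k m).map _), ← Functor.map_comp, h2,
      CategoryTheory.Functor.map_id, Category.id_comp, Iso.inv_hom_id]
  · intro j l hjl
    have h2 : (Sigma.ι (fun j => twistProjSpace 1 k (a j)) j ≫ e.inv) ≫
        (e.hom ≫ Sigma.π (fun j => twistProjSpace 1 k (a j)) l) = 0 := by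
      rw [Category.assoc, Iso.inv_hom_id_assoc, Sigma.ι_π_of_ne _ hjl]
    rw [Category.assoc, ← Category.assoc ((Tw 1 k m).map _), ← Functor.map_comp, h2,
      Functor.map_zero, zero_comp, comp_zero]

end hilb

/-! ### combinatorics -/

lemma toNat_diff (e : ℤ) : (((e + 1).toNat : ℤ)) - (e.toNat : ℤ) = if 0 ≤ e then 1 else 0 := by
  split_ifs <;> omega

/-- counts from the Hilbert function -/
lemma count_eq {r : ℕ} (d d' : Fin r → ℤ)
    (hf : ∀ m : ℤ, ∑ j, (d j + m + 1).toNat = ∑ j, (d' j + m + 1).toNat) (t : ℤ) :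
    (Finset.univ.filter fun j => t ≤ d j).card = (Finset.univ.filter fun j => t ≤ d' j).card := by
  have key : ∀ c : Fin r → ℤ, (((Finset.univ.filter fun j => t ≤ c j).card : ℕ) : ℤ) =
      ((∑ j, (c j + (-t) + 1).toNat : ℕ) : ℤ) - ((∑ j, (c j + (-t - 1) + 1).toNat : ℕ) : ℤ) := by
    intro c
    rw [Finset.card_filter]
    push_cast
    rw [← Finset.sum_sub_distrib]
    refine Finset.sum_congr rfl fun j _ => ?_
    have h1 := toNat_diff (c j - t)
    have h2 : c j + -t + 1 = c j - t + 1 := by ring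
    have h3 : c j + (-t - 1) + 1 = c j - t := by ring
    rw [h2, h3, h1]
    have : (0 ≤ c j - t) ↔ t ≤ c j := by constructor <;> intro h <;> omega
    simp only [this]
  have h1 := key d
  have h2 := key d'
  rw [hf (-t), hf (-t - 1)] at h1
  exact_mod_cast h1.trans h2.symm

lemma le_of_count {r : ℕ} (d d' : Fin r → ℤ) (hd : Antitone d) (hd' : Antitone d')
    (hc : ∀ t : ℤ, (Finset.univ.filter fun j => t ≤ d j).card =
      (Finset.univ.filter fun j => t ≤ d' j).card)
    (i : Fin r) : d i ≤ d' i := by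
  by_contra hcon
  have hcon' : d' i < d i := not_le.1 hcon
  have h1 : Finset.Iic i ⊆ Finset.univ.filter fun j => d i ≤ d j := by
    intro j hj
    rw [Finset.mem_Iic] at hj
    simp only [Finset.mem_filter, Finset.mem_univ, true_and]
    exact hd hj
  have h2 : (Finset.univ.filter fun j => d i ≤ d' j) ⊆ Finset.Iio i := by
    intro j hj
    simp only [Finset.mem_filter, Finset.mem_univ, true_and] at hj
    rw [Finset.mem_Iio]
    by_contra hji
    have := hd' (not_lt.1 hji)
    omega
  have c1 := Finset.card_le_card h1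
  have c2 := Finset.card_le_card h2
  rw [Fin.card_Iic] at c1
  rw [Fin.card_Iio] at c2
  have := hc (d i)
  omega

theorem eq_of_hilb {r : ℕ} (d d' : Fin r → ℤ) (hd : Antitone d) (hd' : Antitone d')
    (hf : ∀ m : ℤ, ∑ j, (d j + m + 1).toNat = ∑ j, (d' j + m + 1).toNat) : d = d' := by
  have hc := count_eq d d' hf
  funext i
  exact le_antisymm (le_of_count d d' hd hd' hc i)
    (le_of_count d' d hd' hd (fun t => (hc t).symm) i)

/-- sorting -/
theorem exists_antitone_perm {r : ℕ} (d : Fin r → ℤ) :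
    ∃ σ : Equiv.Perm (Fin r), Antitone (d ∘ σ) := by
  refine ⟨(Tuple.sort (fun i => -d i)), ?_⟩
  have h := Tuple.monotone_sort (fun i => -d i)
  intro a b hab
  have := h hab
  simp only [Function.comp] at this ⊢
  omega

/-! ### main statements -/

/-- **uniqueness of the splitting type on `P^1_k`** -/
theorem uniq (k : Type u) [Field k] {r : ℕ} (d d' : Fin r → ℤ) (hd : Antitone d)
    (hd' : Antitone d')
    (e : (∐ fun j => twistProjSpace 1 k (d j)) ≅ ∐ fun j => twistProjSpace 1 k (d' j)) :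
    d = d' := by
  refine eq_of_hilb d d' hd hd' fun m => ?_
  rw [← finrank_HH_zero_Tw_of_iso_sigma k d (Iso.refl _) m,
    ← finrank_HH_zero_Tw_of_iso_sigma k d' e m]

/-- a finite sum of twisting sheaves can be reordered with antitone twists -/
theorem exists_antitone (n : ℕ) (R : Type u) [CommRing R] {r : ℕ} (d : Fin r → ℤ) :
    ∃ d' : Fin r → ℤ, Antitone d' ∧
      Nonempty ((∐ fun j => twistProjSpace n R (d j)) ≅ ∐ fun j => twistProjSpace n R (d' j)) := by
  obtain ⟨σ, hσ⟩ := exists_antitone_perm d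
  exact ⟨d ∘ σ, hσ, ⟨(Sigma.reindex σ (fun j => twistProjSpace n R (d j))).symm⟩⟩

end Groth.Agent.Lib.Proj.SplitUniq
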