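/-
Grothendieck's splitting theorem on `P^1_k`, reduced to the vanishing of `H^0(E(m))` for `m ≪ 0`
(helper44).  ns `Groth.Agent.Lib.Proj.SplitP1`: `isCoh_of_isFinLocFreeOfRank`,
`existsUnique_of_vanishing`.
-/
import Groth.Agent.Lib.Proj.Helper44_HorrocksMain
import Groth.Agent.Lib.Proj.Helper44_SplitUniq
import Groth.Agent.Lib.Proj.Helper44_SplitRank

set_option autoImplicit false
universe u

open CategoryTheory CategoryTheory.Limits AlgebraicGeometry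
open Groth.Agent.Lib.QCoh Groth.Agent.Lib.Proj Twist FlatMod

namespace Groth.Agent.Lib.Proj.SplitP1

lemma isCoh_of_isFinLocFreeOfRank {X : Scheme.{u}} {r : ℕ} {E : X.Modules}
    (hE : IsFinLocFreeOfRank r E) : Coh.IsCoh E :=
  ⟨isQuasicoherent_of_isFinLocFree (isFinLocFree_of_isFinLocFreeOfRank hE),
    isFiniteType_of_isFinLocFree (isFinLocFree_of_isFinLocFreeOfRank hE)⟩

/-- **Grothendieck's theorem on `P^1_k`**, given the vanishing of `H^0(E(m))` for `m ≪ 0` -/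
theorem existsUnique_of_vanishing (k : Type u) [Field k] (r : ℕ)
    (E : (CohB1.ProjSpace 1 k).Modules) (hE : IsFinLocFreeOfRank r E)
    (h0 : ∃ n₀ : ℤ, ∀ m : ℤ, m ≤ n₀ → Subsingleton (Coh.HH (CohB1.ProjSpace 1 k)
      (CohB1.tensorMod E (twistProjSpace 1 k m)) 0)) :
    ∃! d : Fin r → ℤ, Antitone d ∧
      Nonempty (E ≅ ∐ fun i : Fin r => twistProjSpace 1 k (d i)) := by
  have hcoh := isCoh_of_isFinLocFreeOfRank hE
  obtain ⟨s, a, ⟨e⟩⟩ := (Groth.Agent.Lib.Proj.Horrocks.horrocks_iff (n := 1) (k := k) le_rfl E hcoh).2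
    ⟨h0, fun m i hi1 hi2 => absurd hi2 (by omega)⟩
  have hs : s = r := Groth.Agent.Lib.Proj.SplitRank.card_eq_rank 1 k hE a e
  subst hs
  obtain ⟨d, hd, ⟨e'⟩⟩ := Groth.Agent.Lib.Proj.SplitUniq.exists_antitone 1 k a
  refine ⟨d, ⟨hd, ⟨e ≪≫ e'⟩⟩, ?_⟩
  rintro d' ⟨hd', ⟨e''⟩⟩
  exact Groth.Agent.Lib.Proj.SplitUniq.uniq k d' d hd' hd (e''.symm ≪≫ e ≪≫ e')

end Groth.Agent.Lib.Proj.SplitP1
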