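/-
`H^0(E(m)) = 0` for `m ≪ 0` on `P^n_k` (`n ≥ 1`) for a coherent module `E` all of whose nonzero maps
`O(a) ⟶ E` are monomorphisms (e.g. `E` torsion-free / locally free) (helper44).

ns `Groth.Agent.Lib.Proj.SplitVan`: `exists_hom_of_HH_zero`, `finrank_le_of_mono`, `vanishing_of_mono`.
-/
import Groth.Agent.Lib.Proj.Helper44_Horrocks
import Groth.Agent.Lib.Proj.Helper44_H0Hom
import Groth.Agent.Lib.Proj.Helper44_PnRank

set_option autoImplicit false
universe u

open CategoryTheory CategoryTheory.Limits AlgebraicGeometry Abelian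
open Groth.Agent.Lib.Cohomology.HHLES Groth.Agent.Lib.QCoh Groth.Agent.Lib.Helper77.TwEx
open Groth.Agent.Lib.Proj Twist
open Groth.Agent.Lib.Proj.Horrocks Groth.Agent.Lib.Proj.H0Hom

namespace Groth.Agent.Lib.Proj.SplitVan

variable {n : ℕ} {k : Type u} [Field k]

/-- a nonzero class in `H^0(E(m))` gives a nonzero morphism `O(-m) ⟶ E` -/
theorem exists_hom_of_HH_zero (E : (CohB1.ProjSpace n k).Modules) (m : ℤ)
    (h : ¬ Subsingleton (Coh.HH (CohB1.ProjSpace n k) ((Tw n k m).obj E) 0)) :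
    ∃ θ : twistProjSpace n k (-m) ⟶ E, θ ≠ 0 := by
  rw [not_subsingleton_iff_nontrivial] at h
  obtain ⟨x, hx⟩ := exists_ne (0 : Coh.HH (CohB1.ProjSpace n k) ((Tw n k m).obj E) 0)
  obtain ⟨ψ, rfl⟩ := (Ψ_bijective ((Tw n k m).obj E)).2 x
  obtain ⟨θ, hθ⟩ := (Tw n k m).map_surjective ((twUnit n k m).hom ≫ ψ)
  refine ⟨θ, fun h0 => hx ?_⟩
  have h1 : (twUnit n k m).hom ≫ ψ = 0 := by
    rw [← hθ, h0, Functor.map_zero]
  have h2 : ψ = 0 := by
    rw [← cancel_epi (twUnit n k m).hom, h1, comp_zero]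
  exact (congrArg (fun z => Ψ _ z) h2).trans (map_zero _)

/-- a monomorphism is injective on `H^0`, hence `h^0` is monotone -/
theorem finrank_le_of_mono {X : Scheme.{u}} [X.Over (Spec (CommRingCat.of k))]
    {L E : X.Modules} (θ : L ⟶ E) [Mono θ]
    [Module.Finite k (Coh.HH X E 0)] :
    Module.finrank k (Coh.HH X L 0) ≤ Module.finrank k (Coh.HH X E 0) := by
  have hS : (ShortComplex.mk θ (cokernel.π θ) (cokernel.condition θ)).ShortExact :=
    { exact := ShortComplex.exact_of_g_is_cokernel _ (cokernelIsCokernel θ)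
      mono_f := ‹Mono θ›
      epi_g := inferInstanceAs (Epi (cokernel.π θ)) }
  have hinj : Function.Injective (Canon.HHlin k θ 0) := hmap_f_injective_zero hS
  exact LinearMap.finrank_le_finrank_of_injective hinj

lemma succ_le_choose (a n : ℕ) (hn : 1 ≤ n) : a + 1 ≤ Nat.choose (a + n) n := by
  have h1 : Nat.choose (a + 1) a ≤ Nat.choose (a + n) a := Nat.choose_le_choose a (by omega)
  rw [Nat.choose_succ_self_right] at h1
  rw [Nat.choose_symm_add] at h1
  exact h1

/-- **vanishing of `H^0(E(m))` for `m ≪ 0`** when nonzero maps from twisting sheaves are mono -/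
theorem vanishing_of_mono (hn : 1 ≤ n) (E : (CohB1.ProjSpace n k).Modules) (hE : Coh.IsCoh E)
    (hmono : ∀ (a : ℤ) (s : twistProjSpace n k a ⟶ E), s ≠ 0 → Mono s) :
    ∃ n₀ : ℤ, ∀ m : ℤ, m ≤ n₀ → Subsingleton (Coh.HH (CohB1.ProjSpace n k)
      (CohB1.tensorMod E (twistProjSpace n k m)) 0) := by
  have hfin : Module.Finite k (Coh.HH (CohB1.ProjSpace n k) E 0) := finite_HH_coh n k hn E hE 0
  refine ⟨-((Module.finrank k (Coh.HH (CohB1.ProjSpace n k) E 0) : ℤ) + 1), fun m hm => ?_⟩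
  by_contra hcon
  obtain ⟨θ, hθ⟩ := exists_hom_of_HH_zero E m hcon
  have := hmono (-m) θ hθ
  have h1 := finrank_le_of_mono (k := k) θ
  rw [(Groth.Agent.Lib.Proj.PnRank.finrank_HH_zero k n hn (-m)).2] at h1
  obtain ⟨a, ha⟩ : ∃ a : ℕ, -m = (a : ℤ) := ⟨(-m).toNat, by omega⟩
  have h2 : (-m + (n : ℤ)).toNat = a + n := by omega
  rw [h2] at h1
  have h3 := succ_le_choose a n hn
  omega

end Groth.Agent.Lib.Proj.SplitVan
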