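/-
Grothendieck's splitting theorem on `P^1_k` (helper44): every finite locally free module of rank `r` on
`P^1_k` is `∐ O(d_i)` for a unique antitone `d`.  Also: vanishing of `H^0(E(m))`, `m ≪ 0`, for locally free
`E` on `P^n_k`, `n ≥ 1`.

ns `Groth.Agent.Lib.Proj.SplitP1`: `isFinLocFreeOfRank_one_twist`, `mono_of_ne_zero_twist`,
`vanishing_of_locFree`, `grothendieck`.
-/
import Groth.Agent.Lib.Proj.Helper44_SplitP1
import Groth.Agent.Lib.Proj.Helper44_SplitVan
import Groth.Agent.Lib.Proj.Helper44_SplitMono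

set_option autoImplicit false
universe u

open CategoryTheory CategoryTheory.Limits AlgebraicGeometry
open Groth.Agent.Lib.QCoh Groth.Agent.Lib.Proj Twist FlatMod

namespace Groth.Agent.Lib.Proj.SplitP1

variable (n : ℕ) (k : Type u) [Field k]

lemma isFinLocFreeOfRank_one_twist (a : ℤ) : IsFinLocFreeOfRank 1 (twistProjSpace n k a) :=
  isFinLocFreeOfRank_one_iff_isInvertible.2
    (Groth.Agent.Lib.Proj.isInvertible_twist (𝒜 := CohB1.polyGrading n k)
      (Groth.Agent.Lib.Proj.PnCoh.iSup_deg_one n k) a)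

variable {n k}

/-- nonzero maps `O(a) ⟶ E`, `E` locally free on `P^n_k`, are monomorphisms -/
theorem mono_of_ne_zero_twist {r : ℕ} {E : (CohB1.ProjSpace n k).Modules}
    (hE : IsFinLocFreeOfRank r E) (a : ℤ) (s : twistProjSpace n k a ⟶ E) (hs : s ≠ 0) : Mono s := by
  haveI : IsIntegral (CohB1.ProjSpace n k) := Groth.Agent.Lib.Helper38.PicPn.isIntegral_proj k n
  exact Groth.Agent.Lib.Proj.SplitMono.mono_of_ne_zero (isFinLocFreeOfRank_one_twist n k a)
    (isFinLocFree_of_isFinLocFreeOfRank hE) s hs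

/-- `H^0(E(m)) = 0` for `m ≪ 0`, `E` finite locally free on `P^n_k`, `n ≥ 1` -/
theorem vanishing_of_locFree (hn : 1 ≤ n) {r : ℕ} (E : (CohB1.ProjSpace n k).Modules)
    (hE : IsFinLocFreeOfRank r E) :
    ∃ n₀ : ℤ, ∀ m : ℤ, m ≤ n₀ → Subsingleton (Coh.HH (CohB1.ProjSpace n k)
      (CohB1.tensorMod E (twistProjSpace n k m)) 0) :=
  Groth.Agent.Lib.Proj.SplitVan.vanishing_of_mono hn E (isCoh_of_isFinLocFreeOfRank hE)
    (fun a s hs => mono_of_ne_zero_twist hE a s hs)

/-- **Grothendieck's splitting theorem on `P^1_k`** -/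
theorem grothendieck (k : Type u) [Field k] (r : ℕ)
    (E : (CohB1.ProjSpace 1 k).Modules) (hE : IsFinLocFreeOfRank r E) :
    ∃! d : Fin r → ℤ, Antitone d ∧
      Nonempty (E ≅ ∐ fun i : Fin r => twistProjSpace 1 k (d i)) :=
  existsUnique_of_vanishing k r E hE (vanishing_of_locFree le_rfl E hE)

end Groth.Agent.Lib.Proj.SplitP1
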