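/-
The twisted ideal sequence `0 → I(n) → O(n) → O_X(n) → 0` of a closed subscheme of `P^N_k` with `I ≅ O(c)`
(helper44), as input for `Helper44_Hypersurface`.

ns `Groth.Agent.Lib.Proj.Hypersurface`: `idealSC`, `idealSC_shortExact`, `twSC`, `twSC_shortExact`, `twIso₁`, `twIso₂`.
-/
import Groth.Agent.Lib.Proj.Helper44_Hypersurface
import Groth.Agent.Lib.Helper77.TwEx
import Groth.Agent.Lib.Cohomology.Helper1_SerreCrit2

set_option autoImplicit false
universe u

open CategoryTheory CategoryTheory.Limits AlgebraicGeometry Abelian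
open Groth.Agent.Lib.Cohomology.HHLES Groth.Agent.Lib.QCoh

namespace Groth.Agent.Lib.Proj.Hypersurface

/-- the ideal sequence `0 → I → O_X → i_* O_Z → 0` -/
noncomputable def idealSC {X : Scheme.{u}} (I : X.IdealSheafData) : ShortComplex X.Modules :=
  ShortComplex.mk (ClSub.idealModι I) (ClSub.toSubscheme I) (kernel.condition _)

lemma idealSC_shortExact {X : Scheme.{u}} (I : X.IdealSheafData) : (idealSC I).ShortExact :=
  { exact := ShortComplex.exact_of_f_is_kernel _ (kernelIsKernel (ClSub.toSubscheme I))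
    mono_f := inferInstanceAs (Mono (kernel.ι (ClSub.toSubscheme I)))
    epi_g := Groth.Agent.Lib.Cohomology.SerreCrit.epi_toSubscheme I }

variable (k : Type u) [CommRing k] (N : ℕ) (I : (CohB1.ProjSpace N k).IdealSheafData)

/-- the twisted ideal sequence -/
noncomputable def twSC (n : ℤ) : ShortComplex (CohB1.ProjSpace N k).Modules :=
  (idealSC I).map (tensorRightFunctor (Twist.twistProjSpace N k n))

lemma twSC_shortExact (n : ℤ) : (twSC k N I n).ShortExact :=
  Groth.Agent.Lib.Helper77.TwEx.shortExact_twistProjSpace N k n (idealSC_shortExact I)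

lemma twSC_X₃ (n : ℤ) :
    (twSC k N I n).X₃ = CohB1.tensorMod (ClSub.quotMod I) (Twist.twistProjSpace N k n) := rfl

/-- `I(n) ≅ O(c + n)` -/
noncomputable def twIso₁ {c : ℤ} (eI : ClSub.idealMod I ≅ Twist.twistProjSpace N k c) (n m : ℤ)
    (hm : m = c + n) : (twSC k N I n).X₁ ≅ Twist.twistProjSpace N k m :=
  tensorModCongr eI (Iso.refl _) ≪≫
    Groth.Agent.Lib.Helper77.TwEx.twistProjSpaceMulIso N k c n m hm

/-- `O ⊗ O(n) ≅ O(n)` -/
noncomputable def twIso₂ (n : ℤ) : (twSC k N I n).X₂ ≅ Twist.twistProjSpace N k n :=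
  tensorModLeftUnitor _

end Groth.Agent.Lib.Proj.Hypersurface
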