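/-
Castelnuovo–Mumford regularity and linear presentations on `P^n_k` (helper44): a coherent `F` is `m`-regular iff
there is an epimorphism `O(-m)^b ⟶ F` whose kernel is `(m+1)`-regular.

ns `Groth.Agent.Lib.Proj.RegRes`: `subsingleton_HH_Tw_of_iso_sigma`, `isMRegular_of_epi`, `exists_epi_of_isMRegular`.
-/
import Groth.Agent.Lib.Proj.Helper44_HorrocksMain
import Groth.Agent.Lib.Proj.Helper44_H0Hom
import Groth.Agent.S0038

set_option autoImplicit false
universe v u

open CategoryTheory CategoryTheory.Limits AlgebraicGeometry Abelian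
open Groth.Agent.Lib.Cohomology.HHLES Groth.Agent.Lib.QCoh Groth.Agent.Lib.Helper77.TwEx
open Groth.Agent.Lib.Proj Twist

namespace Groth.Agent.Lib.Proj.RegRes

open Groth.Agent.Lib.Proj.Horrocks Groth.Agent.Lib.Proj.H0Hom

lemma shortExact_kernel {C : Type u} [Category.{v} C] [Abelian C] {A B : C} (φ : A ⟶ B) [Epi φ] :
    (ShortComplex.mk (kernel.ι φ) φ (kernel.condition φ)).ShortExact :=
  { exact := ShortComplex.exact_of_f_is_kernel _ (kernelIsKernel φ)
    mono_f := inferInstanceAs (Mono (kernel.ι φ))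
    epi_g := ‹Epi φ› }

variable (n : ℕ) (k : Type u) [Field k]

/-- cohomology of the twists of a finite direct sum of twisting sheaves -/
lemma subsingleton_HH_Tw_of_iso_sigma {E : (CohB1.ProjSpace n k).Modules} {r : ℕ} (a : Fin r → ℤ)
    (e : E ≅ ∐ fun j => twistProjSpace n k (a j)) (m : ℤ) (i : ℕ)
    (hv : ∀ j, Subsingleton (Coh.HH (CohB1.ProjSpace n k) (twistProjSpace n k (a j + m)) i)) :
    Subsingleton (Coh.HH (CohB1.ProjSpace n k) ((Tw n k m).obj E) i) := by
  refine Groth.Agent.Lib.Cohomology.R3.subsingleton_of_sum_eq_id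
    (fun j => twistProjSpace n k (a j + m))
    (fun j => (twO n k (a j) m (a j + m) rfl).inv ≫
      (Tw n k m).map (Sigma.ι (fun j => twistProjSpace n k (a j)) j ≫ e.inv))
    (fun j => (Tw n k m).map (e.hom ≫ Sigma.π (fun j => twistProjSpace n k (a j)) j) ≫
      (twO n k (a j) m (a j + m) rfl).hom) ?_ i hv
  have h1 : ∀ j, ((Tw n k m).map (e.hom ≫ Sigma.π (fun j => twistProjSpace n k (a j)) j) ≫
      (twO n k (a j) m (a j + m) rfl).hom) ≫ ((twO n k (a j) m (a j + m) rfl).inv ≫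
      (Tw n k m).map (Sigma.ι (fun j => twistProjSpace n k (a j)) j ≫ e.inv)) =
      (Tw n k m).map (e.hom ≫ (Sigma.π (fun j => twistProjSpace n k (a j)) j ≫
        Sigma.ι (fun j => twistProjSpace n k (a j)) j) ≫ e.inv) := by
    intro j
    rw [Category.assoc, Iso.hom_inv_id_assoc, ← Functor.map_comp]
    simp only [Category.assoc]
  rw [Finset.sum_congr rfl (fun j _ => h1 j), ← Functor.map_sum, ← Preadditive.comp_sum,
    ← Preadditive.sum_comp, Groth.Agent.Lib.Cohomology.CohSigma.sum_π_ι, Category.id_comp,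
    e.hom_inv_id, CategoryTheory.Functor.map_id]

variable {n k}

/-- an epimorphism `O(-m)^b ⟶ F` with `(m+1)`-regular kernel makes `F` `m`-regular -/
theorem isMRegular_of_epi {F : (CohB1.ProjSpace n k).Modules} (hF : Coh.IsCoh F) (m : ℤ) {b : ℕ}
    (φ : (∐ fun _ : Fin b => twistProjSpace n k (-m)) ⟶ F) [Epi φ]
    (hK : Curv2.IsMRegular k n (kernel φ) (m + 1)) : Curv2.IsMRegular k n F m := by
  intro i hi1 hin
  have hS := shortExact_kernel φ
  have hSt := shortExact_twistProjSpace n k (m - (i : ℤ)) hS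
  have hL : Subsingleton (Coh.HH (CohB1.ProjSpace n k)
      ((Tw n k (m - (i : ℤ))).obj (∐ fun _ : Fin b => twistProjSpace n k (-m))) i) :=
    subsingleton_HH_Tw_of_iso_sigma n k (fun _ => -m) (Iso.refl _) (m - (i : ℤ)) i
      (fun j => Groth.Agent.Lib.Proj.Bridge.subsingleton_HH_twist' n k (-m + (m - (i : ℤ))) i
        (fun h => by omega) (fun h => by omega))
  have hK' : Subsingleton (Coh.HH (CohB1.ProjSpace n k)
      ((Tw n k (m - (i : ℤ))).obj (kernel φ)) (i + 1)) := by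
    by_cases h : i + 1 ≤ n
    · have h3 := hK (i + 1) (by omega) h
      have ht : m + 1 - ((i + 1 : ℕ) : ℤ) = m - (i : ℤ) := by push_cast; ring
      rw [ht] at h3
      exact h3
    · have hLc : Coh.IsCoh (∐ fun _ : Fin b => twistProjSpace n k (-m)) :=
        Groth.Agent.Lib.Cohomology.CohSigma.isCoh_sigma_fin _
          (fun _ => Groth.Agent.Lib.Cohomology.PnFinite.isCoh_twist n k _)
      have hKc : Coh.IsCoh (kernel φ) := isCoh_kernel hLc hF φ
      have : Coh.IsQCoh ((Tw n k (m - (i : ℤ))).obj (kernel φ)) := (isCoh_Tw n k _ hKc).1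
      exact Groth.Agent.S0022.result n k _ (i + 1) (by omega)
  refine subsingleton_of_forall_eq 0 fun x => ?_
  obtain ⟨y, rfl⟩ := exact₃ hSt i x (@Subsingleton.elim _ hK' _ _)
  have hy0 : y = 0 := @Subsingleton.elim _ hL y 0
  exact (congrArg (fun z => hmap _ i z) hy0).trans (map_zero _)

/-- an `m`-regular coherent module is a quotient of `O(-m)^b` with `(m+1)`-regular kernel -/
theorem exists_epi_of_isMRegular {F : (CohB1.ProjSpace n k).Modules} (hF : Coh.IsCoh F) (m : ℤ)
    (hreg : Curv2.IsMRegular k n F m) :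
    ∃ (b : ℕ) (φ : (∐ fun _ : Fin b => twistProjSpace n k (-m)) ⟶ F),
      Epi φ ∧ Curv2.IsMRegular k n (kernel φ) (m + 1) := by
  have hGc := isCoh_Tw n k m hF
  have hfin : Module.Finite k (Coh.HH (CohB1.ProjSpace n k) ((Tw n k m).obj F) 0) :=
    Groth.Agent.S0038.result n k _ hGc 0
  obtain ⟨b, ⟨B⟩⟩ : ∃ b : ℕ, Nonempty (Module.Basis (Fin b) k
      (Coh.HH (CohB1.ProjSpace n k) ((Tw n k m).obj F) 0)) :=
    ⟨_, ⟨Module.finBasis k (Coh.HH (CohB1.ProjSpace n k) ((Tw n k m).obj F) 0)⟩⟩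
  choose s hs using fun j => (Ψ_bijective ((Tw n k m).obj F)).2 (B j)
  choose σ hσ using fun j => (Tw n k m).map_surjective ((twUnit n k m).hom ≫ s j)
  have hfac : ∀ ψ : Coh.structureModule (CohB1.ProjSpace n k) ⟶ (Tw n k m).obj F,
      ∃ ψ' : Coh.structureModule (CohB1.ProjSpace n k) ⟶
        (Tw n k m).obj (∐ fun _ : Fin b => twistProjSpace n k (-m)),
        ψ' ≫ (Tw n k m).map (Sigma.desc σ) = ψ := by
    intro ψ
    refine ⟨∑ j, (B.repr (Ψ _ ψ) j) • ((twUnit n k m).inv ≫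
      (Tw n k m).map (Sigma.ι (fun _ : Fin b => twistProjSpace n k (-m)) j)), ?_⟩
    have h1 : (∑ j, (B.repr (Ψ _ ψ) j) • ((twUnit n k m).inv ≫
        (Tw n k m).map (Sigma.ι (fun _ : Fin b => twistProjSpace n k (-m)) j))) ≫
        (Tw n k m).map (Sigma.desc σ) = ∑ j, (B.repr (Ψ _ ψ) j) • s j := by
      rw [Preadditive.sum_comp]
      refine Finset.sum_congr rfl fun j _ => ?_
      rw [Linear.smul_comp, Category.assoc, ← Functor.map_comp, Sigma.ι_desc, hσ,
        Iso.inv_hom_id_assoc]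
    rw [h1]
    apply (Ψ_bijective ((Tw n k m).obj F)).1
    rw [map_sum]
    simp_rw [Ψ_smul k, hs]
    exact B.sum_repr (Ψ _ ψ)
  have hepiTw : Epi ((Tw n k m).map (Sigma.desc σ)) := by
    obtain ⟨ι, p, hp⟩ := gg n k F hF m hreg
    choose ψ' hψ' using fun i => hfac (SheafOfModules.ιFree i ≫ p)
    refine Preadditive.epi_of_cancel_zero _ (fun {Z} g hg => ?_)
    have key : p ≫ g = 0 := by
      refine free_hom_ext _ _ (fun i => ?_)
      refine Eq.trans ?_ comp_zero.symm
      have h3 : (SheafOfModules.ιFree i ≫ p) ≫ g = 0 :=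
        (congrArg (fun f => f ≫ g) (hψ' i).symm).trans
          ((Category.assoc _ _ _).trans ((congrArg (fun f => ψ' i ≫ f) hg).trans comp_zero))
      exact (Category.assoc _ _ _).symm.trans h3
    exact (cancel_epi p).1 (key.trans comp_zero.symm)
  have hepi : Epi (Sigma.desc σ) := (Tw n k m).epi_of_epi_map hepiTw
  have hsurj : ∀ t' : ℤ, t' = m →
      Function.Surjective (hmap ((Tw n k t').map (Sigma.desc σ)) 0) := by
    rintro _ rfl y
    obtain ⟨ψ, rfl⟩ := (Ψ_bijective _).2 y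
    obtain ⟨ψ', rfl⟩ := hfac ψ
    exact ⟨Ψ _ ψ', (Ψ_comp ψ' _).symm⟩
  refine ⟨_, Sigma.desc σ, hepi, ?_⟩
  have hS := shortExact_kernel (Sigma.desc σ)
  have aux : ∀ (t : ℤ) (p : ℕ), t = m - (p : ℤ) → p + 1 ≤ n →
      Subsingleton (Coh.HH (CohB1.ProjSpace n k) ((Tw n k t).obj (kernel (Sigma.desc σ))) (p + 1)) := by
    rintro t p rfl hpn
    have hSt := shortExact_twistProjSpace n k (m - (p : ℤ)) hS
    have hL : Subsingleton (Coh.HH (CohB1.ProjSpace n k)
        ((Tw n k (m - (p : ℤ))).obj (∐ fun _ : Fin b => twistProjSpace n k (-m))) (p + 1)) :=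
      subsingleton_HH_Tw_of_iso_sigma n k (fun _ => -m) (Iso.refl _) (m - (p : ℤ)) (p + 1)
        (fun j => Groth.Agent.Lib.Proj.Bridge.subsingleton_HH_twist' n k (-m + (m - (p : ℤ)))
          (p + 1) (fun h => by omega) (fun h => by omega))
    refine subsingleton_of_forall_eq 0 fun x => ?_
    obtain ⟨y, rfl⟩ := exact₁ hSt p x (@Subsingleton.elim _ hL _ _)
    by_cases hp : p = 0
    · subst hp
      obtain ⟨z, rfl⟩ := hsurj (m - ((0 : ℕ) : ℤ)) (by simp) y
      exact δ_hmap_g hSt 0 z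
    · have hy : Subsingleton (Coh.HH (CohB1.ProjSpace n k) ((Tw n k (m - (p : ℤ))).obj F) p) :=
        hreg p (by omega) (by omega)
      have hy0 : y = 0 := @Subsingleton.elim _ hy y 0
      exact (congrArg (fun z => δ hSt p z) hy0).trans (map_zero _)
  intro i hi1 hin
  obtain ⟨p, rfl⟩ : ∃ p, i = p + 1 := ⟨i - 1, by omega⟩
  exact aux _ p (by push_cast; ring) hin

end Groth.Agent.Lib.Proj.RegRes
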