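/-
Splicing short exact sequences `0 → K (j+1) → E j → K j → 0` into a resolution (helper44).
ns `Groth.Agent.Lib.Proj.Splice`: `cx`, `cx_d`, `cx_exactAt`, `cx_isZero_homology`, `d_comp_π`,
`exact_d_π`.
-/
import Mathlib.CategoryTheory.Abelian.Refinements
import Mathlib.Algebra.Homology.ShortComplex.HomologicalComplex
import Mathlib.Algebra.Homology.ShortComplex.ShortExact
import Mathlib.Algebra.Homology.HomologicalComplex

set_option autoImplicit false
universe v u
open CategoryTheory CategoryTheory.Limits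

namespace Groth.Agent.Lib.Proj.Splice

variable {C : Type u} [Category.{v} C] [Abelian C]
variable (K E : ℕ → C) (ι : ∀ j, K (j + 1) ⟶ E j) (π : ∀ j, E j ⟶ K j)
  (w : ∀ j, ι j ≫ π j = 0)

/-- the differential -/
def D (j : ℕ) : E (j + 1) ⟶ E j := π (j + 1) ≫ ι j

include w in
lemma D_sq (j : ℕ) : D K E ι π (j + 1) ≫ D K E ι π j = 0 := by
  unfold D
  rw [Category.assoc, ← Category.assoc (ι (j + 1)), w, zero_comp, comp_zero]

/-- the spliced complex -/
noncomputable def cx : ChainComplex C ℕ := ChainComplex.of E (D K E ι π) (D_sq K E ι π w)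

lemma cx_d (j : ℕ) : (cx K E ι π w).d (j + 1) j = D K E ι π j := ChainComplex.of_d _ _ j

variable (hS : ∀ j, (ShortComplex.mk (ι j) (π j) (w j)).ShortExact)

include hS in
lemma exists_lift (j : ℕ) {T : C} (x : T ⟶ E j) (hx : x ≫ π j = 0) :
    ∃ y : T ⟶ K (j + 1), y ≫ ι j = x := by
  have : Mono (ShortComplex.mk (ι j) (π j) (w j)).f := (hS j).mono_f
  exact ⟨(hS j).exact.lift x hx, (hS j).exact.lift_f x hx⟩

include hS in
lemma exact_elem (m : ℕ) {T : C} (x : T ⟶ E m) (hx : x ≫ π m = 0) :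
    ∃ (T' : C) (p : T' ⟶ T) (_ : Epi p) (z : T' ⟶ E (m + 1)), p ≫ x = z ≫ D K E ι π m := by
  obtain ⟨y, hy⟩ := exists_lift K E ι π w hS m x hx
  have : Epi (π (m + 1)) := (hS (m + 1)).epi_g
  obtain ⟨T', p, hp, z, hz⟩ := surjective_up_to_refinements_of_epi (π (m + 1)) y
  refine ⟨T', p, hp, z, ?_⟩
  unfold D
  rw [← Category.assoc, ← hz, Category.assoc, hy]

include hS in
theorem cx_exactAt (i : ℕ) (hi : 1 ≤ i) : (cx K E ι π w).ExactAt i := by
  obtain ⟨m, rfl⟩ : ∃ m, i = m + 1 := ⟨i - 1, by omega⟩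
  rw [HomologicalComplex.exactAt_iff' _ (m + 2) (m + 1) m (by simp) (by simp)]
  rw [ShortComplex.exact_iff_exact_up_to_refinements]
  intro T x hx
  have hx' : x ≫ (cx K E ι π w).d (m + 1) m = 0 := hx
  rw [cx_d] at hx'
  have h1 : x ≫ π (m + 1) = 0 := by
    have : Mono (ι m) := (hS m).mono_f
    rw [← cancel_mono (ι m), zero_comp, Category.assoc]
    exact hx'
  obtain ⟨T', p, hp, z, hz⟩ := exact_elem K E ι π w hS (m + 1) x h1
  rw [← cx_d K E ι π w] at hz
  exact ⟨T', p, hp, z, hz⟩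

include hS in
theorem cx_isZero_homology (i : ℕ) (hi : 1 ≤ i) : IsZero ((cx K E ι π w).homology i) :=
  (HomologicalComplex.exactAt_iff_isZero_homology _ _).1 (cx_exactAt K E ι π w hS i hi)

lemma d_comp_π : (cx K E ι π w).d 1 0 ≫ π 0 = 0 := by
  have h : (cx K E ι π w).d 1 0 = π 1 ≫ ι 0 := cx_d K E ι π w 0
  have h2 : (π 1 ≫ ι 0) ≫ π 0 = 0 := by rw [Category.assoc, w, comp_zero]
  exact (congrArg (fun f : E 1 ⟶ E 0 => f ≫ π 0) h).trans h2

include hS in
theorem exact_d_π :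
    (ShortComplex.mk ((cx K E ι π w).d 1 0) (π 0) (d_comp_π K E ι π w)).Exact := by
  rw [ShortComplex.exact_iff_exact_up_to_refinements]
  intro T x hx
  obtain ⟨T', p, hp, z, hz⟩ := exact_elem K E ι π w hS 0 x hx
  rw [← cx_d K E ι π w] at hz
  exact ⟨T', p, hp, z, hz⟩

end Groth.Agent.Lib.Proj.Splice
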