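/-
On an integral scheme, a nonzero morphism from an invertible (locally free of rank one) module to a
finite locally free module is a monomorphism (helper44).

ns `Groth.Agent.Lib.Proj.SplitMono`: `smul_eq_zero_Γ`, `app_eq_zero_basicOpen`, `eq_zero_of_app_eq_zero`,
`mono_of_ne_zero`.
-/
import Groth.Agent.Lib.QCoh.Helper74_LocFreeBasis
import Groth.Agent.Lib.QCoh.Helper50_AffineDict
import Groth.Agent.Lib.Helper61.QCohSections
import Mathlib.RingTheory.Flat.TorsionFree

set_option autoImplicit false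
universe u

open CategoryTheory CategoryTheory.Limits AlgebraicGeometry TopologicalSpace Opposite
open Groth.Agent.Lib.QCoh Groth.Agent.Lib.Helper61.QCohSections FlatMod Scheme.Modules

namespace Groth.Agent.Lib.Proj.SplitMono

variable {X : Scheme.{u}} [IsIntegral X]

/-- sections of a finite locally free module over a nonempty affine open of an integral scheme are
torsion-free -/
lemma smul_eq_zero_Γ {E : X.Modules} (hE : IsFinLocFree E) {U : X.Opens} (hU : IsAffineOpen U)
    [Nonempty U] (a : Γ(X, U)) (m : Γ(E, U)) (h : a • m = 0) : a = 0 ∨ m = 0 := by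
  obtain ⟨_, hproj⟩ := finite_projective_Γ_of_isAffineOpen hE hU
  exact smul_eq_zero.1 h

/-- a morphism vanishing on `Γ(-, U)`, `U` affine, vanishes on `Γ(-, D(f))` -/
lemma app_eq_zero_basicOpen {L E : X.Modules} [L.IsQuasicoherent] (φ : L ⟶ E) {U : X.Opens}
    (hU : IsAffineOpen U) (h0 : ∀ y : Γ(L, U), φ.app U y = 0) (f : Γ(X, U))
    (t : Γ(L, X.basicOpen f)) : φ.app (X.basicOpen f) t = 0 := by
  letI := resModule L (X.basicOpen_le f)
  have hloc := isLocalizedModule_res_basicOpen L hU f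
  obtain ⟨⟨y, s⟩, hs⟩ := IsLocalizedModule.surj (Submonoid.powers f)
    (resLinear L (X.basicOpen_le f)) t
  obtain ⟨j, hj⟩ := s.2
  have hs' : (X.presheaf.map (homOfLE (X.basicOpen_le f)).op (s : Γ(X, U))) • t =
      L.presheaf.map (homOfLE (X.basicOpen_le f)).op y := hs
  have h1 : φ.app (X.basicOpen f)
      ((X.presheaf.map (homOfLE (X.basicOpen_le f)).op (s : Γ(X, U))) • t) = 0 := by
    rw [hs', app_naturality_apply φ (homOfLE (X.basicOpen_le f)) y, h0 y, map_zero]
  rw [Hom.app_smul] at h1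
  have hunit : IsUnit (X.presheaf.map (homOfLE (X.basicOpen_le f)).op (s : Γ(X, U))) := by
    rw [← hj, map_pow]
    exact (RingedSpace.isUnit_res_basicOpen _ f).pow j
  exact (hunit.smul_eq_zero).1 h1

/-- a morphism to a finite locally free module vanishing on the sections over one nonempty affine
open vanishes -/
theorem eq_zero_of_app_eq_zero {L E : X.Modules} [L.IsQuasicoherent] (hE : IsFinLocFree E)
    (φ : L ⟶ E) {U : X.Opens} (hU : IsAffineOpen U) (hne : (U : Set X).Nonempty)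
    (h0 : ∀ y : Γ(L, U), φ.app U y = 0) : φ = 0 := by
  have hEq : E.IsQuasicoherent := isQuasicoherent_of_isFinLocFree hE
  apply hom_ext_of_locally
  intro V x hx
  obtain ⟨W, hW, hxW, hWV⟩ := Opens.isBasis_iff_nbhd.mp X.isBasis_affineOpens hx
  refine ⟨W, hxW, hWV, ?_⟩
  have hWne : Nonempty W := ⟨⟨x, hxW⟩⟩
  obtain ⟨z, hzU, hzW⟩ : ((U : Set X) ∩ (W : Set X)).Nonempty :=
    nonempty_preirreducible_inter U.2 W.2 hne ⟨x, hxW⟩
  obtain ⟨f, g, hfg, hzf⟩ := exists_basicOpen_le_affine_inter hU hW z ⟨hzU, hzW⟩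
  have hV' : ∀ (V' : X.Opens), V' = X.basicOpen f → ∀ t : Γ(L, V'), φ.app V' t = 0 := by
    rintro _ rfl t
    exact app_eq_zero_basicOpen φ hU h0 f t
  ext m
  change φ.app W m = 0
  have h1 : E.presheaf.map (homOfLE (X.basicOpen_le g)).op (φ.app W m) = 0 := by
    rw [← app_naturality_apply φ (homOfLE (X.basicOpen_le g)) m]
    exact hV' _ hfg.symm _
  letI := resModule E (X.basicOpen_le g)
  have hloc := isLocalizedModule_res_basicOpen E hW g
  have h2 : resLinear E (X.basicOpen_le g) (φ.app W m) = 0 := h1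
  rw [IsLocalizedModule.eq_zero_iff (Submonoid.powers g)] at h2
  obtain ⟨⟨s, j, hj⟩, hs⟩ := h2
  have hs' : s • φ.app W m = 0 := hs
  rcases smul_eq_zero_Γ hE hW s (φ.app W m) hs' with h3 | h3
  · exfalso
    rw [← hj] at h3
    have hg0 : g = 0 := (pow_eq_zero_iff' (n := j)).1 h3 |>.1
    rw [hfg, hg0, Scheme.basicOpen_zero] at hzf
    exact hzf
  · exact h3

/-- **a nonzero morphism from a line bundle to a vector bundle on an integral scheme is mono** -/
theorem mono_of_ne_zero {L E : X.Modules} (hL : IsFinLocFreeOfRank 1 L) (hE : IsFinLocFree E)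
    (φ : L ⟶ E) (hφ : φ ≠ 0) : Mono φ := by
  have hLq : L.IsQuasicoherent :=
    isQuasicoherent_of_isFinLocFree (isFinLocFree_of_isFinLocFreeOfRank hL)
  let ι := {U : X.Opens // IsAffineOpen U ∧ Nonempty U ∧
    Nonempty (Module.Basis (Fin 1) Γ(X, U) Γ(L, U))}
  have hB : Opens.IsBasis (Set.range (fun i : ι => i.1)) := by
    rw [Opens.isBasis_iff_nbhd]
    intro V x hx
    obtain ⟨U, hU, hxU, hUV, hb⟩ := exists_affine_basis_of_isFinLocFreeOfRank hL hx
    exact ⟨U, ⟨⟨U, hU, ⟨⟨x, hxU⟩⟩, hb⟩, rfl⟩, hxU, hUV⟩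
  apply mono_of_injective_of_isBasis (fun i : ι => i.1) hB φ
  rintro ⟨U, hU, hne, ⟨b⟩⟩
  change Function.Injective (φ.app U)
  have hrepr : ∀ y : Γ(L, U), y = b.repr y 0 • b 0 := by
    intro y
    conv_lhs => rw [← b.sum_repr y]
    rw [Fin.sum_univ_one]
  have hg : φ.app U (b 0) ≠ 0 := by
    intro hg0
    apply hφ
    obtain ⟨u⟩ := hne
    refine eq_zero_of_app_eq_zero hE φ hU ⟨u.1, u.2⟩ (fun y => ?_)
    rw [hrepr y, Hom.app_smul, hg0, smul_zero]
  rw [injective_iff_map_eq_zero]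
  intro y hy
  rw [hrepr y, Hom.app_smul] at hy
  rcases smul_eq_zero_Γ hE hU _ _ hy with h | h
  · rw [hrepr y, h, zero_smul]
  · exact absurd h hg

end Groth.Agent.Lib.Proj.SplitMono
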