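/-
Covers of `m`-regular coherent modules on `P^n_k` by `O(-m)^b` which are isomorphisms on `H^0` of the
`m`-th twist; existence of a regularity bound (Serre vanishing by descending induction) (helper44).

ns `Groth.Agent.Lib.Proj.Syz`: `subsingleton_HH_of_isZero`, `end_structureModule_eq_smul`,
`exists_epi_of_isMRegular'`, `serre_vanishing'`, `exists_isMRegular'`.
-/
import Groth.Agent.Lib.Proj.Helper44_RegRes
import Groth.Agent.Lib.Proj.Helper44_EndO

set_option autoImplicit false
universe v u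

open CategoryTheory CategoryTheory.Limits AlgebraicGeometry Abelian
open Groth.Agent.Lib.Cohomology.HHLES Groth.Agent.Lib.QCoh Groth.Agent.Lib.Helper77.TwEx
open Groth.Agent.Lib.Proj Twist

namespace Groth.Agent.Lib.Proj.Syz

open Groth.Agent.Lib.Proj.Horrocks Groth.Agent.Lib.Proj.H0Hom Groth.Agent.Lib.Proj.RegRes
open Groth.Agent.Lib.Proj.EndO

lemma subsingleton_HH_of_isZero {X : Scheme.{u}} {M : X.Modules} (h : IsZero M) (i : ℕ) :
    Subsingleton (Coh.HH X M i) := by
  refine subsingleton_of_forall_eq 0 fun x => ?_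
  have h1 : 𝟙 M = 0 := (IsZero.iff_id_eq_zero M).1 h
  have h2 : hmap (𝟙 M) i x = hmap (0 : M ⟶ M) i x := congrArg (fun f => hmap f i x) h1
  exact (hmap_id M i x).symm.trans (h2.trans (hmap_zero i x))

variable (n : ℕ) (k : Type u) [Field k]

/-- endomorphisms of the structure module of `P^n_k` are scalars (every `n ≥ 0`) -/
theorem end_structureModule_eq_smul
    (a : Coh.structureModule (CohB1.ProjSpace n k) ⟶ Coh.structureModule (CohB1.ProjSpace n k)) :
    ∃ c : k, a = c • 𝟙 _ := by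
  let e : twistProjSpace n k 0 ≅ Coh.structureModule (CohB1.ProjSpace n k) :=
    twistZeroIso (CohB1.polyGrading n k)
  obtain ⟨c, hc⟩ := end_twist_eq_smul (n := n) (R := k) 0 (e.hom ≫ a ≫ e.inv)
  refine ⟨c, ?_⟩
  have h1 : a = e.inv ≫ (e.hom ≫ a ≫ e.inv) ≫ e.hom := by
    simp only [Category.assoc, Iso.inv_hom_id, Category.comp_id, Iso.inv_hom_id_assoc]
  rw [h1, hc, Linear.smul_comp, Linear.comp_smul, Category.id_comp, Iso.inv_hom_id]

variable {n k}

/-- an `m`-regular coherent module is a quotient of `O(-m)^b` with `(m+1)`-regular kernel `K` such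
that `H^0(K(m)) = 0` -/
theorem exists_epi_of_isMRegular' {F : (CohB1.ProjSpace n k).Modules} (hF : Coh.IsCoh F) (m : ℤ)
    (hreg : Curv2.IsMRegular k n F m) :
    ∃ (b : ℕ) (φ : (∐ fun _ : Fin b => twistProjSpace n k (-m)) ⟶ F),
      Epi φ ∧ Curv2.IsMRegular k n (kernel φ) (m + 1) ∧
      Subsingleton (Coh.HH (CohB1.ProjSpace n k) ((Tw n k m).obj (kernel φ)) 0) := by
  have hGc := isCoh_Tw n k m hF
  have hfin : Module.Finite k (Coh.HH (CohB1.ProjSpace n k) ((Tw n k m).obj F) 0) :=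
    Groth.Agent.S0038.result n k _ hGc 0
  obtain ⟨b, ⟨B⟩⟩ : ∃ b : ℕ, Nonempty (Module.Basis (Fin b) k
      (Coh.HH (CohB1.ProjSpace n k) ((Tw n k m).obj F) 0)) :=
    ⟨_, ⟨Module.finBasis k (Coh.HH (CohB1.ProjSpace n k) ((Tw n k m).obj F) 0)⟩⟩
  choose s hs using fun j => (Ψ_bijective ((Tw n k m).obj F)).2 (B j)
  choose σ hσ using fun j => (Tw n k m).map_surjective ((twUnit n k m).hom ≫ s j)
  have hu : ∀ j, ((twUnit n k m).inv ≫
      (Tw n k m).map (Sigma.ι (fun _ : Fin b => twistProjSpace n k (-m)) j)) ≫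
      (Tw n k m).map (Sigma.desc σ) = s j := by
    intro j
    rw [Category.assoc, ← Functor.map_comp, Sigma.ι_desc, hσ, Iso.inv_hom_id_assoc]
  have hΨsum : ∀ c : Fin b → k, Ψ _ (∑ j, c j • s j) = ∑ j, c j • B j := by
    intro c
    rw [map_sum]
    simp_rw [Ψ_smul k, hs]
  have hfac : ∀ ψ : Coh.structureModule (CohB1.ProjSpace n k) ⟶ (Tw n k m).obj F,
      ∃ ψ' : Coh.structureModule (CohB1.ProjSpace n k) ⟶
        (Tw n k m).obj (∐ fun _ : Fin b => twistProjSpace n k (-m)),
        ψ' ≫ (Tw n k m).map (Sigma.desc σ) = ψ := by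
    intro ψ
    refine ⟨∑ j, (B.repr (Ψ _ ψ) j) • ((twUnit n k m).inv ≫
      (Tw n k m).map (Sigma.ι (fun _ : Fin b => twistProjSpace n k (-m)) j)), ?_⟩
    have h1 : (∑ j, (B.repr (Ψ _ ψ) j) • ((twUnit n k m).inv ≫
        (Tw n k m).map (Sigma.ι (fun _ : Fin b => twistProjSpace n k (-m)) j))) ≫
        (Tw n k m).map (Sigma.desc σ) = ∑ j, (B.repr (Ψ _ ψ) j) • s j := by
      rw [Preadditive.sum_comp]
      refine Finset.sum_congr rfl fun j _ => ?_
      rw [Linear.smul_comp, hu]
    rw [h1]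
    apply (Ψ_bijective ((Tw n k m).obj F)).1
    rw [hΨsum]
    exact B.sum_repr (Ψ _ ψ)
  have hinj : ∀ ψ' : Coh.structureModule (CohB1.ProjSpace n k) ⟶
      (Tw n k m).obj (∐ fun _ : Fin b => twistProjSpace n k (-m)),
      ψ' ≫ (Tw n k m).map (Sigma.desc σ) = 0 → ψ' = 0 := by
    intro ψ' h0
    choose c hc using fun j => end_structureModule_eq_smul n k
      (ψ' ≫ (Tw n k m).map (Sigma.π (fun _ : Fin b => twistProjSpace n k (-m)) j) ≫
        (twUnit n k m).hom)
    have hterm : ∀ j, ψ' ≫ (Tw n k m).map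
        (Sigma.π (fun _ : Fin b => twistProjSpace n k (-m)) j ≫
          Sigma.ι (fun _ : Fin b => twistProjSpace n k (-m)) j) =
        c j • ((twUnit n k m).inv ≫
          (Tw n k m).map (Sigma.ι (fun _ : Fin b => twistProjSpace n k (-m)) j)) := by
      intro j
      have h1 : ψ' ≫ (Tw n k m).map
          (Sigma.π (fun _ : Fin b => twistProjSpace n k (-m)) j ≫
            Sigma.ι (fun _ : Fin b => twistProjSpace n k (-m)) j) =
          (ψ' ≫ (Tw n k m).map (Sigma.π (fun _ : Fin b => twistProjSpace n k (-m)) j) ≫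
            (twUnit n k m).hom) ≫ ((twUnit n k m).inv ≫
              (Tw n k m).map (Sigma.ι (fun _ : Fin b => twistProjSpace n k (-m)) j)) := by
        simp only [Functor.map_comp, Category.assoc, Iso.hom_inv_id_assoc]
      rw [h1, hc j, Linear.smul_comp, Category.id_comp]
    have hdec : ψ' = ∑ j, c j • ((twUnit n k m).inv ≫
        (Tw n k m).map (Sigma.ι (fun _ : Fin b => twistProjSpace n k (-m)) j)) := by
      have h1 : ψ' = ψ' ≫ (Tw n k m).map
          (∑ j, Sigma.π (fun _ : Fin b => twistProjSpace n k (-m)) j ≫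
            Sigma.ι (fun _ : Fin b => twistProjSpace n k (-m)) j) := by
        rw [Groth.Agent.Lib.Cohomology.CohSigma.sum_π_ι, CategoryTheory.Functor.map_id,
          Category.comp_id]
      rw [Functor.map_sum, Preadditive.comp_sum] at h1
      exact h1.trans (Finset.sum_congr rfl fun j _ => hterm j)
    have h2 : ∑ j, c j • s j = 0 := by
      rw [← h0, hdec, Preadditive.sum_comp]
      refine Finset.sum_congr rfl fun j _ => ?_
      rw [Linear.smul_comp, hu]
    have h3 : ∑ j, c j • B j = 0 := by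
      rw [← hΨsum, h2, map_zero]
    have hc0 : ∀ j, c j = 0 := Fintype.linearIndependent_iff.1 B.linearIndependent c h3
    rw [hdec]
    refine Finset.sum_eq_zero fun j _ => ?_
    rw [hc0 j, zero_smul]
  have hepiTw : Epi ((Tw n k m).map (Sigma.desc σ)) := by
    obtain ⟨ι, p, hp⟩ := gg n k F hF m hreg
    choose ψ' hψ' using fun i => hfac (SheafOfModules.ιFree i ≫ p)
    refine Preadditive.epi_of_cancel_zero _ (fun {Z} g hg => ?_)
    have key : p ≫ g = 0 := by
      refine free_hom_ext _ _ (fun i => ?_)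
      refine Eq.trans ?_ comp_zero.symm
      have h3 : (SheafOfModules.ιFree i ≫ p) ≫ g = 0 :=
        (congrArg (fun f => f ≫ g) (hψ' i).symm).trans
          ((Category.assoc _ _ _).trans ((congrArg (fun f => ψ' i ≫ f) hg).trans comp_zero))
      exact (Category.assoc _ _ _).symm.trans h3
    exact (cancel_epi p).1 (key.trans comp_zero.symm)
  have hepi : Epi (Sigma.desc σ) := (Tw n k m).epi_of_epi_map hepiTw
  have hsurj : ∀ t' : ℤ, t' = m →
      Function.Surjective (hmap ((Tw n k t').map (Sigma.desc σ)) 0) := by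
    rintro _ rfl y
    obtain ⟨ψ, rfl⟩ := (Ψ_bijective _).2 y
    obtain ⟨ψ', rfl⟩ := hfac ψ
    exact ⟨Ψ _ ψ', (Ψ_comp ψ' _).symm⟩
  refine ⟨_, Sigma.desc σ, hepi, ?_, ?_⟩
  · have hS := shortExact_kernel (Sigma.desc σ)
    have aux : ∀ (t : ℤ) (p : ℕ), t = m - (p : ℤ) → p + 1 ≤ n →
        Subsingleton (Coh.HH (CohB1.ProjSpace n k) ((Tw n k t).obj (kernel (Sigma.desc σ))) (p + 1)) := by
      rintro t p rfl hpn
      have hSt := shortExact_twistProjSpace n k (m - (p : ℤ)) hS
      have hL : Subsingleton (Coh.HH (CohB1.ProjSpace n k)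
          ((Tw n k (m - (p : ℤ))).obj (∐ fun _ : Fin b => twistProjSpace n k (-m))) (p + 1)) :=
        subsingleton_HH_Tw_of_iso_sigma n k (fun _ => -m) (Iso.refl _) (m - (p : ℤ)) (p + 1)
          (fun j => Groth.Agent.Lib.Proj.Bridge.subsingleton_HH_twist' n k (-m + (m - (p : ℤ)))
            (p + 1) (fun h => by omega) (fun h => by omega))
      refine subsingleton_of_forall_eq 0 fun x => ?_
      obtain ⟨y, rfl⟩ := exact₁ hSt p x (@Subsingleton.elim _ hL _ _)
      by_cases hp : p = 0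
      · subst hp
        obtain ⟨z, rfl⟩ := hsurj (m - ((0 : ℕ) : ℤ)) (by simp) y
        exact δ_hmap_g hSt 0 z
      · have hy : Subsingleton (Coh.HH (CohB1.ProjSpace n k) ((Tw n k (m - (p : ℤ))).obj F) p) :=
          hreg p (by omega) (by omega)
        have hy0 : y = 0 := @Subsingleton.elim _ hy y 0
        exact (congrArg (fun z => δ hSt p z) hy0).trans (map_zero _)
    intro i hi1 hin
    obtain ⟨p, rfl⟩ : ∃ p, i = p + 1 := ⟨i - 1, by omega⟩
    exact aux _ p (by push_cast; ring) hin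
  · refine subsingleton_of_forall_eq 0 fun x => ?_
    obtain ⟨ξ, rfl⟩ := (Ψ_bijective _).2 x
    have hξ : (ξ ≫ (Tw n k m).map (kernel.ι (Sigma.desc σ))) ≫ (Tw n k m).map (Sigma.desc σ) = 0 := by
      rw [Category.assoc, ← Functor.map_comp, kernel.condition, Functor.map_zero, comp_zero]
    have h1 := hinj _ hξ
    have hmono : Mono ((Tw n k m).map (kernel.ι (Sigma.desc σ))) := inferInstance
    have hξ0 : ξ = 0 := (cancel_mono ((Tw n k m).map (kernel.ι (Sigma.desc σ)))).1
      (h1.trans zero_comp.symm)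
    exact (congrArg (fun z => Ψ _ z) hξ0).trans (map_zero _)

variable (n k)

/-- Serre vanishing on `P^n_k` -/
theorem serre_vanishing' (F : (CohB1.ProjSpace n k).Modules) (hF : Coh.IsCoh F) :
    ∃ d₀ : ℤ, ∀ d, d₀ ≤ d → ∀ i, 0 < i →
      Subsingleton (Coh.HH (CohB1.ProjSpace n k) ((Tw n k d).obj F) i) := by
  refine Groth.Agent.Lib.Cohomology.R3.vanishing_of_resolution (X := CohB1.ProjSpace n k)
    (fun M => Coh.IsCoh M) n (fun d => Tw n k d)
    (fun d S hS => shortExact_twistProjSpace n k d hS)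
    (fun M hM i hi d => ?_) (fun M hM => ?_) F hF
  · have : Coh.IsQCoh ((Tw n k d).obj M) := (isCoh_Tw n k d hM).1
    exact Groth.Agent.S0022.result n k _ i hi
  · obtain ⟨m₀, hm₀⟩ := Groth.Agent.Lib.Proj.exists_epi_sigma_twistProjSpace_of_isCoh n k M hM
    obtain ⟨r, q, hq⟩ := hm₀ m₀ le_rfl
    have hLc : Coh.IsCoh (∐ fun _ : Fin r => twistProjSpace n k (-(m₀ : ℤ))) :=
      Groth.Agent.Lib.Cohomology.CohSigma.isCoh_sigma_fin _
        (fun _ => Groth.Agent.Lib.Cohomology.PnFinite.isCoh_twist n k _)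
    refine ⟨_, q, hq, isCoh_kernel hLc hM q, (m₀ : ℤ), fun d hd i hi => ?_⟩
    exact subsingleton_HH_Tw_of_iso_sigma n k (fun _ => -(m₀ : ℤ)) (Iso.refl _) d i
      (fun j => Groth.Agent.Lib.Proj.Bridge.subsingleton_HH_twist' n k (-(m₀ : ℤ) + d) i
        (fun h => by omega) (fun h => by omega))

/-- every coherent module on `P^n_k` is `m`-regular for some `m` -/
theorem exists_isMRegular' (F : (CohB1.ProjSpace n k).Modules) (hF : Coh.IsCoh F) :
    ∃ m : ℤ, Curv2.IsMRegular k n F m := by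
  obtain ⟨d₀, h⟩ := serre_vanishing' n k F hF
  refine ⟨d₀ + n, fun i hi1 hin => ?_⟩
  exact h (d₀ + n - i) (by omega) i (by omega)

end Groth.Agent.Lib.Proj.Syz
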