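/-
Resolutions of coherent modules on `P^n_k` by finite sums of twisting sheaves, of length `≤ n + 1`
(helper44): regularity covers `O(-m₀-j)^{b_j} → K_j` which are isomorphisms on `H^0` of the
`(m₀+j)`-th twist, and Horrocks' criterion for the `n`-th syzygy.

ns `Groth.Agent.Lib.Proj.Syz`: `SumTw`, `Inv`, `exists_cover`, `syzygy`.
-/
import Groth.Agent.Lib.Proj.Helper44_Syz1
import Groth.Agent.Lib.Proj.Helper44_Splice

set_option autoImplicit false
universe v u

open CategoryTheory CategoryTheory.Limits AlgebraicGeometry Abelian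
open Groth.Agent.Lib.Cohomology.HHLES Groth.Agent.Lib.QCoh Groth.Agent.Lib.Helper77.TwEx
open Groth.Agent.Lib.Proj Twist

namespace Groth.Agent.Lib.Proj.Syz

open Groth.Agent.Lib.Proj.Horrocks Groth.Agent.Lib.Proj.H0Hom Groth.Agent.Lib.Proj.RegRes

variable (n : ℕ) (k : Type u) [Field k]

/-- finite direct sums of twisting sheaves -/
def SumTw (A : (CohB1.ProjSpace n k).Modules) : Prop :=
  ∃ (r : ℕ) (a : Fin r → ℤ), Nonempty (A ≅ ∐ fun j => twistProjSpace n k (a j))

/-- the invariant of the `j`-th syzygy -/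
structure Inv (m₀ : ℤ) (j : ℕ) (A : (CohB1.ProjSpace n k).Modules) : Prop where
  coh : Coh.IsCoh A
  reg : Curv2.IsMRegular k n A (m₀ + j)
  mid : ∀ i : ℕ, 1 ≤ i → i < n → i < j → ∀ t : ℤ,
    Subsingleton (Coh.HH (CohB1.ProjSpace n k) ((Tw n k t).obj A) i)
  low : 1 ≤ j → ∀ t : ℤ, t < m₀ + j →
    Subsingleton (Coh.HH (CohB1.ProjSpace n k) ((Tw n k t).obj A) 0)

variable {n k}

lemma subsingleton_HH_Tw_of_isZero {A : (CohB1.ProjSpace n k).Modules} (hz : IsZero A) (t : ℤ)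
    (i : ℕ) : Subsingleton (Coh.HH (CohB1.ProjSpace n k) ((Tw n k t).obj A) i) :=
  subsingleton_HH_of_isZero ((Tw n k t).map_isZero hz) i

lemma inv_of_isZero {A : (CohB1.ProjSpace n k).Modules} (hc : Coh.IsCoh A) (hz : IsZero A)
    (m₀ : ℤ) (j : ℕ) : Inv n k m₀ j A where
  coh := hc
  reg := fun i _ _ => subsingleton_HH_Tw_of_isZero hz _ i
  mid := fun i _ _ _ t => subsingleton_HH_Tw_of_isZero hz t i
  low := fun _ t _ => subsingleton_HH_Tw_of_isZero hz t 0

lemma sumTw_of_isZero {A : (CohB1.ProjSpace n k).Modules} (hz : IsZero A) : SumTw n k A :=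
  exists_iso_sigma_of_isZero (fun t => twistProjSpace n k t) hz

/-- on `P^0_k` every coherent module is a finite sum of twisting sheaves -/
theorem sumTw_of_n_zero (hn : n = 0) (A : (CohB1.ProjSpace n k).Modules) (hA : Coh.IsCoh A) :
    SumTw n k A := by
  have hreg : ∀ (G : (CohB1.ProjSpace n k).Modules) (m : ℤ), Curv2.IsMRegular k n G m :=
    fun G m i hi1 hin => absurd hin (by omega)
  obtain ⟨b, φ, hφ, -, hH0⟩ := exists_epi_of_isMRegular' hA 0 (hreg A 0)
  have hLc : Coh.IsCoh (∐ fun _ : Fin b => twistProjSpace n k (-(0 : ℤ))) :=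
    Groth.Agent.Lib.Cohomology.CohSigma.isCoh_sigma_fin _
      (fun _ => Groth.Agent.Lib.Cohomology.PnFinite.isCoh_twist n k _)
  have hKc : Coh.IsCoh (kernel φ) := isCoh_kernel hLc hA φ
  have hG := gg n k (kernel φ) hKc 0 (hreg _ 0)
  have hz : IsZero (kernel φ) := by
    by_contra h
    exact not_subsingleton_HH_zero_of_globallyGenerated n k (kernel φ) h 0 hG hH0
  have hmono : Mono φ := Preadditive.mono_of_kernel_zero (hz.eq_of_src _ _)
  have hiso : IsIso φ := isIso_of_mono_of_epi φ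
  exact ⟨b, fun _ => -(0 : ℤ), ⟨(asIso φ).symm⟩⟩

/-- Horrocks for the `n`-th syzygy -/
theorem sumTw_of_inv (hn : 1 ≤ n) {m₀ : ℤ} {A : (CohB1.ProjSpace n k).Modules}
    (h : Inv n k m₀ n A) : SumTw n k A :=
  (horrocks_iff hn A h.coh).2
    ⟨⟨m₀ + n - 1, fun t ht => h.low hn t (by omega)⟩,
      fun t i hi1 hin => h.mid i hi1 hin hin t⟩

/-- the step of the construction -/
theorem exists_cover (m₀ : ℤ) (j : ℕ) (A : (CohB1.ProjSpace n k).Modules) (h : Inv n k m₀ j A) :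
    ∃ (E : (CohB1.ProjSpace n k).Modules) (π : E ⟶ A), SumTw n k E ∧ Epi π ∧
      Inv n k m₀ (j + 1) (kernel π) ∧ (SumTw n k A → IsIso π) := by
  by_cases hA : SumTw n k A
  · exact ⟨A, 𝟙 A, hA, inferInstance,
      inv_of_isZero (isCoh_kernel h.coh h.coh (𝟙 A)) (isZero_kernel_of_mono (𝟙 A)) m₀ (j + 1),
      fun _ => inferInstance⟩
  · have hn : 1 ≤ n := by
      by_contra hn0
      exact hA (sumTw_of_n_zero (by omega) A h.coh)
    obtain ⟨b, φ, hφ, hK, hH0⟩ := exists_epi_of_isMRegular' h.coh (m₀ + j) h.reg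
    refine ⟨_, φ, ⟨b, fun _ => -(m₀ + j), ⟨Iso.refl _⟩⟩, hφ, ?_, fun h' => absurd h' hA⟩
    have hLc : Coh.IsCoh (∐ fun _ : Fin b => twistProjSpace n k (-(m₀ + j))) :=
      Groth.Agent.Lib.Cohomology.CohSigma.isCoh_sigma_fin _
        (fun _ => Groth.Agent.Lib.Cohomology.PnFinite.isCoh_twist n k _)
    have hKc : Coh.IsCoh (kernel φ) := isCoh_kernel hLc h.coh φ
    have hS := shortExact_kernel φ
    have hEv : ∀ (t : ℤ) (i : ℕ), 1 ≤ i → i < n → Subsingleton (Coh.HH (CohB1.ProjSpace n k)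
        ((Tw n k t).obj (∐ fun _ : Fin b => twistProjSpace n k (-(m₀ + j)))) i) :=
      fun t i hi1 hin => subsingleton_HH_Tw_of_iso_sigma n k (fun _ => -(m₀ + j)) (Iso.refl _) t i
        (fun _ => Groth.Agent.Lib.Proj.Bridge.subsingleton_HH_twist' n k (-(m₀ + j) + t) i
          (fun h => by omega) (fun h => by omega))
    have hE0 : ∀ t : ℤ, t < m₀ + j → Subsingleton (Coh.HH (CohB1.ProjSpace n k)
        ((Tw n k t).obj (∐ fun _ : Fin b => twistProjSpace n k (-(m₀ + j)))) 0) :=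
      fun t ht => subsingleton_HH_Tw_of_iso_sigma n k (fun _ => -(m₀ + j)) (Iso.refl _) t 0
        (fun _ => Groth.Agent.Lib.Proj.Bridge.subsingleton_HH_twist' n k (-(m₀ + j) + t) 0
          (fun h => by omega) (fun h => by omega))
    have hcast : m₀ + ((j + 1 : ℕ) : ℤ) = m₀ + j + 1 := by push_cast; ring
    refine ⟨hKc, ?_, ?_, ?_⟩
    · rw [hcast]
      exact hK
    · intro i hi1 hin hij t
      have hSt := shortExact_twistProjSpace n k t hS
      obtain ⟨p, rfl⟩ : ∃ p, i = p + 1 := ⟨i - 1, by omega⟩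
      have hL := hEv t (p + 1) hi1 hin
      refine subsingleton_of_forall_eq 0 fun x => ?_
      obtain ⟨y, rfl⟩ := exact₁ hSt p x (@Subsingleton.elim _ hL _ _)
      by_cases hp : p = 0
      · subst hp
        by_cases ht : t < m₀ + j
        · have hy : Subsingleton (Coh.HH (CohB1.ProjSpace n k) ((Tw n k t).obj A) 0) :=
            h.low (by omega) t ht
          have hy0 : y = 0 := @Subsingleton.elim _ hy y 0
          exact (congrArg (fun z => δ hSt 0 z) hy0).trans (map_zero _)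
        · have h1 := Groth.Agent.Lib.Helper77.TM.regular_all k n (kernel φ) hKc (m₀ + j + 1) hK
            (t - (m₀ + j)).toNat 1 le_rfl
          have e : m₀ + j + 1 + ((t - (m₀ + j)).toNat : ℤ) - ((1 : ℕ) : ℤ) = t := by
            rw [Int.toNat_of_nonneg (by omega)]
            push_cast
            ring
          rw [e] at h1
          exact @Subsingleton.elim _ h1 _ _
      · have hy : Subsingleton (Coh.HH (CohB1.ProjSpace n k) ((Tw n k t).obj A) p) :=
          h.mid p (by omega) (by omega) (by omega) t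
        have hy0 : y = 0 := @Subsingleton.elim _ hy y 0
        exact (congrArg (fun z => δ hSt p z) hy0).trans (map_zero _)
    · intro _ t ht
      have hSt := shortExact_twistProjSpace n k t hS
      by_cases ht' : t < m₀ + j
      · refine subsingleton_of_forall_eq 0 fun x => ?_
        apply hmap_f_injective_zero hSt
        exact @Subsingleton.elim _ (hE0 t ht') _ _
      · have ht2 : t = m₀ + j := by
          rw [hcast] at ht
          omega
        rw [ht2]
        exact hH0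

/-! ### the construction -/

section construction

variable (m₀ : ℤ)

noncomputable def covObj (j : ℕ) (s : {A : (CohB1.ProjSpace n k).Modules // Inv n k m₀ j A}) :
    (CohB1.ProjSpace n k).Modules :=
  (exists_cover m₀ j s.1 s.2).choose

noncomputable def covπ (j : ℕ) (s : {A : (CohB1.ProjSpace n k).Modules // Inv n k m₀ j A}) :
    covObj m₀ j s ⟶ s.1 :=
  (exists_cover m₀ j s.1 s.2).choose_spec.choose

lemma cov_spec (j : ℕ) (s : {A : (CohB1.ProjSpace n k).Modules // Inv n k m₀ j A}) :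
    SumTw n k (covObj m₀ j s) ∧ Epi (covπ m₀ j s) ∧
      Inv n k m₀ (j + 1) (kernel (covπ m₀ j s)) ∧ (SumTw n k s.1 → IsIso (covπ m₀ j s)) :=
  (exists_cover m₀ j s.1 s.2).choose_spec.choose_spec

instance (j : ℕ) (s : {A : (CohB1.ProjSpace n k).Modules // Inv n k m₀ j A}) :
    Epi (covπ m₀ j s) := (cov_spec m₀ j s).2.1

variable (F : (CohB1.ProjSpace n k).Modules) (h0 : Inv n k m₀ 0 F)

/-- the syzygies -/
noncomputable def seq : (j : ℕ) → {A : (CohB1.ProjSpace n k).Modules // Inv n k m₀ j A}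
  | 0 => ⟨F, h0⟩
  | j + 1 => ⟨kernel (covπ m₀ j (seq j)), (cov_spec m₀ j (seq j)).2.2.1⟩

noncomputable def sK (j : ℕ) : (CohB1.ProjSpace n k).Modules := (seq m₀ F h0 j).1

noncomputable def sE (j : ℕ) : (CohB1.ProjSpace n k).Modules := covObj m₀ j (seq m₀ F h0 j)

noncomputable def sπ (j : ℕ) : sE m₀ F h0 j ⟶ sK m₀ F h0 j := covπ m₀ j (seq m₀ F h0 j)

noncomputable def sι (j : ℕ) : sK m₀ F h0 (j + 1) ⟶ sE m₀ F h0 j :=
  kernel.ι (covπ m₀ j (seq m₀ F h0 j))

lemma sw (j : ℕ) : sι m₀ F h0 j ≫ sπ m₀ F h0 j = 0 := kernel.condition _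

lemma sS (j : ℕ) :
    (ShortComplex.mk (sι m₀ F h0 j) (sπ m₀ F h0 j) (sw m₀ F h0 j)).ShortExact :=
  shortExact_kernel (covπ m₀ j (seq m₀ F h0 j))

lemma sE_sumTw (j : ℕ) : SumTw n k (sE m₀ F h0 j) := (cov_spec m₀ j (seq m₀ F h0 j)).1

lemma isIso_sπ (j : ℕ) (h : SumTw n k (sK m₀ F h0 j)) : IsIso (sπ m₀ F h0 j) :=
  (cov_spec m₀ j (seq m₀ F h0 j)).2.2.2 h

lemma isZero_sK_succ (j : ℕ) (h : SumTw n k (sK m₀ F h0 j)) : IsZero (sK m₀ F h0 (j + 1)) := by
  have := isIso_sπ m₀ F h0 j h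
  exact isZero_kernel_of_mono (sπ m₀ F h0 j)

lemma sK_inv (j : ℕ) : Inv n k m₀ j (sK m₀ F h0 j) := (seq m₀ F h0 j).2

lemma exists_sumTw_sK : ∃ N, N ≤ n + 1 ∧ SumTw n k (sK m₀ F h0 N) := by
  by_cases hn : n = 0
  · exact ⟨1, by omega, sumTw_of_n_zero hn _ (sK_inv m₀ F h0 1).coh⟩
  · exact ⟨n, by omega, sumTw_of_inv (by omega) (sK_inv m₀ F h0 n)⟩

lemma isZero_sK_of_lt (i : ℕ) (hi : n + 1 < i) : IsZero (sK m₀ F h0 i) := by
  obtain ⟨N, hN, hs⟩ := exists_sumTw_sK m₀ F h0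
  have key : ∀ d : ℕ, IsZero (sK m₀ F h0 (N + 1 + d)) := by
    intro d
    induction d with
    | zero => exact isZero_sK_succ m₀ F h0 N hs
    | succ d ih => exact isZero_sK_succ m₀ F h0 (N + 1 + d) (sumTw_of_isZero ih)
  obtain ⟨d, rfl⟩ : ∃ d, i = N + 1 + d := ⟨i - (N + 1), by omega⟩
  exact key d

lemma isZero_sE_of_lt (i : ℕ) (hi : n + 1 < i) : IsZero (sE m₀ F h0 i) := by
  have hz := isZero_sK_of_lt m₀ F h0 i hi
  have := isIso_sπ m₀ F h0 i (sumTw_of_isZero hz)
  exact IsZero.of_iso hz (asIso (sπ m₀ F h0 i))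

end construction

variable (n k)

/-- **Syzygy theorem for coherent modules on `P^n_k`** (any field `k`, any `n ≥ 0`) -/
theorem syzygy (F : (CohB1.ProjSpace n k).Modules) (hF : Coh.IsCoh F) :
    ∃ (C : ChainComplex (CohB1.ProjSpace n k).Modules ℕ) (π : C.X 0 ⟶ F) (w : C.d 1 0 ≫ π = 0),
      (∀ i : ℕ, n + 1 < i → IsZero (C.X i)) ∧
      (∀ i : ℕ, ∃ (m : ℕ) (d : Fin m → ℤ),
        Nonempty (C.X i ≅ ∐ fun j : Fin m => twistProjSpace n k (d j))) ∧
      (∀ i : ℕ, 1 ≤ i → IsZero (C.homology i)) ∧ Epi π ∧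
      (ShortComplex.mk (C.d 1 0) π w).Exact := by
  obtain ⟨m₀, hreg⟩ := exists_isMRegular' n k F hF
  have h0 : Inv n k m₀ 0 F :=
    { coh := hF
      reg := by
        rw [Nat.cast_zero, add_zero]
        exact hreg
      mid := fun i _ _ h => absurd h (Nat.not_lt_zero i)
      low := fun h => absurd h (by omega) }
  refine ⟨Splice.cx (sK m₀ F h0) (sE m₀ F h0) (sι m₀ F h0) (sπ m₀ F h0) (sw m₀ F h0),
    sπ m₀ F h0 0, Splice.d_comp_π _ _ _ _ _, fun i hi => isZero_sE_of_lt m₀ F h0 i hi,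
    fun i => sE_sumTw m₀ F h0 i,
    fun i hi => Splice.cx_isZero_homology _ _ _ _ _ (sS m₀ F h0) i hi,
    (sS m₀ F h0 0).epi_g, Splice.exact_d_π _ _ _ _ _ (sS m₀ F h0)⟩

end Groth.Agent.Lib.Proj.Syz
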