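import Mathlib
import Groth.Prelude.Def_GrTwist
import Groth.Agent.Lib.Proj.Helper66_GrSections
import Groth.Agent.Lib.QCoh.Helper66_LocCrit

/-!
# Quasi-coherence of Serre's twisting sheaves `O(n)` on `Proj` of an arbitrary graded ring (helper66)

ns `Groth.Agent.Lib.Proj.GrQCohTwist` (port of `Helper66_QCoh` to `GrTwist`).

* `exists_frac_fn`: every function on `D₊(f)` is `b / f ^ k`, `b ∈ 𝒜 (k d)` (pointwise form);
* `basicOpen_eq`: for such a function `g`, `(Proj 𝒜).basicOpen g = D₊(f b)`;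
* `isUnit_germ_iff`;
* `tval`, `fval` (values of sections of `O(n)` / of functions in the localization at a point), `tval_map`,
  `tval_smul`, `tval_ext`, `fval_map`, `fval_pow`;
* `isOpenCover_basicOpen`: the `D₊(f)`, `f` homogeneous of positive degree, cover `Proj 𝒜`;
* `twist_isQuasicoherent`.
-/

set_option autoImplicit false
universe u
open CategoryTheory AlgebraicGeometry Opposite TopologicalSpace

namespace Groth.Agent.Lib.Proj.GrQCohTwist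

variable {A σ : Type u} [CommRing A] [SetLike σ A] [AddSubgroupClass σ A] (𝒜 : ℕ → σ) [GradedRing 𝒜]

/-- every function on `D₊(f)` is `b / f ^ k` -/
theorem exists_frac_fn {d : ℕ} (hd : 0 < d) {f : A} (hf : f ∈ 𝒜 d)
    (g : Γ(Proj 𝒜, Proj.basicOpen 𝒜 f)) :
    ∃ (k : ℕ) (b : A), b ∈ 𝒜 (k * d) ∧ ∀ x : ProjectiveSpectrum.basicOpen 𝒜 f,
      ((g : GrTwist.O (𝒜 := 𝒜) (op (ProjectiveSpectrum.basicOpen 𝒜 f))).1 x).val =
        (Localization.mk b ⟨f ^ k, fun h => (ProjectiveSpectrum.mem_basicOpen 𝒜 f x.1).mp x.2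
            (x.1.isPrime.mem_of_pow_mem k h)⟩ : GrTwist.Loc 𝒜 x.1) := by
  have h := (Proj.basicOpenIsoAway 𝒜 f hf hd).inv_hom_id
  have h2 := congr($h g)
  rw [Proj.basicOpenIsoAway_hom] at h2
  obtain ⟨k, b, hb, hz⟩ := HomogeneousLocalization.Away.mk_surjective 𝒜 hf
    ((Proj.basicOpenIsoAway 𝒜 f hf hd).inv g)
  refine ⟨k, b, by simpa [smul_eq_mul] using hb, fun x => ?_⟩
  have h3 : g = (Proj.awayToSection 𝒜 f).hom (HomogeneousLocalization.Away.mk 𝒜 hf k b hb) := by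
    rw [hz]; exact h2.symm
  rw [h3]
  have h4 := ProjectiveSpectrum.Proj.awayToSection_apply 𝒜 f
    (HomogeneousLocalization.Away.mk 𝒜 hf k b hb) x
  refine h4.trans ?_
  rw [HomogeneousLocalization.Away.val_mk, Localization.mk_eq_mk', IsLocalization.map_mk',
    Localization.mk_eq_mk']
  rfl

theorem isUnit_germ_iff (U : (Proj 𝒜).Opens) (g : Γ(Proj 𝒜, U)) (x : Proj 𝒜) (hx : x ∈ U) :
    IsUnit ((Proj 𝒜).presheaf.germ U x hx g) ↔
      IsUnit (((g : GrTwist.O (𝒜 := 𝒜) (op U)).1 ⟨x, hx⟩).val) := by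
  rw [HomogeneousLocalization.isUnit_iff_isUnit_val]
  have h := Proj.stalkIso'_germ 𝒜 U x hx g
  rw [← h]
  exact (MulEquiv.isUnit_map (Proj.stalkIso' 𝒜 x).toMulEquiv).symm

/-- the non-vanishing locus of the function `b / f ^ k` on `D₊(f)` is `D₊(f b)` -/
theorem basicOpen_eq {f : A} (g : Γ(Proj 𝒜, Proj.basicOpen 𝒜 f)) (k : ℕ) (b : A)
    (hg : ∀ x : ProjectiveSpectrum.basicOpen 𝒜 f,
      ((g : GrTwist.O (𝒜 := 𝒜) (op (ProjectiveSpectrum.basicOpen 𝒜 f))).1 x).val =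
        (Localization.mk b ⟨f ^ k, fun h => (ProjectiveSpectrum.mem_basicOpen 𝒜 f x.1).mp x.2
            (x.1.isPrime.mem_of_pow_mem k h)⟩ : GrTwist.Loc 𝒜 x.1)) :
    (Proj 𝒜).basicOpen g = Proj.basicOpen 𝒜 (f * b) := by
  ext x
  rw [Proj.basicOpen_mul]
  constructor
  · intro hx
    obtain ⟨hxf, hu⟩ := (Scheme.mem_basicOpen'' (X := Proj 𝒜) g x).mp hx
    refine ⟨hxf, ?_⟩
    rw [isUnit_germ_iff] at hu
    have hu' := (congrArg IsUnit (hg ⟨x, hxf⟩)).mp hu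
    rw [Localization.mk_eq_mk', IsLocalization.AtPrime.isUnit_mk'_iff] at hu'
    exact hu'
  · rintro ⟨hxf, hxb⟩
    refine (Scheme.mem_basicOpen'' (X := Proj 𝒜) g x).mpr ⟨hxf, ?_⟩
    rw [isUnit_germ_iff]
    refine (congrArg IsUnit (hg ⟨x, hxf⟩)).mpr ?_
    rw [Localization.mk_eq_mk', IsLocalization.AtPrime.isUnit_mk'_iff]
    exact hxb

/-- value of a section of `O(n)` at a point -/
noncomputable abbrev tval (n : ℤ) {U : (Proj 𝒜).Opens} (x : Γ(GrTwist.twist 𝒜 n, U)) (p : U) :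
    GrTwist.Loc 𝒜 p.1 :=
  (((x : GrTwist.sectN (𝒜 := 𝒜) n (op U)).1 p : GrTwist.twistAt 𝒜 n p.1) : GrTwist.Loc 𝒜 p.1)

/-- value of a function at a point -/
noncomputable abbrev fval {U : (Proj 𝒜).Opens} (r : Γ(Proj 𝒜, U)) (p : U) : GrTwist.Loc 𝒜 p.1 :=
  ((r : GrTwist.O (𝒜 := 𝒜) (op U)).1 p).val

lemma tval_map (n : ℤ) {U V : (Proj 𝒜).Opens} (i : V ⟶ U) (x : Γ(GrTwist.twist 𝒜 n, U)) (p : V) :
    tval 𝒜 n ((GrTwist.twist 𝒜 n).presheaf.map i.op x) p = tval 𝒜 n x ⟨p.1, i.le p.2⟩ := rfl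

lemma fval_map {U V : (Proj 𝒜).Opens} (i : V ⟶ U) (r : Γ(Proj 𝒜, U)) (p : V) :
    fval 𝒜 ((Proj 𝒜).presheaf.map i.op r) p = fval 𝒜 r ⟨p.1, i.le p.2⟩ := rfl

lemma fval_pow {U : (Proj 𝒜).Opens} (r : Γ(Proj 𝒜, U)) (N : ℕ) (p : U) :
    fval 𝒜 (r ^ N) p = fval 𝒜 r p ^ N := by
  change ((r : GrTwist.O (𝒜 := 𝒜) (op U)).1 p ^ N).val = _
  rw [HomogeneousLocalization.val_pow]

lemma tval_smul (n : ℤ) {U : (Proj 𝒜).Opens} (r : Γ(Proj 𝒜, U)) (x : Γ(GrTwist.twist 𝒜 n, U))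
    (p : U) : tval 𝒜 n (r • x) p = fval 𝒜 r p * tval 𝒜 n x p := by
  change (((r : GrTwist.O (𝒜 := 𝒜) (op U)).1 p • (x : GrTwist.sectN (𝒜 := 𝒜) n (op U)).1 p :
    GrTwist.twistAt 𝒜 n p.1) : GrTwist.Loc 𝒜 p.1) = _
  exact GrTwist.coe_smul_val n p.1 _ _

lemma tval_ext (n : ℤ) {U : (Proj 𝒜).Opens} {x y : Γ(GrTwist.twist 𝒜 n, U)}
    (h : ∀ p : U, tval 𝒜 n x p = tval 𝒜 n y p) : x = y := by
  apply Subtype.ext
  funext p
  exact Subtype.ext (h p)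

lemma tval_zero (n : ℤ) {U : (Proj 𝒜).Opens} (p : U) :
    tval 𝒜 n (0 : Γ(GrTwist.twist 𝒜 n, U)) p = 0 := rfl

/-- the `D₊(f)`, `f` homogeneous of positive degree, cover `Proj 𝒜` -/
theorem isOpenCover_basicOpen :
    IsOpenCover (fun f : {f : A // ∃ d : ℕ, 0 < d ∧ f ∈ 𝒜 d} => Proj.basicOpen 𝒜 f.1) := by
  rw [IsOpenCover, ← top_le_iff]
  intro x _
  obtain ⟨i, hi, f, hf, hx⟩ := Groth.Agent.Lib.Proj.GrGlue.exists_pos_homogeneous_mem_basicOpen 𝒜 x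
  exact Opens.mem_iSup.2 ⟨⟨f, i, hi, hf⟩, hx⟩

/-- **Surjectivity part** for `O(n)`: a section over `D₊(f b)` times a power of `b / f ^ k` extends to `D₊(f)`. -/
theorem twist_surj (n : ℤ) {d : ℕ} (hd : 0 < d) {f : A} (hf : f ∈ 𝒜 d) {k : ℕ} {b : A}
    (hb : b ∈ 𝒜 (k * d)) (W : (Proj 𝒜).Opens) (hW : W = Proj.basicOpen 𝒜 (f * b))
    (hWV : W ≤ Proj.basicOpen 𝒜 f) (y : Γ(GrTwist.twist 𝒜 n, W)) :
    ∃ (N : ℕ) (x : Γ(GrTwist.twist 𝒜 n, Proj.basicOpen 𝒜 f)), ∀ p : W,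
      tval 𝒜 n x ⟨p.1, hWV p.2⟩ =
        (Localization.mk b ⟨f ^ k, fun h => (ProjectiveSpectrum.mem_basicOpen 𝒜 f p.1).mp (hWV p.2)
            (p.1.isPrime.mem_of_pow_mem k h)⟩ : GrTwist.Loc 𝒜 p.1) ^ N * tval 𝒜 n y p := by
  subst hW
  have hfb : f * b ∈ 𝒜 (d + k * d) := SetLike.mul_mem_graded hf hb
  obtain ⟨j, i, a, hi, hy⟩ := GrSections.exists_frac 𝒜 n (d := d + k * d) (by omega) hfb y
  have hfm : f ^ ((k + 1) * j) ∈ 𝒜 ((k + 1) * j * d) := by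
    have := SetLike.pow_mem_graded ((k + 1) * j) hf
    simpa [smul_eq_mul] using this
  have hij : (i : ℤ) = (((k + 1) * j * d : ℕ) : ℤ) + n := by
    rw [hi]; push_cast; ring
  have hle : ProjectiveSpectrum.basicOpen 𝒜 f ≤ ProjectiveSpectrum.basicOpen 𝒜 (f ^ ((k + 1) * j)) := by
    intro p hp
    rw [ProjectiveSpectrum.mem_basicOpen] at hp ⊢
    exact fun h => hp (p.isPrime.mem_of_pow_mem _ h)
  refine ⟨j, GrTwist.resN n (homOfLE hle).op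
    (GrSections.fracSect 𝒜 n a ⟨f ^ ((k + 1) * j), hfm⟩ hij), fun p => ?_⟩
  have h1 := hy p
  change (Localization.mk a.1 _ : GrTwist.Loc 𝒜 p.1) = _
  refine Eq.trans ?_ (congrArg (fun q => _ * q) h1.symm)
  rw [Localization.mk_pow, Localization.mk_mul]
  refine (GrSections.mk_eq_mk_iff' 𝒜 (p.1 : ProjectiveSpectrum 𝒜) _ _ _ _).mpr ?_
  refine ⟨1, fun hh => p.1.isPrime.ne_top ((Ideal.eq_top_iff_one _).mpr hh), ?_⟩
  simp only [one_mul, Submonoid.coe_mul, SubmonoidClass.coe_pow]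
  ring

/-- **Injectivity part** for `O(n)`: a section over `D₊(f)` vanishing on `D₊(f b)` is killed by a power of
`b / f ^ k`. -/
theorem twist_inj (n : ℤ) {d : ℕ} (hd : 0 < d) {f : A} (hf : f ∈ 𝒜 d) {k : ℕ} {b : A}
    (hb : b ∈ 𝒜 (k * d)) (W : (Proj 𝒜).Opens) (hW : W = Proj.basicOpen 𝒜 (f * b))
    (hWV : W ≤ Proj.basicOpen 𝒜 f) (x : Γ(GrTwist.twist 𝒜 n, Proj.basicOpen 𝒜 f))
    (hx : ∀ p : W, tval 𝒜 n x ⟨p.1, hWV p.2⟩ = 0) :
    ∃ N : ℕ, ∀ p : Proj.basicOpen 𝒜 f,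
      (Localization.mk b ⟨f ^ k, fun h => (ProjectiveSpectrum.mem_basicOpen 𝒜 f p.1).mp p.2
            (p.1.isPrime.mem_of_pow_mem k h)⟩ : GrTwist.Loc 𝒜 p.1) ^ N * tval 𝒜 n x p = 0 := by
  subst hW
  have hfb : f * b ∈ 𝒜 (d + k * d) := SetLike.mul_mem_graded hf hb
  obtain ⟨j, i, a, hi, hxa⟩ := GrSections.exists_frac 𝒜 n hd hf x
  obtain ⟨N, hN⟩ := GrSections.exists_pow_mul_eq_zero 𝒜 (d := d + k * d) (by omega) hfb a.2
    (fun p hp => by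
      have hp' : p ∈ Proj.basicOpen 𝒜 (f * b) := hp
      have h1 := hx ⟨p, hp'⟩
      have h2 := hxa ⟨p, hWV hp'⟩
      exact GrSections.exists_mul_eq_zero_of_mk_eq_zero 𝒜 p a.1 _ (h2.symm.trans h1))
  refine ⟨N, fun p => ?_⟩
  have h2 := hxa p
  refine (congrArg (fun q => _ * q) h2).trans ?_
  rw [Localization.mk_pow, Localization.mk_mul, ← Localization.mk_zero 1]
  refine (GrSections.mk_eq_mk_iff' 𝒜 (p.1 : ProjectiveSpectrum 𝒜) _ _ _ _).mpr ?_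
  refine ⟨f ^ N, fun hh => (ProjectiveSpectrum.mem_basicOpen 𝒜 f p.1).mp p.2
    (p.1.isPrime.mem_of_pow_mem N hh), ?_⟩
  simp only [OneMemClass.coe_one, one_mul, mul_zero, sub_zero]
  calc f ^ N * (b ^ N * a.1) = (f * b) ^ N * a.1 := by ring
    _ = 0 := hN

/-- **`O(n)` is quasi-coherent on `Proj` of any graded ring.** -/
theorem twist_isQuasicoherent (n : ℤ) : (GrTwist.twist 𝒜 n).IsQuasicoherent := by
  refine Groth.Agent.Lib.QCoh.LocCrit.isQuasicoherent_of_elementwise _ _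
    (isOpenCover_basicOpen 𝒜) ?_ ?_ ?_
  · rintro ⟨f, d, hd, hf⟩
    exact Proj.isAffineOpen_basicOpen 𝒜 f hf hd
  · rintro ⟨f, d, hd, hf⟩ g y
    obtain ⟨k, b, hb, hg⟩ := exists_frac_fn 𝒜 hd hf g
    have e := basicOpen_eq 𝒜 g k b hg
    obtain ⟨N, x, hx⟩ := twist_surj 𝒜 n hd hf hb _ e ((Proj 𝒜).basicOpen_le g) y
    refine ⟨N, x, tval_ext 𝒜 n fun p => ?_⟩
    rw [tval_map, tval_smul, fval_pow, fval_map]
    refine (hx p).trans ?_
    congr 2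
    exact (hg ⟨p.1, (Proj 𝒜).basicOpen_le g p.2⟩).symm
  · rintro ⟨f, d, hd, hf⟩ g x hx
    obtain ⟨k, b, hb, hg⟩ := exists_frac_fn 𝒜 hd hf g
    have e := basicOpen_eq 𝒜 g k b hg
    obtain ⟨N, hN⟩ := twist_inj 𝒜 n hd hf hb _ e ((Proj 𝒜).basicOpen_le g) x
      (fun p => by
        have := congrArg (fun s => tval 𝒜 n s p) hx
        exact this)
    refine ⟨N, tval_ext 𝒜 n fun p => ?_⟩
    rw [tval_smul, fval_pow, tval_zero]
    refine Eq.trans ?_ (hN p)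
    congr 2
    exact hg _

end Groth.Agent.Lib.Proj.GrQCohTwist
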