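import Mathlib
import Groth.Prelude.Def_GrMod3
import Groth.Agent.Lib.Proj.Helper66_GrModQCoh

/-!
# Exactness of `M ↦ M(n)~` on sections over `D₊(f)` (gradings by additive subgroups) (helper66)

ns `Groth.Agent.Lib.Proj.GrModExact`.
-/

set_option autoImplicit false
set_option linter.unusedSectionVars false
universe u
open CategoryTheory AlgebraicGeometry Opposite TopologicalSpace

namespace Groth.Agent.Lib.Proj.GrModExact

open Groth.Agent.Lib.Proj.GrModQCoh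

variable {A σ : Type u} [CommRing A] [SetLike σ A] [AddSubgroupClass σ A] (𝒜 : ℕ → σ) [GradedRing 𝒜]
variable {M τ : Type u} [AddCommGroup M] [Module A M] [SetLike τ M] [AddSubgroupClass τ M]
  (ℳ : ℕ → τ) [DirectSum.Decomposition ℳ] [SetLike.GradedSMul 𝒜 ℳ]
variable {N τ' : Type u} [AddCommGroup N] [Module A N] [SetLike τ' N] [AddSubgroupClass τ' N]
  (𝒩 : ℕ → τ') [DirectSum.Decomposition 𝒩] [SetLike.GradedSMul 𝒜 𝒩]

/-- a degree-preserving additive map commutes with taking homogeneous components -/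
lemma decompose_map (u : M →ₗ[A] N) (hu : ∀ (i : ℕ) (m : M), m ∈ ℳ i → u m ∈ 𝒩 i) (m : M) (j : ℕ) :
    (DirectSum.decompose 𝒩 (u m) j : N) = u (DirectSum.decompose ℳ m j : M) := by
  classical
  conv_lhs => rw [← DirectSum.sum_support_decompose ℳ m, map_sum, DirectSum.decompose_sum]
  rw [DFinsupp.finsetSum_apply, AddSubmonoidClass.coe_finsetSum]
  have h4 : ∀ i ∈ (DirectSum.decompose ℳ m).support,
      ((DirectSum.decompose 𝒩 (u (DirectSum.decompose ℳ m i : M))) j : N) =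
        if i = j then u (DirectSum.decompose ℳ m j : M) else 0 := by
    intro i _
    split_ifs with hij
    · subst hij
      exact DirectSum.decompose_of_mem_same 𝒩 (hu i _ (Subtype.prop _))
    · exact DirectSum.decompose_of_mem_ne 𝒩 (hu i _ (Subtype.prop _)) hij
  rw [Finset.sum_congr rfl h4, Finset.sum_ite_eq']
  by_cases hj : j ∈ (DirectSum.decompose ℳ m).support
  · rw [if_pos hj]
  · rw [if_neg hj]
    rw [DFinsupp.notMem_support_iff] at hj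
    rw [hj]
    simp

section
variable {d : ℕ} {f : A} (hf : f ∈ 𝒜 d)

include hf in
lemma pow_mem (k : ℕ) : f ^ k ∈ 𝒜 (k * d) := by
  have := SetLike.pow_mem_graded k hf
  simpa [smul_eq_mul] using this

lemma basicOpen_le_pow (f : A) (k : ℕ) :
    ProjectiveSpectrum.basicOpen 𝒜 f ≤ ProjectiveSpectrum.basicOpen 𝒜 (f ^ k) := by
  intro p hp
  rw [ProjectiveSpectrum.mem_basicOpen] at hp ⊢
  exact fun h => hp (p.isPrime.mem_of_pow_mem _ h)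

/-- the section `m / f ^ k` of `M(n)~` over `D₊(f)` -/
noncomputable def sec (n : ℤ) (k : ℕ) {i : ℕ} (m : ℳ i) (hi : (i : ℤ) = ((k * d : ℕ) : ℤ) + n) :
    Γ(GrMod.tilde 𝒜 ℳ n, Proj.basicOpen 𝒜 f) :=
  GrMod.res 𝒜 ℳ n (homOfLE (basicOpen_le_pow 𝒜 f k)).op
    (GrModSections.fracSect 𝒜 ℳ n m ⟨f ^ k, pow_mem 𝒜 hf k⟩ hi)

lemma mval_sec (n : ℤ) (k : ℕ) {i : ℕ} (m : ℳ i) (hi : (i : ℤ) = ((k * d : ℕ) : ℤ) + n)
    (p : Proj.basicOpen 𝒜 f) :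
    mval 𝒜 ℳ n (sec 𝒜 ℳ hf n k m hi) p =
      (LocalizedModule.mk (m : M) ⟨f ^ k, fun h => (ProjectiveSpectrum.mem_basicOpen 𝒜 f p.1).mp p.2
        (p.1.isPrime.mem_of_pow_mem k h)⟩ : GrMod.LocMod 𝒜 (M := M) p.1) := rfl

end

variable {ℳ 𝒩}
variable {L τ'' : Type u} [AddCommGroup L] [Module A L] [SetLike τ'' L] [AddSubgroupClass τ'' L]
  {ℒ : ℕ → τ''} [DirectSum.Decomposition ℒ] [SetLike.GradedSMul 𝒜 ℒ]

lemma mval_map_app (u : M →ₗ[A] N) (hu : ∀ (i : ℕ) (m : M), m ∈ ℳ i → u m ∈ 𝒩 i) (n : ℤ)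
    (V : (Proj 𝒜).Opens) (s : Γ(GrMod.tilde 𝒜 ℳ n, V)) (p : V) :
    mval 𝒜 𝒩 n ((GrMod.map 𝒜 u hu n).app V s) p = GrMod.locMap u p.1 (mval 𝒜 ℳ n s p) := rfl

/-- **exactness on sections over `D₊(f)`** -/
theorem exact_app_basicOpen (u : M →ₗ[A] N) (hu : ∀ (i : ℕ) (m : M), m ∈ ℳ i → u m ∈ 𝒩 i)
    (v : N →ₗ[A] L) (hv : ∀ (i : ℕ) (m : N), m ∈ 𝒩 i → v m ∈ ℒ i)
    (hex : Function.Exact u v) (n : ℤ) {d : ℕ} (hd : 0 < d) (f : A) (hf : f ∈ 𝒜 d) :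
    Function.Exact ((GrMod.map 𝒜 u hu n).app (Proj.basicOpen 𝒜 f))
      ((GrMod.map 𝒜 v hv n).app (Proj.basicOpen 𝒜 f)) := by
  intro y
  constructor
  · intro hy
    obtain ⟨k, i, m, hi, hym⟩ := GrModSections.exists_frac 𝒜 𝒩 n hd hf y
    -- `v m / f^k = 0` at all points of `D₊(f)`
    have hvm : ∀ p : ProjectiveSpectrum 𝒜, f ∉ p.asHomogeneousIdeal →
        ∃ w : A, w ∉ p.asHomogeneousIdeal ∧ w • v (m : N) = 0 := by
      intro p hp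
      have h1 := congrArg (fun s => mval 𝒜 ℒ n s ⟨p, hp⟩) hy
      simp only at h1
      rw [mval_map_app] at h1
      have h2 : mval 𝒜 𝒩 n y ⟨p, hp⟩ = _ := hym ⟨p, hp⟩
      rw [h2, GrMod.locMap_mk] at h1
      exact GrModSections.exists_smul_eq_zero_of_mk_eq_zero 𝒜 p _ _ h1
    obtain ⟨K, hK⟩ := GrGlue.exists_pow_smul_eq_zero 𝒜 ℒ hd hf i (v (m : N)) (hv i _ m.2) hvm
    have hK' : v (f ^ K • (m : N)) = 0 := by rw [map_smul, hK]
    obtain ⟨m', hm'⟩ := (hex _).1 hK'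
    have hdeg : f ^ K • (m : N) ∈ 𝒩 (K * d + i) :=
      SetLike.GradedSMul.smul_mem (pow_mem 𝒜 hf K) m.2
    have hm'' : u (DirectSum.decompose ℳ m' (K * d + i) : M) = f ^ K • (m : N) := by
      rw [← decompose_map ℳ 𝒩 u hu, hm', DirectSum.decompose_of_mem_same 𝒩 hdeg]
    have hi' : ((K * d + i : ℕ) : ℤ) = (((K + k) * d : ℕ) : ℤ) + n := by
      push_cast; rw [hi]; ring
    refine ⟨sec 𝒜 ℳ hf n (K + k) (DirectSum.decompose ℳ m' (K * d + i)) hi', ?_⟩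
    refine mval_ext 𝒜 𝒩 n fun p => ?_
    rw [mval_map_app, mval_sec, GrMod.locMap_mk, hm'']
    refine Eq.trans ?_ (hym p).symm
    rw [LocalizedModule.mk_eq]
    refine ⟨1, ?_⟩
    simp only [one_smul, Submonoid.smul_def, pow_add, mul_smul]
    rw [smul_comm]
  · rintro ⟨x, rfl⟩
    obtain ⟨k, i, m, hi, hxm⟩ := GrModSections.exists_frac 𝒜 ℳ n hd hf x
    refine mval_ext 𝒜 ℒ n fun p => ?_
    rw [mval_map_app, mval_map_app]
    have h2 : mval 𝒜 ℳ n x p = _ := hxm p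
    rw [h2, GrMod.locMap_mk, GrMod.locMap_mk, hex.apply_apply_eq_zero, LocalizedModule.zero_mk]
    rfl

/-- **(TN)-injective maps are injective on sections over `D₊(f)`** -/
theorem map_app_injective (u : M →ₗ[A] N) (hu : ∀ (i : ℕ) (m : M), m ∈ ℳ i → u m ∈ 𝒩 i)
    (hinj : ∃ n₀ : ℕ, ∀ k : ℕ, n₀ ≤ k → ∀ m ∈ ℳ k, u m = 0 → m = 0)
    (n : ℤ) {d : ℕ} (hd : 0 < d) (f : A) (hf : f ∈ 𝒜 d) :
    Function.Injective ((GrMod.map 𝒜 u hu n).app (Proj.basicOpen 𝒜 f)) := by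
  obtain ⟨n₀, hn₀⟩ := hinj
  rw [injective_iff_map_eq_zero]
  intro x hx
  obtain ⟨k, i, m, hi, hxm⟩ := GrModSections.exists_frac 𝒜 ℳ n hd hf x
  have hum : ∀ p : ProjectiveSpectrum 𝒜, f ∉ p.asHomogeneousIdeal →
      ∃ w : A, w ∉ p.asHomogeneousIdeal ∧ w • u (m : M) = 0 := by
    intro p hp
    have h1 := congrArg (fun s => mval 𝒜 𝒩 n s ⟨p, hp⟩) hx
    simp only at h1
    rw [mval_map_app] at h1
    have h2 : mval 𝒜 ℳ n x ⟨p, hp⟩ = _ := hxm ⟨p, hp⟩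
    rw [h2, GrMod.locMap_mk] at h1
    exact GrModSections.exists_smul_eq_zero_of_mk_eq_zero 𝒜 p _ _ h1
  obtain ⟨K, hK⟩ := GrGlue.exists_pow_smul_eq_zero 𝒜 𝒩 hd hf i (u (m : M)) (hu i _ m.2) hum
  have hK' : u (f ^ (K + n₀) • (m : M)) = 0 := by
    rw [map_smul, pow_add, mul_comm, mul_smul, hK, smul_zero]
  have hdeg : f ^ (K + n₀) • (m : M) ∈ ℳ ((K + n₀) * d + i) :=
    SetLike.GradedSMul.smul_mem (pow_mem 𝒜 hf (K + n₀)) m.2
  have h0 : f ^ (K + n₀) • (m : M) = 0 :=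
    hn₀ _ (by nlinarith) _ hdeg hK'
  refine mval_ext 𝒜 ℳ n fun p => ?_
  refine (hxm p).trans ?_
  rw [mval_zero, ← LocalizedModule.zero_mk 1, LocalizedModule.mk_eq]
  refine ⟨⟨f ^ (K + n₀), fun hh => (ProjectiveSpectrum.mem_basicOpen 𝒜 f p.1).mp p.2
    (p.1.isPrime.mem_of_pow_mem _ hh)⟩, ?_⟩
  simp only [one_smul, Submonoid.smul_def, smul_zero]
  exact h0

/-- **(TN)-surjective maps are surjective on sections over `D₊(f)`** -/
theorem map_app_surjective (u : M →ₗ[A] N) (hu : ∀ (i : ℕ) (m : M), m ∈ ℳ i → u m ∈ 𝒩 i)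
    (hsurj : ∃ n₀ : ℕ, ∀ k : ℕ, n₀ ≤ k → ∀ m' ∈ 𝒩 k, ∃ m ∈ ℳ k, u m = m')
    (n : ℤ) {d : ℕ} (hd : 0 < d) (f : A) (hf : f ∈ 𝒜 d) :
    Function.Surjective ((GrMod.map 𝒜 u hu n).app (Proj.basicOpen 𝒜 f)) := by
  obtain ⟨n₀, hn₀⟩ := hsurj
  intro y
  obtain ⟨k, i, m', hi, hym⟩ := GrModSections.exists_frac 𝒜 𝒩 n hd hf y
  have hdeg : f ^ n₀ • (m' : N) ∈ 𝒩 (n₀ * d + i) :=
    SetLike.GradedSMul.smul_mem (pow_mem 𝒜 hf n₀) m'.2
  obtain ⟨m, hm, hum⟩ := hn₀ _ (by nlinarith) _ hdeg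
  have hi' : ((n₀ * d + i : ℕ) : ℤ) = (((n₀ + k) * d : ℕ) : ℤ) + n := by
    push_cast; rw [hi]; ring
  refine ⟨sec 𝒜 ℳ hf n (n₀ + k) ⟨m, hm⟩ hi', ?_⟩
  refine mval_ext 𝒜 𝒩 n fun p => ?_
  rw [mval_map_app, mval_sec, GrMod.locMap_mk]
  change LocalizedModule.mk (u m) _ = _
  rw [hum]
  refine Eq.trans ?_ (hym p).symm
  rw [LocalizedModule.mk_eq]
  refine ⟨1, ?_⟩
  simp only [one_smul, Submonoid.smul_def, pow_add, mul_smul]
  rw [smul_comm]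

end Groth.Agent.Lib.Proj.GrModExact
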