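import Mathlib
import Groth.Prelude.Def_RelProj3
import Groth.Agent.Lib.Proj.Helper66_GrModExact
import Groth.Agent.Lib.QCoh.Helper50_BaseChange

/-!
# `M(n)~ → Φ_*(N(n)~)` is an isomorphism for `N = M` by restriction of scalars (helper66)

ns `Groth.Agent.Lib.Proj.GrModComap`.
-/

set_option autoImplicit false
set_option linter.unusedSectionVars false
universe u
open CategoryTheory AlgebraicGeometry Opposite TopologicalSpace
open scoped HomogeneousIdeal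

namespace Groth.Agent.Lib.Proj.GrModComap

open Groth.Agent.Lib.Proj.GrModQCoh Groth.Agent.Lib.Proj.GrModExact

variable {A σ : Type u} [CommRing A] [SetLike σ A] [AddSubgroupClass σ A] {𝒜 : ℕ → σ} [GradedRing 𝒜]
  {B σ' : Type u} [CommRing B] [SetLike σ' B] [AddSubgroupClass σ' B] {ℬ : ℕ → σ'} [GradedRing ℬ]
  (ψ : 𝒜 →+*ᵍ ℬ) (hψ : ℬ₊ ≤ (𝒜₊).map ψ)
  {M τ : Type u} [AddCommGroup M] [Module A M] [SetLike τ M] [AddSubgroupClass τ M] (ℳ : ℕ → τ)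
  [SetLike.GradedSMul 𝒜 ℳ] [DirectSum.Decomposition ℳ]
  {N τ' : Type u} [AddCommGroup N] [Module B N] [SetLike τ' N] [AddSubgroupClass τ' N] (𝒩 : ℕ → τ')
  [SetLike.GradedSMul ℬ 𝒩] [DirectSum.Decomposition 𝒩]

/-- a degree-preserving additive map commutes with taking homogeneous components -/
lemma decompose_map_add (v : M →+ N) (hv : ∀ (i : ℕ) (m : M), m ∈ ℳ i → v m ∈ 𝒩 i) (m : M) (j : ℕ) :
    (DirectSum.decompose 𝒩 (v m) j : N) = v (DirectSum.decompose ℳ m j : M) := by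
  classical
  conv_lhs => rw [← DirectSum.sum_support_decompose ℳ m, map_sum, DirectSum.decompose_sum]
  rw [DFinsupp.finsetSum_apply, AddSubmonoidClass.coe_finsetSum]
  have h4 : ∀ i ∈ (DirectSum.decompose ℳ m).support,
      ((DirectSum.decompose 𝒩 (v (DirectSum.decompose ℳ m i : M))) j : N) =
        if i = j then v (DirectSum.decompose ℳ m j : M) else 0 := by
    intro i _
    split_ifs with hij
    · subst hij
      exact DirectSum.decompose_of_mem_same 𝒩 (hv i _ (Subtype.prop _))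
    · exact DirectSum.decompose_of_mem_ne 𝒩 (hv i _ (Subtype.prop _)) hij
  rw [Finset.sum_congr rfl h4, Finset.sum_ite_eq']
  by_cases hj : j ∈ (DirectSum.decompose ℳ m).support
  · rw [if_pos hj]
  · rw [if_neg hj]
    rw [DFinsupp.notMem_support_iff] at hj
    rw [hj]
    simp

lemma preimage_basicOpen (f : A) :
    (Proj.map ψ hψ) ⁻¹ᵁ (Proj.basicOpen 𝒜 f) = Proj.basicOpen ℬ (ψ f) := by
  ext y
  change (Proj.map ψ hψ).base y ∈ Proj.basicOpen 𝒜 f ↔ y ∈ Proj.basicOpen ℬ (ψ f)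
  rw [Proj.mem_basicOpen, Proj.mem_basicOpen]
  rfl

/-- sections of `N(n)~` over an open equal to `D₊(g)` are single fractions -/
theorem exists_frac_of_eq (n : ℤ) {d : ℕ} (hd : 0 < d) {g : B} (hg : g ∈ ℬ d) (V : (Proj ℬ).Opens)
    (hV : V = Proj.basicOpen ℬ g) (s : Γ(GrMod.tilde ℬ 𝒩 n, V)) :
    ∃ (k i : ℕ) (m : 𝒩 i), (i : ℤ) = k * d + n ∧
      ∀ (x : V) (hx : g ^ k ∉ x.1.asHomogeneousIdeal),
        mval ℬ 𝒩 n s x = LocalizedModule.mk (m : N) ⟨g ^ k, hx⟩ := by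
  subst hV
  obtain ⟨k, i, m, hi, h⟩ := GrModSections.exists_frac ℬ 𝒩 n hd hg s
  exact ⟨k, i, m, hi, fun x hx => h x⟩

variable {ℳ 𝒩}

theorem comap_app_injective (v : M →ₛₗ[ψ.toRingHom] N) (hv : ∀ (i : ℕ) (m : M), m ∈ ℳ i → v m ∈ 𝒩 i)
    (hinj : Function.Injective v) (n : ℤ) {d : ℕ} (hd : 0 < d) (f : A) (hf : f ∈ 𝒜 d) :
    Function.Injective ((GrMod.comap ψ hψ v hv n).app (Proj.basicOpen 𝒜 f)) := by
  rw [injective_iff_map_eq_zero]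
  intro x hx
  obtain ⟨k, i, m, hi, hxm⟩ := GrModSections.exists_frac 𝒜 ℳ n hd hf x
  have hvm : ∀ y : ProjectiveSpectrum ℬ, ψ f ∉ y.asHomogeneousIdeal →
      ∃ w : B, w ∉ y.asHomogeneousIdeal ∧ w • v (m : M) = 0 := by
    intro y hy
    have hyV : y ∈ (Proj.map ψ hψ) ⁻¹ᵁ (Proj.basicOpen 𝒜 f) := by
      rw [preimage_basicOpen]
      exact (Proj.mem_basicOpen ℬ _ y).2 hy
    have h1 := congrArg (fun s : Γ(GrMod.tilde ℬ 𝒩 n, (Proj.map ψ hψ) ⁻¹ᵁ (Proj.basicOpen 𝒜 f)) =>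
      mval ℬ 𝒩 n s ⟨y, hyV⟩) hx
    simp only at h1
    have h2 : mval ℬ 𝒩 n ((GrMod.comap ψ hψ v hv n).app (Proj.basicOpen 𝒜 f) x) ⟨y, hyV⟩ =
        GrMod.locModMap ψ hψ v y (mval 𝒜 ℳ n x ⟨ProjectiveSpectrum.comap ψ hψ y, hyV⟩) := rfl
    rw [h2] at h1
    have h3 : mval 𝒜 ℳ n x ⟨ProjectiveSpectrum.comap ψ hψ y, hyV⟩ = _ :=
      hxm ⟨ProjectiveSpectrum.comap ψ hψ y, hyV⟩
    rw [h3, GrMod.locModMap_mk] at h1
    exact GrModSections.exists_smul_eq_zero_of_mk_eq_zero ℬ y _ _ h1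
  obtain ⟨K, hK⟩ := GrGlue.exists_pow_smul_eq_zero ℬ 𝒩 hd (ψ.map_mem hf) i (v (m : M))
    (hv i _ m.2) hvm
  have hK' : v (f ^ K • (m : M)) = 0 := by
    rw [v.map_smulₛₗ, map_pow]
    exact hK
  have h0 : f ^ K • (m : M) = 0 := hinj (hK'.trans (map_zero v).symm)
  refine mval_ext 𝒜 ℳ n fun p => ?_
  refine (hxm p).trans ?_
  rw [mval_zero, ← LocalizedModule.zero_mk 1, LocalizedModule.mk_eq]
  refine ⟨⟨f ^ K, fun hh => (ProjectiveSpectrum.mem_basicOpen 𝒜 f p.1).mp p.2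
    (p.1.isPrime.mem_of_pow_mem _ hh)⟩, ?_⟩
  simp only [one_smul, Submonoid.smul_def, smul_zero]
  exact h0

theorem comap_app_surjective (v : M →ₛₗ[ψ.toRingHom] N) (hv : ∀ (i : ℕ) (m : M), m ∈ ℳ i → v m ∈ 𝒩 i)
    (hsurj : Function.Surjective v) (n : ℤ) {d : ℕ} (hd : 0 < d) (f : A) (hf : f ∈ 𝒜 d) :
    Function.Surjective ((GrMod.comap ψ hψ v hv n).app (Proj.basicOpen 𝒜 f)) := by
  intro y'
  obtain ⟨k, i, n', hi, hy'⟩ := exists_frac_of_eq 𝒩 n hd (ψ.map_mem hf) _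
    (preimage_basicOpen ψ hψ f) y'
  obtain ⟨m, hm⟩ := hsurj (n' : N)
  have hmi : v (DirectSum.decompose ℳ m i : M) = (n' : N) := by
    have h1 := decompose_map_add ℳ 𝒩 v.toAddMonoidHom hv m i
    have h2 : (DirectSum.decompose 𝒩 (v m) i : N) = (n' : N) := by
      rw [hm]
      exact DirectSum.decompose_of_mem_same 𝒩 n'.2
    exact h1.symm.trans h2
  have hi' : (i : ℤ) = ((k * d : ℕ) : ℤ) + n := by push_cast; exact hi
  refine ⟨sec 𝒜 ℳ hf n k (DirectSum.decompose ℳ m i) hi', ?_⟩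
  refine mval_ext ℬ 𝒩 n (U := (Proj.map ψ hψ) ⁻¹ᵁ (Proj.basicOpen 𝒜 f)) fun y => ?_
  have hfy : ψ f ^ k ∉ y.1.asHomogeneousIdeal := by
    have hy2 : y.1 ∈ Proj.basicOpen ℬ (ψ f) := (preimage_basicOpen ψ hψ f) ▸ y.2
    exact fun hh => (Proj.mem_basicOpen ℬ _ y.1).1 hy2 (y.1.isPrime.mem_of_pow_mem _ hh)
  refine Eq.trans ?_ (hy' y hfy).symm
  have h2 : mval ℬ 𝒩 n ((GrMod.comap ψ hψ v hv n).app (Proj.basicOpen 𝒜 f)
      (sec 𝒜 ℳ hf n k (DirectSum.decompose ℳ m i) hi')) y =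
      GrMod.locModMap ψ hψ v y.1 (mval 𝒜 ℳ n (sec 𝒜 ℳ hf n k (DirectSum.decompose ℳ m i) hi')
        ⟨ProjectiveSpectrum.comap ψ hψ y.1, y.2⟩) := rfl
  rw [h2, mval_sec, GrMod.locModMap_mk, hmi]
  congr 1
  exact Subtype.ext (map_pow ψ f k)

/-- **`M(n)~ → Φ_*(N(n)~)` is an isomorphism when `v : M → N` is bijective** -/
theorem isIso_comap (v : M →ₛₗ[ψ.toRingHom] N) (hv : ∀ (i : ℕ) (m : M), m ∈ ℳ i → v m ∈ 𝒩 i)
    (hbij : Function.Bijective v) (n : ℤ) : IsIso (GrMod.comap ψ hψ v hv n) := by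
  refine QCoh.isIso_of_bijective_app_of_isBasis _
    (fun a : {a : A // ∃ d : ℕ, 0 < d ∧ a ∈ 𝒜 d} => Proj.basicOpen 𝒜 a.1) ?_ ?_
  · rw [Opens.isBasis_iff_nbhd]
    intro U x hx
    obtain ⟨d, hd, a, ha, hxa, haU⟩ := GrGlue.exists_pos_homogeneous_basicOpen_le 𝒜 x U hx
    exact ⟨_, ⟨⟨a, d, hd, ha⟩, rfl⟩, hxa, haU⟩
  · rintro ⟨a, d, hd, ha⟩
    exact ⟨comap_app_injective ψ hψ v hv hbij.1 n hd a ha,
      comap_app_surjective ψ hψ v hv hbij.2 n hd a ha⟩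

end Groth.Agent.Lib.Proj.GrModComap
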