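import Mathlib
import Groth.Agent.Lib.Proj.Helper66_GrModComap

/-!
# Base change of graded modules: graded generation (helper66)

ns `Groth.Agent.Lib.Proj.GrModBC`.
-/

set_option autoImplicit false
set_option linter.unusedSectionVars false
universe u
open CategoryTheory AlgebraicGeometry Opposite TopologicalSpace
open scoped HomogeneousIdeal

namespace Groth.Agent.Lib.Proj.GrModBC

variable {A σ : Type u} [CommRing A] [SetLike σ A] [AddSubgroupClass σ A] {𝒜 : ℕ → σ} [GradedRing 𝒜]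
  {B σ' : Type u} [CommRing B] [SetLike σ' B] [AddSubgroupClass σ' B] {ℬ : ℕ → σ'} [GradedRing ℬ]
  (ψ : 𝒜 →+*ᵍ ℬ)
  {M τ : Type u} [AddCommGroup M] [Module A M] [SetLike τ M] [AddSubgroupClass τ M] (ℳ : ℕ → τ)
  [SetLike.GradedSMul 𝒜 ℳ] [DirectSum.Decomposition ℳ]
  {N τ' : Type u} [AddCommGroup N] [Module B N] [SetLike τ' N] [AddSubgroupClass τ' N] (𝒩 : ℕ → τ')
  [SetLike.GradedSMul ℬ 𝒩] [DirectSum.Decomposition 𝒩]
  (v : M →ₛₗ[ψ.toRingHom] N)

/-- the base change is generated by the image of `v` -/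
theorem span_range_eq_top
    (hbc : ∀ (Q : Type u) [AddCommGroup Q] [Module B Q] (w : M →ₛₗ[ψ.toRingHom] Q),
      ∃! g : N →ₗ[B] Q, ∀ m : M, g (v m) = w m) :
    Submodule.span B (Set.range v) = ⊤ := by
  obtain ⟨g, -, huniq⟩ := hbc (N ⧸ Submodule.span B (Set.range v)) 0
  have h1 := huniq (Submodule.span B (Set.range v)).mkQ (fun m => by
    change Submodule.Quotient.mk (v m) = 0
    rw [Submodule.Quotient.mk_eq_zero]
    exact Submodule.subset_span ⟨m, rfl⟩)
  have h2 := huniq 0 (fun m => rfl)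
  have h3 : (Submodule.span B (Set.range v)).mkQ = 0 := h1.trans h2.symm
  rw [← Submodule.ker_mkQ (Submodule.span B (Set.range v)), h3, LinearMap.ker_zero]

/-- the homogeneous generators of degree `j` -/
def gens (j : ℕ) : Set N :=
  {z | ∃ (a c : ℕ) (b : B) (m : M), b ∈ ℬ a ∧ m ∈ ℳ c ∧ a + c = j ∧ z = b • v m}

variable {ℳ 𝒩}

theorem decompose_smul_map_mem (hv : ∀ (i : ℕ) (m : M), m ∈ ℳ i → v m ∈ 𝒩 i) (b : B) (m : M) (j : ℕ) :
    (DirectSum.decompose 𝒩 (b • v m) j : N) ∈ AddSubgroup.closure (gens (ℬ := ℬ) ψ ℳ v j) := by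
  classical
  have hb : b = ∑ a ∈ (DirectSum.decompose ℬ b).support, (DirectSum.decompose ℬ b a : B) :=
    (DirectSum.sum_support_decompose ℬ b).symm
  have hm : m = ∑ c ∈ (DirectSum.decompose ℳ m).support, (DirectSum.decompose ℳ m c : M) :=
    (DirectSum.sum_support_decompose ℳ m).symm
  have e : b • v m = ∑ a ∈ (DirectSum.decompose ℬ b).support,
      ∑ c ∈ (DirectSum.decompose ℳ m).support,
        (DirectSum.decompose ℬ b a : B) • v (DirectSum.decompose ℳ m c : M) := by
    conv_lhs => rw [hb, hm, map_sum, Finset.sum_smul]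
    refine Finset.sum_congr rfl fun a _ => ?_
    rw [Finset.smul_sum]
  rw [e, DirectSum.decompose_sum, DFinsupp.finsetSum_apply, AddSubmonoidClass.coe_finsetSum]
  refine AddSubgroup.sum_mem _ fun a _ => ?_
  rw [DirectSum.decompose_sum, DFinsupp.finsetSum_apply, AddSubmonoidClass.coe_finsetSum]
  refine AddSubgroup.sum_mem _ fun c _ => ?_
  have hmem : (DirectSum.decompose ℬ b a : B) • v (DirectSum.decompose ℳ m c : M) ∈ 𝒩 (a + c) :=
    SetLike.GradedSMul.smul_mem (i := a) (j := c) (Subtype.prop _) (hv c _ (Subtype.prop _))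
  by_cases hac : a + c = j
  · subst hac
    rw [DirectSum.decompose_of_mem_same 𝒩 hmem]
    exact AddSubgroup.subset_closure ⟨a, c, _, _, Subtype.prop _, Subtype.prop _, rfl, rfl⟩
  · rw [DirectSum.decompose_of_mem_ne 𝒩 hmem hac]
    exact AddSubgroup.zero_mem _

/-- every homogeneous element of the base change is a sum of products of homogeneous elements -/
theorem mem_closure_gens (hv : ∀ (i : ℕ) (m : M), m ∈ ℳ i → v m ∈ 𝒩 i)
    (hbc : ∀ (Q : Type u) [AddCommGroup Q] [Module B Q] (w : M →ₛₗ[ψ.toRingHom] Q),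
      ∃! g : N →ₗ[B] Q, ∀ m : M, g (v m) = w m) {j : ℕ} {y : N} (hy : y ∈ 𝒩 j) :
    y ∈ AddSubgroup.closure (gens (ℬ := ℬ) ψ ℳ v j) := by
  have key : ∀ z : N, z ∈ Submodule.span B (Set.range v) →
      (DirectSum.decompose 𝒩 z j : N) ∈ AddSubgroup.closure (gens (ℬ := ℬ) ψ ℳ v j) := by
    intro z hz
    induction hz using Submodule.closure_induction with
    | zero =>
      rw [DirectSum.decompose_zero]
      exact AddSubgroup.zero_mem _
    | add x y _ _ hx hy =>
      rw [DirectSum.decompose_add]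
      exact AddSubgroup.add_mem _ hx hy
    | smul_mem r x hx =>
      obtain ⟨m, rfl⟩ := hx
      exact decompose_smul_map_mem ψ v hv r m j
  have h1 := key y (by rw [span_range_eq_top ψ v hbc]; trivial)
  rwa [DirectSum.decompose_of_mem_same 𝒩 hy] at h1

end Groth.Agent.Lib.Proj.GrModBC
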