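import Mathlib
import Groth.Agent.Lib.Proj.Helper66_GrModBC1

/-!
# Base change of graded modules: fractions on `D₊(f)` and the ring map to polynomials (helper66)

ns `Groth.Agent.Lib.Proj.GrModBC`.
-/

set_option autoImplicit false
set_option linter.unusedSectionVars false
universe u
open CategoryTheory AlgebraicGeometry Opposite TopologicalSpace
open scoped HomogeneousIdeal

namespace Groth.Agent.Lib.Proj.GrModBC

open Groth.Agent.Lib.Proj.GrQCohTwist Groth.Agent.Lib.Proj.GrModQCoh Groth.Agent.Lib.Proj.GrModExact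

variable {A σ : Type u} [CommRing A] [SetLike σ A] [AddSubgroupClass σ A] (𝒜 : ℕ → σ) [GradedRing 𝒜]

lemma fval_ext {U : (Proj 𝒜).Opens} {r r' : Γ(Proj 𝒜, U)} (h : ∀ p : U, fval 𝒜 r p = fval 𝒜 r' p) :
    r = r' := by
  apply Subtype.ext
  funext p
  exact HomogeneousLocalization.val_injective _ (h p)

lemma fval_mul {U : (Proj 𝒜).Opens} (r r' : Γ(Proj 𝒜, U)) (p : U) :
    fval 𝒜 (r * r') p = fval 𝒜 r p * fval 𝒜 r' p := by
  change ((r : GrTwist.O (𝒜 := 𝒜) (op U)).1 p * (r' : GrTwist.O (𝒜 := 𝒜) (op U)).1 p).val = _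
  rw [HomogeneousLocalization.val_mul]

lemma fval_add {U : (Proj 𝒜).Opens} (r r' : Γ(Proj 𝒜, U)) (p : U) :
    fval 𝒜 (r + r') p = fval 𝒜 r p + fval 𝒜 r' p := by
  change ((r : GrTwist.O (𝒜 := 𝒜) (op U)).1 p + (r' : GrTwist.O (𝒜 := 𝒜) (op U)).1 p).val = _
  rw [HomogeneousLocalization.val_add]

lemma fval_one {U : (Proj 𝒜).Opens} (p : U) : fval 𝒜 (1 : Γ(Proj 𝒜, U)) p = 1 := by
  change (1 : GrTwist.A0 𝒜 (p.1 : ProjectiveSpectrum 𝒜)).val = _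
  rw [HomogeneousLocalization.val_one]

section frac

variable {f : A} (hf : f ∈ 𝒜 1)

lemma pow_not_mem (x : Proj.basicOpen 𝒜 f) (k : ℕ) : f ^ k ∉ x.1.asHomogeneousIdeal :=
  fun h => (ProjectiveSpectrum.mem_basicOpen 𝒜 f x.1).mp x.2 (x.1.isPrime.mem_of_pow_mem k h)

/-- the function `b / f ^ k` on `D₊(f)`, `f` of degree one -/
noncomputable def frac (k : ℕ) (b : A) (hb : b ∈ 𝒜 k) : Γ(Proj 𝒜, Proj.basicOpen 𝒜 f) :=
  (Proj.awayToSection 𝒜 f).hom (HomogeneousLocalization.Away.mk 𝒜 hf k b (by simpa using hb))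

lemma fval_frac (k : ℕ) (b : A) (hb : b ∈ 𝒜 k) (x : Proj.basicOpen 𝒜 f) :
    fval 𝒜 (frac 𝒜 hf k b hb) x =
      (Localization.mk b ⟨f ^ k, pow_not_mem 𝒜 x k⟩ : GrTwist.Loc 𝒜 x.1) := by
  have h4 := ProjectiveSpectrum.Proj.awayToSection_apply 𝒜 f
    (HomogeneousLocalization.Away.mk 𝒜 hf k b (by simpa using hb)) x
  refine h4.trans ?_
  rw [HomogeneousLocalization.Away.val_mk, Localization.mk_eq_mk', IsLocalization.map_mk',
    Localization.mk_eq_mk']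
  rfl

lemma frac_add (k : ℕ) (b b' : A) (hb : b ∈ 𝒜 k) (hb' : b' ∈ 𝒜 k) :
    frac 𝒜 hf k (b + b') (add_mem hb hb') = frac 𝒜 hf k b hb + frac 𝒜 hf k b' hb' := by
  refine fval_ext 𝒜 fun p => ?_
  rw [fval_add, fval_frac, fval_frac, fval_frac, Localization.add_mk_self]

lemma frac_mul (k l : ℕ) (b b' : A) (hb : b ∈ 𝒜 k) (hb' : b' ∈ 𝒜 l) :
    frac 𝒜 hf (k + l) (b * b') (SetLike.GradedMul.mul_mem hb hb') =
      frac 𝒜 hf k b hb * frac 𝒜 hf l b' hb' := by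
  refine fval_ext 𝒜 fun p => ?_
  rw [fval_mul, fval_frac, fval_frac, fval_frac, Localization.mk_mul]
  congr 1
  exact Subtype.ext (pow_add f k l)

lemma frac_pow_self (k : ℕ) (hk : f ^ k ∈ 𝒜 k) : frac 𝒜 hf k (f ^ k) hk = 1 := by
  refine fval_ext 𝒜 fun p => ?_
  rw [fval_frac, fval_one]
  exact Localization.mk_self (⟨f ^ k, pow_not_mem 𝒜 p k⟩ :
    p.1.asHomogeneousIdeal.toIdeal.primeCompl)

/-- `b ↦ b / f ^ k` as an additive map -/
noncomputable def fracHom (k : ℕ) : 𝒜 k →+ Γ(Proj 𝒜, Proj.basicOpen 𝒜 f) where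
  toFun b := frac 𝒜 hf k b.1 b.2
  map_zero' := by
    refine fval_ext 𝒜 fun p => ?_
    rw [fval_frac]
    change _ = (0 : GrTwist.A0 𝒜 (p.1 : ProjectiveSpectrum 𝒜)).val
    rw [HomogeneousLocalization.val_zero]
    exact Localization.mk_zero _
  map_add' b b' := frac_add 𝒜 hf k b.1 b'.1 b.2 b'.2

/-- the components of the ring map to polynomials -/
noncomputable def chiFun (k : ℕ) : 𝒜 k →+ Polynomial Γ(Proj 𝒜, Proj.basicOpen 𝒜 f) :=
  (Polynomial.monomial k).toAddMonoidHom.comp (fracHom 𝒜 hf k)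

lemma chiFun_apply (k : ℕ) (b : 𝒜 k) :
    chiFun 𝒜 hf k b = Polynomial.monomial k (frac 𝒜 hf k b.1 b.2) := rfl

lemma chiFun_one : chiFun 𝒜 hf 0 (GradedMonoid.GOne.one (A := fun i => 𝒜 i)) = 1 := by
  rw [chiFun_apply]
  have h1 : frac 𝒜 hf 0 (GradedMonoid.GOne.one (A := fun i => 𝒜 i)).1
      (GradedMonoid.GOne.one (A := fun i => 𝒜 i)).2 = 1 := by
    refine fval_ext 𝒜 fun p => ?_
    rw [fval_frac, fval_one]
    have h2 : (⟨f ^ 0, pow_not_mem 𝒜 p 0⟩ : p.1.asHomogeneousIdeal.toIdeal.primeCompl) = 1 :=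
      Subtype.ext (pow_zero f)
    rw [h2]
    exact Localization.mk_one
  rw [h1]
  rfl

lemma chiFun_mul {i j : ℕ} (ai : 𝒜 i) (aj : 𝒜 j) :
    chiFun 𝒜 hf (i + j) (GradedMonoid.GMul.mul (A := fun i => 𝒜 i) ai aj) =
      chiFun 𝒜 hf i ai * chiFun 𝒜 hf j aj := by
  rw [chiFun_apply, chiFun_apply, chiFun_apply, Polynomial.monomial_mul_monomial]
  congr 1
  exact frac_mul 𝒜 hf i j ai.1 aj.1 ai.2 aj.2

/-- the ring map `A → Γ(D₊(f), O)[X]`, `a ↦ Σ (a_k / f ^ k) X ^ k` -/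
noncomputable def chi : A →+* Polynomial Γ(Proj 𝒜, Proj.basicOpen 𝒜 f) :=
  (DirectSum.toSemiring (chiFun 𝒜 hf) (chiFun_one 𝒜 hf) (chiFun_mul 𝒜 hf)).comp
    (DirectSum.decomposeRingEquiv 𝒜).toRingHom

lemma chi_of_mem {k : ℕ} {b : A} (hb : b ∈ 𝒜 k) :
    chi 𝒜 hf b = Polynomial.monomial k (frac 𝒜 hf k b hb) := by
  change DirectSum.toSemiring (chiFun 𝒜 hf) (chiFun_one 𝒜 hf) (chiFun_mul 𝒜 hf)
    (DirectSum.decompose 𝒜 b) = _
  rw [DirectSum.decompose_of_mem 𝒜 hb, DirectSum.toSemiring_of]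
  rfl

lemma chi_self_pow (K : ℕ) : chi 𝒜 hf (f ^ K) = Polynomial.X ^ K := by
  have hK : f ^ K ∈ 𝒜 K := by simpa using SetLike.pow_mem_graded K hf
  rw [chi_of_mem 𝒜 hf hK, frac_pow_self, Polynomial.X_pow_eq_monomial]

end frac

end Groth.Agent.Lib.Proj.GrModBC
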