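import Mathlib
import Groth.Agent.Lib.Proj.Helper66_GrModBC2

/-!
# Base change of graded modules: the core bijectivity on `D₊(ψ f)`, `f` of degree one (helper66)

ns `Groth.Agent.Lib.Proj.GrModBC`.
-/

set_option autoImplicit false
set_option linter.unusedSectionVars false
universe u
open CategoryTheory AlgebraicGeometry Opposite TopologicalSpace
open scoped HomogeneousIdeal

namespace Groth.Agent.Lib.Proj.GrModBC

open Groth.Agent.Lib.Proj.GrQCohTwist Groth.Agent.Lib.Proj.GrModQCoh Groth.Agent.Lib.Proj.GrModExact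

lemma mk_add_same {R M : Type*} [CommRing R] [AddCommGroup M] [Module R M] {S : Submonoid R}
    (m m' : M) (s : S) :
    LocalizedModule.mk (m + m') s = LocalizedModule.mk m s + LocalizedModule.mk m' s := by
  rw [LocalizedModule.mk_add_mk, LocalizedModule.mk_eq]
  refine ⟨1, ?_⟩
  simp only [one_smul, smul_add, mul_smul]

variable {A σ : Type u} [CommRing A] [SetLike σ A] [AddSubgroupClass σ A] {𝒜 : ℕ → σ} [GradedRing 𝒜]
  {B σ' : Type u} [CommRing B] [SetLike σ' B] [AddSubgroupClass σ' B] {ℬ : ℕ → σ'} [GradedRing ℬ]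
  (ψ : 𝒜 →+*ᵍ ℬ) (hψ : ℬ₊ ≤ (𝒜₊).map ψ)
  {M τ : Type u} [AddCommGroup M] [Module A M] [SetLike τ M] [AddSubgroupClass τ M] {ℳ : ℕ → τ}
  [SetLike.GradedSMul 𝒜 ℳ] [DirectSum.Decomposition ℳ]
  {N τ' : Type u} [AddCommGroup N] [Module B N] [SetLike τ' N] [AddSubgroupClass τ' N] {𝒩 : ℕ → τ'}
  [SetLike.GradedSMul ℬ 𝒩] [DirectSum.Decomposition 𝒩]
  (v : M →ₛₗ[ψ.toRingHom] N) (hv : ∀ (i : ℕ) (m : M), m ∈ ℳ i → v m ∈ 𝒩 i)
  {f : A} (hf : f ∈ 𝒜 1) (n : ℤ)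

lemma cmem (y : Proj.basicOpen ℬ (ψ f)) :
    ProjectiveSpectrum.comap ψ hψ y.1 ∈ Proj.basicOpen 𝒜 f := y.2

section secM

variable (ℳ)

/-- the section `m / f ^ (c - n)` of `M(n)~` over `D₊(f)`, written `f ^ n⁺ m / f ^ (c + n⁻)` -/
noncomputable def secM (c : ℕ) (m : ℳ c) : Γ(GrMod.tilde 𝒜 ℳ n, Proj.basicOpen 𝒜 f) :=
  sec 𝒜 ℳ hf n (c + (-n).toNat)
    (⟨f ^ n.toNat • (m : M), GrGlue.pow_smul_mem 𝒜 ℳ hf m.2 n.toNat⟩ : ℳ (n.toNat * 1 + c))
    (by have := Int.toNat_sub_toNat_neg n; push_cast; omega)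

lemma mval_secM (c : ℕ) (m : ℳ c) (p : Proj.basicOpen 𝒜 f) :
    mval 𝒜 ℳ n (secM ℳ hf n c m) p =
      (LocalizedModule.mk (f ^ n.toNat • (m : M)) ⟨f ^ (c + (-n).toNat), pow_not_mem 𝒜 p _⟩ :
        GrMod.LocMod 𝒜 (M := M) p.1) := rfl

/-- `secM` as an additive map -/
noncomputable def secMHom (c : ℕ) : ℳ c →+ Γ(GrMod.tilde 𝒜 ℳ n, Proj.basicOpen 𝒜 f) where
  toFun m := secM ℳ hf n c m
  map_zero' := by
    refine mval_ext 𝒜 ℳ n fun p => ?_
    rw [mval_secM, mval_zero]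
    simp
  map_add' m m' := by
    refine mval_ext 𝒜 ℳ n fun p => ?_
    rw [mval_secM, mval_add, mval_secM, mval_secM, ← mk_add_same]
    congr 1
    simp [smul_add]

/-- `(a / f ^ d) • secM c m = secM (d + c) (a • m)` -/
lemma frac_smul_secM {d c : ℕ} {a : A} (ha : a ∈ 𝒜 d) (m : ℳ c) :
    frac 𝒜 hf d a ha • secM ℳ hf n c m =
      secM ℳ hf n (d + c) ⟨a • (m : M), SetLike.GradedSMul.smul_mem (i := d) (j := c) ha m.2⟩ := by
  refine mval_ext 𝒜 ℳ n fun p => ?_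
  rw [mval_smul, fval_frac, mval_secM, mval_secM, LocalizedModule.mk_smul_mk]
  congr 1
  · exact smul_comm _ _ _
  · refine Subtype.ext ?_
    change f ^ d * f ^ (c + (-n).toNat) = f ^ (d + c + (-n).toNat)
    rw [← pow_add, add_assoc]

end secM

section core

variable
    (hbc : ∀ (Q : Type u) [AddCommGroup Q] [Module B Q] (w : M →ₛₗ[ψ.toRingHom] Q),
      ∃! g : N →ₗ[B] Q, ∀ m : M, g (v m) = w m)
    (φ : Γ(Proj 𝒜, Proj.basicOpen 𝒜 f) →+* Γ(Proj ℬ, Proj.basicOpen ℬ (ψ f)))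
    (hφ : ∀ (r : Γ(Proj 𝒜, Proj.basicOpen 𝒜 f)) (y : Proj.basicOpen ℬ (ψ f)),
      fval ℬ (φ r) y = GrTwist.locMap ψ hψ y.1
        (fval 𝒜 r ⟨ProjectiveSpectrum.comap ψ hψ y.1, cmem ψ hψ y⟩))
    (θ : Γ(GrMod.tilde 𝒜 ℳ n, Proj.basicOpen 𝒜 f) →+ Γ(GrMod.tilde ℬ 𝒩 n, Proj.basicOpen ℬ (ψ f)))
    (hθ : ∀ (s : Γ(GrMod.tilde 𝒜 ℳ n, Proj.basicOpen 𝒜 f)) (y : Proj.basicOpen ℬ (ψ f)),
      mval ℬ 𝒩 n (θ s) y = GrMod.locModMap ψ hψ v y.1
        (mval 𝒜 ℳ n s ⟨ProjectiveSpectrum.comap ψ hψ y.1, cmem ψ hψ y⟩))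
    {T : Type u} [AddCommGroup T] [Module Γ(Proj ℬ, Proj.basicOpen ℬ (ψ f)) T]
    (ι : Γ(GrMod.tilde 𝒜 ℳ n, Proj.basicOpen 𝒜 f) →+ T)
    (hι : ∀ (r : Γ(Proj 𝒜, Proj.basicOpen 𝒜 f)) (s : Γ(GrMod.tilde 𝒜 ℳ n, Proj.basicOpen 𝒜 f)),
      ι (r • s) = φ r • ι s)
    (hT : ∀ t : T, t ∈ AddSubgroup.closure {z : T | ∃ (σ : Γ(Proj ℬ, Proj.basicOpen ℬ (ψ f)))
      (s : Γ(GrMod.tilde 𝒜 ℳ n, Proj.basicOpen 𝒜 f)), z = σ • ι s})
    (c : T →ₗ[Γ(Proj ℬ, Proj.basicOpen ℬ (ψ f))] Γ(GrMod.tilde ℬ 𝒩 n, Proj.basicOpen ℬ (ψ f)))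
    (hc : ∀ s : Γ(GrMod.tilde 𝒜 ℳ n, Proj.basicOpen 𝒜 f), c (ι s) = θ s)

include hφ in
lemma phi_frac {d : ℕ} {a : A} (ha : a ∈ 𝒜 d) :
    φ (frac 𝒜 hf d a ha) = frac ℬ (ψ.map_mem hf) d (ψ a) (ψ.map_mem ha) := by
  refine fval_ext ℬ fun y => ?_
  rw [hφ, fval_frac, fval_frac, GrTwist.locMap_mk]
  congr 1
  exact Subtype.ext (map_pow ψ f d)

include hθ hc in
/-- the value of the image of a generator -/
lemma value_gen {a c' : ℕ} {b : B} (hb : b ∈ ℬ a) (m : ℳ c') (p : Proj.basicOpen ℬ (ψ f)) :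
    mval ℬ 𝒩 n (c (frac ℬ (ψ.map_mem hf) a b hb • ι (secM ℳ hf n c' m))) p =
      (LocalizedModule.mk (b • ((ψ f) ^ n.toNat • v (m : M)))
        ⟨(ψ f) ^ (a + (c' + (-n).toNat)), pow_not_mem ℬ p _⟩ : GrMod.LocMod ℬ (M := N) p.1) := by
  rw [c.map_smul, hc, mval_smul, fval_frac, hθ, mval_secM, GrMod.locModMap_mk,
    LocalizedModule.mk_smul_mk]
  congr 1
  · rw [v.map_smulₛₗ, map_pow]
    rfl
  · refine Subtype.ext ?_
    change (ψ f) ^ a * ψ (f ^ (c' + (-n).toNat)) = (ψ f) ^ (a + (c' + (-n).toNat))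
    rw [map_pow, ← pow_add]

lemma mval_neg' (x : Γ(GrMod.tilde ℬ 𝒩 n, Proj.basicOpen ℬ (ψ f))) (p : Proj.basicOpen ℬ (ψ f)) :
    mval ℬ 𝒩 n (-x) p = - mval ℬ 𝒩 n x p := by
  rw [eq_neg_iff_add_eq_zero, ← mval_add, neg_add_cancel, mval_zero]

include hf hv hbc hθ hc in
theorem core_surjective : Function.Surjective c := by
  intro h
  have hf' : ψ f ∈ ℬ 1 := ψ.map_mem hf
  obtain ⟨k, i, y, hi, hy⟩ := GrModComap.exists_frac_of_eq 𝒩 n Nat.one_pos hf' _ rfl h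
  have hi' : (i : ℤ) = k + n := by simpa using hi
  have hyc := mem_closure_gens ψ v hv hbc y.2
  have key : ∀ z ∈ AddSubgroup.closure (gens (ℬ := ℬ) ψ ℳ v i), ∃ t : T,
      ∀ p : Proj.basicOpen ℬ (ψ f), mval ℬ 𝒩 n (c t) p =
        (LocalizedModule.mk z ⟨(ψ f) ^ k, pow_not_mem ℬ p k⟩ : GrMod.LocMod ℬ (M := N) p.1) := by
    intro z hz
    induction hz using AddSubgroup.closure_induction with
    | mem z hz =>
      obtain ⟨a, c', b, m, hb, hm, hac, rfl⟩ := hz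
      refine ⟨frac ℬ hf' a b hb • ι (secM ℳ hf n c' ⟨m, hm⟩), fun p => ?_⟩
      rw [value_gen ψ hψ v hf n θ hθ ι c hc hb ⟨m, hm⟩ p, LocalizedModule.mk_eq]
      refine ⟨1, ?_⟩
      have e : a + (c' + (-n).toNat) = k + n.toNat := by
        have := Int.toNat_sub_toNat_neg n
        omega
      rw [one_smul, one_smul]
      change (ψ f) ^ k • (b • (ψ f) ^ n.toNat • v m) =
        (ψ f) ^ (a + (c' + (-n).toNat)) • (b • v m)
      rw [e, pow_add, mul_smul]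
      congr 1
      exact smul_comm _ _ _
    | zero =>
      exact ⟨0, fun p => by rw [map_zero, mval_zero, LocalizedModule.zero_mk]⟩
    | add x y _ _ hx hy =>
      obtain ⟨t, ht⟩ := hx
      obtain ⟨t', ht'⟩ := hy
      exact ⟨t + t', fun p => by rw [map_add, mval_add, ht, ht', mk_add_same]⟩
    | neg x _ hx =>
      obtain ⟨t, ht⟩ := hx
      exact ⟨-t, fun p => by rw [map_neg, mval_neg', ht, LocalizedModule.mk_neg]⟩
  obtain ⟨t, ht⟩ := key _ hyc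
  refine ⟨t, mval_ext ℬ 𝒩 n fun p => ?_⟩
  exact (ht p).trans (hy p (pow_not_mem ℬ p k)).symm

/-- components of the semilinear map to the polynomial module -/
noncomputable def wc (c' : ℕ) : ℳ c' →+ PolynomialModule Γ(Proj ℬ, Proj.basicOpen ℬ (ψ f)) T :=
  (PolynomialModule.lsingle Γ(Proj ℬ, Proj.basicOpen ℬ (ψ f)) (c' + (-n).toNat)).toAddMonoidHom.comp
    (ι.comp (secMHom ℳ hf n c'))

/-- the additive map `M → T[X]`, `m ↦ Σ X ^ (c + n⁻) (1 ⊗ m_c / f ^ (c - n))` -/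
noncomputable def w0 : M →+ PolynomialModule Γ(Proj ℬ, Proj.basicOpen ℬ (ψ f)) T :=
  (DirectSum.toAddMonoid (wc (ψ := ψ) (hf := hf) (n := n) (ι := ι))).comp
    (DirectSum.decomposeAddEquiv ℳ).toAddMonoidHom

lemma w0_of_mem {c' : ℕ} {m : M} (hm : m ∈ ℳ c') :
    w0 (ψ := ψ) (hf := hf) (n := n) (ι := ι) m =
      PolynomialModule.single _ (c' + (-n).toNat) (ι (secM ℳ hf n c' ⟨m, hm⟩)) := by
  change DirectSum.toAddMonoid (wc (ψ := ψ) (hf := hf) (n := n) (ι := ι))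
    (DirectSum.decompose ℳ m) = _
  rw [DirectSum.decompose_of_mem ℳ hm, DirectSum.toAddMonoid_of]
  rfl

include hφ hι in
lemma w0_smul (a : A) (m : M) :
    w0 (ψ := ψ) (hf := hf) (n := n) (ι := ι) (a • m) =
      chi ℬ (ψ.map_mem hf) (ψ a) • w0 (ψ := ψ) (hf := hf) (n := n) (ι := ι) m := by
  classical
  revert m
  induction a using DirectSum.Decomposition.inductionOn 𝒜 with
  | zero =>
    intro m
    rw [zero_smul, map_zero, map_zero, map_zero, zero_smul]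
  | @homogeneous d a =>
    intro m
    induction m using DirectSum.Decomposition.inductionOn ℳ with
    | zero => rw [smul_zero, map_zero, smul_zero]
    | @homogeneous c' m =>
      have ham : (a : A) • (m : M) ∈ ℳ (d + c') :=
        SetLike.GradedSMul.smul_mem (i := d) (j := c') a.2 m.2
      rw [w0_of_mem (ψ := ψ) (hf := hf) (n := n) (ι := ι) ham,
        w0_of_mem (ψ := ψ) (hf := hf) (n := n) (ι := ι) m.2,
        chi_of_mem ℬ (ψ.map_mem hf) (b := ψ (a : A)) (ψ.map_mem a.2)]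
      refine Eq.trans ?_ (PolynomialModule.monomial_smul_single d
        (frac ℬ (ψ.map_mem hf) d (ψ (a : A)) (ψ.map_mem a.2)) (c' + (-n).toNat)
        (ι (secM ℳ hf n c' ⟨(m : M), m.2⟩))).symm
      rw [← phi_frac ψ hψ hf φ hφ a.2, ← hι, frac_smul_secM, add_assoc]
      rfl
    | add m m' hm hm' =>
      rw [smul_add, map_add, map_add, hm, hm', smul_add]
  | add a a' ha ha' =>
    intro m
    rw [add_smul, map_add, map_add, map_add, ha, ha', add_smul]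

lemma X_pow_smul_single (K j : ℕ) (t : T) :
    (Polynomial.X ^ K : Polynomial Γ(Proj ℬ, Proj.basicOpen ℬ (ψ f))) •
      PolynomialModule.single Γ(Proj ℬ, Proj.basicOpen ℬ (ψ f)) j t =
    PolynomialModule.single Γ(Proj ℬ, Proj.basicOpen ℬ (ψ f)) (K + j) t := by
  rw [Polynomial.X_pow_eq_monomial]
  refine (PolynomialModule.monomial_smul_single K 1 j t).trans ?_
  rw [one_smul]

include hf hψ hv hbc hφ hθ hι hT hc in
theorem core_injective : Function.Injective c := by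
  classical
  have hf' : ψ f ∈ ℬ 1 := ψ.map_mem hf
  have hnn := Int.toNat_sub_toNat_neg n
  letI instQ : Module B (PolynomialModule Γ(Proj ℬ, Proj.basicOpen ℬ (ψ f)) T) :=
    Module.compHom _ (chi ℬ hf')
  have hsm : ∀ (b : B) (q : PolynomialModule Γ(Proj ℬ, Proj.basicOpen ℬ (ψ f)) T),
      b • q = chi ℬ hf' b • q := fun _ _ => rfl
  let wL : M →ₛₗ[ψ.toRingHom] PolynomialModule Γ(Proj ℬ, Proj.basicOpen ℬ (ψ f)) T :=
    { toFun := w0 (ψ := ψ) (hf := hf) (n := n) (ι := ι)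
      map_add' := (w0 (ψ := ψ) (hf := hf) (n := n) (ι := ι)).map_add
      map_smul' := fun a m => w0_smul ψ hψ hf n φ hφ ι hι a m }
  obtain ⟨g, hg, -⟩ := hbc _ wL
  have hgv : ∀ m, g (v m) = w0 (ψ := ψ) (hf := hf) (n := n) (ι := ι) m := hg
  have hgs : ∀ (b : B) (y : N), g (b • y) = chi ℬ hf' b • g y :=
    fun b y => (g.map_smul b y).trans (hsm b _)
  -- every element of `T` is represented by a homogeneous element of `N`
  have hRep : ∀ t : T, ∃ (k i : ℕ) (y : N), y ∈ 𝒩 i ∧ (i : ℤ) = k + n ∧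
      (∀ p : Proj.basicOpen ℬ (ψ f), mval ℬ 𝒩 n (c t) p =
        (LocalizedModule.mk y ⟨(ψ f) ^ k, pow_not_mem ℬ p k⟩ : GrMod.LocMod ℬ (M := N) p.1)) ∧
      g y = PolynomialModule.single Γ(Proj ℬ, Proj.basicOpen ℬ (ψ f)) (k + n.toNat) t := by
    intro t
    induction hT t using AddSubgroup.closure_induction with
    | mem t ht =>
      obtain ⟨σ, s, rfl⟩ := ht
      obtain ⟨a, β, hβ, hσ⟩ := exists_frac_fn ℬ Nat.one_pos hf' σ
      have hβ' : β ∈ ℬ a := by simpa using hβ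
      have hσ' : σ = frac ℬ hf' a β hβ' := fval_ext ℬ fun p => by
        rw [fval_frac]
        exact hσ p
      obtain ⟨k', i', m, hi', hs⟩ := GrModSections.exists_frac 𝒜 ℳ n Nat.one_pos hf s
      have hi'' : (i' : ℤ) = k' + n := by simpa using hi'
      have hs' : s = secM ℳ hf n i' m := by
        refine mval_ext 𝒜 ℳ n fun p => ?_
        rw [mval_secM]
        refine (hs p).trans ?_
        rw [LocalizedModule.mk_eq]
        refine ⟨1, ?_⟩
        have e : i' + (-n).toNat = k' + n.toNat := by omega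
        rw [one_smul, one_smul]
        change f ^ (i' + (-n).toNat) • (m : M) = f ^ k' • f ^ n.toNat • (m : M)
        rw [e, pow_add, mul_smul]
      subst hσ' hs'
      refine ⟨a + k', a + i', β • v (m : M),
        SetLike.GradedSMul.smul_mem (i := a) (j := i') hβ' (hv i' _ m.2), by push_cast; omega,
        fun p => ?_, ?_⟩
      · rw [value_gen ψ hψ v hf n θ hθ ι c hc hβ' m p, LocalizedModule.mk_eq]
        refine ⟨1, ?_⟩
        have e : a + (i' + (-n).toNat) = a + k' + n.toNat := by omega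
        rw [one_smul, one_smul]
        change (ψ f) ^ (a + k') • (β • (ψ f) ^ n.toNat • v (m : M)) =
          (ψ f) ^ (a + (i' + (-n).toNat)) • (β • v (m : M))
        rw [e, pow_add (ψ f) (a + k'), mul_smul]
        congr 1
        exact smul_comm _ _ _
      · rw [hgs, hgv, w0_of_mem (ψ := ψ) (hf := hf) (n := n) (ι := ι) m.2,
          chi_of_mem ℬ hf' hβ']
        refine (PolynomialModule.monomial_smul_single a _ _ _).trans ?_
        have e : a + (i' + (-n).toNat) = a + k' + n.toNat := by omega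
        rw [e]
    | zero =>
      refine ⟨(-n).toNat, n.toNat, 0, zero_mem _, by omega, fun p => ?_, ?_⟩
      · rw [map_zero, mval_zero, LocalizedModule.zero_mk]
      · rw [map_zero, PolynomialModule.single_zero]
    | add t₁ t₂ _ _ h₁ h₂ =>
      obtain ⟨k₁, i₁, y₁, hy₁, hi₁, hv₁, hg₁⟩ := h₁
      obtain ⟨k₂, i₂, y₂, hy₂, hi₂, hv₂, hg₂⟩ := h₂
      have hz1 : (ψ f) ^ k₂ • y₁ ∈ 𝒩 (k₂ * 1 + i₁) := GrGlue.pow_smul_mem ℬ 𝒩 hf' hy₁ k₂
      have hz2 : (ψ f) ^ k₁ • y₂ ∈ 𝒩 (k₁ * 1 + i₂) := GrGlue.pow_smul_mem ℬ 𝒩 hf' hy₂ k₁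
      have e : k₁ * 1 + i₂ = k₂ * 1 + i₁ := by omega
      rw [e] at hz2
      refine ⟨k₁ + k₂, k₂ * 1 + i₁, (ψ f) ^ k₂ • y₁ + (ψ f) ^ k₁ • y₂, add_mem hz1 hz2,
        by push_cast; omega, fun p => ?_, ?_⟩
      · rw [map_add, mval_add, hv₁, hv₂, LocalizedModule.mk_add_mk]
        congr 1
        exact Subtype.ext (pow_add (ψ f) k₁ k₂).symm
      · rw [map_add, hgs, hgs, chi_self_pow, chi_self_pow, hg₁, hg₂, X_pow_smul_single,
          X_pow_smul_single]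
        have e1 : k₂ + (k₁ + n.toNat) = k₁ + k₂ + n.toNat := by omega
        have e2 : k₁ + (k₂ + n.toNat) = k₁ + k₂ + n.toNat := by omega
        rw [e1, e2, PolynomialModule.single_add]
    | neg t _ h₁ =>
      obtain ⟨k₁, i₁, y₁, hy₁, hi₁, hv₁, hg₁⟩ := h₁
      refine ⟨k₁, i₁, -y₁, neg_mem hy₁, hi₁, fun p => ?_, ?_⟩
      · rw [map_neg, mval_neg', hv₁, LocalizedModule.mk_neg]
      · rw [map_neg, hg₁]
        exact ((PolynomialModule.lsingle Γ(Proj ℬ, Proj.basicOpen ℬ (ψ f))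
          (k₁ + n.toNat)).map_neg t).symm
  intro t t' htt
  obtain ⟨k, i, y, hy, hi, hval, hgy⟩ := hRep t
  obtain ⟨k', i', y', hy', hi', hval', hgy'⟩ := hRep t'
  have hz1 : (ψ f) ^ k' • y ∈ 𝒩 (k' * 1 + i) := GrGlue.pow_smul_mem ℬ 𝒩 hf' hy k'
  have hz2 : (ψ f) ^ k • y' ∈ 𝒩 (k * 1 + i') := GrGlue.pow_smul_mem ℬ 𝒩 hf' hy' k
  have e : k * 1 + i' = k' * 1 + i := by omega
  rw [e] at hz2
  have hz : (ψ f) ^ k' • y - (ψ f) ^ k • y' ∈ 𝒩 (k' * 1 + i) := sub_mem hz1 hz2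
  obtain ⟨K, hK⟩ := GrGlue.exists_pow_smul_eq_zero ℬ 𝒩 Nat.one_pos hf' _ _ hz (fun x hx => by
    have hxV : x ∈ Proj.basicOpen ℬ (ψ f) := (Proj.mem_basicOpen ℬ _ x).2 hx
    have h1 := hval ⟨x, hxV⟩
    have h2 := hval' ⟨x, hxV⟩
    rw [htt] at h1
    have h3 := h1.symm.trans h2
    rw [LocalizedModule.mk_eq] at h3
    obtain ⟨u, hu⟩ := h3
    refine ⟨u.1, u.2, ?_⟩
    rw [smul_sub, sub_eq_zero]
    exact hu)
  have h1 : (ψ f) ^ K • ((ψ f) ^ k' • y) = (ψ f) ^ K • ((ψ f) ^ k • y') := by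
    rw [smul_sub, sub_eq_zero] at hK
    exact hK
  have h2 := congrArg g h1
  rw [hgs, hgs, hgs, hgs, chi_self_pow, chi_self_pow, chi_self_pow, hgy, hgy', X_pow_smul_single,
    X_pow_smul_single, X_pow_smul_single, X_pow_smul_single] at h2
  have e2 : K + (k' + (k + n.toNat)) = K + (k + (k' + n.toNat)) := by omega
  rw [e2] at h2
  have h3 := congrArg PolynomialModule.coeff h2
  rw [PolynomialModule.coeff_single, PolynomialModule.coeff_single] at h3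
  exact Finsupp.single_injective _ h3

include hf hψ hv hbc hφ hθ hι hT hc in
/-- **the comparison map `Γ(D₊(ψ f), O) ⊗ Γ(D₊(f), M(n)~) → Γ(D₊(ψ f), N(n)~)` is bijective** for `f` of
degree one and `N` the base change of `M` -/
theorem core_bijective : Function.Bijective c :=
  ⟨core_injective ψ hψ v hv hf n hbc φ hφ θ hθ ι hι hT c hc,
    core_surjective ψ hψ v hv hf n hbc θ hθ ι c hc⟩

end core

end Groth.Agent.Lib.Proj.GrModBC
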