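import Groth.Agent.Lib.Proj.Helper66_RelTwistTriv

/-!
# Sections of `O_P(n)` reading `g^a / g^b` on ONE chart, `g` a local homogeneous section (helper66)

ns `Groth.Agent.Lib.Proj.RelTw`.  Local version of `Reads` (there `g = f|_U` for a global `f`).
* `ReadsG lam g a b U hU W s`, `.restrict`, `.basicOpen` (one step to `D(r)`, with `g` replaced by its restriction),
  `.val_eq`, `exists_readsG`, `isGenerator_of_readsG`.
-/

universe u
open CategoryTheory CategoryTheory.Limits AlgebraicGeometry TopologicalSpace Opposite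

namespace Groth.Agent.Lib.Proj.RelTw

open RelProj Groth.Agent.Lib.Ample

variable {Y P : Scheme.{u}} {𝒮 : RelProj.QCGrAlg Y} {p : P ⟶ Y}
  {chart : ∀ (U : Y.Opens) (hU : IsAffineOpen U),
    (((p ⁻¹ᵁ U : P.Opens) : Scheme.{u}) ≅ Proj (𝒮.deg U hU))}
  {n : ℤ} {L : P.Modules}
  {lam : ∀ (U : Y.Opens) (hU : IsAffineOpen U),
      L ⟶ (Scheme.Modules.pushforward (RelProj.emb p chart U hU)).obj (GrTwist.twist (𝒮.deg U hU) n)}

variable (lam) in
/-- `s` reads `g^a / g^b` on the chart over `U` (multiplicative form), `g` a section of `𝒮` over `U` -/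
def ReadsG {U : Y.Opens} (g : 𝒮.presheaf.obj (op U)) (a b : ℕ) (hU : IsAffineOpen U) (W : P.Opens)
    (s : Γ(L, W)) : Prop :=
  ∀ (y : ProjectiveSpectrum (𝒮.deg U hU)) (hy : (RelProj.emb p chart U hU).base y ∈ W),
    algebraMap (𝒮.presheaf.obj (op U)) (GrTwist.Loc (𝒮.deg U hU) y) (g ^ b) *
        GrTwist.val (V := (RelProj.emb p chart U hU) ⁻¹ᵁ W) ((lam U hU).app W s) ⟨y, hy⟩ =
      algebraMap (𝒮.presheaf.obj (op U)) (GrTwist.Loc (𝒮.deg U hU) y) (g ^ a)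

theorem ReadsG.restrict {U : Y.Opens} {g : 𝒮.presheaf.obj (op U)} {a b : ℕ} {hU : IsAffineOpen U}
    {W W' : P.Opens} (h : W' ≤ W) {s : Γ(L, W)} (hs : ReadsG lam g a b hU W s) :
    ReadsG lam g a b hU W' (resSec L h s) := by
  intro y hy
  rw [val_lam_app_res U hU h s ⟨y, hy⟩]
  exact hs y (h hy)

theorem ReadsG.basicOpen (hP : RelProj.IsRelProj 𝒮 p chart) (hL : RelProj.IsRelTwist 𝒮 p chart n L lam)
    {U : Y.Opens} {g : 𝒮.presheaf.obj (op U)} {a b : ℕ} {hU : IsAffineOpen U} (r : Γ(Y, U))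
    {W : P.Opens} {s : Γ(L, W)} (hs : ReadsG lam g a b hU W s) :
    ReadsG lam (𝒮.res hU (hU.basicOpen r) (Y.basicOpen_le r) g) a b (hU.basicOpen r) W s := by
  intro y hy
  have hy' : (RelProj.emb p chart U hU).base (ProjectiveSpectrum.comap
      (𝒮.res hU (hU.basicOpen r) (Y.basicOpen_le r)) (𝒮.irrelevant_le_map U hU r) y) ∈ W := by
    rw [← RelTl.emb_basicOpen_apply hP U hU r y]
    exact hy
  have e1 := hL.compat U hU r W s y hy hy'
  have e2 := congrArg (GrTwist.locMap (𝒮.res hU (hU.basicOpen r) (Y.basicOpen_le r))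
    (𝒮.irrelevant_le_map U hU r) y) (hs _ hy')
  rw [map_mul] at e2
  have e3 : ∀ x : 𝒮.presheaf.obj (op U),
      GrTwist.locMap (𝒮.res hU (hU.basicOpen r) (Y.basicOpen_le r)) (𝒮.irrelevant_le_map U hU r) y
        (algebraMap _ _ x) =
      algebraMap _ _ (𝒮.res hU (hU.basicOpen r) (Y.basicOpen_le r) x) := by
    intro x
    unfold GrTwist.locMap
    exact Localization.localRingHom_to_map _ _ _ _ x
  have e4 : ∀ k : ℕ, 𝒮.res hU (hU.basicOpen r) (Y.basicOpen_le r) (g ^ k) =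
      (𝒮.res hU (hU.basicOpen r) (Y.basicOpen_le r) g) ^ k := fun k => map_pow _ g k
  rw [e3, e3, e4, e4, ← e1] at e2
  exact e2

/-- transport of `ReadsG` along an equality of charts -/
theorem ReadsG.of_eq {U V : Y.Opens} (hUV : U = V) {g : 𝒮.presheaf.obj (op U)} {a b : ℕ}
    {hU : IsAffineOpen U} (hV : IsAffineOpen V) {W : P.Opens} {s : Γ(L, W)}
    (hs : ReadsG lam g a b hU W s) :
    ReadsG lam ((𝒮.presheaf.map (homOfLE (le_of_eq hUV.symm)).op).hom g) a b hV W s := by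
  subst hUV
  have h : (𝒮.presheaf.map (homOfLE (le_of_eq (rfl : U = U).symm)).op).hom g = g := by
    have h1 : (homOfLE (le_of_eq (rfl : U = U).symm)) = 𝟙 U := rfl
    rw [h1]
    simp
  rw [h]
  exact hs

theorem ReadsG.val_eq {U : Y.Opens} {g : 𝒮.presheaf.obj (op U)} {a b : ℕ} {hU : IsAffineOpen U}
    {W : P.Opens} {s : Γ(L, W)} (hs : ReadsG lam g a b hU W s)
    (y : ProjectiveSpectrum (𝒮.deg U hU)) (hy : (RelProj.emb p chart U hU).base y ∈ W)
    (hgy : g ∉ y.asHomogeneousIdeal) :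
    GrTwist.val (V := (RelProj.emb p chart U hU) ⁻¹ᵁ W) ((lam U hU).app W s) ⟨y, hy⟩ =
      GrTw.frac y (g ^ a) (g ^ b) (pow_not_mem' hgy b) :=
  GrTw.eq_frac_of_mul_eq y _ _ _ _ (hs y hy)

/-- existence of the section reading `g^a / g^b` over the image of `D₊(g)` -/
theorem exists_readsG (hL : RelProj.IsRelTwist 𝒮 p chart n L lam) {U : Y.Opens}
    {hU : IsAffineOpen U} {g : 𝒮.presheaf.obj (op U)}
    {a b d : ℕ} (hn : n = ((a : ℤ) - b) * d) (hg : g ∈ 𝒮.deg U hU d) :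
    ∃ s : Γ(L, (RelProj.emb p chart U hU) ''ᵁ (Proj.basicOpen (𝒮.deg U hU) g)),
      ReadsG lam g a b hU _ s := by
  have hAU : (RelProj.emb p chart U hU) ''ᵁ (Proj.basicOpen (𝒮.deg U hU) g) ≤ p ⁻¹ᵁ U :=
    emb_image_le U hU _
  have hb : ∀ x : ((RelProj.emb p chart U hU) ⁻¹ᵁ
      ((RelProj.emb p chart U hU) ''ᵁ (Proj.basicOpen (𝒮.deg U hU) g)) :
        (Proj (𝒮.deg U hU)).Opens), g ^ b ∉ x.1.asHomogeneousIdeal := by
    intro x
    obtain ⟨z, hz, hzx⟩ := x.2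
    have hzx' : z = x.1 := (RelProj.emb p chart U hU).isOpenEmbedding.injective hzx
    exact pow_not_mem' (hzx' ▸ (Proj.mem_basicOpen (𝒮.deg U hU) _ z).1 hz) b
  obtain ⟨s, hs⟩ := (hL.bijective U hU _ hAU).2
    (GrTw.fracSect' (⟨g ^ a, pow_mem_deg hg a⟩ : 𝒮.deg U hU (a * d))
      (⟨g ^ b, pow_mem_deg hg b⟩ : 𝒮.deg U hU (b * d)) n (by rw [hn]; push_cast; ring)
      (op ((RelProj.emb p chart U hU) ⁻¹ᵁ
        ((RelProj.emb p chart U hU) ''ᵁ (Proj.basicOpen (𝒮.deg U hU) g)))) hb)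
  refine ⟨s, fun y hy => ?_⟩
  have h1 := congrArg (fun q : GrTw.Sec (𝒮.deg U hU) n (op ((RelProj.emb p chart U hU) ⁻¹ᵁ
      ((RelProj.emb p chart U hU) ''ᵁ (Proj.basicOpen (𝒮.deg U hU) g)))) =>
      GrTw.val q ⟨y, hy⟩) hs
  have h2 : GrTwist.val (V := (RelProj.emb p chart U hU) ⁻¹ᵁ
      ((RelProj.emb p chart U hU) ''ᵁ (Proj.basicOpen (𝒮.deg U hU) g)))
      ((lam U hU).app _ s) ⟨y, hy⟩ =
      GrTw.frac y (g ^ a) (g ^ b) (hb ⟨y, hy⟩) :=
    h1.trans (GrTw.val_fracSect' (⟨g ^ a, pow_mem_deg hg a⟩ : 𝒮.deg U hU (a * d))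
      (⟨g ^ b, pow_mem_deg hg b⟩ : 𝒮.deg U hU (b * d)) n (by rw [hn]; push_cast; ring)
      (op ((RelProj.emb p chart U hU) ⁻¹ᵁ
        ((RelProj.emb p chart U hU) ''ᵁ (Proj.basicOpen (𝒮.deg U hU) g)))) hb ⟨y, hy⟩)
  rw [h2]
  exact GrTw.mul_frac_eq y _ _ _

/-- a section reading `g^a / g^b` on the chart over `U` freely generates `L` over opens inside the image of
`D₊(g)` -/
theorem isGenerator_of_readsG (hL : RelProj.IsRelTwist 𝒮 p chart n L lam) {U : Y.Opens}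
    {hU : IsAffineOpen U} {g : 𝒮.presheaf.obj (op U)}
    {a b d : ℕ} (hn : n = ((a : ℤ) - b) * d) (hg : g ∈ 𝒮.deg U hU d) {W : P.Opens}
    (hW : W ≤ (RelProj.emb p chart U hU) ''ᵁ (Proj.basicOpen (𝒮.deg U hU) g))
    {s : Γ(L, W)} (hs : ReadsG lam g a b hU W s) : IsGenerator L W s := by
  intro V hV
  have hVU : V ≤ p ⁻¹ᵁ U := (hV.trans hW).trans (emb_image_le U hU _)
  have hlam := hL.bijective U hU V hVU
  rw [← Function.Bijective.of_comp_iff' hlam]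
  have hV' : ∀ y : ((RelProj.emb p chart U hU) ⁻¹ᵁ V : (Proj (𝒮.deg U hU)).Opens),
      g ∉ y.1.asHomogeneousIdeal := by
    intro y
    obtain ⟨z, hz, hzy⟩ := hW (hV y.2)
    have hzy' : z = y.1 := (RelProj.emb p chart U hU).isOpenEmbedding.injective hzy
    exact hzy' ▸ (Proj.mem_basicOpen (𝒮.deg U hU) _ z).1 hz
  obtain ⟨τ, hτd⟩ : ∃ τ : GrTw.Sec (𝒮.deg U hU) n (op ((RelProj.emb p chart U hU) ⁻¹ᵁ V)),
      τ = (lam U hU).app V (resSec L hV s) := ⟨_, rfl⟩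
  have hτ : ∀ y : ((RelProj.emb p chart U hU) ⁻¹ᵁ V : (Proj (𝒮.deg U hU)).Opens),
      GrTw.val τ y = GrTw.frac y.1 (g ^ a) (g ^ b) (pow_not_mem' (hV' y) b) := by
    intro y
    rw [hτd]
    exact (hs.restrict hV).val_eq y.1 y.2 (hV' y)
  have hcomp : ((lam U hU).app V).hom ∘ (fun r : Γ(P, V) => r • resSec L hV s) =
      (fun ρ : GrTwist.O (𝒜 := 𝒮.deg U hU) (op ((RelProj.emb p chart U hU) ⁻¹ᵁ V)) => ρ • τ) ∘
        ((RelProj.emb p chart U hU).app V).hom := by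
    funext r
    apply GrTw.sec_ext
    intro y
    refine (val_lam_app_smul U hU V r _ y).trans ?_
    refine Eq.trans ?_ (GrTw.val_smul _ τ y).symm
    rw [hτd]
  rw [hcomp]
  have hiso : IsIso ((RelProj.emb p chart U hU).app V) :=
    Scheme.Hom.isIso_app _ V ((hV.trans hW).trans (by
      rintro _ ⟨z, -, rfl⟩
      exact ⟨z, rfl⟩))
  have hb1 : Function.Bijective ((RelProj.emb p chart U hU).app V).hom :=
    (ConcreteCategory.isIso_iff_bijective _).1 hiso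
  have hb2 : Function.Bijective
      (fun ρ : GrTwist.O (𝒜 := 𝒮.deg U hU) (op ((RelProj.emb p chart U hU) ⁻¹ᵁ V)) => ρ • τ) :=
    GrTw.bijective_smul_of_val_eq_frac
      (⟨g ^ a, pow_mem_deg hg a⟩ : 𝒮.deg U hU (a * d))
      (⟨g ^ b, pow_mem_deg hg b⟩ : 𝒮.deg U hU (b * d)) n (by rw [hn]; push_cast; ring)
      (op ((RelProj.emb p chart U hU) ⁻¹ᵁ V)) (fun y => pow_not_mem' (hV' y) a)
      (fun y => pow_not_mem' (hV' y) b) τ hτ
  exact hb2.comp hb1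

end Groth.Agent.Lib.Proj.RelTw
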