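import Groth.Agent.Lib.Proj.Helper66_RelTwistComap
import Groth.Agent.Lib.Proj.Helper66_RelTwistLocal
import Groth.Agent.Lib.Helper56.PullTensorB

/-!
# `h^* O_{Proj 𝒜}(n) ≅ O_{Proj ℬ}(n)` for `𝒜` generated in degree one (helper66)

ns `Groth.Agent.Lib.Proj.RelTwC`.
-/

universe u
open CategoryTheory CategoryTheory.Limits AlgebraicGeometry TopologicalSpace Opposite
open scoped HomogeneousIdeal

namespace Groth.Agent.Lib.Proj.RelTwC

open RelProj Groth.Agent.Lib.QCoh.Glue74 Groth.Agent.Lib.Helper42.RelProjMap Groth.Agent.Lib.Ample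
  Groth.Agent.Lib.Proj.PullSec

/-- the adjunct of `θ : M ⟶ f_* N` on pulled back sections -/
theorem adjunct_app_pullSecOn {X Y : Scheme.{u}} (f : X ⟶ Y) {M : Y.Modules} {N : X.Modules}
    (θ : M ⟶ (Scheme.Modules.pushforward f).obj N) (V : Y.Opens) (m : Γ(M, V)) :
    (((Scheme.Modules.pullbackPushforwardAdjunction f).homEquiv M N).symm θ).app (f ⁻¹ᵁ V)
      (pullSecOn f M V m) = θ.app V m := by
  have h := ((Scheme.Modules.pullbackPushforwardAdjunction f).homEquiv M N).apply_symm_apply θ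
  rw [Adjunction.homEquiv_unit] at h
  exact congrArg (fun k => (Scheme.Modules.Hom.app k V).hom m) h

variable {Y PA PB : Scheme.{u}} {𝒜 ℬ : RelProj.QCGrAlg Y}
  {φ : 𝒜.toQCAlg ⟶ ℬ.toQCAlg} {hφ : RelProj.IsGradedHom φ}
  {hirr : ∀ (U : Y.Opens) (hU : IsAffineOpen U),
    (ℬ.deg U hU)₊ ≤ ((𝒜.deg U hU)₊).map (RelProj.gradedHomAt φ hφ U hU)}
  {pA : PA ⟶ Y} {pB : PB ⟶ Y}
  {chartA : ∀ (U : Y.Opens) (hU : IsAffineOpen U),
    (((pA ⁻¹ᵁ U : PA.Opens) : Scheme.{u}) ≅ Proj (𝒜.deg U hU))}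
  {chartB : ∀ (U : Y.Opens) (hU : IsAffineOpen U),
    (((pB ⁻¹ᵁ U : PB.Opens) : Scheme.{u}) ≅ Proj (ℬ.deg U hU))}
  {h : PB ⟶ PA}

/-- `h⁻¹(emb_A D₊(t)) ⊆ emb_B D₊(φ t)` -/
theorem preimage_image_basicOpen_le (hPA : RelProj.IsRelProj 𝒜 pA chartA)
    (hPB : RelProj.IsRelProj ℬ pB chartB)
    (hh : RelProj.IsRelProjMap φ hφ hirr chartA chartB h) (U : Y.Opens) (hU : IsAffineOpen U)
    (t : 𝒜.presheaf.obj (op U)) :
    h ⁻¹ᵁ ((RelProj.emb pA chartA U hU) ''ᵁ (Proj.basicOpen (𝒜.deg U hU) t)) ≤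
      (RelProj.emb pB chartB U hU) ''ᵁ
        (Proj.basicOpen (ℬ.deg U hU) (RelProj.gradedHomAt φ hφ U hU t)) := by
  intro z hz
  have hz' : h.base z ∈ (RelProj.emb pA chartA U hU) ''ᵁ (Proj.basicOpen (𝒜.deg U hU) t) := hz
  obtain ⟨x, hx, hxz⟩ := hz'
  have hzU : z ∈ pB ⁻¹ᵁ U :=
    preimage_le hPA hPB hh (RelTw.emb_image_le (p := pA) (chart := chartA) U hU _) hz
  have hy : (RelProj.emb pB chartB U hU).base ((chartB U hU).hom.base ⟨z, hzU⟩) = z :=
    RelTw.emb_chart_hom U hU ⟨z, hzU⟩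
  refine ⟨(chartB U hU).hom.base ⟨z, hzU⟩, ?_, hy⟩
  have h1 : (RelProj.emb pA chartA U hU).base (ProjectiveSpectrum.comap
      (RelProj.gradedHomAt φ hφ U hU) (hirr U hU) ((chartB U hU).hom.base ⟨z, hzU⟩)) =
      (RelProj.emb pA chartA U hU).base x := by
    rw [← emb_h_apply hh U hU, hy]
    exact hxz.symm
  have hxy := (RelProj.emb pA chartA U hU).isOpenEmbedding.injective h1
  have hx' : t ∉ x.asHomogeneousIdeal := (Proj.mem_basicOpen (𝒜.deg U hU) t x).1 hx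
  rw [← hxy] at hx'
  exact (Proj.mem_basicOpen (ℬ.deg U hU) _ _).2 hx'

variable {n : ℤ} {LA : PA.Modules}
  {lamA : ∀ (U : Y.Opens) (hU : IsAffineOpen U),
      LA ⟶ (Scheme.Modules.pushforward (RelProj.emb pA chartA U hU)).obj
        (GrTwist.twist (𝒜.deg U hU) n)}
  {LB : PB.Modules}
  {lamB : ∀ (U : Y.Opens) (hU : IsAffineOpen U),
      LB ⟶ (Scheme.Modules.pushforward (RelProj.emb pB chartB U hU)).obj
        (GrTwist.twist (ℬ.deg U hU) n)}

/-- the comparison morphism carries a section reading `t^a/t^b` to one reading `φ(t)^a/φ(t)^b` -/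
theorem readsG_of_rel {U : Y.Opens} {hU : IsAffineOpen U} {W : PA.Opens} {s : Γ(LA, W)}
    {t' : Γ(LB, h ⁻¹ᵁ W)} (hr : Rel hirr h lamA lamB U hU W s t')
    (hh : RelProj.IsRelProjMap φ hφ hirr chartA chartB h)
    {g : 𝒜.presheaf.obj (op U)} {a b : ℕ} (hs : RelTw.ReadsG lamA g a b hU W s) :
    RelTw.ReadsG lamB (RelProj.gradedHomAt φ hφ U hU g) a b hU (h ⁻¹ᵁ W) t' := by
  intro y hy
  have hy' : (RelProj.emb pA chartA U hU).base
      (ProjectiveSpectrum.comap (RelProj.gradedHomAt φ hφ U hU) (hirr U hU) y) ∈ W := by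
    rw [← emb_h_apply hh U hU]
    exact hy
  have h1 := hs _ hy'
  have h2 := congrArg (GrTwist.locMap (RelProj.gradedHomAt φ hφ U hU) (hirr U hU) y) h1
  rw [map_mul] at h2
  have hmap : ∀ c : 𝒜.presheaf.obj (op U),
      GrTwist.locMap (RelProj.gradedHomAt φ hφ U hU) (hirr U hU) y
        (algebraMap (𝒜.presheaf.obj (op U)) (GrTwist.Loc (𝒜.deg U hU)
          (ProjectiveSpectrum.comap (RelProj.gradedHomAt φ hφ U hU) (hirr U hU) y)) c) =
      algebraMap (ℬ.presheaf.obj (op U)) (GrTwist.Loc (ℬ.deg U hU) y)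
        (RelProj.gradedHomAt φ hφ U hU c) := by
    intro c
    rw [← Localization.mk_one_eq_algebraMap, ← Localization.mk_one_eq_algebraMap,
      GrTwist.locMap_mk]
    congr 1
    exact Subtype.ext (map_one _)
  have hp : ∀ k : ℕ, RelProj.gradedHomAt φ hφ U hU (g ^ k) =
      (RelProj.gradedHomAt φ hφ U hU g) ^ k := fun k => map_pow _ g k
  rw [hmap, hmap, hp, hp] at h2
  rw [hr y hy hy']
  exact h2

/-- **the adjunct `h^* O_A(n) ⟶ O_B(n)` of the comparison morphism is an isomorphism** when `𝒜` is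
generated in degree one -/
theorem isIso_adjunct (hPA : RelProj.IsRelProj 𝒜 pA chartA) (hPB : RelProj.IsRelProj ℬ pB chartB)
    (hh : RelProj.IsRelProjMap φ hφ hirr chartA chartB h) (hgen : 𝒜.IsGenDegOne)
    (hLA : RelProj.IsRelTwist 𝒜 pA chartA n LA lamA) (hLB : RelProj.IsRelTwist ℬ pB chartB n LB lamB)
    (θ : LA ⟶ (Scheme.Modules.pushforward h).obj LB)
    (hθ : ∀ (U : Y.Opens) (hU : IsAffineOpen U) (W : PA.Opens) (s : Γ(LA, W)),
      Rel hirr h lamA lamB U hU W s (θ.app W s)) :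
    IsIso (((Scheme.Modules.pullbackPushforwardAdjunction h).homEquiv LA LB).symm θ) := by
  classical
  have hq : LA.IsQuasicoherent := RelTw.isQuasicoherent hLA
  have hn : n = (((n.toNat : ℕ) : ℤ) - ((-n).toNat : ℕ)) * ((1 : ℕ) : ℤ) := by
    rw [Int.toNat_sub_toNat_neg]; simp
  refine Groth.Agent.Lib.QCoh.isIso_of_bijective_app_of_isBasis _
    (fun i : {W : PB.Opens // IsAffineOpen W ∧ ∃ (U : Y.Opens) (hU : IsAffineOpen U)
      (t : 𝒜.deg U hU 1), W ≤ h ⁻¹ᵁ ((RelProj.emb pA chartA U hU) ''ᵁ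
        (Proj.basicOpen (𝒜.deg U hU) (t : 𝒜.presheaf.obj (op U))))} => i.1) ?_ ?_
  · rw [Opens.isBasis_iff_nbhd]
    intro Ω z hz
    -- a chart neighbourhood of `h z`
    obtain ⟨U, hU0, hxU, -⟩ := Opens.isBasis_iff_nbhd.1 (Y.isBasis_affineOpens)
      (show pA.base (h.base z) ∈ (⊤ : Y.Opens) from trivial)
    have hU : IsAffineOpen U := hU0
    have hcov := GrTw.iSup_basicOpen_eq_top_of_closure (𝒜.deg U hU) (hgen U hU)
    have hy : (chartA U hU).hom.base ⟨h.base z, hxU⟩ ∈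
        (⨆ t : 𝒜.deg U hU 1, Proj.basicOpen (𝒜.deg U hU) (t : 𝒜.presheaf.obj (op U))) := by
      rw [hcov]; trivial
    obtain ⟨t, ht⟩ := Opens.mem_iSup.1 hy
    have hzV : z ∈ h ⁻¹ᵁ ((RelProj.emb pA chartA U hU) ''ᵁ
        (Proj.basicOpen (𝒜.deg U hU) (t : 𝒜.presheaf.obj (op U)))) :=
      ⟨_, ht, RelTw.emb_chart_hom U hU ⟨h.base z, hxU⟩⟩
    obtain ⟨W, hW0, hzW, hWle⟩ := Opens.isBasis_iff_nbhd.1 (PB.isBasis_affineOpens)
      (show z ∈ Ω ⊓ h ⁻¹ᵁ ((RelProj.emb pA chartA U hU) ''ᵁ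
        (Proj.basicOpen (𝒜.deg U hU) (t : 𝒜.presheaf.obj (op U)))) from ⟨hz, hzV⟩)
    exact ⟨W, ⟨⟨W, hW0, U, hU, t, hWle.trans inf_le_right⟩, rfl⟩, hzW, hWle.trans inf_le_left⟩
  · rintro ⟨W, hW, U, hU, t, hWV⟩
    -- the affine open `V = emb_A(D₊(t))` and the generator of `LA` over it
    have hVaff : IsAffineOpen ((RelProj.emb pA chartA U hU) ''ᵁ
        (Proj.basicOpen (𝒜.deg U hU) (t : 𝒜.presheaf.obj (op U)))) :=
      (Proj.isAffineOpen_basicOpen (𝒜.deg U hU) (t : 𝒜.presheaf.obj (op U)) t.2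
        Nat.one_pos).image_of_isOpenImmersion (RelProj.emb pA chartA U hU)
    obtain ⟨e, he⟩ := RelTw.exists_readsG (lam := lamA) hLA hn t.2
    have hg : IsGenerator LA _ e := RelTw.isGenerator_of_readsG hLA hn t.2 le_rfl he
    have hrel := hθ U hU _ e
    have hreads := readsG_of_rel hrel hh he
    have hφt : RelProj.gradedHomAt φ hφ U hU (t : 𝒜.presheaf.obj (op U)) ∈ ℬ.deg U hU 1 :=
      (RelProj.gradedHomAt φ hφ U hU).map_mem t.2
    have hgB : IsGenerator LB _ (θ.app _ e) :=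
      RelTw.isGenerator_of_readsG hLB hn hφt
        (preimage_image_basicOpen_le hPA hPB hh U hU _) hreads
    -- bases
    have ha := Groth.Agent.Lib.Helper56.PullTensor.bijective_smul_res_pullSecOn h LA hVaff e
      (Groth.Agent.Lib.Helper56.PullTensor.isGenerator_bijective_self hg) hW hWV
    refine Groth.Agent.Lib.Helper56.PullTensor.bijective_app_of_bases _ ha ?_
    have hb := hgB W hWV
    have himg : ((((Scheme.Modules.pullbackPushforwardAdjunction h).homEquiv LA LB).symm θ).app W).hom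
        (resSec ((Scheme.Modules.pullback h).obj LA) hWV (pullSecOn h LA _ e)) =
        resSec LB hWV (θ.app _ e) := by
      have e1 := Groth.Agent.Lib.QCoh.app_naturality_apply
        (((Scheme.Modules.pullbackPushforwardAdjunction h).homEquiv LA LB).symm θ) (homOfLE hWV)
        (pullSecOn h LA _ e)
      refine e1.trans ?_
      exact congrArg _ (adjunct_app_pullSecOn h θ _ e)
    rw [himg]
    exact hb

end Groth.Agent.Lib.Proj.RelTwC
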