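import Mathlib
import Groth.Agent.Lib.Proj.Helper66_GrModBC3
import Groth.Agent.Lib.Proj.Helper66_RelTwistPullback
import Groth.Agent.Lib.QCoh.Helper50_PullbackSections
import Groth.Agent.Lib.QCoh.Helper50_Pullback
import Groth.Agent.Lib.Helper42.QCohIso

/-!
# `Φ^*(M(n)~) ≅ N(n)~` for the base change `N` of `M`, source algebra generated in degree one (helper66)

ns `Groth.Agent.Lib.Proj.GrModBC`.
-/

set_option autoImplicit false
set_option linter.unusedSectionVars false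
universe u
open CategoryTheory AlgebraicGeometry Opposite TopologicalSpace
open scoped HomogeneousIdeal

namespace Groth.Agent.Lib.Proj.GrModBC

open Groth.Agent.Lib.Proj.GrQCohTwist Groth.Agent.Lib.Proj.GrModQCoh Groth.Agent.Lib.Proj.GrModExact
  Groth.Agent.Lib.QCoh Groth.Agent.Lib.Proj.PullSec

variable {A σ : Type u} [CommRing A] [SetLike σ A] [AddSubgroupClass σ A] {𝒜 : ℕ → σ} [GradedRing 𝒜]
  {B σ' : Type u} [CommRing B] [SetLike σ' B] [AddSubgroupClass σ' B] {ℬ : ℕ → σ'} [GradedRing ℬ]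
  (ψ : 𝒜 →+*ᵍ ℬ) (hψ : ℬ₊ ≤ (𝒜₊).map ψ)
  {M τ : Type u} [AddCommGroup M] [Module A M] [SetLike τ M] [AddSubgroupClass τ M] {ℳ : ℕ → τ}
  [SetLike.GradedSMul 𝒜 ℳ] [DirectSum.Decomposition ℳ]
  {N τ' : Type u} [AddCommGroup N] [Module B N] [SetLike τ' N] [AddSubgroupClass τ' N] {𝒩 : ℕ → τ'}
  [SetLike.GradedSMul ℬ 𝒩] [DirectSum.Decomposition 𝒩]
  (v : M →ₛₗ[ψ.toRingHom] N) (hv : ∀ (i : ℕ) (m : M), m ∈ ℳ i → v m ∈ 𝒩 i)
  (n : ℤ)

open ModuleCat ChangeOfRings in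
set_option backward.isDefEq.respectTransparency false in
set_option maxHeartbeats 1000000 in
/-- the adjunct is bijective on sections over `D₊(ψ f)`, `f` of degree one -/
theorem bijective_app_adjunct
    (hbc : ∀ (Q : Type u) [AddCommGroup Q] [Module B Q] (w : M →ₛₗ[ψ.toRingHom] Q),
      ∃! g : N →ₗ[B] Q, ∀ m : M, g (v m) = w m) {f : A} (hf : f ∈ 𝒜 1) :
    Function.Bijective ((((Scheme.Modules.pullbackPushforwardAdjunction (Proj.map ψ hψ)).homEquiv _ _).symm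
      (GrMod.comap ψ hψ v hv n)).app (Proj.basicOpen ℬ (ψ f))) := by
  have hV : IsAffineOpen (Proj.basicOpen 𝒜 f) := Proj.isAffineOpen_basicOpen 𝒜 f hf Nat.one_pos
  have hW' : IsAffineOpen (Proj.basicOpen ℬ (ψ f)) :=
    Proj.isAffineOpen_basicOpen ℬ (ψ f) (ψ.map_mem hf) Nat.one_pos
  have e : Proj.basicOpen ℬ (ψ f) ≤ (Proj.map ψ hψ) ⁻¹ᵁ Proj.basicOpen 𝒜 f := le_of_eq rfl
  haveI : (GrMod.tilde 𝒜 ℳ n).IsQuasicoherent := tilde_isQuasicoherent 𝒜 ℳ n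
  obtain ⟨κ, hκ⟩ := exists_iso_extendScalars_pullbackSections (Proj.map ψ hψ) hV hW' e
    (GrMod.tilde 𝒜 ℳ n)
  obtain ⟨ν, hν⟩ : ∃ ν, ν = ((Scheme.Modules.pullbackPushforwardAdjunction (Proj.map ψ hψ)).homEquiv _ _).symm
      (GrMod.comap ψ hψ v hv n) := ⟨_, rfl⟩
  rw [← hν]
  let _ : Module Γ(Proj 𝒜, Proj.basicOpen 𝒜 f) Γ(Proj ℬ, Proj.basicOpen ℬ (ψ f)) :=
    Module.compHom _ ((Proj.map ψ hψ).appLE (Proj.basicOpen 𝒜 f) (Proj.basicOpen ℬ (ψ f)) e).hom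
  let ι : Γ(GrMod.tilde 𝒜 ℳ n, Proj.basicOpen 𝒜 f) →+
      ((ModuleCat.extendScalars ((Proj.map ψ hψ).appLE (Proj.basicOpen 𝒜 f)
        (Proj.basicOpen ℬ (ψ f)) e).hom).obj
        (ModuleCat.of Γ(Proj 𝒜, Proj.basicOpen 𝒜 f) Γ(GrMod.tilde 𝒜 ℳ n, Proj.basicOpen 𝒜 f))) :=
    { toFun := fun m => (1 : Γ(Proj ℬ, Proj.basicOpen ℬ (ψ f))) ⊗ₜ[Γ(Proj 𝒜, Proj.basicOpen 𝒜 f),
        ((Proj.map ψ hψ).appLE (Proj.basicOpen 𝒜 f) (Proj.basicOpen ℬ (ψ f)) e).hom] m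
      map_zero' := TensorProduct.tmul_zero _ _
      map_add' := fun m m' => TensorProduct.tmul_add _ m m' }
  let c : ((ModuleCat.extendScalars ((Proj.map ψ hψ).appLE (Proj.basicOpen 𝒜 f)
        (Proj.basicOpen ℬ (ψ f)) e).hom).obj
        (ModuleCat.of Γ(Proj 𝒜, Proj.basicOpen 𝒜 f) Γ(GrMod.tilde 𝒜 ℳ n, Proj.basicOpen 𝒜 f)))
      →ₗ[Γ(Proj ℬ, Proj.basicOpen ℬ (ψ f))] Γ(GrMod.tilde ℬ 𝒩 n, Proj.basicOpen ℬ (ψ f)) :=
    { toFun := fun t => (ν.app (Proj.basicOpen ℬ (ψ f))).hom (κ.hom.hom t)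
      map_add' := fun x y => by rw [map_add, map_add]
      map_smul' := fun r x => by
        rw [map_smul]
        exact Scheme.Modules.Hom.app_smul ν r _ }
  have hcb : Function.Bijective c := by
    refine core_bijective ψ hψ v hv hf n hbc
      ((Proj.map ψ hψ).appLE (Proj.basicOpen 𝒜 f) (Proj.basicOpen ℬ (ψ f)) e).hom ?_
      (c.toAddMonoidHom.comp ι) ?_ ι ?_ ?_ c (fun s => rfl)
    · intro r y
      exact RelTwC.val_map_app ψ hψ (Proj.basicOpen 𝒜 f) r ⟨y.1, e y.2⟩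
    · intro s y
      have h1 : c (ι s) = (ν.app (Proj.basicOpen ℬ (ψ f))).hom
          (pullbackSectionsMap (Proj.map ψ hψ) e (GrMod.tilde 𝒜 ℳ n) s) :=
        congrArg (ν.app (Proj.basicOpen ℬ (ψ f))).hom (hκ s)
      have h2 : (ν.app (Proj.basicOpen ℬ (ψ f))).hom
          (pullbackSectionsMap (Proj.map ψ hψ) e (GrMod.tilde 𝒜 ℳ n) s) =
          (GrMod.tilde ℬ 𝒩 n).presheaf.map (homOfLE e).op
            ((ν.app ((Proj.map ψ hψ) ⁻¹ᵁ Proj.basicOpen 𝒜 f)).hom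
              (pullSecOn (Proj.map ψ hψ) (GrMod.tilde 𝒜 ℳ n) (Proj.basicOpen 𝒜 f) s)) :=
        app_naturality_apply ν (homOfLE e) _
      have h3 : (ν.app ((Proj.map ψ hψ) ⁻¹ᵁ Proj.basicOpen 𝒜 f)).hom
          (pullSecOn (Proj.map ψ hψ) (GrMod.tilde 𝒜 ℳ n) (Proj.basicOpen 𝒜 f) s) =
          (GrMod.comap ψ hψ v hv n).app (Proj.basicOpen 𝒜 f) s := by
        rw [hν]
        exact RelTwC.adjunct_app_pullSecOn (Proj.map ψ hψ) (GrMod.comap ψ hψ v hv n) _ s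
      change mval ℬ 𝒩 n (c (ι s)) y = _
      rw [h1, h2, h3]
      rfl
    · intro r s
      change ((1 : Γ(Proj ℬ, Proj.basicOpen ℬ (ψ f))) ⊗ₜ[Γ(Proj 𝒜, Proj.basicOpen 𝒜 f),
        ((Proj.map ψ hψ).appLE (Proj.basicOpen 𝒜 f) (Proj.basicOpen ℬ (ψ f)) e).hom] (r • s)) = _
      rw [← TensorProduct.smul_tmul]
      change _ = ((Proj.map ψ hψ).appLE (Proj.basicOpen 𝒜 f) (Proj.basicOpen ℬ (ψ f)) e).hom r •
        ((1 : Γ(Proj ℬ, Proj.basicOpen ℬ (ψ f))) ⊗ₜ[Γ(Proj 𝒜, Proj.basicOpen 𝒜 f),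
        ((Proj.map ψ hψ).appLE (Proj.basicOpen 𝒜 f) (Proj.basicOpen ℬ (ψ f)) e).hom] s)
      rw [ModuleCat.ExtendScalars.smul_tmul]
      rfl
    · intro t
      induction t using TensorProduct.induction_on with
      | zero => exact AddSubgroup.zero_mem _
      | tmul σ s =>
        refine AddSubgroup.subset_closure ⟨σ, s, ?_⟩
        have h1 := ModuleCat.ExtendScalars.smul_tmul
          (f := ((Proj.map ψ hψ).appLE (Proj.basicOpen 𝒜 f) (Proj.basicOpen ℬ (ψ f)) e).hom)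
          (M := ModuleCat.of Γ(Proj 𝒜, Proj.basicOpen 𝒜 f)
            Γ(GrMod.tilde 𝒜 ℳ n, Proj.basicOpen 𝒜 f))
          (show Γ(Proj ℬ, Proj.basicOpen ℬ (ψ f)) from σ) (1 : Γ(Proj ℬ, Proj.basicOpen ℬ (ψ f))) s
        rw [mul_one] at h1
        exact h1.symm
      | add x y hx hy => exact AddSubgroup.add_mem _ hx hy
  have hκb : Function.Bijective κ.hom := ConcreteCategory.bijective_of_isIso κ.hom
  have hcomp : (c : _ → _) = (fun z => (ν.app (Proj.basicOpen ℬ (ψ f))).hom z) ∘ (fun z => κ.hom z) := rfl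
  rw [hcomp] at hcb
  exact (Function.Bijective.of_comp_iff _ hκb).1 hcb

/-- **`Φ^*(M(n)~) ⟶ N(n)~` is an isomorphism** for `N` the base change of `M`, when `A₊` is generated by `A₁` -/
theorem isIso_adjunct (hgen : (𝒜₊).toIdeal = Ideal.span (𝒜 1 : Set A))
    (hbc : ∀ (Q : Type u) [AddCommGroup Q] [Module B Q] (w : M →ₛₗ[ψ.toRingHom] Q),
      ∃! g : N →ₗ[B] Q, ∀ m : M, g (v m) = w m) :
    IsIso (((Scheme.Modules.pullbackPushforwardAdjunction (Proj.map ψ hψ)).homEquiv _ _).symm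
      (GrMod.comap ψ hψ v hv n)) := by
  haveI : (GrMod.tilde 𝒜 ℳ n).IsQuasicoherent := tilde_isQuasicoherent 𝒜 ℳ n
  haveI : (GrMod.tilde ℬ 𝒩 n).IsQuasicoherent := tilde_isQuasicoherent ℬ 𝒩 n
  haveI : ((Scheme.Modules.pullback (Proj.map ψ hψ)).obj (GrMod.tilde 𝒜 ℳ n)).IsQuasicoherent :=
    isQuasicoherent_pullback _ _
  refine Groth.Agent.Lib.Helper42.QCohIso.isIso_of_bijective_affine_cover _
    (fun f : 𝒜 1 => Proj.basicOpen ℬ (ψ (f : A)))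
    (fun f => Proj.isAffineOpen_basicOpen ℬ _ (ψ.map_mem f.2) Nat.one_pos) ?_
    (fun f => bijective_app_adjunct ψ hψ v hv n hbc f.2)
  intro y
  by_contra hcon
  push_neg at hcon
  have h1 : ∀ f ∈ 𝒜 1, f ∈ (ProjectiveSpectrum.comap ψ hψ
      (show ProjectiveSpectrum ℬ from y)).asHomogeneousIdeal := by
    intro f hf
    by_contra hfx
    exact hcon ⟨f, hf⟩ ((Proj.mem_basicOpen ℬ _ y).2 hfx)
  apply (ProjectiveSpectrum.comap ψ hψ (show ProjectiveSpectrum ℬ from y)).not_irrelevant_le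
  intro a ha
  have ha' : a ∈ (𝒜₊).toIdeal := ha
  rw [hgen] at ha'
  exact (Ideal.span_le (I := (ProjectiveSpectrum.comap ψ hψ
    (show ProjectiveSpectrum ℬ from y)).asHomogeneousIdeal.toIdeal)).2 (fun f hf => h1 f hf) ha'

end Groth.Agent.Lib.Proj.GrModBC
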