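import Groth.Agent.Lib.Proj.Helper66_GrQCoh
import Groth.Agent.Lib.QCoh.AffineOpen
import Groth.Agent.Lib.QCoh.FiniteType

/-!
# `O(n)` on `Proj A` is of finite type when `A` is Noetherian (helper66)

ns `Groth.Agent.Lib.Proj.GrTwistFinite`.
* `sec`, `fn`: the section `a / f^k` of `O(n)` and the function `b / f^k` over `D₊(f)`
* `finite_sections`: `Γ(D₊(f), O(n))` is a finite `Γ(D₊(f), O)`-module for `A` Noetherian
* `twist_isFiniteType`
-/

set_option autoImplicit false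
set_option linter.unusedSectionVars false
universe u
open CategoryTheory AlgebraicGeometry Opposite TopologicalSpace DirectSum

namespace Groth.Agent.Lib.Proj.GrTwistFinite

open Groth.Agent.Lib.Proj.GrQCohTwist

variable {A σ : Type u} [CommRing A] [SetLike σ A] [AddSubgroupClass σ A] (𝒜 : ℕ → σ) [GradedRing 𝒜]

section

variable {d : ℕ} {f : A} (hf : f ∈ 𝒜 d)

include hf in
lemma pow_mem (k : ℕ) : f ^ k ∈ 𝒜 (k * d) := by
  have := SetLike.pow_mem_graded k hf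
  simpa [smul_eq_mul] using this

lemma basicOpen_le_pow (f : A) (k : ℕ) :
    ProjectiveSpectrum.basicOpen 𝒜 f ≤ ProjectiveSpectrum.basicOpen 𝒜 (f ^ k) := by
  intro p hp
  rw [ProjectiveSpectrum.mem_basicOpen] at hp ⊢
  exact fun h => hp (p.isPrime.mem_of_pow_mem _ h)

/-- the section `a / f ^ k` of `O(n)` over `D₊(f)` -/
noncomputable def sec (n : ℤ) (k : ℕ) {i : ℕ} (a : 𝒜 i) (hi : (i : ℤ) = ((k * d : ℕ) : ℤ) + n) :
    Γ(GrTwist.twist 𝒜 n, Proj.basicOpen 𝒜 f) :=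
  GrTwist.resN n (homOfLE (basicOpen_le_pow 𝒜 f k)).op
    (GrSections.fracSect 𝒜 n a ⟨f ^ k, pow_mem 𝒜 hf k⟩ hi)

lemma tval_sec (n : ℤ) (k : ℕ) {i : ℕ} (a : 𝒜 i) (hi : (i : ℤ) = ((k * d : ℕ) : ℤ) + n)
    (p : Proj.basicOpen 𝒜 f) :
    tval 𝒜 n (sec 𝒜 hf n k a hi) p =
      (Localization.mk a.1 ⟨f ^ k, fun h => (ProjectiveSpectrum.mem_basicOpen 𝒜 f p.1).mp p.2
        (p.1.isPrime.mem_of_pow_mem k h)⟩ : GrTwist.Loc 𝒜 p.1) := rfl

/-- the function `b / f ^ k` on `D₊(f)` -/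
noncomputable def fn (k : ℕ) (b : 𝒜 (k * d)) : Γ(Proj 𝒜, Proj.basicOpen 𝒜 f) :=
  (Proj.awayToSection 𝒜 f).hom (HomogeneousLocalization.Away.mk 𝒜 hf k b.1
    (by simp [smul_eq_mul]))

lemma fval_fn (k : ℕ) (b : 𝒜 (k * d)) (p : Proj.basicOpen 𝒜 f) :
    fval 𝒜 (fn 𝒜 hf k b) p =
      (Localization.mk b.1 ⟨f ^ k, fun h => (ProjectiveSpectrum.mem_basicOpen 𝒜 f p.1).mp p.2
        (p.1.isPrime.mem_of_pow_mem k h)⟩ : GrTwist.Loc 𝒜 p.1) := by
  have h4 := ProjectiveSpectrum.Proj.awayToSection_apply 𝒜 f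
    (HomogeneousLocalization.Away.mk 𝒜 hf k b.1 (by simp [smul_eq_mul])) p
  refine h4.trans ?_
  rw [HomogeneousLocalization.Away.val_mk, Localization.mk_eq_mk', IsLocalization.map_mk',
    Localization.mk_eq_mk']
  rfl

end

/-- evaluation of sections of `O(n)` at a point, as an additive map -/
noncomputable def tvalHom (n : ℤ) {U : (Proj 𝒜).Opens} (p : U) :
    Γ(GrTwist.twist 𝒜 n, U) →+ GrTwist.Loc 𝒜 p.1 where
  toFun x := tval 𝒜 n x p
  map_zero' := rfl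
  map_add' _ _ := rfl

lemma tval_sum (n : ℤ) {U : (Proj 𝒜).Opens} {ι : Type*} (s : Finset ι)
    (x : ι → Γ(GrTwist.twist 𝒜 n, U)) (p : U) :
    tval 𝒜 n (∑ t ∈ s, x t) p = ∑ t ∈ s, tval 𝒜 n (x t) p :=
  map_sum (tvalHom 𝒜 n p) x s

variable {d : ℕ} {f : A}

/-- **sections of `O(n)` over `D₊(f)` form a finite module when `A` is Noetherian** -/
theorem finite_sections [IsNoetherianRing A] (n : ℤ) (hd : 0 < d) (hf : f ∈ 𝒜 d) :
    Module.Finite Γ(Proj 𝒜, Proj.basicOpen 𝒜 f) Γ(GrTwist.twist 𝒜 n, Proj.basicOpen 𝒜 f) := by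
  classical
  let G : Set A := {a | ∃ k i : ℕ, a ∈ 𝒜 i ∧ (i : ℤ) = ((k * d : ℕ) : ℤ) + n}
  have hfg : (Ideal.span G).FG := IsNoetherian.noetherian _
  obtain ⟨T, hTsub, hTspan⟩ := (Submodule.fg_span_iff_fg_span_finset_subset _).mp hfg
  have hG : ∀ a : A, a ∈ G → ∃ k i : ℕ, a ∈ 𝒜 i ∧ (i : ℤ) = ((k * d : ℕ) : ℤ) + n := fun a ha => ha
  choose! κ ι hκ using hG
  let s : T → Γ(GrTwist.twist 𝒜 n, Proj.basicOpen 𝒜 f) := fun t =>
    sec 𝒜 hf n (κ t.1) ⟨t.1, (hκ t.1 (hTsub t.2)).1⟩ (hκ t.1 (hTsub t.2)).2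
  refine ⟨⟨Finset.univ.image s, ?_⟩⟩
  rw [eq_top_iff]
  intro x _
  obtain ⟨k, i, a, hi, hx⟩ := GrSections.exists_frac 𝒜 n hd hf x
  have hi' : (i : ℤ) = ((k * d : ℕ) : ℤ) + n := by rw [hi]; push_cast; ring
  have haG : a.1 ∈ G := ⟨k, i, a.2, hi'⟩
  have hmem : a.1 ∈ Ideal.span (Set.range (fun t : T => t.1)) := by
    rw [Subtype.range_coe_subtype]
    have h0 : a.1 ∈ Submodule.span A G := Submodule.subset_span haG
    rw [hTspan] at h0
    exact h0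
  obtain ⟨c, hc, hsum⟩ := GrGlue.exists_homogeneous_coeff 𝒜 a.2 (fun t : T => t.1)
    (fun t => ι t.1) (fun t => (hκ t.1 (hTsub t.2)).1) hmem
  -- degree bookkeeping
  have hdeg : ∀ t : T, ι t.1 ≤ i → κ t.1 ≤ k ∧ i - ι t.1 = (k - κ t.1) * d := by
    intro t ht
    have h1 := (hκ t.1 (hTsub t.2)).2
    have h2 : (ι t.1 : ℤ) ≤ i := by exact_mod_cast ht
    have h3 : ((κ t.1 * d : ℕ) : ℤ) ≤ ((k * d : ℕ) : ℤ) := by rw [h1, hi'] at h2; linarith
    have h4 : κ t.1 * d ≤ k * d := by exact_mod_cast h3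
    have h5 : κ t.1 ≤ k := Nat.le_of_mul_le_mul_right h4 hd
    refine ⟨h5, ?_⟩
    have h6 : ((i - ι t.1 : ℕ) : ℤ) = (((k - κ t.1) * d : ℕ) : ℤ) := by
      rw [Nat.cast_sub ht, hi', h1]
      push_cast [Nat.cast_sub h5]
      ring
    exact_mod_cast h6
  let r : T → Γ(Proj 𝒜, Proj.basicOpen 𝒜 f) := fun t =>
    if h : ι t.1 ≤ i ∧ c t ∈ 𝒜 (i - ι t.1) then
      fn 𝒜 hf (k - κ t.1) ⟨c t, (hdeg t h.1).2 ▸ h.2⟩ else 0
  have hxs : x = ∑ t : T, r t • s t := by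
    refine tval_ext 𝒜 n fun p => ?_
    rw [tval_sum]
    refine (hx p).trans ?_
    have hterm : ∀ t : T, tval 𝒜 n (r t • s t) p =
        (Localization.mk (c t * t.1) ⟨f ^ k, fun h => (ProjectiveSpectrum.mem_basicOpen 𝒜 f p.1).mp p.2
          (p.1.isPrime.mem_of_pow_mem k h)⟩ : GrTwist.Loc 𝒜 p.1) := by
      intro t
      by_cases h : ι t.1 ≤ i ∧ c t ∈ 𝒜 (i - ι t.1)
      · simp only [r, dif_pos h]
        rw [tval_smul, fval_fn]
        change _ * (Localization.mk t.1 _ : GrTwist.Loc 𝒜 p.1) = _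
        rw [Localization.mk_mul]
        refine (GrSections.mk_eq_mk_iff' 𝒜 (p.1 : ProjectiveSpectrum 𝒜) _ _ _ _).mpr ?_
        refine ⟨1, fun hh => p.1.isPrime.ne_top ((Ideal.eq_top_iff_one _).mpr hh), ?_⟩
        simp only [one_mul, Submonoid.coe_mul]
        have : f ^ (k - κ t.1) * f ^ κ t.1 = f ^ k := by
          rw [← pow_add, Nat.sub_add_cancel (hdeg t h.1).1]
        rw [this]
        ring
      · have hc0 : c t = 0 := by
          rcases hc t with h' | h'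
          · exact absurd h' h
          · exact h'
        simp only [r, dif_neg h]
        rw [zero_smul, hc0, zero_mul, Localization.mk_zero]
        exact tval_zero 𝒜 n p
    rw [Finset.sum_congr rfl (fun t _ => hterm t), ← Localization.mk_sum]
    simp only [hsum]
  rw [hxs]
  refine Submodule.sum_mem _ fun t _ => Submodule.smul_mem _ _ (Submodule.subset_span ?_)
  exact Finset.mem_coe.2 (Finset.mem_image_of_mem s (Finset.mem_univ t))

/-- **`O(n)` is of finite type on `Proj A`, `A` Noetherian** -/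
theorem twist_isFiniteType [IsNoetherianRing A] (n : ℤ) : (GrTwist.twist 𝒜 n).IsFiniteType := by
  have hq := twist_isQuasicoherent 𝒜 n
  refine Groth.Agent.Lib.QCoh.isFiniteType_of_isOpenCover _ _ (isOpenCover_basicOpen 𝒜) ?_
  rintro ⟨f, d, hd, hf⟩
  exact Groth.Agent.Lib.QCoh.exists_generatingSections_restrict_of_finite
    (Proj.isAffineOpen_basicOpen 𝒜 f hf hd) _ (finite_sections 𝒜 n hd hf)

end Groth.Agent.Lib.Proj.GrTwistFinite
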