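import Groth.Prelude.Def_RelProj2
import Groth.Agent.Lib.QCoh.Local
import Groth.Agent.Lib.QCoh.Helper50_BaseChange
import Groth.Agent.Lib.Proj.Helper66_GrQCoh
import Groth.Agent.Lib.Proj.Helper66_GrTwistTriv
import Groth.Agent.Lib.QCoh.Invertible
import Groth.Agent.Lib.QCoh.Helper66_InvLocal

/-!
# Relative twisting sheaves `O_P(n)` on a relative Proj: chartwise identification, quasi-coherence

* `RelTw.restrictEmbIso hL U hU : L.restrict (emb p chart U hU) ≅ GrTwist.twist (𝒮.deg U hU) n`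
* `RelTw.isQuasicoherent_restrict_preimage`, `RelTw.isQuasicoherent`
-/

universe u
open CategoryTheory CategoryTheory.Limits AlgebraicGeometry TopologicalSpace Opposite

namespace Groth.Agent.Lib.Proj.GrTw

section
variable {A σ : Type u} [CommRing A] [SetLike σ A] [AddSubgroupClass σ A] (𝒜 : ℕ → σ) [GradedRing 𝒜]

/-- if `A` is generated as a ring by `A_0` and `A_1`, the `D₊(f)`, `f ∈ A_1`, cover `Proj A` -/
theorem iSup_basicOpen_eq_top_of_closure
    (h : Subring.closure ((𝒜 0 : Set A) ∪ (𝒜 1 : Set A)) = ⊤) :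
    (⨆ f : 𝒜 1, Proj.basicOpen 𝒜 (f : A)) = ⊤ := by
  rw [eq_top_iff]
  intro x _
  by_contra hx
  have h1 : ∀ f ∈ 𝒜 1, f ∈ x.asHomogeneousIdeal := by
    intro f hf
    by_contra hfx
    exact hx (Opens.mem_iSup.2 ⟨⟨f, hf⟩, (Proj.mem_basicOpen 𝒜 f x).2 hfx⟩)
  let I : Ideal A := x.asHomogeneousIdeal.toIdeal
  let T : Subring A :=
    { carrier := {a | ∃ a0 ∈ 𝒜 0, a - a0 ∈ I}
      mul_mem' := by
        rintro a b ⟨a0, ha0, ha⟩ ⟨b0, hb0, hb⟩
        refine ⟨a0 * b0, by simpa using SetLike.GradedMul.mul_mem ha0 hb0, ?_⟩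
        have : a * b - a0 * b0 = (a - a0) * b + a0 * (b - b0) := by ring
        rw [this]
        exact I.add_mem (I.mul_mem_right _ ha) (I.mul_mem_left _ hb)
      one_mem' := ⟨1, SetLike.GradedOne.one_mem, by simp⟩
      add_mem' := by
        rintro a b ⟨a0, ha0, ha⟩ ⟨b0, hb0, hb⟩
        refine ⟨a0 + b0, add_mem ha0 hb0, ?_⟩
        have : a + b - (a0 + b0) = (a - a0) + (b - b0) := by ring
        rw [this]
        exact I.add_mem ha hb
      zero_mem' := ⟨0, zero_mem _, by simp⟩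
      neg_mem' := by
        rintro a ⟨a0, ha0, ha⟩
        refine ⟨-a0, neg_mem ha0, ?_⟩
        have : -a - -a0 = -(a - a0) := by ring
        rw [this]
        exact I.neg_mem ha }
  have hT : T = ⊤ := by
    rw [eq_top_iff, ← h, Subring.closure_le]
    rintro a (ha | ha)
    · exact ⟨a, ha, by simp⟩
    · exact ⟨0, zero_mem _, by rw [sub_zero]; exact h1 a ha⟩
  apply x.not_irrelevant_le
  intro a ha
  rw [HomogeneousIdeal.mem_irrelevant_iff, GradedRing.proj_apply] at ha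
  obtain ⟨a0, ha0, hai⟩ : a ∈ T := hT ▸ Subring.mem_top a
  have h2 : ((DirectSum.decompose 𝒜 (a - a0) 0 : 𝒜 0) : A) ∈ I :=
    x.asHomogeneousIdeal.isHomogeneous 0 hai
  rw [DirectSum.decompose_sub, DirectSum.sub_apply, AddSubgroupClass.coe_sub, ha,
    DirectSum.decompose_of_mem_same 𝒜 ha0, zero_sub] at h2
  have h3 : a0 ∈ I := by simpa using I.neg_mem h2
  have : a = (a - a0) + a0 := by ring
  rw [this]
  exact I.add_mem hai h3

end

end Groth.Agent.Lib.Proj.GrTw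

namespace Groth.Agent.Lib.Proj.RelTw

open RelProj

variable {Y P : Scheme.{u}} {𝒮 : RelProj.QCGrAlg Y} {p : P ⟶ Y}
  {chart : ∀ (U : Y.Opens) (hU : IsAffineOpen U),
    (((p ⁻¹ᵁ U : P.Opens) : Scheme.{u}) ≅ Proj (𝒮.deg U hU))}
  {n : ℤ} {L : P.Modules}
  {lam : ∀ (U : Y.Opens) (hU : IsAffineOpen U),
      L ⟶ (Scheme.Modules.pushforward (RelProj.emb p chart U hU)).obj (GrTwist.twist (𝒮.deg U hU) n)}

lemma emb_image_le (U : Y.Opens) (hU : IsAffineOpen U) (V : (Proj (𝒮.deg U hU)).Opens) :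
    (RelProj.emb p chart U hU) ''ᵁ V ≤ p ⁻¹ᵁ U := by
  rintro _ ⟨y, -, rfl⟩
  have h : (RelProj.emb p chart U hU) y = (p ⁻¹ᵁ U).ι ((chart U hU).inv y) := by
    unfold RelProj.emb
    exact Scheme.Hom.comp_apply _ _ _
  change (RelProj.emb p chart U hU) y ∈ p ⁻¹ᵁ U
  rw [h]
  exact ((chart U hU).inv y).2

theorem isIso_restrict_lam (hL : RelProj.IsRelTwist 𝒮 p chart n L lam) (U : Y.Opens)
    (hU : IsAffineOpen U) :
    IsIso ((Scheme.Modules.restrictFunctor (RelProj.emb p chart U hU)).map (lam U hU)) := by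
  refine QCoh.isIso_of_bijective_app_of_isBasis _
    (fun V : (Proj (𝒮.deg U hU)).Opens => V) ?_ ?_
  · rw [Opens.isBasis_iff_nbhd]
    intro V x hx
    exact ⟨V, ⟨V, rfl⟩, hx, le_rfl⟩
  · intro V
    exact hL.bijective U hU ((RelProj.emb p chart U hU) ''ᵁ V) (emb_image_le U hU V)

/-- the restriction of `O_P(n)` along the chart immersion over `U` is `O(n)` of the graded ring `𝒮(U)` -/
noncomputable def restrictEmbIso (hL : RelProj.IsRelTwist 𝒮 p chart n L lam) (U : Y.Opens)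
    (hU : IsAffineOpen U) :
    L.restrict (RelProj.emb p chart U hU) ≅ GrTwist.twist (𝒮.deg U hU) n :=
  have := isIso_restrict_lam hL U hU
  asIso ((Scheme.Modules.restrictFunctor (RelProj.emb p chart U hU)).map (lam U hU)) ≪≫
    (Scheme.Modules.restrictFunctorAdjCounitIso (RelProj.emb p chart U hU)).app _

theorem isQuasicoherent_restrict_emb (hL : RelProj.IsRelTwist 𝒮 p chart n L lam) (U : Y.Opens)
    (hU : IsAffineOpen U) : (L.restrict (RelProj.emb p chart U hU)).IsQuasicoherent :=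
  QCoh.isQuasicoherent_of_iso (restrictEmbIso hL U hU).symm
    (GrQCohTwist.twist_isQuasicoherent (𝒮.deg U hU) n)

theorem isQuasicoherent_restrict_preimage (hL : RelProj.IsRelTwist 𝒮 p chart n L lam) (U : Y.Opens)
    (hU : IsAffineOpen U) : (L.restrict (p ⁻¹ᵁ U).ι).IsQuasicoherent := by
  have h0 : (L.restrict ((chart U hU).inv ≫ (p ⁻¹ᵁ U).ι)).IsQuasicoherent :=
    isQuasicoherent_restrict_emb hL U hU
  have h1 : ((L.restrict (p ⁻¹ᵁ U).ι).restrict (chart U hU).inv).IsQuasicoherent :=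
    QCoh.isQuasicoherent_of_iso
      ((Scheme.Modules.restrictFunctorComp (chart U hU).inv (p ⁻¹ᵁ U).ι).app L) h0
  exact QCoh.isQuasicoherent_of_restrict_iso (chart U hU).inv _

/-- **`O_P(n)` is quasi-coherent** -/
theorem isQuasicoherent (hL : RelProj.IsRelTwist 𝒮 p chart n L lam) : L.IsQuasicoherent := by
  refine QCoh.isQuasicoherent_of_isOpenCover L (fun U : Y.affineOpens => p ⁻¹ᵁ (U : Y.Opens)) ?_
    (fun U => isQuasicoherent_restrict_preimage hL U.1 U.2)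
  rw [IsOpenCover, ← top_le_iff]
  intro x _
  have h := QCoh.isOpenCover_affineOpens Y
  rw [IsOpenCover, ← top_le_iff] at h
  obtain ⟨U, hxU⟩ := Opens.mem_iSup.1 (h (show p x ∈ (⊤ : Y.Opens) from trivial))
  exact Opens.mem_iSup.2 ⟨U, hxU⟩

lemma emb_chart_hom (U : Y.Opens) (hU : IsAffineOpen U) (y : ((p ⁻¹ᵁ U : P.Opens) : Scheme.{u})) :
    (RelProj.emb p chart U hU) ((chart U hU).hom y) = (p ⁻¹ᵁ U).ι y := by
  have h : (chart U hU).hom ≫ RelProj.emb p chart U hU = (p ⁻¹ᵁ U).ι := by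
    unfold RelProj.emb
    simp
  rw [← h]
  exact (Scheme.Hom.comp_apply _ _ _).symm

/-- **`O_P(n)` is invertible when `𝒮` is generated in degree one** -/
theorem isInvertible (hgen : 𝒮.IsGenDegOne) (hL : RelProj.IsRelTwist 𝒮 p chart n L lam) :
    PicF.IsInvertible L := by
  refine QCoh.isInvertible_of_openImmersion_cover L fun x => ?_
  obtain ⟨U, hU0, hxU, -⟩ := Opens.isBasis_iff_nbhd.1 (Y.isBasis_affineOpens)
    (show p x ∈ (⊤ : Y.Opens) from trivial)
  have hU : IsAffineOpen U := hU0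
  refine ⟨Proj (𝒮.deg U hU), RelProj.emb p chart U hU, inferInstance, ?_, ?_⟩
  · exact ⟨(chart U hU).hom ⟨x, hxU⟩, emb_chart_hom U hU ⟨x, hxU⟩⟩
  · exact QCoh.isInvertible_of_iso (restrictEmbIso hL U hU).symm
      (GrTw.isInvertible_twist
        (GrTw.iSup_basicOpen_eq_top_of_closure (𝒮.deg U hU) (hgen U hU)) n)

/-- `O_P(m d)` is trivial on the image of `D₊(f)`, `f ∈ 𝒮(U)_d` -/
theorem nonempty_restrict_image_basicOpen_iso_unit {n : ℤ} {L : P.Modules}
    {lam : ∀ (U : Y.Opens) (hU : IsAffineOpen U),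
      L ⟶ (Scheme.Modules.pushforward (RelProj.emb p chart U hU)).obj (GrTwist.twist (𝒮.deg U hU) n)}
    (hL : RelProj.IsRelTwist 𝒮 p chart n L lam) (U : Y.Opens) (hU : IsAffineOpen U) {d : ℕ}
    (f : 𝒮.deg U hU d) (m : ℤ) (hn : n = m * d) :
    Nonempty (L.restrict ((RelProj.emb p chart U hU) ''ᵁ (Proj.basicOpen (𝒮.deg U hU) f.1)).ι ≅
      Coh.structureModule
        (((RelProj.emb p chart U hU) ''ᵁ (Proj.basicOpen (𝒮.deg U hU) f.1) : P.Opens) : Scheme.{u})) := by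
  subst hn
  obtain ⟨e⟩ := GrTw.nonempty_twist_mul_restrict_iso_unit' f m _ (le_refl (Proj.basicOpen (𝒮.deg U hU) f.1))
  exact QCoh.nonempty_restrict_image_iso_unit L (RelProj.emb p chart U hU) _
    ⟨(Scheme.Modules.restrictFunctor _).mapIso (restrictEmbIso hL U hU) ≪≫ e⟩

/-- every point of `P` has a neighbourhood of the form `emb(D₊(f))`, `f` homogeneous of positive degree -/
theorem exists_image_basicOpen_mem (x : P) :
    ∃ (U : Y.Opens) (hU : IsAffineOpen U) (d : ℕ) (_ : 0 < d) (f : 𝒮.deg U hU d),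
      x ∈ (RelProj.emb p chart U hU) ''ᵁ (Proj.basicOpen (𝒮.deg U hU) f.1) := by
  obtain ⟨U, hU0, hxU, -⟩ := Opens.isBasis_iff_nbhd.1 (Y.isBasis_affineOpens)
    (show p x ∈ (⊤ : Y.Opens) from trivial)
  have hU : IsAffineOpen U := hU0
  obtain ⟨d, hd, f, hf, hy⟩ :=
    GrGlue.exists_pos_homogeneous_mem_basicOpen (𝒮.deg U hU) ((chart U hU).hom ⟨x, hxU⟩)
  exact ⟨U, hU, d, hd, ⟨f, hf⟩, ⟨_, hy, emb_chart_hom U hU ⟨x, hxU⟩⟩⟩

/-- **on a quasi-compact open, `O_P(n)` is invertible for `n` sufficiently divisible** -/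
theorem exists_isInvertible_restrict (W : P.Opens) (hW : IsCompact (W : Set P)) :
    ∃ d : ℕ, 0 < d ∧ ∀ (n : ℤ), (d : ℤ) ∣ n → ∀ (L : P.Modules)
      (lam : ∀ (U : Y.Opens) (hU : IsAffineOpen U),
        L ⟶ (Scheme.Modules.pushforward (RelProj.emb p chart U hU)).obj (GrTwist.twist (𝒮.deg U hU) n)),
      RelProj.IsRelTwist 𝒮 p chart n L lam → PicF.IsInvertible (L.restrict W.ι) := by
  choose U hU d hd f hf using exists_image_basicOpen_mem (𝒮 := 𝒮) (p := p) (chart := chart)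
  obtain ⟨t, ht⟩ := hW.elim_finite_subcover
    (fun x : P => (((RelProj.emb p chart (U x) (hU x)) ''ᵁ
      (Proj.basicOpen (𝒮.deg (U x) (hU x)) (f x).1) : P.Opens) : Set P))
    (fun x => Opens.isOpen _) (fun x _ => Set.mem_iUnion.2 ⟨x, hf x⟩)
  refine ⟨∏ x ∈ t, d x, Finset.prod_pos fun x _ => hd x, ?_⟩
  intro n hn L lam hL
  refine isInvertible_restrict_of_forall L W fun y hy => ?_
  obtain ⟨x, hx⟩ := Set.mem_iUnion.1 (ht hy)
  obtain ⟨hxt, hyx⟩ := Set.mem_iUnion.1 hx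
  have hdx : ((d x : ℕ) : ℤ) ∣ n :=
    (Int.natCast_dvd_natCast.2 (Finset.dvd_prod_of_mem d hxt)).trans hn
  obtain ⟨m, hm⟩ := hdx
  exact ⟨_, hyx, nonempty_restrict_image_basicOpen_iso_unit hL (U x) (hU x) (f x) m
    (by rw [hm, mul_comm])⟩

end Groth.Agent.Lib.Proj.RelTw
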