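import Mathlib
import Groth.Prelude.Def_GrMod3
import Groth.Agent.Lib.Proj.Helper66_GrModExact
import Groth.Agent.Lib.Proj.Helper66_GrTwistFinite
import Groth.Agent.Lib.Proj.Helper66_RelTwist

/-!
# Finite type of `M~` on `Proj A` under (TF), `A` generated in degrees 0 and 1 (helper66)

ns `Groth.Agent.Lib.Proj.GrModFinite`.
-/

set_option autoImplicit false
set_option linter.unusedSectionVars false
universe u
open CategoryTheory AlgebraicGeometry Opposite TopologicalSpace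

namespace Groth.Agent.Lib.Proj.GrModFinite

open Groth.Agent.Lib.Proj.GrModQCoh Groth.Agent.Lib.Proj.GrQCohTwist

variable {A σ : Type u} [CommRing A] [SetLike σ A] [AddSubgroupClass σ A] (𝒜 : ℕ → σ) [GradedRing 𝒜]
variable {M τ : Type u} [AddCommGroup M] [Module A M] [SetLike τ M] [AddSubgroupClass τ M]
  (ℳ : ℕ → τ) [DirectSum.Decomposition ℳ] [SetLike.GradedSMul 𝒜 ℳ]

/-- the degree `D` component of `a • z`, `z` homogeneous of degree `e ≤ D` -/
theorem decompose_smul_of_mem {z : M} {e : ℕ} (hz : z ∈ ℳ e) (a : A) (D : ℕ) (he : e ≤ D) :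
    (DirectSum.decompose ℳ (a • z) D : M) = (DirectSum.decompose 𝒜 a (D - e) : A) • z := by
  classical
  conv_lhs => rw [← DirectSum.sum_support_decompose 𝒜 a, Finset.sum_smul, DirectSum.decompose_sum]
  rw [DFinsupp.finsetSum_apply, AddSubmonoidClass.coe_finsetSum]
  have h1 : ∀ i, (DirectSum.decompose 𝒜 a i : A) • z ∈ ℳ (i + e) := fun i => by
    have := SetLike.GradedSMul.smul_mem (A := 𝒜) (B := ℳ) (i := i) (j := e)
      (Subtype.prop (DirectSum.decompose 𝒜 a i)) hz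
    rwa [vadd_eq_add] at this
  have h4 : ∀ i ∈ (DirectSum.decompose 𝒜 a).support,
      ((DirectSum.decompose ℳ ((DirectSum.decompose 𝒜 a i : A) • z)) D : M) =
        if i = D - e then (DirectSum.decompose 𝒜 a (D - e) : A) • z else 0 := by
    intro i _
    split_ifs with hi
    · subst hi
      have : D - e + e = D := by omega
      have h2 := h1 (D - e)
      rw [this] at h2
      exact DirectSum.decompose_of_mem_same ℳ h2
    · exact DirectSum.decompose_of_mem_ne ℳ (h1 i) (by omega)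
  rw [Finset.sum_congr rfl h4, Finset.sum_ite_eq']
  by_cases hj : D - e ∈ (DirectSum.decompose 𝒜 a).support
  · rw [if_pos hj]
  · rw [if_neg hj]
    rw [DFinsupp.notMem_support_iff] at hj
    rw [hj]
    simp

lemma mk_add_same {S : Submonoid A} (m m' : M) (s : S) :
    LocalizedModule.mk (m + m') s = LocalizedModule.mk m s + LocalizedModule.mk m' s := by
  rw [LocalizedModule.mk_add_mk, LocalizedModule.mk_eq]
  refine ⟨1, ?_⟩
  simp only [one_smul, smul_add, mul_smul]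

lemma mk_sum {S : Submonoid A} {ι : Type*} (s : Finset ι) (f : ι → M) (b : S) :
    LocalizedModule.mk (∑ x ∈ s, f x) b = ∑ x ∈ s, LocalizedModule.mk (f x) b := by
  classical
  induction s using Finset.induction_on with
  | empty => simp
  | insert a s ha ih => rw [Finset.sum_insert ha, Finset.sum_insert ha, mk_add_same, ih]

/-- evaluation of sections of `M(n)~` at a point, as an additive map -/
noncomputable def mvalHom (n : ℤ) {U : (Proj 𝒜).Opens} (p : U) :
    Γ(GrMod.tilde 𝒜 ℳ n, U) →+ GrMod.LocMod 𝒜 (M := M) p.1 where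
  toFun x := mval 𝒜 ℳ n x p
  map_zero' := rfl
  map_add' _ _ := rfl

lemma mval_sum (n : ℤ) {U : (Proj 𝒜).Opens} {ι : Type*} (s : Finset ι)
    (x : ι → Γ(GrMod.tilde 𝒜 ℳ n, U)) (p : U) :
    mval 𝒜 ℳ n (∑ t ∈ s, x t) p = ∑ t ∈ s, mval 𝒜 ℳ n (x t) p :=
  map_sum (mvalHom 𝒜 ℳ n p) x s

/-- **(TF) ⇒ sections of `M~` over `D₊(t)`, `t ∈ A_1`, form a finite module** -/
theorem finite_sections_deg_one {t : A} (ht : t ∈ 𝒜 1)
    (hTF : ∃ n : ℕ, (Submodule.span A (⋃ k ∈ Set.Ici n, (ℳ k : Set M))).FG) :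
    Module.Finite Γ(Proj 𝒜, Proj.basicOpen 𝒜 t) Γ(GrMod.tilde 𝒜 ℳ 0, Proj.basicOpen 𝒜 t) := by
  classical
  obtain ⟨n₀, hn₀⟩ := hTF
  obtain ⟨G₀, hG₀sub, hG₀span⟩ := (Submodule.fg_span_iff_fg_span_finset_subset _).mp hn₀
  have hdeg : ∀ z ∈ G₀, ∃ e : ℕ, n₀ ≤ e ∧ z ∈ ℳ e := by
    intro z hz
    have := hG₀sub hz
    simp only [Set.mem_iUnion, Set.mem_Ici, SetLike.mem_coe, exists_prop] at this
    exact this
  choose! ε hε using hdeg
  let s : G₀ → Γ(GrMod.tilde 𝒜 ℳ 0, Proj.basicOpen 𝒜 t) := fun z =>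
    GrModExact.sec 𝒜 ℳ ht 0 (ε z.1) ⟨z.1, (hε z.1 z.2).2⟩ (by simp)
  refine ⟨⟨Finset.univ.image s, ?_⟩⟩
  rw [eq_top_iff]
  intro x _
  obtain ⟨k, i, m, hi, hx⟩ := GrModSections.exists_frac 𝒜 ℳ 0 Nat.one_pos ht x
  have hik : i = k := by
    have : (i : ℤ) = (k : ℤ) := by rw [hi]; ring
    exact_mod_cast this
  subst hik
  -- `m' = t^n₀ m` lies in the span of `G₀`
  have htn : t ^ n₀ ∈ 𝒜 n₀ := by
    have := GrModExact.pow_mem 𝒜 ht n₀
    simpa using this
  have hm' : t ^ n₀ • (m : M) ∈ ℳ (n₀ + i) := SetLike.GradedSMul.smul_mem htn m.2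
  have hspan : t ^ n₀ • (m : M) ∈ Submodule.span A (G₀ : Set M) := by
    rw [← hG₀span]
    exact Submodule.subset_span (Set.mem_iUnion₂.mpr ⟨n₀ + i, Nat.le_add_right _ _, hm'⟩)
  obtain ⟨a, -, ha⟩ := Submodule.mem_span_finset.mp hspan
  set D := n₀ + i with hD
  -- homogeneous coefficients
  have hsum : t ^ n₀ • (m : M) =
      ∑ z ∈ G₀.attach, if ε z.1 ≤ D then (DirectSum.decompose 𝒜 (a z.1) (D - ε z.1) : A) • z.1 else 0 := by
    have h1 : (DirectSum.decompose ℳ (t ^ n₀ • (m : M)) D : M) = t ^ n₀ • (m : M) :=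
      DirectSum.decompose_of_mem_same ℳ hm'
    rw [← h1, ← ha, DirectSum.decompose_sum, DFinsupp.finsetSum_apply, AddSubmonoidClass.coe_finsetSum,
      ← Finset.sum_attach]
    refine Finset.sum_congr rfl fun z _ => ?_
    split_ifs with hz
    · exact decompose_smul_of_mem 𝒜 ℳ (hε z.1 z.2).2 (a z.1) D hz
    · have h2 : a z.1 • z.1 = ∑ j ∈ (DirectSum.decompose 𝒜 (a z.1)).support,
          (DirectSum.decompose 𝒜 (a z.1) j : A) • z.1 := by
        rw [← Finset.sum_smul, DirectSum.sum_support_decompose]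
      rw [h2, DirectSum.decompose_sum, DFinsupp.finsetSum_apply, AddSubmonoidClass.coe_finsetSum]
      refine Finset.sum_eq_zero fun j _ => ?_
      have h3 : (DirectSum.decompose 𝒜 (a z.1) j : A) • z.1 ∈ ℳ (j + ε z.1) := by
        have := SetLike.GradedSMul.smul_mem (A := 𝒜) (B := ℳ) (i := j) (j := ε z.1)
          (Subtype.prop (DirectSum.decompose 𝒜 (a z.1) j)) (hε z.1 z.2).2
        rwa [vadd_eq_add] at this
      exact DirectSum.decompose_of_mem_ne ℳ h3 (by omega)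
  let r : G₀ → Γ(Proj 𝒜, Proj.basicOpen 𝒜 t) := fun z =>
    if h : ε z.1 ≤ D then
      GrTwistFinite.fn 𝒜 ht (D - ε z.1) ⟨(DirectSum.decompose 𝒜 (a z.1) (D - ε z.1) : A), by
        simp⟩
    else 0
  have hxs : x = ∑ z ∈ G₀.attach, r z • s z := by
    refine mval_ext 𝒜 ℳ 0 fun p => ?_
    rw [mval_sum]
    refine (hx p).trans ?_
    have hterm : ∀ z : G₀, mval 𝒜 ℳ 0 (r z • s z) p =
        (LocalizedModule.mk
          (if ε z.1 ≤ D then (DirectSum.decompose 𝒜 (a z.1) (D - ε z.1) : A) • z.1 else 0)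
          ⟨t ^ D, fun h => (ProjectiveSpectrum.mem_basicOpen 𝒜 t p.1).mp p.2
            (p.1.isPrime.mem_of_pow_mem D h)⟩ : GrMod.LocMod 𝒜 (M := M) p.1) := by
      intro z
      by_cases h : ε z.1 ≤ D
      · simp only [r, dif_pos h, if_pos h]
        rw [mval_smul, GrTwistFinite.fval_fn]
        change _ • (LocalizedModule.mk z.1 _ : GrMod.LocMod 𝒜 (M := M) p.1) = _
        rw [LocalizedModule.mk_smul_mk, LocalizedModule.mk_eq]
        refine ⟨1, ?_⟩
        simp only [one_smul, Submonoid.smul_def, Submonoid.coe_mul]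
        have : t ^ (D - ε z.1) * t ^ ε z.1 = t ^ D := by
          rw [← pow_add, Nat.sub_add_cancel h]
        rw [this]
      · simp only [r, dif_neg h, if_neg h]
        rw [zero_smul, LocalizedModule.zero_mk]
        exact mval_zero 𝒜 ℳ 0 p
    rw [Finset.sum_congr rfl (fun z _ => hterm z)]
    have hsum' : (LocalizedModule.mk (m : M) ⟨t ^ i, fun h => (ProjectiveSpectrum.mem_basicOpen 𝒜 t p.1).mp p.2
          (p.1.isPrime.mem_of_pow_mem i h)⟩ : GrMod.LocMod 𝒜 (M := M) p.1) =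
        (LocalizedModule.mk (t ^ n₀ • (m : M)) ⟨t ^ D, fun h => (ProjectiveSpectrum.mem_basicOpen 𝒜 t p.1).mp p.2
          (p.1.isPrime.mem_of_pow_mem D h)⟩ : GrMod.LocMod 𝒜 (M := M) p.1) := by
      rw [LocalizedModule.mk_eq]
      refine ⟨1, ?_⟩
      simp only [one_smul, Submonoid.smul_def, hD, pow_add, mul_smul]
      rw [smul_comm]
    rw [hsum', hsum]
    exact mk_sum _ _ _
  rw [hxs]
  refine Submodule.sum_mem _ fun z _ => Submodule.smul_mem _ _ (Submodule.subset_span ?_)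
  exact Finset.mem_coe.2 (Finset.mem_image_of_mem s (Finset.mem_univ z))

/-- **(TF) ⇒ `M~` is of finite type**, for `A` generated by `A_0` and `A_1` -/
theorem tilde_isFiniteType
    (hgen : Subring.closure ((𝒜 0 : Set A) ∪ (𝒜 1 : Set A)) = ⊤)
    (hTF : ∃ n : ℕ, (Submodule.span A (⋃ k ∈ Set.Ici n, (ℳ k : Set M))).FG) :
    (GrMod.tilde 𝒜 ℳ 0).IsFiniteType := by
  have hq := tilde_isQuasicoherent 𝒜 ℳ 0
  refine Groth.Agent.Lib.QCoh.isFiniteType_of_isOpenCover _
    (fun t : 𝒜 1 => Proj.basicOpen 𝒜 (t : A)) (GrTw.iSup_basicOpen_eq_top_of_closure 𝒜 hgen) ?_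
  rintro ⟨t, ht⟩
  exact Groth.Agent.Lib.QCoh.exists_generatingSections_restrict_of_finite
    (Proj.isAffineOpen_basicOpen 𝒜 t ht Nat.one_pos) _ (finite_sections_deg_one 𝒜 ℳ ht hTF)

end Groth.Agent.Lib.Proj.GrModFinite
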