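import Mathlib
import Groth.Prelude.Def_GrMod3
import Groth.Agent.Lib.Proj.Helper66_GrModQCoh
import Groth.Agent.Lib.Proj.Helper66_GrTwistCore

/-!
# The pairing `O(n) × M(m)~ → M(m+n)~` on `Proj`, gradings by additive subgroups (helper66)

Port of `Helper66_TildeMul` to `GrMod` / `GrTwist`.  ns `Groth.Agent.Lib.Proj.GrModMul`.
-/

set_option autoImplicit false
set_option linter.unusedSectionVars false
universe u
open CategoryTheory AlgebraicGeometry Opposite TopologicalSpace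

namespace Groth.Agent.Lib.Proj.GrModMul

open GrTwist

variable {A σ : Type u} [CommRing A] [SetLike σ A] [AddSubgroupClass σ A] (𝒜 : ℕ → σ) [GradedRing 𝒜]
variable {M τ : Type u} [AddCommGroup M] [Module A M] [SetLike τ M] [AddSubgroupClass τ M]
  (ℳ : ℕ → τ) [DirectSum.Decomposition ℳ] [SetLike.GradedSMul 𝒜 ℳ]

/-- a fraction of degree `n` times a fraction of `M` of degree `m` is a fraction of degree `m + n` -/
lemma smul_mem_tildeAt (x : ProjectiveSpectrum 𝒜) {m n k : ℤ} (h : k = m + n) {q : Loc 𝒜 x}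
    (hq : q ∈ twistAt 𝒜 n x) {p : GrMod.LocMod 𝒜 (M := M) x} (hp : p ∈ GrMod.tildeAt 𝒜 ℳ m x) :
    q • p ∈ GrMod.tildeAt 𝒜 ℳ k x := by
  have gen : ∀ (i j : ℕ) (a : 𝒜 i) (s : 𝒜 j) (hs : (s : A) ∉ x.asHomogeneousIdeal), (i : ℤ) = j + n →
      ∀ p ∈ GrMod.tildeAt 𝒜 ℳ m x,
        (Localization.mk (a : A) ⟨(s : A), hs⟩ : Loc 𝒜 x) • p ∈ GrMod.tildeAt 𝒜 ℳ k x := by
    intro i j a s hs hdeg p hp
    let L : GrMod.LocMod 𝒜 (M := M) x →ₗ[A0 𝒜 x] GrMod.LocMod 𝒜 (M := M) x :=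
      { toFun := fun p => (Localization.mk (a : A) ⟨(s : A), hs⟩ : Loc 𝒜 x) • p
        map_add' := fun p p' => smul_add _ _ _
        map_smul' := fun c p => by
          simp only [RingHom.id_apply, GrMod.a0_smul_def]
          exact smul_comm _ _ _ }
    have key : GrMod.tildeAt 𝒜 ℳ m x ≤ (GrMod.tildeAt 𝒜 ℳ k x).comap L := by
      refine Submodule.span_le.mpr ?_
      rintro _ ⟨i', j', m', t, ht, hdeg', rfl⟩
      simp only [Submodule.comap_coe, Set.mem_preimage, SetLike.mem_coe]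
      refine Submodule.subset_span ⟨i + i', j + j',
        ⟨(a : A) • (m' : M), SetLike.GradedSMul.smul_mem a.2 m'.2⟩,
        ⟨(s : A) * (t : A), SetLike.mul_mem_graded s.2 t.2⟩,
        fun hh => (x.isPrime.mem_or_mem hh).elim hs ht, by push_cast; omega, ?_⟩
      exact LocalizedModule.mk_smul_mk _ _ _ _
    exact key hp
  let L' : Loc 𝒜 x →ₗ[A0 𝒜 x] GrMod.LocMod 𝒜 (M := M) x :=
    { toFun := fun q => q • p
      map_add' := fun q q' => add_smul _ _ _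
      map_smul' := fun c q => by
        simp only [RingHom.id_apply, GrMod.a0_smul_def, Algebra.smul_def,
          HomogeneousLocalization.algebraMap_apply]
        exact mul_smul _ _ _ }
  have key' : twistAt 𝒜 n x ≤ (GrMod.tildeAt 𝒜 ℳ k x).comap L' := by
    refine Submodule.span_le.mpr ?_
    rintro _ ⟨i, j, a, s, hs, hdeg, rfl⟩
    exact gen i j a s hs hdeg p hp
  exact key' hq

/-- value of a section of `M(m)~` (as a dependent function) in the localized module -/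
abbrev mv {m : ℤ} {V : (Opens (ProjectiveSpectrum.top 𝒜))ᵒᵖ} (s : GrMod.sect 𝒜 ℳ m V) (x : V.unop) :
    GrMod.LocMod 𝒜 (M := M) x.1 :=
  ((s.1 x : GrMod.tildeAt 𝒜 ℳ m x.1) : GrMod.LocMod 𝒜 (M := M) x.1)

/-- pointwise action of a section of `O(n)` on a section of `M(m)~` -/
noncomputable def mulFun (V : (Opens (ProjectiveSpectrum.top 𝒜))ᵒᵖ) {m n k : ℤ} (h : k = m + n)
    (t : GrTw.Sec 𝒜 n V) (s : GrMod.sect 𝒜 ℳ m V) : ∀ x : V.unop, GrMod.tildeAt 𝒜 ℳ k x.1 :=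
  fun x => ⟨GrTw.val t x • mv 𝒜 ℳ s x, smul_mem_tildeAt 𝒜 ℳ x.1 h (t.1 x).2 (s.1 x).2⟩

lemma mulFun_pred (V : (Opens (ProjectiveSpectrum.top 𝒜))ᵒᵖ) {m n k : ℤ} (h : k = m + n)
    (t : GrTw.Sec 𝒜 n V) (s : GrMod.sect 𝒜 ℳ m V) :
    (GrMod.isLocFrac 𝒜 ℳ k).pred (mulFun 𝒜 ℳ V h t s) := by
  intro x
  obtain ⟨W, hxW, iW, i, j, a, b, hb, hdeg, hw⟩ := s.2 x
  obtain ⟨W', hxW', iW', i', j', a', b', hb', hdeg', hw'⟩ := t.2 x
  refine ⟨W ⊓ W', ⟨hxW, hxW'⟩, Opens.infLELeft _ _ ≫ iW, i' + i, j' + j,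
    ⟨(a' : A) • (a : M), SetLike.GradedSMul.smul_mem a'.2 a.2⟩,
    ⟨(b' : A) * (b : A), SetLike.mul_mem_graded b'.2 b.2⟩,
    fun y hh => (y.1.isPrime.mem_or_mem hh).elim (hb' ⟨y.1, y.2.2⟩) (hb ⟨y.1, y.2.1⟩), ?_, fun y => ?_⟩
  · rcases hdeg with hdeg | hdeg
    · rcases hdeg' with hdeg' | hdeg'
      · exact Or.inl (by push_cast; omega)
      · exact Or.inr (by simp [hdeg'])
    · exact Or.inr (by simp [hdeg])
  · have e1 := hw ⟨y.1, y.2.1⟩
    have e2 := hw' ⟨y.1, y.2.2⟩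
    exact (congrArg₂ (· • ·) e2 e1).trans (LocalizedModule.mk_smul_mk _ _ _ _)

/-- the product of a section of `O(n)` and a section of `M(m)~` -/
noncomputable def mulSect (V : (Opens (ProjectiveSpectrum.top 𝒜))ᵒᵖ) {m n k : ℤ} (h : k = m + n)
    (t : GrTw.Sec 𝒜 n V) (s : GrMod.sect 𝒜 ℳ m V) : GrMod.sect 𝒜 ℳ k V :=
  ⟨mulFun 𝒜 ℳ V h t s, mulFun_pred 𝒜 ℳ V h t s⟩

lemma mv_mulSect (V : (Opens (ProjectiveSpectrum.top 𝒜))ᵒᵖ) {m n k : ℤ} (h : k = m + n)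
    (t : GrTw.Sec 𝒜 n V) (s : GrMod.sect 𝒜 ℳ m V) (x : V.unop) :
    mv 𝒜 ℳ (mulSect 𝒜 ℳ V h t s) x = GrTw.val t x • mv 𝒜 ℳ s x := rfl

lemma sect_ext {m : ℤ} {V : (Opens (ProjectiveSpectrum.top 𝒜))ᵒᵖ} {s t : GrMod.sect 𝒜 ℳ m V}
    (h : ∀ x, mv 𝒜 ℳ s x = mv 𝒜 ℳ t x) : s = t := by
  apply Subtype.ext
  funext x
  exact Subtype.ext (h x)

/-- multiplication by a section of `O(n)` with a pointwise inverse among the sections of `O(n')` is bijective -/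
lemma mulSect_bijective (V : (Opens (ProjectiveSpectrum.top 𝒜))ᵒᵖ) {m n n' k : ℤ} (h : k = m + n)
    (h' : m = k + n') (t : GrTw.Sec 𝒜 n V) (t' : GrTw.Sec 𝒜 n' V)
    (hinv : ∀ x : V.unop, GrTw.val t' x * GrTw.val t x = 1) :
    Function.Bijective (mulSect 𝒜 ℳ V h t) := by
  constructor
  · intro s₁ s₂ h12
    apply sect_ext
    intro x
    have e := congrArg (fun r : GrMod.sect 𝒜 ℳ k V => GrTw.val t' x • mv 𝒜 ℳ r x) h12
    simp only [mv_mulSect, ← mul_smul, hinv x, one_smul] at e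
    exact e
  · intro r
    refine ⟨mulSect 𝒜 ℳ V h' t' r, ?_⟩
    apply sect_ext
    intro x
    rw [mv_mulSect, mv_mulSect, ← mul_smul, mul_comm, hinv x, one_smul]

end Groth.Agent.Lib.Proj.GrModMul
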