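import Mathlib
import Groth.Prelude.Def_GrMod3
import Groth.Agent.Lib.Proj.Helper66_GrModFinite

/-!
# `M~ = 0` and (TF) ⇒ (TN), ring level (helper66)

`A` graded ring generated by `A_0 ∪ A_1` with `A_1 · A` a finitely generated ideal; `M` graded module whose
part of degrees `≥ n₀` spans a finitely generated submodule; `M~ = 0` on `Proj A`.  Then `M_k = 0` for `k ≫ 0`.

ns `Groth.Agent.Lib.Proj.GrModTN`.
-/

set_option autoImplicit false
set_option linter.unusedSectionVars false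
universe u
open CategoryTheory AlgebraicGeometry Opposite TopologicalSpace

namespace Groth.Agent.Lib.Proj.GrModTN

variable {A σ : Type u} [CommRing A] [SetLike σ A] [AddSubgroupClass σ A] (𝒜 : ℕ → σ) [GradedRing 𝒜]
variable {M τ : Type u} [AddCommGroup M] [Module A M] [SetLike τ M] [AddSubgroupClass τ M]
  (ℳ : ℕ → τ) [DirectSum.Decomposition ℳ] [SetLike.GradedSMul 𝒜 ℳ]

/-- for `A` generated by `A_0 ∪ A_1`, the degree `j` component of any element lies in `(A_1 A)^j` -/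
theorem decompose_mem_span_pow (hgen : Subring.closure ((𝒜 0 : Set A) ∪ (𝒜 1 : Set A)) = ⊤) (a : A) :
    ∀ j : ℕ, (DirectSum.decompose 𝒜 a j : A) ∈ (Ideal.span (𝒜 1 : Set A)) ^ j := by
  classical
  have ha : a ∈ Subring.closure ((𝒜 0 : Set A) ∪ (𝒜 1 : Set A)) := hgen ▸ Subring.mem_top a
  have h0 : ∀ x : A, x ∈ 𝒜 0 → ∀ j : ℕ,
      (DirectSum.decompose 𝒜 x j : A) ∈ (Ideal.span (𝒜 1 : Set A)) ^ j := by
    intro x hx j
    by_cases hj : j = 0
    · subst hj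
      rw [pow_zero, Ideal.one_eq_top]
      trivial
    · rw [DirectSum.decompose_of_mem_ne 𝒜 hx (Ne.symm hj)]
      exact zero_mem _
  induction ha using Subring.closure_induction with
  | mem x hx =>
    intro j
    rcases hx with hx | hx
    · exact h0 x hx j
    · by_cases hj : j = 1
      · subst hj
        rw [DirectSum.decompose_of_mem_same 𝒜 hx, pow_one]
        exact Ideal.subset_span hx
      · rw [DirectSum.decompose_of_mem_ne 𝒜 hx (Ne.symm hj)]
        exact zero_mem _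
  | zero =>
    intro j
    rw [DirectSum.decompose_zero]
    exact zero_mem _
  | one => exact h0 1 (SetLike.GradedOne.one_mem)
  | add x y _ _ hx hy =>
    intro j
    rw [DirectSum.decompose_add, DirectSum.add_apply, AddMemClass.coe_add]
    exact add_mem (hx j) (hy j)
  | neg x _ hx =>
    intro j
    rw [DirectSum.decompose_neg]
    have : (((-DirectSum.decompose 𝒜 x) j : 𝒜 j) : A) = -(DirectSum.decompose 𝒜 x j : A) := rfl
    rw [this]
    exact neg_mem (hx j)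
  | mul x y _ _ hx hy =>
    intro j
    rw [DirectSum.decompose_mul, DirectSum.coe_mul_apply_eq_sum_antidiagonal]
    refine Ideal.sum_mem _ fun ij hij => ?_
    have h := Finset.HasAntidiagonal.mem_antidiagonal.1 hij
    rw [← h, pow_add]
    exact Ideal.mul_mem_mul (hx _) (hy _)

theorem mem_span_pow_of_mem (hgen : Subring.closure ((𝒜 0 : Set A) ∪ (𝒜 1 : Set A)) = ⊤)
    {a : A} {j : ℕ} (ha : a ∈ 𝒜 j) : a ∈ (Ideal.span (𝒜 1 : Set A)) ^ j := by
  have := decompose_mem_span_pow 𝒜 hgen a j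
  rwa [DirectSum.decompose_of_mem_same 𝒜 ha] at this

/-- sections of a zero module vanish -/
theorem section_eq_zero_of_isZero {X : Scheme.{u}} {F : X.Modules} (h0 : Limits.IsZero F)
    {U : X.Opens} (s : Γ(F, U)) : s = 0 := by
  have h1 : (𝟙 F : F ⟶ F) = 0 := h0.eq_of_src _ _
  have h2 : (Scheme.Modules.Hom.app (𝟙 F) U) s = (Scheme.Modules.Hom.app (0 : F ⟶ F) U) s := by
    rw [h1]
  exact h2

/-- if `M~ = 0`, every homogeneous element is killed by a power of every element of degree one -/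
theorem exists_pow_smul_eq_zero_of_isZero (h0 : Limits.IsZero (GrMod.tilde 𝒜 ℳ 0)) {t : A}
    (ht : t ∈ 𝒜 1) {i : ℕ} {m : M} (hm : m ∈ ℳ i) : ∃ K : ℕ, t ^ K • m = 0 := by
  have hti : t ^ i ∈ 𝒜 i := by
    have := SetLike.pow_mem_graded i ht
    simpa using this
  refine Groth.Agent.Lib.Proj.GrGlue.exists_pow_smul_eq_zero 𝒜 ℳ (d := 1) Nat.one_pos ht i m hm
    (fun p hp => ?_)
  have hp' : p ∈ ProjectiveSpectrum.basicOpen 𝒜 (t ^ i) := by
    rw [ProjectiveSpectrum.mem_basicOpen]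
    exact fun h => hp (p.isPrime.mem_of_pow_mem i h)
  obtain ⟨s, hs⟩ : ∃ s : GrMod.sect 𝒜 ℳ 0 (op (ProjectiveSpectrum.basicOpen 𝒜 (t ^ i))),
      s = GrModSections.fracSect 𝒜 ℳ 0 (⟨m, hm⟩ : ℳ i) (⟨t ^ i, hti⟩ : 𝒜 i) (by simp) := ⟨_, rfl⟩
  have hs0 : s = 0 :=
    section_eq_zero_of_isZero (F := GrMod.tilde 𝒜 ℳ 0) h0
      (U := (ProjectiveSpectrum.basicOpen 𝒜 (t ^ i) : (Proj 𝒜).Opens)) s
  have h1 := GrModSections.fracSect_apply 𝒜 ℳ 0 (⟨m, hm⟩ : ℳ i) (⟨t ^ i, hti⟩ : 𝒜 i) (by simp)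
    ⟨p, hp'⟩
  rw [← hs, hs0] at h1
  exact GrModSections.exists_smul_eq_zero_of_mk_eq_zero 𝒜 p m _ h1.symm

/-- **ring-level (TF) + locally nilpotent ⇒ (TN)** -/
theorem exists_bound_of_locally_nilpotent
    (hgen : Subring.closure ((𝒜 0 : Set A) ∪ (𝒜 1 : Set A)) = ⊤)
    (hJ : (Ideal.span (𝒜 1 : Set A)).FG)
    (n₀ : ℕ) (hTF : (Submodule.span A (⋃ k ∈ Set.Ici n₀, (ℳ k : Set M))).FG)
    (hnil : ∀ t ∈ 𝒜 1, ∀ (i : ℕ) (m : M), m ∈ ℳ i → ∃ K : ℕ, t ^ K • m = 0) :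
    ∃ N : ℕ, ∀ k, N ≤ k → ∀ m ∈ ℳ k, m = 0 := by
  classical
  obtain ⟨G, hGsub, hGspan⟩ := (Submodule.fg_span_iff_fg_span_finset_subset _).1 hTF
  have hdeg : ∀ g ∈ G, ∃ d : ℕ, g ∈ ℳ d := by
    intro g hg
    have h := hGsub (Finset.mem_coe.2 hg)
    simp only [Set.mem_iUnion, Set.mem_Ici, SetLike.mem_coe, exists_prop] at h
    obtain ⟨d, -, hd⟩ := h
    exact ⟨d, hd⟩
  choose! dg hdg using hdeg
  have hann : ∀ g ∈ G, ∃ k : ℕ, (Ideal.span (𝒜 1 : Set A)) ^ k ≤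
      LinearMap.ker (LinearMap.toSpanSingleton A M g) := by
    intro g hg
    refine Ideal.exists_pow_le_of_le_radical_of_fg ?_ hJ
    rw [Ideal.span_le]
    intro t ht
    obtain ⟨K, hK⟩ := hnil t ht (dg g) g (hdg g hg)
    refine ⟨K, ?_⟩
    rw [LinearMap.mem_ker, LinearMap.toSpanSingleton_apply]
    exact hK
  choose! kg hkg using hann
  refine ⟨n₀ + G.sup dg + G.sup kg, fun k hk m hm => ?_⟩
  have hmspan : m ∈ Submodule.span A (G : Set M) := by
    rw [← hGspan]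
    apply Submodule.subset_span
    simp only [Set.mem_iUnion, Set.mem_Ici, SetLike.mem_coe, exists_prop]
    exact ⟨k, by omega, hm⟩
  obtain ⟨c, -, hc⟩ := Submodule.mem_span_finset.1 hmspan
  have h1 : m = (DirectSum.decompose ℳ m k : M) := (DirectSum.decompose_of_mem_same ℳ hm).symm
  rw [h1, ← hc, DirectSum.decompose_sum, DFinsupp.finsetSum_apply, AddSubmonoidClass.coe_finsetSum]
  refine Finset.sum_eq_zero fun g hg => ?_
  have hdk : dg g ≤ k := by
    have := Finset.le_sup (f := dg) hg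
    omega
  rw [GrModFinite.decompose_smul_of_mem 𝒜 ℳ (hdg g hg) (c g) k hdk]
  have h2 : (DirectSum.decompose 𝒜 (c g) (k - dg g) : A) ∈
      (Ideal.span (𝒜 1 : Set A)) ^ (k - dg g) :=
    decompose_mem_span_pow 𝒜 hgen (c g) (k - dg g)
  have hle : kg g ≤ k - dg g := by
    have h3 := Finset.le_sup (f := dg) hg
    have h4 := Finset.le_sup (f := kg) hg
    omega
  have h3 := hkg g hg (Ideal.pow_le_pow_right hle h2)
  rw [LinearMap.mem_ker, LinearMap.toSpanSingleton_apply] at h3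
  exact h3

/-- **ring-level: `M~ = 0` and (TF) ⇒ (TN)** -/
theorem exists_bound_of_isZero
    (hgen : Subring.closure ((𝒜 0 : Set A) ∪ (𝒜 1 : Set A)) = ⊤)
    (hJ : (Ideal.span (𝒜 1 : Set A)).FG)
    (n₀ : ℕ) (hTF : (Submodule.span A (⋃ k ∈ Set.Ici n₀, (ℳ k : Set M))).FG)
    (h0 : Limits.IsZero (GrMod.tilde 𝒜 ℳ 0)) :
    ∃ N : ℕ, ∀ k, N ≤ k → ∀ m ∈ ℳ k, m = 0 :=
  exists_bound_of_locally_nilpotent 𝒜 ℳ hgen hJ n₀ hTF
    (fun _ ht _ _ hm => exists_pow_smul_eq_zero_of_isZero 𝒜 ℳ h0 ht hm)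

end Groth.Agent.Lib.Proj.GrModTN
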