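import Groth.Agent.Lib.Proj.Helper66_RelTwistPullback
import Groth.Agent.Lib.RelVA.Ample
import Groth.Agent.Lib.QCoh.Helper50_AffineDict

/-!
# `p^*E ⟶ O_P(1)` is an epimorphism on a projective bundle (helper66)

ns `Groth.Agent.Lib.Proj.PBEpi`.
-/

universe u
open CategoryTheory CategoryTheory.Limits AlgebraicGeometry TopologicalSpace Opposite
open scoped HomogeneousIdeal

namespace Groth.Agent.Lib.Proj.PBEpi

open RelProj Groth.Agent.Lib.Ample Groth.Agent.Lib.QCoh Groth.Agent.Lib.Proj.PullSec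

section ring

variable {A σ : Type u} [CommRing A] [SetLike σ A] [AddSubgroupClass σ A] (𝒜 : ℕ → σ) [GradedRing 𝒜]

/-- if `A` is generated as a ring by `A_0` and a set `G`, no point of `Proj A` contains `G` -/
theorem exists_not_mem_of_closure (G : Set A)
    (h : Subring.closure ((𝒜 0 : Set A) ∪ G) = ⊤) (x : ProjectiveSpectrum 𝒜) :
    ∃ g ∈ G, g ∉ x.asHomogeneousIdeal := by
  by_contra hx
  push_neg at hx
  have h1 : ∀ f ∈ G, f ∈ x.asHomogeneousIdeal := hx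
  let I : Ideal A := x.asHomogeneousIdeal.toIdeal
  let T : Subring A :=
    { carrier := {a | ∃ a0 ∈ 𝒜 0, a - a0 ∈ I}
      mul_mem' := by
        rintro a b ⟨a0, ha0, ha⟩ ⟨b0, hb0, hb⟩
        refine ⟨a0 * b0, by simpa using SetLike.GradedMul.mul_mem ha0 hb0, ?_⟩
        have : a * b - a0 * b0 = (a - a0) * b + a0 * (b - b0) := by ring
        rw [this]
        exact I.add_mem (I.mul_mem_right _ ha) (I.mul_mem_left _ hb)
      one_mem' := ⟨1, SetLike.GradedOne.one_mem, by simp⟩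
      add_mem' := by
        rintro a b ⟨a0, ha0, ha⟩ ⟨b0, hb0, hb⟩
        refine ⟨a0 + b0, add_mem ha0 hb0, ?_⟩
        have : a + b - (a0 + b0) = (a - a0) + (b - b0) := by ring
        rw [this]
        exact I.add_mem ha hb
      zero_mem' := ⟨0, zero_mem _, by simp⟩
      neg_mem' := by
        rintro a ⟨a0, ha0, ha⟩
        refine ⟨-a0, neg_mem ha0, ?_⟩
        have : -a - -a0 = -(a - a0) := by ring
        rw [this]
        exact I.neg_mem ha }
  have hT : T = ⊤ := by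
    rw [eq_top_iff, ← h, Subring.closure_le]
    rintro a (ha | ha)
    · exact ⟨a, ha, by simp⟩
    · exact ⟨0, zero_mem _, by rw [sub_zero]; exact h1 a ha⟩
  apply x.not_irrelevant_le
  intro a ha
  rw [HomogeneousIdeal.mem_irrelevant_iff, GradedRing.proj_apply] at ha
  obtain ⟨a0, ha0, hai⟩ : a ∈ T := hT ▸ Subring.mem_top a
  have h2 : ((DirectSum.decompose 𝒜 (a - a0) 0 : 𝒜 0) : A) ∈ I :=
    x.asHomogeneousIdeal.isHomogeneous 0 hai
  rw [DirectSum.decompose_sub, DirectSum.sub_apply, AddSubgroupClass.coe_sub, ha,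
    DirectSum.decompose_of_mem_same 𝒜 ha0, zero_sub] at h2
  have h3 : a0 ∈ I := by simpa using I.neg_mem h2
  have : a = (a - a0) + a0 := by ring
  rw [this]
  exact I.add_mem hai h3

end ring

/-- the graded symmetric algebra is generated over degree zero by the image of `E` -/
theorem closure_range_eq_top {S : Scheme.{u}} (E : S.Modules) (hE : Coh.IsQCoh E)
    (𝒮 : RelProj.QCGrAlg S) (j : E ⟶ 𝒮.toModule) (hj : RelProj.IsGrSymAlg E 𝒮 j)
    (U : S.Opens) (hU : IsAffineOpen U) :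
    Subring.closure ((𝒮.deg U hU 0 : Set (𝒮.presheaf.obj (op U))) ∪
      Set.range (fun x : Γ(E, U) => ((j.app U) x : 𝒮.presheaf.obj (op U)))) = ⊤ := by
  have : E.IsQuasicoherent := hE
  rw [eq_top_iff]
  rintro a -
  obtain ⟨w, rfl⟩ := (Groth.Agent.Lib.Helper42.SymAlg.bijective_tauU E hj.1 U hU).2 a
  induction w using SymmetricAlgebra.induction with
  | algebraMap r =>
    have h : Groth.Agent.Lib.Helper42.SymAlg.tauU E 𝒮.toQCAlg j U
        (algebraMap Γ(S, U) (SymmetricAlgebra Γ(S, U) Γ(E, U)) r) = (𝒮.str.app (op U)).hom r :=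
      Groth.Agent.Lib.Helper42.SymLoc.liftRing_algebraMap _ _ _ r
    rw [h]
    exact Subring.subset_closure (Or.inl (𝒮.str_mem U hU r))
  | ι x =>
    have h : Groth.Agent.Lib.Helper42.SymAlg.tauU E 𝒮.toQCAlg j U
        (SymmetricAlgebra.ι Γ(S, U) Γ(E, U) x) = (j.app U).hom x :=
      Groth.Agent.Lib.Helper42.SymLoc.liftRing_ι _ _ _ x
    rw [h]
    exact Subring.subset_closure (Or.inr ⟨x, rfl⟩)
  | mul a b ha hb =>
    rw [map_mul]
    exact Subring.mul_mem _ ha hb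
  | add a b ha hb =>
    rw [map_add]
    exact Subring.add_mem _ ha hb

variable {Y P : Scheme.{u}} {E : Y.Modules} {𝒮 : RelProj.QCGrAlg Y} {j : E ⟶ 𝒮.toModule}
  {p : P ⟶ Y}
  {chart : ∀ (U : Y.Opens) (hU : IsAffineOpen U),
    (((p ⁻¹ᵁ U : P.Opens) : Scheme.{u}) ≅ Proj (𝒮.deg U hU))}
  {O1 : P.Modules}
  {lam : ∀ (U : Y.Opens) (hU : IsAffineOpen U),
      O1 ⟶ (Scheme.Modules.pushforward (RelProj.emb p chart U hU)).obj
        (GrTwist.twist (𝒮.deg U hU) 1)}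

/-- **the canonical morphism `p^*E ⟶ O_P(1)` on the projective bundle is an epimorphism** -/
theorem epi_adjunct (hE : Coh.IsQCoh E) (hj : RelProj.IsGrSymAlg E 𝒮 j)
    (hO1 : RelProj.IsRelTwist 𝒮 p chart 1 O1 lam)
    (φ : E ⟶ (Scheme.Modules.pushforward p).obj O1)
    (hφ : ∀ (U : Y.Opens) (hU : IsAffineOpen U) (e : Γ(E, U))
      (y : ↥(RelProj.emb p chart U hU ⁻¹ᵁ (p ⁻¹ᵁ U))),
      GrTwist.val (V := RelProj.emb p chart U hU ⁻¹ᵁ (p ⁻¹ᵁ U))
          ((lam U hU).app (p ⁻¹ᵁ U) ((φ.app U) e)) y =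
        algebraMap (𝒮.presheaf.obj (op U)) (GrTwist.Loc (𝒮.deg U hU) y.1)
          ((j.app U) e : 𝒮.presheaf.obj (op U))) :
    Epi (((Scheme.Modules.pullbackPushforwardAdjunction p).homEquiv E O1).symm φ) := by
  obtain ⟨ν, hν⟩ : ∃ ν, ν = ((Scheme.Modules.pullbackPushforwardAdjunction p).homEquiv E O1).symm φ :=
    ⟨_, rfl⟩
  rw [← hν]
  refine epi_of_surjective_of_isBasis
    (fun i : {Ω : P.Opens // ∃ (U : Y.Opens) (hU : IsAffineOpen U) (e : Γ(E, U)),
      Ω ≤ (RelProj.emb p chart U hU) ''ᵁ (Proj.basicOpen (𝒮.deg U hU)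
        ((j.app U) e : 𝒮.presheaf.obj (op U)))} => i.1) ?_ ν ?_
  · rw [Opens.isBasis_iff_nbhd]
    intro O z hz
    obtain ⟨U, hU0, hxU, -⟩ := Opens.isBasis_iff_nbhd.1 (Y.isBasis_affineOpens)
      (show p.base z ∈ (⊤ : Y.Opens) from trivial)
    have hU : IsAffineOpen U := hU0
    obtain ⟨g, ⟨e, rfl⟩, hg⟩ := exists_not_mem_of_closure (𝒮.deg U hU) _
      (closure_range_eq_top E hE 𝒮 j hj U hU) ((chart U hU).hom.base ⟨z, hxU⟩)
    have hzV : z ∈ (RelProj.emb p chart U hU) ''ᵁ (Proj.basicOpen (𝒮.deg U hU)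
        ((j.app U) e : 𝒮.presheaf.obj (op U))) :=
      ⟨_, (Proj.mem_basicOpen _ _ _).2 hg, RelTw.emb_chart_hom U hU ⟨z, hxU⟩⟩
    exact ⟨O ⊓ _, ⟨⟨O ⊓ _, U, hU, e, inf_le_right⟩, rfl⟩, ⟨hz, hzV⟩, inf_le_left⟩
  · rintro ⟨Ω, U, hU, e, hΩ⟩
    have hn : (1 : ℤ) = (((1 : ℕ) : ℤ) - ((0 : ℕ) : ℤ)) * ((1 : ℕ) : ℤ) := by norm_num
    have hΩU : Ω ≤ p ⁻¹ᵁ U := hΩ.trans (RelTw.emb_image_le U hU _)
    have hreads : RelTw.ReadsG lam ((j.app U) e : 𝒮.presheaf.obj (op U)) 1 0 hU (p ⁻¹ᵁ U)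
        (φ.app U e) := by
      intro y hy
      rw [pow_zero, map_one, one_mul, pow_one]
      exact hφ U hU e ⟨y, hy⟩
    have hg : IsGenerator O1 Ω (resSec O1 hΩU (φ.app U e)) :=
      RelTw.isGenerator_of_readsG hO1 hn (hj.2 U hU e) hΩ (hreads.restrict hΩU)
    intro x
    obtain ⟨r, hr⟩ := (hg Ω le_rfl).2 x
    have hr' : r • resSec O1 (le_refl Ω) (resSec O1 hΩU (φ.app U e)) = x := hr
    rw [resSec_resSec] at hr'
    have h3 : (ν.app (p ⁻¹ᵁ U)).hom (pullSecOn p E U e) = φ.app U e := by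
      rw [hν]
      exact RelTwC.adjunct_app_pullSecOn p φ U e
    have h2 : (ν.app Ω).hom (((Scheme.Modules.pullback p).obj E).presheaf.map (homOfLE hΩU).op
        (pullSecOn p E U e)) = O1.presheaf.map (homOfLE hΩU).op
          ((ν.app (p ⁻¹ᵁ U)).hom (pullSecOn p E U e)) :=
      app_naturality_apply ν (homOfLE hΩU) _
    refine ⟨r • ((Scheme.Modules.pullback p).obj E).presheaf.map (homOfLE hΩU).op
      (pullSecOn p E U e), ?_⟩
    refine (Scheme.Modules.Hom.app_smul ν r _).trans ?_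
    rw [← hr']
    congr 1
    rw [h2, h3]

end Groth.Agent.Lib.Proj.PBEpi
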