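import Mathlib
import Groth.Prelude.Def_GrTwist
import Groth.Agent.Lib.Proj.Helper66_GrSections
import Groth.Agent.Lib.Proj.Helper66_GrQCoh
import Groth.Agent.Lib.Proj.Helper66_GrTwistFinite
import Groth.Agent.Lib.Proj.Helper66_RelTwistPullback
import Groth.Agent.Lib.QCoh.Helper50_PullbackSections
import Groth.Agent.Lib.QCoh.Helper50_Pullback
import Groth.Agent.Lib.Helper42.QCohIso
import Groth.Agent.Lib.Proj.Helper66_GrModBC2

/-!
# `r^* O_{Proj A}(n) ≅ O_{Proj A_g}(n)` for the localization at a degree-zero element (helper66)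

ns `Groth.Agent.Lib.Proj.ProjLoc0`.
* `bijective_of_away`: abstract base-change criterion for a localization away from one element
* `bijective_app_adjunct`, `isIso_adjunct`
-/

set_option autoImplicit false
set_option linter.unusedSectionVars false
universe u
open CategoryTheory AlgebraicGeometry Opposite TopologicalSpace
open scoped HomogeneousIdeal

namespace Groth.Agent.Lib.Proj.ProjLoc0

open Groth.Agent.Lib.Proj.GrQCohTwist Groth.Agent.Lib.Proj Groth.Agent.Lib.QCoh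
  Groth.Agent.Lib.Proj.PullSec
open Groth.Agent.Lib.Proj.GrModBC (fval_ext fval_mul fval_one fval_add)

/-- abstract criterion: `R₂ = (R₁)_{g₀}`, `M₂ = (M₁)_{g₀}` implies `R₂ ⊗ M₁ ≅ M₂` -/
theorem bijective_of_away {R₁ R₂ M₁ M₂ T : Type*} [CommRing R₁] [CommRing R₂]
    [AddCommGroup M₁] [Module R₁ M₁] [AddCommGroup M₂] [Module R₂ M₂] [AddCommGroup T] [Module R₂ T]
    (ρ : R₁ →+* R₂) (g₀ : R₁) (u : R₂) (hu : ρ g₀ * u = 1)
    (hR : ∀ r₂ : R₂, ∃ (m : ℕ) (r₁ : R₁), r₂ = ρ r₁ * u ^ m)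
    (γ : M₁ →+ M₂)
    (hsurj : ∀ y : M₂, ∃ (m : ℕ) (s : M₁), ρ g₀ ^ m • y = γ s)
    (hker : ∀ s : M₁, γ s = 0 → ∃ m : ℕ, g₀ ^ m • s = 0)
    (ι : M₁ →+ T) (hι : ∀ (r : R₁) (s : M₁), ι (r • s) = ρ r • ι s)
    (hT : ∀ t : T, t ∈ AddSubgroup.closure {t : T | ∃ (r₂ : R₂) (s : M₁), t = r₂ • ι s})
    (c : T →ₗ[R₂] M₂) (hc : ∀ s, c (ι s) = γ s) : Function.Bijective c := by
  have hgu : ∀ k : ℕ, u ^ k * ρ g₀ ^ k = 1 := fun k => by rw [← mul_pow, mul_comm, hu, one_pow]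
  have hιpow : ∀ (k : ℕ) (s : M₁), ι (g₀ ^ k • s) = ρ g₀ ^ k • ι s := fun k s => by
    rw [hι, map_pow]
  have key : ∀ t : T, ∃ (m : ℕ) (s : M₁), t = u ^ m • ι s := by
    intro t
    induction hT t using AddSubgroup.closure_induction with
    | mem t ht =>
      obtain ⟨r₂, s, rfl⟩ := ht
      obtain ⟨m, r₁, rfl⟩ := hR r₂
      exact ⟨m, r₁ • s, by rw [hι, smul_smul, mul_comm]⟩
    | zero => exact ⟨0, 0, by rw [map_zero, smul_zero]⟩
    | add t t' _ _ h h' =>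
      obtain ⟨m, s, rfl⟩ := h
      obtain ⟨m', s', rfl⟩ := h'
      refine ⟨m + m', g₀ ^ m' • s + g₀ ^ m • s', ?_⟩
      rw [map_add, hιpow, hιpow, smul_add, smul_smul, smul_smul]
      congr 1
      · rw [pow_add, mul_assoc, hgu, mul_one]
      · rw [pow_add, mul_comm (u ^ m), mul_assoc, hgu, mul_one]
    | neg t _ h =>
      obtain ⟨m, s, rfl⟩ := h
      exact ⟨m, -s, by rw [map_neg, smul_neg]⟩
  constructor
  · rw [injective_iff_map_eq_zero]
    intro t ht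
    obtain ⟨m, s, rfl⟩ := key t
    rw [c.map_smul, hc] at ht
    have h1 : γ s = 0 := by
      have : γ s = ρ g₀ ^ m • (u ^ m • γ s) := by
        rw [smul_smul, mul_comm, hgu, one_smul]
      rw [this, ht, smul_zero]
    obtain ⟨k, hk⟩ := hker s h1
    have h2 : ι s = 0 := by
      have : ι s = u ^ k • ι (g₀ ^ k • s) := by
        rw [hιpow, smul_smul, hgu, one_smul]
      rw [this, hk, map_zero, smul_zero]
    rw [h2, smul_zero]
  · intro y
    obtain ⟨m, s, hms⟩ := hsurj y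
    refine ⟨u ^ m • ι s, ?_⟩
    rw [c.map_smul, hc, ← hms, smul_smul, hgu, one_smul]

variable {A σ : Type u} [CommRing A] [SetLike σ A] [AddSubgroupClass σ A] {𝒜 : ℕ → σ} [GradedRing 𝒜]
  {B σ' : Type u} [CommRing B] [SetLike σ' B] [AddSubgroupClass σ' B] {ℬ : ℕ → σ'} [GradedRing ℬ]
  (ψ : 𝒜 →+*ᵍ ℬ) (hψ : ℬ₊ ≤ (𝒜₊).map ψ)
  {g : A} (hg : g ∈ 𝒜 0) {w : B} (hw0 : w ∈ ℬ 0) (hgw : ψ g * w = 1)
  (hdeg : ∀ (i : ℕ) (b : B), b ∈ ℬ i → ∃ (k : ℕ) (a : A), a ∈ 𝒜 i ∧ ψ g ^ k * b = ψ a)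
  (hker : ∀ a : A, ψ a = 0 → ∃ k : ℕ, g ^ k * a = 0)

lemma pow_mem' {d : ℕ} {f : A} (hf : f ∈ 𝒜 d) (k : ℕ) : f ^ k ∈ 𝒜 (k * d) := by
  have := SetLike.pow_mem_graded k hf
  simpa [smul_eq_mul] using this

lemma zero_mul_mem {d : ℕ} {g : A} (hg : g ∈ 𝒜 0) : g ∈ 𝒜 (0 * d) := by
  rw [Nat.zero_mul]; exact hg

open ModuleCat ChangeOfRings in
set_option backward.isDefEq.respectTransparency false in
set_option maxHeartbeats 1000000 in
include hg hw0 hgw hdeg hker in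
/-- the adjunct is bijective on sections over `D₊(ψ f)` -/
theorem bijective_app_adjunct {d : ℕ} (hd : 0 < d) {f : A} (hf : f ∈ 𝒜 d) (n : ℤ) :
    Function.Bijective ((((Scheme.Modules.pullbackPushforwardAdjunction (Proj.map ψ hψ)).homEquiv _ _).symm
      (GrTwist.comap ψ hψ n)).app (Proj.basicOpen ℬ (ψ f))) := by
  have hV : IsAffineOpen (Proj.basicOpen 𝒜 f) := Proj.isAffineOpen_basicOpen 𝒜 f hf hd
  have hW' : IsAffineOpen (Proj.basicOpen ℬ (ψ f)) :=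
    Proj.isAffineOpen_basicOpen ℬ (ψ f) (ψ.map_mem hf) hd
  have e : Proj.basicOpen ℬ (ψ f) ≤ (Proj.map ψ hψ) ⁻¹ᵁ Proj.basicOpen 𝒜 f := le_of_eq rfl
  have : (GrTwist.twist 𝒜 n).IsQuasicoherent := twist_isQuasicoherent 𝒜 n
  obtain ⟨κ, hκ⟩ := exists_iso_extendScalars_pullbackSections (Proj.map ψ hψ) hV hW' e
    (GrTwist.twist 𝒜 n)
  obtain ⟨ν, hν⟩ : ∃ ν, ν = ((Scheme.Modules.pullbackPushforwardAdjunction (Proj.map ψ hψ)).homEquiv _ _).symm
      (GrTwist.comap ψ hψ n) := ⟨_, rfl⟩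
  rw [← hν]
  let _ : Module Γ(Proj 𝒜, Proj.basicOpen 𝒜 f) Γ(Proj ℬ, Proj.basicOpen ℬ (ψ f)) :=
    Module.compHom _ ((Proj.map ψ hψ).appLE (Proj.basicOpen 𝒜 f) (Proj.basicOpen ℬ (ψ f)) e).hom
  let ι : Γ(GrTwist.twist 𝒜 n, Proj.basicOpen 𝒜 f) →+
      ((ModuleCat.extendScalars ((Proj.map ψ hψ).appLE (Proj.basicOpen 𝒜 f)
        (Proj.basicOpen ℬ (ψ f)) e).hom).obj
        (ModuleCat.of Γ(Proj 𝒜, Proj.basicOpen 𝒜 f) Γ(GrTwist.twist 𝒜 n, Proj.basicOpen 𝒜 f))) :=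
    { toFun := fun m => (1 : Γ(Proj ℬ, Proj.basicOpen ℬ (ψ f))) ⊗ₜ[Γ(Proj 𝒜, Proj.basicOpen 𝒜 f),
        ((Proj.map ψ hψ).appLE (Proj.basicOpen 𝒜 f) (Proj.basicOpen ℬ (ψ f)) e).hom] m
      map_zero' := TensorProduct.tmul_zero _ _
      map_add' := fun m m' => TensorProduct.tmul_add _ m m' }
  let c : ((ModuleCat.extendScalars ((Proj.map ψ hψ).appLE (Proj.basicOpen 𝒜 f)
        (Proj.basicOpen ℬ (ψ f)) e).hom).obj
        (ModuleCat.of Γ(Proj 𝒜, Proj.basicOpen 𝒜 f) Γ(GrTwist.twist 𝒜 n, Proj.basicOpen 𝒜 f)))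
      →ₗ[Γ(Proj ℬ, Proj.basicOpen ℬ (ψ f))] Γ(GrTwist.twist ℬ n, Proj.basicOpen ℬ (ψ f)) :=
    { toFun := fun t => (ν.app (Proj.basicOpen ℬ (ψ f))).hom (κ.hom.hom t)
      map_add' := fun x y => by rw [map_add, map_add]
      map_smul' := fun r x => by
        rw [map_smul]
        exact Scheme.Modules.Hom.app_smul ν r _ }
  -- values of `ρ`
  have hρ : ∀ (r : Γ(Proj 𝒜, Proj.basicOpen 𝒜 f)) (y : Proj.basicOpen ℬ (ψ f)),
      fval ℬ (((Proj.map ψ hψ).appLE (Proj.basicOpen 𝒜 f) (Proj.basicOpen ℬ (ψ f)) e).hom r) y =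
        GrTwist.locMap ψ hψ y.1 (fval 𝒜 r ⟨ProjectiveSpectrum.comap ψ hψ y.1, e y.2⟩) := by
    intro r y
    exact RelTwC.val_map_app ψ hψ (Proj.basicOpen 𝒜 f) r ⟨y.1, e y.2⟩
  -- values of `c ∘ ι`
  have hγ : ∀ (s : Γ(GrTwist.twist 𝒜 n, Proj.basicOpen 𝒜 f)) (y : Proj.basicOpen ℬ (ψ f)),
      tval ℬ n (c (ι s)) y =
        GrTwist.locMap ψ hψ y.1 (tval 𝒜 n s ⟨ProjectiveSpectrum.comap ψ hψ y.1, e y.2⟩) := by
    intro s y
    have h1 : c (ι s) = (ν.app (Proj.basicOpen ℬ (ψ f))).hom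
        (pullbackSectionsMap (Proj.map ψ hψ) e (GrTwist.twist 𝒜 n) s) :=
      congrArg (ν.app (Proj.basicOpen ℬ (ψ f))).hom (hκ s)
    have h2 : (ν.app (Proj.basicOpen ℬ (ψ f))).hom
        (pullbackSectionsMap (Proj.map ψ hψ) e (GrTwist.twist 𝒜 n) s) =
        (GrTwist.twist ℬ n).presheaf.map (homOfLE e).op
          ((ν.app ((Proj.map ψ hψ) ⁻¹ᵁ Proj.basicOpen 𝒜 f)).hom
            (pullSecOn (Proj.map ψ hψ) (GrTwist.twist 𝒜 n) (Proj.basicOpen 𝒜 f) s)) :=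
      app_naturality_apply ν (homOfLE e) _
    have h3 : (ν.app ((Proj.map ψ hψ) ⁻¹ᵁ Proj.basicOpen 𝒜 f)).hom
        (pullSecOn (Proj.map ψ hψ) (GrTwist.twist 𝒜 n) (Proj.basicOpen 𝒜 f) s) =
        (GrTwist.comap ψ hψ n).app (Proj.basicOpen 𝒜 f) s := by
      rw [hν]
      exact RelTwC.adjunct_app_pullSecOn (Proj.map ψ hψ) (GrTwist.comap ψ hψ n) _ s
    rw [h1, h2, h3]
    rfl
  have hden : ∀ (k : ℕ) (x : Proj.basicOpen 𝒜 f), f ^ k ∉ x.1.asHomogeneousIdeal := fun k x hh =>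
    (ProjectiveSpectrum.mem_basicOpen 𝒜 f x.1).mp x.2 (x.1.isPrime.mem_of_pow_mem _ hh)
  have hden' : ∀ (k : ℕ) (x : Proj.basicOpen ℬ (ψ f)), ψ f ^ k ∉ x.1.asHomogeneousIdeal :=
    fun k x hh =>
    (ProjectiveSpectrum.mem_basicOpen ℬ (ψ f) x.1).mp x.2 (x.1.isPrime.mem_of_pow_mem _ hh)
  have hcb : Function.Bijective c := by
    refine bijective_of_away
      ((Proj.map ψ hψ).appLE (Proj.basicOpen 𝒜 f) (Proj.basicOpen ℬ (ψ f)) e).hom
      (GrTwistFinite.fn 𝒜 hf 0 ⟨g, zero_mul_mem hg⟩)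
      (GrTwistFinite.fn ℬ (ψ.map_mem hf) 0 ⟨w, zero_mul_mem hw0⟩) ?_ ?_
      (c.toAddMonoidHom.comp ι) ?_ ?_ ι ?_ ?_ c (fun s => rfl)
    · -- ρ g₀ * u = 1
      refine fval_ext ℬ fun y => ?_
      rw [fval_mul, hρ, GrTwistFinite.fval_fn, GrTwistFinite.fval_fn, GrTwist.locMap_mk, fval_one,
        Localization.mk_mul]
      rw [show (1 : GrTwist.Loc ℬ y.1) = Localization.mk 1 1 from Localization.mk_one.symm,
        Localization.mk_eq_mk_iff, Localization.r_iff_exists]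
      refine ⟨1, ?_⟩
      simp only [OneMemClass.coe_one, one_mul, mul_one, Submonoid.coe_mul, pow_zero, map_one]
      exact hgw
    · -- every function on `D₊(ψ f)` is `ρ r₁ * u ^ m`
      intro r₂
      obtain ⟨k, b, hb, hr⟩ := exists_frac_fn ℬ hd (ψ.map_mem hf) r₂
      obtain ⟨m, a, ha, hab⟩ := hdeg (k * d) b hb
      refine ⟨m, GrTwistFinite.fn 𝒜 hf k ⟨a, ha⟩, ?_⟩
      refine fval_ext ℬ fun y => ?_
      rw [fval_mul, fval_pow, hρ, GrTwistFinite.fval_fn, GrTwistFinite.fval_fn, GrTwist.locMap_mk,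
        Localization.mk_pow, Localization.mk_mul]
      refine (hr y).trans ?_
      rw [Localization.mk_eq_mk_iff, Localization.r_iff_exists]
      refine ⟨1, ?_⟩
      simp only [OneMemClass.coe_one, one_mul, Submonoid.coe_mul, SubmonoidClass.coe_pow, pow_zero,
        one_pow, mul_one, map_pow]
      have hgw' : ψ g ^ m * w ^ m = 1 := by rw [← mul_pow, hgw, one_pow]
      have hb' : b = ψ a * w ^ m := by rw [← hab]; linear_combination (-b) * hgw'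
      exact congrArg (fun z => ψ f ^ k * z) hb'
    · -- surjectivity up to powers of `g`
      intro y
      obtain ⟨k, i, b, hi, hy⟩ := GrSections.exists_frac ℬ n hd (ψ.map_mem hf) y
      obtain ⟨m, a, ha, hab⟩ := hdeg i b b.2
      have hi' : (i : ℤ) = ((k * d : ℕ) : ℤ) + n := by rw [hi]; push_cast; ring
      refine ⟨m, GrTwistFinite.sec 𝒜 hf n k ⟨a, ha⟩ hi', ?_⟩
      refine tval_ext ℬ n fun p => ?_
      change _ = tval ℬ n (c (ι _)) p
      rw [hγ, tval_smul, fval_pow, hρ, GrTwistFinite.fval_fn, GrTwistFinite.tval_sec,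
        GrTwist.locMap_mk, GrTwist.locMap_mk, Localization.mk_pow]
      refine (congrArg (fun z => _ * z) (hy p)).trans ?_
      rw [Localization.mk_mul, Localization.mk_eq_mk_iff, Localization.r_iff_exists]
      refine ⟨1, ?_⟩
      simp only [OneMemClass.coe_one, one_mul, Submonoid.coe_mul, SubmonoidClass.coe_pow, pow_zero,
        map_pow]
      rw [hab, map_one, one_pow, one_mul]
      rfl
    · -- kernel is `g`-power torsion
      intro s hs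
      have hs' : c (ι s) = 0 := hs
      obtain ⟨k, i, a, hi, hxa⟩ := GrSections.exists_frac 𝒜 n hd hf s
      have hva : ∀ y : ProjectiveSpectrum ℬ, ψ f ∉ y.asHomogeneousIdeal →
          ∃ w' : B, w' ∉ y.asHomogeneousIdeal ∧ w' * ψ (a : A) = 0 := by
        intro y hy
        have hyV : y ∈ Proj.basicOpen ℬ (ψ f) := (Proj.mem_basicOpen ℬ _ y).2 hy
        have h1 := congrArg (fun t => tval ℬ n t ⟨y, hyV⟩) hs'
        simp only at h1
        have h2 : tval 𝒜 n s ⟨ProjectiveSpectrum.comap ψ hψ y, e hyV⟩ = _ :=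
          hxa ⟨ProjectiveSpectrum.comap ψ hψ y, e hyV⟩
        rw [hγ, h2, GrTwist.locMap_mk] at h1
        exact GrSections.exists_mul_eq_zero_of_mk_eq_zero ℬ y _ _ h1
      obtain ⟨K, hK⟩ := GrSections.exists_pow_mul_eq_zero ℬ hd (ψ.map_mem hf) (ψ.map_mem a.2) hva
      have h0 : ψ (f ^ K * (a : A)) = 0 := by rw [map_mul, map_pow]; exact hK
      obtain ⟨m, hm⟩ := hker _ h0
      refine ⟨m, tval_ext 𝒜 n fun p => ?_⟩
      rw [tval_smul, fval_pow, GrTwistFinite.fval_fn]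
      refine (congrArg (fun z => _ * z) (hxa p)).trans ?_
      rw [Localization.mk_pow, Localization.mk_mul, tval_zero, ← Localization.mk_zero 1,
        Localization.mk_eq_mk_iff, Localization.r_iff_exists]
      refine ⟨⟨f ^ K, hden K p⟩, ?_⟩
      simp only [OneMemClass.coe_one, one_mul, mul_zero]
      linear_combination hm
    · intro r s
      change ((1 : Γ(Proj ℬ, Proj.basicOpen ℬ (ψ f))) ⊗ₜ[Γ(Proj 𝒜, Proj.basicOpen 𝒜 f),
        ((Proj.map ψ hψ).appLE (Proj.basicOpen 𝒜 f) (Proj.basicOpen ℬ (ψ f)) e).hom] (r • s)) = _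
      rw [← TensorProduct.smul_tmul]
      change _ = ((Proj.map ψ hψ).appLE (Proj.basicOpen 𝒜 f) (Proj.basicOpen ℬ (ψ f)) e).hom r •
        ((1 : Γ(Proj ℬ, Proj.basicOpen ℬ (ψ f))) ⊗ₜ[Γ(Proj 𝒜, Proj.basicOpen 𝒜 f),
        ((Proj.map ψ hψ).appLE (Proj.basicOpen 𝒜 f) (Proj.basicOpen ℬ (ψ f)) e).hom] s)
      rw [ModuleCat.ExtendScalars.smul_tmul]
      rfl
    · intro t
      induction t using TensorProduct.induction_on with
      | zero => exact AddSubgroup.zero_mem _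
      | tmul σ s =>
        refine AddSubgroup.subset_closure ⟨σ, s, ?_⟩
        have h1 := ModuleCat.ExtendScalars.smul_tmul
          (f := ((Proj.map ψ hψ).appLE (Proj.basicOpen 𝒜 f) (Proj.basicOpen ℬ (ψ f)) e).hom)
          (M := ModuleCat.of Γ(Proj 𝒜, Proj.basicOpen 𝒜 f)
            Γ(GrTwist.twist 𝒜 n, Proj.basicOpen 𝒜 f))
          (show Γ(Proj ℬ, Proj.basicOpen ℬ (ψ f)) from σ) (1 : Γ(Proj ℬ, Proj.basicOpen ℬ (ψ f))) s
        rw [mul_one] at h1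
        exact h1.symm
      | add x y hx hy => exact AddSubgroup.add_mem _ hx hy
  have hκb : Function.Bijective κ.hom := ConcreteCategory.bijective_of_isIso κ.hom
  have hcomp : (c : _ → _) = (fun z => (ν.app (Proj.basicOpen ℬ (ψ f))).hom z) ∘ (fun z => κ.hom z) := rfl
  rw [hcomp] at hcb
  exact (Function.Bijective.of_comp_iff _ hκb).1 hcb

include hg hw0 hgw hdeg hker in
/-- **the adjunct `r^* O_A(n) ⟶ O_B(n)` is an isomorphism** for `B = A_g`, `g` of degree zero -/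
theorem isIso_adjunct (n : ℤ) :
    IsIso (((Scheme.Modules.pullbackPushforwardAdjunction (Proj.map ψ hψ)).homEquiv _ _).symm
      (GrTwist.comap ψ hψ n)) := by
  have : (GrTwist.twist 𝒜 n).IsQuasicoherent := twist_isQuasicoherent 𝒜 n
  have : (GrTwist.twist ℬ n).IsQuasicoherent := twist_isQuasicoherent ℬ n
  have : ((Scheme.Modules.pullback (Proj.map ψ hψ)).obj (GrTwist.twist 𝒜 n)).IsQuasicoherent :=
    isQuasicoherent_pullback _ _
  refine Groth.Agent.Lib.Helper42.QCohIso.isIso_of_bijective_affine_cover _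
    (fun a : {a : A // ∃ d : ℕ, 0 < d ∧ a ∈ 𝒜 d} => Proj.basicOpen ℬ (ψ a.1))
    (fun a => ?_) ?_ (fun a => ?_)
  · obtain ⟨a, d, hd, ha⟩ := a
    exact Proj.isAffineOpen_basicOpen ℬ _ (ψ.map_mem ha) hd
  · intro y
    obtain ⟨d, hd, a, ha, hxa, -⟩ := GrGlue.exists_pos_homogeneous_basicOpen_le 𝒜
      (ProjectiveSpectrum.comap ψ hψ (show ProjectiveSpectrum ℬ from y)) ⊤ trivial
    exact ⟨⟨a, d, hd, ha⟩, (Proj.mem_basicOpen ℬ _ y).2 hxa⟩
  · obtain ⟨a, d, hd, ha⟩ := a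
    exact bijective_app_adjunct ψ hψ hg hw0 hgw hdeg hker hd ha n

end Groth.Agent.Lib.Proj.ProjLoc0
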