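import Groth.Prelude.Def_RelProj3
import Groth.Agent.Lib.Proj.Helper66_RelTwist
import Groth.Agent.Lib.Proj.Helper66_GrModQCoh
import Groth.Agent.Lib.QCoh.Helper66_FTLocal
import Groth.Agent.Lib.QCoh.Helper66_ZeroLocal

/-!
# The modules `(ℳ(n))~` on a relative Proj (`RelProj.IsRelTilde`): chartwise identification, quasi-coherence,
vanishing under (TN) (helper66)

ns `Groth.Agent.Lib.Proj.RelTl`.
-/

universe u
open CategoryTheory CategoryTheory.Limits AlgebraicGeometry TopologicalSpace Opposite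

namespace Groth.Agent.Lib.Proj.RelTl

open RelProj

variable {Y P : Scheme.{u}} {𝒮 : RelProj.QCGrAlg Y} {p : P ⟶ Y}
  {chart : ∀ (U : Y.Opens) (hU : IsAffineOpen U),
    (((p ⁻¹ᵁ U : P.Opens) : Scheme.{u}) ≅ Proj (𝒮.deg U hU))}
  {ℳ : RelProj.GrModule 𝒮} {n : ℤ} {F : P.Modules}
  {lam : ∀ (U : Y.Opens) (hU : IsAffineOpen U),
      F ⟶ (Scheme.Modules.pushforward (RelProj.emb p chart U hU)).obj
        (GrMod.tilde (𝒮.deg U hU) (ℳ.deg U hU) n)}

theorem isIso_restrict_lam (hF : RelProj.IsRelTilde 𝒮 p chart ℳ n F lam) (U : Y.Opens)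
    (hU : IsAffineOpen U) :
    IsIso ((Scheme.Modules.restrictFunctor (RelProj.emb p chart U hU)).map (lam U hU)) := by
  refine QCoh.isIso_of_bijective_app_of_isBasis _
    (fun V : (Proj (𝒮.deg U hU)).Opens => V) ?_ ?_
  · rw [Opens.isBasis_iff_nbhd]
    intro V x hx
    exact ⟨V, ⟨V, rfl⟩, hx, le_rfl⟩
  · intro V
    exact hF.bijective U hU ((RelProj.emb p chart U hU) ''ᵁ V) (RelTw.emb_image_le U hU V)

/-- the restriction of `(ℳ(n))~` along the chart immersion over `U` is `(ℳ(U)(n))~` -/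
noncomputable def restrictEmbIso (hF : RelProj.IsRelTilde 𝒮 p chart ℳ n F lam) (U : Y.Opens)
    (hU : IsAffineOpen U) :
    F.restrict (RelProj.emb p chart U hU) ≅ GrMod.tilde (𝒮.deg U hU) (ℳ.deg U hU) n :=
  have := isIso_restrict_lam hF U hU
  asIso ((Scheme.Modules.restrictFunctor (RelProj.emb p chart U hU)).map (lam U hU)) ≪≫
    (Scheme.Modules.restrictFunctorAdjCounitIso (RelProj.emb p chart U hU)).app _

/-- every point of `P` lies in the image of a chart immersion -/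
theorem exists_chart_mem (x : P) : ∃ (U : Y.Opens) (hU : IsAffineOpen U),
    x ∈ Set.range (RelProj.emb p chart U hU) := by
  obtain ⟨U, hU0, hxU, -⟩ := Opens.isBasis_iff_nbhd.1 (Y.isBasis_affineOpens)
    (show p x ∈ (⊤ : Y.Opens) from trivial)
  have hU : IsAffineOpen U := hU0
  exact ⟨U, hU, (chart U hU).hom ⟨x, hxU⟩, RelTw.emb_chart_hom U hU ⟨x, hxU⟩⟩

/-- **`(ℳ(n))~` is quasi-coherent** -/
theorem isQuasicoherent (hF : RelProj.IsRelTilde 𝒮 p chart ℳ n F lam) : F.IsQuasicoherent := by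
  refine QCoh.isQuasicoherent_of_openImmersion_cover F fun x => ?_
  obtain ⟨U, hU, hx⟩ := exists_chart_mem (𝒮 := 𝒮) (chart := chart) x
  exact ⟨_, RelProj.emb p chart U hU, inferInstance, hx,
    QCoh.isQuasicoherent_of_iso (restrictEmbIso hF U hU).symm
      (GrModQCoh.tilde_isQuasicoherent (𝒮.deg U hU) (ℳ.deg U hU) n)⟩

/-- **(TN) ⇒ `(ℳ(n))~ = 0`** -/
theorem isZero_of_isTN (hTN : ℳ.IsTN) (hF : RelProj.IsRelTilde 𝒮 p chart ℳ n F lam) : IsZero F := by
  classical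
  obtain ⟨n₀, hn₀⟩ := hTN
  refine QCoh.isZero_of_openImmersion_cover F fun x => ?_
  obtain ⟨U, hU, hx⟩ := exists_chart_mem (𝒮 := 𝒮) (chart := chart) x
  refine ⟨_, RelProj.emb p chart U hU, inferInstance, hx, ?_⟩
  refine IsZero.of_iso ?_ (restrictEmbIso hF U hU)
  refine GrModSections.isZero_tilde_of_subsingleton _ _ n fun y => ?_
  have hnil : ∀ (z : ℳ.mod.val.obj (op U)) (d : ℕ) (f : 𝒮.presheaf.obj (op U)), 0 < d →
      f ∈ 𝒮.deg U hU d → ∃ k : ℕ, f ^ k • z = 0 := by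
    intro z d f hd hf
    refine ⟨n₀, ?_⟩
    rw [← DirectSum.sum_support_decompose (ℳ.deg U hU) z, Finset.smul_sum]
    refine Finset.sum_eq_zero fun i _ => ?_
    refine hn₀ U hU (n₀ * d + i) (by nlinarith) _ ?_
    have h1 : f ^ n₀ ∈ 𝒮.deg U hU (n₀ * d) := by
      have := SetLike.pow_mem_graded n₀ hf
      simpa [smul_eq_mul] using this
    exact SetLike.GradedSMul.smul_mem (A := 𝒮.deg U hU) (B := ℳ.deg U hU) h1
      (Subtype.prop (DirectSum.decompose (ℳ.deg U hU) z i))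
  have := GrModSections.subsingleton_locMod_of_locally_nilpotent (𝒮.deg U hU)
    (M := ℳ.mod.val.obj (op U)) hnil y
  exact ⟨fun a b => Subtype.ext (Subsingleton.elim _ _)⟩

end Groth.Agent.Lib.Proj.RelTl
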