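import Groth.Agent.Lib.Proj.Helper66_RelTilde
import Groth.Agent.Lib.Proj.Helper66_GrModFinite

/-!
# (TF) ⇒ `ℳ~` of finite type on a relative Proj of an algebra generated in degree one (helper66)
-/

universe u
open CategoryTheory CategoryTheory.Limits AlgebraicGeometry TopologicalSpace Opposite

namespace Groth.Agent.Lib.Proj.RelTl

open RelProj

variable {Y P : Scheme.{u}} {𝒮 : RelProj.QCGrAlg Y} {p : P ⟶ Y}
  {chart : ∀ (U : Y.Opens) (hU : IsAffineOpen U),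
    (((p ⁻¹ᵁ U : P.Opens) : Scheme.{u}) ≅ Proj (𝒮.deg U hU))}
  {ℳ : RelProj.GrModule 𝒮} {F : P.Modules}
  {lam : ∀ (U : Y.Opens) (hU : IsAffineOpen U),
      F ⟶ (Scheme.Modules.pushforward (RelProj.emb p chart U hU)).obj
        (GrMod.tilde (𝒮.deg U hU) (ℳ.deg U hU) 0)}

theorem isFiniteType_of_isTF (hgen : 𝒮.IsGenDegOne) (hTF : ℳ.IsTF)
    (hF : RelProj.IsRelTilde 𝒮 p chart ℳ 0 F lam) : F.IsFiniteType := by
  obtain ⟨n₀, hn₀⟩ := hTF
  refine QCoh.isFiniteType_of_openImmersion_cover F fun x => ?_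
  obtain ⟨U, hU, hx⟩ := exists_chart_mem (𝒮 := 𝒮) (chart := chart) x
  refine ⟨_, RelProj.emb p chart U hU, inferInstance, hx, ?_⟩
  have := GrModFinite.tilde_isFiniteType (𝒮.deg U hU) (ℳ.deg U hU) (hgen U hU) ⟨n₀, hn₀ U hU⟩
  exact QCoh.isFiniteType_of_iso (restrictEmbIso hF U hU).symm

end Groth.Agent.Lib.Proj.RelTl
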