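import Groth.Agent.Lib.Proj.Helper66_RelTildeMap
import Groth.Agent.Lib.QCoh.Helper74_GlueFamily

/-!
# Morphisms between modules `(ℳ(n))~` on a relative Proj from chartwise, pointwise data (helper66)

ns `Groth.Agent.Lib.Proj.RelTl`.
-/

universe u
open CategoryTheory CategoryTheory.Limits AlgebraicGeometry TopologicalSpace Opposite

namespace Groth.Agent.Lib.Proj.RelTl

open RelProj Groth.Agent.Lib.QCoh.Glue74

variable {Y P : Scheme.{u}} {𝒮 : RelProj.QCGrAlg Y} {p : P ⟶ Y}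
  {chart : ∀ (U : Y.Opens) (hU : IsAffineOpen U),
    (((p ⁻¹ᵁ U : P.Opens) : Scheme.{u}) ≅ Proj (𝒮.deg U hU))}

/-- under `IsRelProj`, the chart immersion over `D(r)` is the one over `U` after `comap` -/
theorem emb_basicOpen_apply (hP : RelProj.IsRelProj 𝒮 p chart) (U : Y.Opens) (hU : IsAffineOpen U)
    (r : Γ(Y, U)) (y : ProjectiveSpectrum (𝒮.deg (Y.basicOpen r) (hU.basicOpen r))) :
    (RelProj.emb p chart (Y.basicOpen r) (hU.basicOpen r)).base y =
      (RelProj.emb p chart U hU).base (ProjectiveSpectrum.comap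
        (𝒮.res hU (hU.basicOpen r) (Y.basicOpen_le r)) (𝒮.irrelevant_le_map U hU r) y) := by
  rw [← RelProj.map_res_emb hP U hU r]
  rfl

variable {ℳ 𝒩 : RelProj.GrModule 𝒮} {n : ℤ} {F G : P.Modules}
  {lam : ∀ (U : Y.Opens) (hU : IsAffineOpen U),
      F ⟶ (Scheme.Modules.pushforward (RelProj.emb p chart U hU)).obj
        (GrMod.tilde (𝒮.deg U hU) (ℳ.deg U hU) n)}
  {lam' : ∀ (U : Y.Opens) (hU : IsAffineOpen U),
      G ⟶ (Scheme.Modules.pushforward (RelProj.emb p chart U hU)).obj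
        (GrMod.tilde (𝒮.deg U hU) (𝒩.deg U hU) n)}

/-- chartwise morphisms acting pointwise, compatibly with restriction to basic opens -/
structure IsPointwise
    (θ : ∀ (U : Y.Opens) (hU : IsAffineOpen U),
      GrMod.tilde (𝒮.deg U hU) (ℳ.deg U hU) n ⟶ GrMod.tilde (𝒮.deg U hU) (𝒩.deg U hU) n)
    (ϑ : ∀ (U : Y.Opens) (hU : IsAffineOpen U) (x : ProjectiveSpectrum (𝒮.deg U hU)),
      GrMod.LocMod (𝒮.deg U hU) (M := ℳ.mod.val.obj (op U)) x →
        GrMod.LocMod (𝒮.deg U hU) (M := 𝒩.mod.val.obj (op U)) x) : Prop where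
  val_app : ∀ (U : Y.Opens) (hU : IsAffineOpen U) (Ω : (Proj (𝒮.deg U hU)).Opens)
    (σ : Γ(GrMod.tilde (𝒮.deg U hU) (ℳ.deg U hU) n, Ω)) (x : Ω),
    GrMod.val ((θ U hU).app Ω σ) x = ϑ U hU x.1 (GrMod.val σ x)
  compat : ∀ (U : Y.Opens) (hU : IsAffineOpen U) (r : Γ(Y, U))
    (y : ProjectiveSpectrum (𝒮.deg (Y.basicOpen r) (hU.basicOpen r)))
    (q : GrMod.LocMod (𝒮.deg U hU) (M := ℳ.mod.val.obj (op U)) (ProjectiveSpectrum.comap
        (𝒮.res hU (hU.basicOpen r) (Y.basicOpen_le r)) (𝒮.irrelevant_le_map U hU r) y)),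
    ϑ (Y.basicOpen r) (hU.basicOpen r) y
        (GrMod.locModMap (𝒮.res hU (hU.basicOpen r) (Y.basicOpen_le r)) (𝒮.irrelevant_le_map U hU r)
          (ℳ.res hU (hU.basicOpen r) (Y.basicOpen_le r)) y q) =
      GrMod.locModMap (𝒮.res hU (hU.basicOpen r) (Y.basicOpen_le r)) (𝒮.irrelevant_le_map U hU r)
          (𝒩.res hU (hU.basicOpen r) (Y.basicOpen_le r)) y
        (ϑ U hU _ q)

variable {θ : ∀ (U : Y.Opens) (hU : IsAffineOpen U),
      GrMod.tilde (𝒮.deg U hU) (ℳ.deg U hU) n ⟶ GrMod.tilde (𝒮.deg U hU) (𝒩.deg U hU) n}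
  {ϑ : ∀ (U : Y.Opens) (hU : IsAffineOpen U) (x : ProjectiveSpectrum (𝒮.deg U hU)),
      GrMod.LocMod (𝒮.deg U hU) (M := ℳ.mod.val.obj (op U)) x →
        GrMod.LocMod (𝒮.deg U hU) (M := 𝒩.mod.val.obj (op U)) x}

/-- **Step A**: the defining relation over `U` implies the one over a basic open `D(r) ⊆ U` -/
theorem stepA (hP : RelProj.IsRelProj 𝒮 p chart)
    (hF : RelProj.IsRelTilde 𝒮 p chart ℳ n F lam) (hG : RelProj.IsRelTilde 𝒮 p chart 𝒩 n G lam')
    (hθ : IsPointwise θ ϑ) (U : Y.Opens) (hU : IsAffineOpen U) (r : Γ(Y, U)) (W : P.Opens)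
    (s : Γ(F, W)) (t : Γ(G, W))
    (h : (lam' U hU).app W t =
      (θ U hU).app ((RelProj.emb p chart U hU) ⁻¹ᵁ W) ((lam U hU).app W s)) :
    (lam' (Y.basicOpen r) (hU.basicOpen r)).app W t =
      (θ (Y.basicOpen r) (hU.basicOpen r)).app
        ((RelProj.emb p chart (Y.basicOpen r) (hU.basicOpen r)) ⁻¹ᵁ W)
        ((lam (Y.basicOpen r) (hU.basicOpen r)).app W s) := by
  refine GrModQCoh.mval_ext _ _ n fun y => ?_
  have hy : (RelProj.emb p chart (Y.basicOpen r) (hU.basicOpen r)).base y.1 ∈ W := y.2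
  have hy' : (RelProj.emb p chart U hU).base (ProjectiveSpectrum.comap
      (𝒮.res hU (hU.basicOpen r) (Y.basicOpen_le r)) (𝒮.irrelevant_le_map U hU r) y.1) ∈ W := by
    rw [← emb_basicOpen_apply hP U hU r y.1]
    exact hy
  have e1 := hG.compat U hU r W t y.1 hy hy'
  have e2 := hF.compat U hU r W s y.1 hy hy'
  have e3 := congrArg (fun σ => GrMod.val (V := (RelProj.emb p chart U hU) ⁻¹ᵁ W) σ ⟨_, hy'⟩) h
  simp only at e3
  rw [hθ.val_app] at e3
  refine e1.trans ?_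
  rw [e3, ← hθ.compat U hU r y.1, ← e2]
  exact (hθ.val_app _ _ _ _ ⟨y.1, hy⟩).symm

/-- the direct image of the chartwise morphism -/
noncomputable abbrev Θ (θ : ∀ (U : Y.Opens) (hU : IsAffineOpen U),
      GrMod.tilde (𝒮.deg U hU) (ℳ.deg U hU) n ⟶ GrMod.tilde (𝒮.deg U hU) (𝒩.deg U hU) n)
    (U : Y.Opens) (hU : IsAffineOpen U) :
    (Scheme.Modules.pushforward (RelProj.emb p chart U hU)).obj
        (GrMod.tilde (𝒮.deg U hU) (ℳ.deg U hU) n) ⟶
      (Scheme.Modules.pushforward (RelProj.emb p chart U hU)).obj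
        (GrMod.tilde (𝒮.deg U hU) (𝒩.deg U hU) n) :=
  (Scheme.Modules.pushforward (RelProj.emb p chart U hU)).map (θ U hU)

variable (lam lam' θ) in
/-- `t` is the image of `s` as read on the chart over `U` -/
def Rel (U : Y.Opens) (hU : IsAffineOpen U) (W : P.Opens) (s : Γ(F, W)) (t : Γ(G, W)) : Prop :=
  (lam' U hU).app W t = (Θ θ U hU).app W ((lam U hU).app W s)

theorem Rel.restrict {U : Y.Opens} {hU : IsAffineOpen U} {W' W : P.Opens} (hW : W' ≤ W) {s : Γ(F, W)}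
    {t : Γ(G, W)} (h : Rel lam lam' θ U hU W s t) :
    Rel lam lam' θ U hU W' (QCoh.Glue74.res F hW s) (QCoh.Glue74.res G hW t) := by
  unfold Rel at h ⊢
  have e1 := QCoh.app_naturality_apply (lam' U hU) (homOfLE hW) t
  have e2 := QCoh.app_naturality_apply (lam U hU) (homOfLE hW) s
  have e3 := QCoh.app_naturality_apply (Θ θ U hU) (homOfLE hW) ((lam U hU).app W s)
  refine e1.trans ?_
  rw [h]
  refine e3.symm.trans ?_
  exact congrArg _ e2.symm

theorem Rel.basicOpen (hP : RelProj.IsRelProj 𝒮 p chart)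
    (hF : RelProj.IsRelTilde 𝒮 p chart ℳ n F lam) (hG : RelProj.IsRelTilde 𝒮 p chart 𝒩 n G lam')
    (hθ : IsPointwise θ ϑ) {U : Y.Opens} {hU : IsAffineOpen U} (r : Γ(Y, U)) (V : Y.Opens)
    (hV : IsAffineOpen V) (hVr : V = Y.basicOpen r) {W : P.Opens} {s : Γ(F, W)} {t : Γ(G, W)}
    (h : Rel lam lam' θ U hU W s t) : Rel lam lam' θ V hV W s t := by
  subst hVr
  exact stepA hP hF hG hθ U hU r W s t h

/-- **Step B**: independence of the chart -/
theorem Rel.of_le (hP : RelProj.IsRelProj 𝒮 p chart)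
    (hF : RelProj.IsRelTilde 𝒮 p chart ℳ n F lam) (hG : RelProj.IsRelTilde 𝒮 p chart 𝒩 n G lam')
    (hθ : IsPointwise θ ϑ) {U₁ U₂ : Y.Opens} {hU₁ : IsAffineOpen U₁} (hU₂ : IsAffineOpen U₂)
    {W : P.Opens} (hW₁ : W ≤ p ⁻¹ᵁ U₁) (hW₂ : W ≤ p ⁻¹ᵁ U₂) {s : Γ(F, W)} {t : Γ(G, W)}
    (h : Rel lam lam' θ U₁ hU₁ W s t) : Rel lam lam' θ U₂ hU₂ W s t := by
  -- the candidate read on the chart over `U₂`
  obtain ⟨t₂, ht₂⟩ := (hG.bijective U₂ hU₂ W hW₂).2 ((Θ θ U₂ hU₂).app W ((lam U₂ hU₂).app W s))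
  have ht₂' : Rel lam lam' θ U₂ hU₂ W s t₂ := ht₂
  suffices t = t₂ by rw [this]; exact ht₂'
  -- local agreement
  have key : ∀ x : W, ∃ W'' : P.Opens, x.1 ∈ W'' ∧ ∃ hle : W'' ≤ W, res G hle t = res G hle t₂ := by
    intro x
    obtain ⟨r₁, r₂, hr, hx⟩ := exists_basicOpen_le_affine_inter hU₁ hU₂ (p x.1) ⟨hW₁ x.2, hW₂ x.2⟩
    have hV : IsAffineOpen (Y.basicOpen r₁) := hU₁.basicOpen r₁
    refine ⟨W ⊓ p ⁻¹ᵁ (Y.basicOpen r₁), ⟨x.2, hx⟩, inf_le_left, ?_⟩
    have h1 := Rel.basicOpen hP hF hG hθ r₁ _ hV rfl (h.restrict (inf_le_left : W ⊓ p ⁻¹ᵁ (Y.basicOpen r₁) ≤ W))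
    have h2 := Rel.basicOpen hP hF hG hθ r₂ _ hV hr (ht₂'.restrict (inf_le_left : W ⊓ p ⁻¹ᵁ (Y.basicOpen r₁) ≤ W))
    exact (hG.bijective _ hV _ inf_le_right).1 (h1.trans h2.symm)
  choose W'' hx hle hres using key
  refine QCoh.sections_ext_of_cover G W'' W hle ?_ t t₂ hres
  intro y hy
  exact Opens.mem_iSup.2 ⟨⟨y, hy⟩, hx ⟨y, hy⟩⟩

variable (p) in
/-- opens of `P` lying over an affine open of `Y` -/
def Good (W : P.Opens) : Prop := ∃ (U : Y.Opens) (_ : IsAffineOpen U), W ≤ p ⁻¹ᵁ U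

theorem good_basis (V : P.Opens) (x : P) (hx : x ∈ V) : ∃ W : P.Opens, Good p W ∧ x ∈ W ∧ W ≤ V := by
  obtain ⟨U, hU0, hxU, -⟩ := Opens.isBasis_iff_nbhd.1 (Y.isBasis_affineOpens)
    (show p x ∈ (⊤ : Y.Opens) from trivial)
  exact ⟨V ⊓ p ⁻¹ᵁ U, ⟨U, hU0, inf_le_right⟩, ⟨hx, hxU⟩, inf_le_left⟩

variable (lam θ) in
/-- the image of a section over a good open -/
noncomputable def phi (hG : RelProj.IsRelTilde 𝒮 p chart 𝒩 n G lam') (W : P.Opens) (hW : Good p W)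
    (s : Γ(F, W)) : Γ(G, W) :=
  ((hG.bijective hW.choose hW.choose_spec.choose W hW.choose_spec.choose_spec).2
    ((Θ θ hW.choose hW.choose_spec.choose).app W
      ((lam hW.choose hW.choose_spec.choose).app W s))).choose

theorem phi_rel (hP : RelProj.IsRelProj 𝒮 p chart)
    (hF : RelProj.IsRelTilde 𝒮 p chart ℳ n F lam) (hG : RelProj.IsRelTilde 𝒮 p chart 𝒩 n G lam')
    (hθ : IsPointwise θ ϑ) {W : P.Opens} (hW : Good p W) (s : Γ(F, W)) (U : Y.Opens)
    (hU : IsAffineOpen U) (hle : W ≤ p ⁻¹ᵁ U) :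
    Rel lam lam' θ U hU W s (phi lam θ hG W hW s) := by
  have h0 : Rel lam lam' θ hW.choose hW.choose_spec.choose W s (phi lam θ hG W hW s) :=
    ((hG.bijective hW.choose hW.choose_spec.choose W hW.choose_spec.choose_spec).2
      ((Θ θ hW.choose hW.choose_spec.choose).app W
        ((lam hW.choose hW.choose_spec.choose).app W s))).choose_spec
  exact h0.of_le hP hF hG hθ hU hW.choose_spec.choose_spec hle

theorem eq_phi_of_rel (hP : RelProj.IsRelProj 𝒮 p chart)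
    (hF : RelProj.IsRelTilde 𝒮 p chart ℳ n F lam) (hG : RelProj.IsRelTilde 𝒮 p chart 𝒩 n G lam')
    (hθ : IsPointwise θ ϑ) {W : P.Opens} (hW : Good p W) {s : Γ(F, W)} {t : Γ(G, W)} {U : Y.Opens}
    {hU : IsAffineOpen U} (hle : W ≤ p ⁻¹ᵁ U) (h : Rel lam lam' θ U hU W s t) :
    t = phi lam θ hG W hW s :=
  (hG.bijective U hU W hle).1 (h.trans (phi_rel hP hF hG hθ hW s U hU hle).symm)

/-- restriction between opens with the same points is injective -/
theorem map_injective_of_le {X : Scheme.{u}} (N : X.Modules) {V' V : X.Opens} (i : V' ⟶ V)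
    (h' : V ≤ V') : Function.Injective (N.presheaf.map i.op) := by
  obtain rfl : V' = V := le_antisymm i.le h'
  have : i = 𝟙 _ := Subsingleton.elim _ _
  subst this
  intro a b hab
  simpa using hab

/-- **existence of the morphism with given chartwise, pointwise description** -/
theorem exists_hom (hP : RelProj.IsRelProj 𝒮 p chart)
    (hF : RelProj.IsRelTilde 𝒮 p chart ℳ n F lam) (hG : RelProj.IsRelTilde 𝒮 p chart 𝒩 n G lam')
    (hθ : IsPointwise θ ϑ) :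
    ∃ ut : F ⟶ G, ∀ (U : Y.Opens) (hU : IsAffineOpen U),
      ut ≫ lam' U hU = lam U hU ≫ Θ θ U hU := by
  obtain ⟨ψ, hnat, hψ⟩ := exists_family F G (Good p) good_basis (phi lam θ hG)
    (fun W' W => W' ≤ W) (fun h => h)
    (fun {W' W} hW' hW h a => by
      obtain ⟨U, hU, hle⟩ := hW
      exact (eq_phi_of_rel hP hF hG hθ hW' (h.trans hle)
        ((phi_rel hP hF hG hθ ⟨U, hU, hle⟩ a U hU hle).restrict h)).symm)
    (fun W₁ W₂ hW₁ _ x hx => by
      obtain ⟨U, hU, hle⟩ := hW₁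
      exact ⟨W₁ ⊓ W₂, ⟨U, hU, inf_le_left.trans hle⟩, hx, inf_le_left, inf_le_right⟩)
  -- additivity and linearity on good opens
  have hadd0 : ∀ (W : P.Opens) (hW : Good p W) (a b : Γ(F, W)),
      phi lam θ hG W hW (a + b) = phi lam θ hG W hW a + phi lam θ hG W hW b := by
    intro W hW a b
    obtain ⟨U, hU, hle⟩ := hW
    refine (eq_phi_of_rel hP hF hG hθ ⟨U, hU, hle⟩ (hU := hU) hle ?_).symm
    have ha := phi_rel hP hF hG hθ ⟨U, hU, hle⟩ a U hU hle
    have hb := phi_rel hP hF hG hθ ⟨U, hU, hle⟩ b U hU hle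
    unfold Rel at ha hb ⊢
    rw [map_add, map_add, map_add, ha, hb]
  have hsmul0 : ∀ (W : P.Opens) (hW : Good p W) (r : Γ(P, W)) (a : Γ(F, W)),
      phi lam θ hG W hW (r • a) = r • phi lam θ hG W hW a := by
    intro W hW r a
    obtain ⟨U, hU, hle⟩ := hW
    refine (eq_phi_of_rel hP hF hG hθ ⟨U, hU, hle⟩ (hU := hU) hle ?_).symm
    have ha := phi_rel hP hF hG hθ ⟨U, hU, hle⟩ a U hU hle
    unfold Rel at ha ⊢
    rw [Scheme.Modules.Hom.app_smul, Scheme.Modules.Hom.app_smul, Scheme.Modules.Hom.app_smul, ha]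
  have hadd : ∀ (U : P.Opens) (a b : Γ(F, U)), ψ U (a + b) = ψ U a + ψ U b := by
    intro U a b
    refine eq_of_good G (Good p) good_basis _ _ fun W hW hWU => ?_
    rw [res_add, ← hnat hWU, ← hnat hWU, ← hnat hWU, res_add, hψ W hW, hψ W hW, hψ W hW, hadd0]
  have hsmul : ∀ (U : P.Opens) (r : Γ(P, U)) (a : Γ(F, U)), ψ U (r • a) = r • ψ U a := by
    intro U r a
    refine eq_of_good G (Good p) good_basis _ _ fun W hW hWU => ?_
    rw [res_smul, ← hnat hWU, ← hnat hWU, res_smul, hψ W hW, hψ W hW, hsmul0]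
  refine ⟨homOfFamily ψ hnat hadd hsmul, fun U hU => ?_⟩
  apply Scheme.Modules.hom_ext
  intro Ω
  ext a
  change (lam' U hU).app Ω (ψ Ω a) = (Θ θ U hU).app Ω ((lam U hU).app Ω a)
  have hle : Ω ⊓ p ⁻¹ᵁ U ≤ Ω := inf_le_left
  have hinj := map_injective_of_le (GrMod.tilde (𝒮.deg U hU) (𝒩.deg U hU) n)
    ((Opens.map (RelProj.emb p chart U hU).base).map (homOfLE hle))
    (by
      intro z hz
      refine ⟨hz, ?_⟩
      exact RelTw.emb_image_le (p := p) (chart := chart) U hU ⊤ ⟨z, trivial, rfl⟩)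
  apply hinj
  have e1 := QCoh.app_naturality_apply (lam' U hU) (homOfLE hle) (ψ Ω a)
  have e2 := QCoh.app_naturality_apply (lam U hU) (homOfLE hle) a
  have e3 := QCoh.app_naturality_apply (Θ θ U hU) (homOfLE hle) ((lam U hU).app Ω a)
  refine e1.symm.trans ?_
  refine Eq.trans ?_ e3
  have hgood : Good p (Ω ⊓ p ⁻¹ᵁ U) := ⟨U, hU, inf_le_right⟩
  have h4 := phi_rel hP hF hG hθ hgood (res F hle a) U hU inf_le_right
  unfold Rel at h4
  have h5 : F.presheaf.map (homOfLE hle).op a = res F hle a := rfl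
  have h6 : G.presheaf.map (homOfLE hle).op (ψ Ω a) = phi lam θ hG _ hgood (res F hle a) := by
    rw [← hψ _ hgood, hnat hle]
  rw [h6, h4, e2]

/-- a morphism into `(𝒩(n))~` is determined by its composites with the chart identifications -/
theorem hom_ext_lam (hG : RelProj.IsRelTilde 𝒮 p chart 𝒩 n G lam') {F' : P.Modules} {φ ψ : F' ⟶ G}
    (h : ∀ (U : Y.Opens) (hU : IsAffineOpen U), φ ≫ lam' U hU = ψ ≫ lam' U hU) : φ = ψ := by
  refine QCoh.hom_ext_of_isBasis _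
    (isBasis_range_basicImages (𝒮 := 𝒮) (p := p) (chart := chart)) φ ψ ?_
  rintro ⟨W, U, hU, d, hd, f, rfl⟩
  have hle := RelTw.emb_image_le (p := p) (chart := chart) U hU (Proj.basicOpen (𝒮.deg U hU) f.1)
  ext a
  apply (hG.bijective U hU _ hle).1
  have := congrArg (fun χ => Scheme.Modules.Hom.app χ
    ((RelProj.emb p chart U hU) ''ᵁ (Proj.basicOpen (𝒮.deg U hU) f.1))) (h U hU)
  simp only [Scheme.Modules.Hom.comp_app] at this
  exact ConcreteCategory.congr_hom this a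

end Groth.Agent.Lib.Proj.RelTl
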