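import Groth.Agent.Lib.Proj.Helper66_RelTildeHom

/-!
# Uniqueness of `(ℳ(n))~` and the morphism `ũ` induced by a graded homomorphism (helper66)
-/

universe u
open CategoryTheory CategoryTheory.Limits AlgebraicGeometry TopologicalSpace Opposite

namespace Groth.Agent.Lib.Proj.RelTl

open RelProj

variable {Y P : Scheme.{u}} {𝒮 : RelProj.QCGrAlg Y} {p : P ⟶ Y}
  {chart : ∀ (U : Y.Opens) (hU : IsAffineOpen U),
    (((p ⁻¹ᵁ U : P.Opens) : Scheme.{u}) ≅ Proj (𝒮.deg U hU))}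
  {ℳ 𝒩 : RelProj.GrModule 𝒮} {n : ℤ} {F G : P.Modules}
  {lam : ∀ (U : Y.Opens) (hU : IsAffineOpen U),
      F ⟶ (Scheme.Modules.pushforward (RelProj.emb p chart U hU)).obj
        (GrMod.tilde (𝒮.deg U hU) (ℳ.deg U hU) n)}
  {lam' : ∀ (U : Y.Opens) (hU : IsAffineOpen U),
      G ⟶ (Scheme.Modules.pushforward (RelProj.emb p chart U hU)).obj
        (GrMod.tilde (𝒮.deg U hU) (𝒩.deg U hU) n)}

/-- the chartwise morphisms induced by a graded homomorphism act pointwise -/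
theorem isPointwise_map (u : ℳ.mod ⟶ 𝒩.mod) (hu : RelProj.IsGrModHom u) :
    IsPointwise (n := n)
      (fun U hU => GrMod.map (𝒮.deg U hU) (uAt u U) (hu U hU) n)
      (fun U _ x => GrMod.locMap (uAt u U) x) where
  val_app U hU Ω σ x := rfl
  compat U hU r y q := by
    induction q using LocalizedModule.induction_on with
    | h m s =>
      rw [GrMod.locModMap_mk, GrMod.locMap_mk, GrMod.locMap_mk, GrMod.locModMap_mk]
      congr 1
      simp only [RelProj.GrModule.res_apply]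
      exact PresheafOfModules.naturality_apply u.val (homOfLE (Y.basicOpen_le r)).op m

/-- **existence and uniqueness of `ũ`** -/
theorem existsUnique_map (hP : RelProj.IsRelProj 𝒮 p chart)
    (hF : RelProj.IsRelTilde 𝒮 p chart ℳ n F lam) (hG : RelProj.IsRelTilde 𝒮 p chart 𝒩 n G lam')
    (u : ℳ.mod ⟶ 𝒩.mod) (hu : RelProj.IsGrModHom u) :
    ∃! ut : F ⟶ G, ∀ (U : Y.Opens) (hU : IsAffineOpen U),
      ut ≫ lam' U hU =
        lam U hU ≫ (Scheme.Modules.pushforward (RelProj.emb p chart U hU)).map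
          (GrMod.map (𝒮.deg U hU) (uAt u U) (hu U hU) n) := by
  obtain ⟨ut, hut⟩ := exists_hom hP hF hG (isPointwise_map u hu)
  refine ⟨ut, hut, fun ut' hut' => ?_⟩
  exact hom_ext_lam hG fun U hU => (hut' U hU).trans (hut U hU).symm

/-- the identity acts pointwise -/
theorem isPointwise_id :
    IsPointwise (ℳ := ℳ) (𝒩 := ℳ) (n := n) (fun U hU => 𝟙 _) (fun _ _ _ q => q) where
  val_app U hU Ω σ x := rfl
  compat U hU r y q := rfl

/-- a comparison map between two incarnations of `(ℳ(n))~` -/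
theorem exists_comparison (hP : RelProj.IsRelProj 𝒮 p chart)
    {F' : P.Modules}
    {lam'' : ∀ (U : Y.Opens) (hU : IsAffineOpen U),
      F' ⟶ (Scheme.Modules.pushforward (RelProj.emb p chart U hU)).obj
        (GrMod.tilde (𝒮.deg U hU) (ℳ.deg U hU) n)}
    (hF : RelProj.IsRelTilde 𝒮 p chart ℳ n F lam) (hF' : RelProj.IsRelTilde 𝒮 p chart ℳ n F' lam'') :
    ∃ φ : F ⟶ F', ∀ (U : Y.Opens) (hU : IsAffineOpen U), φ ≫ lam'' U hU = lam U hU := by
  obtain ⟨φ, hφ⟩ := exists_hom hP hF hF' isPointwise_id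
  refine ⟨φ, fun U hU => ?_⟩
  rw [hφ U hU]
  change lam U hU ≫ (Scheme.Modules.pushforward (RelProj.emb p chart U hU)).map (𝟙 _) = _
  rw [CategoryTheory.Functor.map_id, Category.comp_id]

/-- **uniqueness of `(ℳ(n))~` up to unique isomorphism** -/
theorem unique_iso (hP : RelProj.IsRelProj 𝒮 p chart)
    {F' : P.Modules}
    {lam'' : ∀ (U : Y.Opens) (hU : IsAffineOpen U),
      F' ⟶ (Scheme.Modules.pushforward (RelProj.emb p chart U hU)).obj
        (GrMod.tilde (𝒮.deg U hU) (ℳ.deg U hU) n)}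
    (hF : RelProj.IsRelTilde 𝒮 p chart ℳ n F lam) (hF' : RelProj.IsRelTilde 𝒮 p chart ℳ n F' lam'') :
    (∃! φ : F ⟶ F', ∀ (U : Y.Opens) (hU : IsAffineOpen U), φ ≫ lam'' U hU = lam U hU) ∧
      ∀ φ : F ⟶ F', (∀ (U : Y.Opens) (hU : IsAffineOpen U), φ ≫ lam'' U hU = lam U hU) → IsIso φ := by
  obtain ⟨φ₀, hφ₀⟩ := exists_comparison hP hF hF'
  obtain ⟨ψ₀, hψ₀⟩ := exists_comparison hP hF' hF
  refine ⟨⟨φ₀, hφ₀, fun φ hφ => hom_ext_lam hF' fun U hU => (hφ U hU).trans (hφ₀ U hU).symm⟩, ?_⟩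
  intro φ hφ
  refine ⟨ψ₀, ?_, ?_⟩
  · refine hom_ext_lam hF fun U hU => ?_
    rw [Category.assoc, hψ₀ U hU, hφ U hU, Category.id_comp]
  · refine hom_ext_lam hF' fun U hU => ?_
    rw [Category.assoc, hφ U hU, hψ₀ U hU, Category.id_comp]

end Groth.Agent.Lib.Proj.RelTl
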