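import Groth.Agent.Lib.Proj.Helper66_RelTilde
import Groth.Agent.Lib.Proj.Helper66_GrModExact
import Groth.Agent.Lib.QCoh.Helper50_AffineDict

/-!
# Maps between the modules `(ℳ(n))~` on a relative Proj: exactness, mono, epi (helper66)

ns `Groth.Agent.Lib.Proj.RelTl`.
-/

universe u
open CategoryTheory CategoryTheory.Limits AlgebraicGeometry TopologicalSpace Opposite

namespace Groth.Agent.Lib.QCoh

/-- a short complex of modules is exact if it is exact on sections over a basis of opens -/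
theorem exact_of_exact_on_basis {X : Scheme.{u}} (S : ShortComplex X.Modules) {ι : Type*}
    (B : ι → X.Opens) (hB : Opens.IsBasis (Set.range B))
    (h : ∀ i, Function.Exact (S.f.app (B i)) (S.g.app (B i))) : S.Exact := by
  rw [S.exact_iff_epi_kernel_lift]
  refine epi_of_surjective_of_isBasis B hB _ fun i n => ?_
  have hm : S.g.app (B i) ((kernel.ι S.g).app (B i) n) = 0 := by
    rw [← ConcreteCategory.comp_apply, ← Scheme.Modules.Hom.comp_app, kernel.condition]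
    rfl
  obtain ⟨x, hx⟩ := (h i _).1 hm
  refine ⟨x, ?_⟩
  apply app_injective_of_mono (kernel.ι S.g) (B i)
  rw [← hx, ← ConcreteCategory.comp_apply, ← Scheme.Modules.Hom.comp_app, kernel.lift_ι]

end Groth.Agent.Lib.QCoh

namespace Groth.Agent.Lib.Proj.RelTl

open RelProj

variable {Y P : Scheme.{u}} {𝒮 : RelProj.QCGrAlg Y} {p : P ⟶ Y}
  {chart : ∀ (U : Y.Opens) (hU : IsAffineOpen U),
    (((p ⁻¹ᵁ U : P.Opens) : Scheme.{u}) ≅ Proj (𝒮.deg U hU))}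

variable (𝒮 p chart) in
/-- the opens `emb_U(D₊(f))`, `U` affine, `f ∈ 𝒮(U)_d`, `d > 0` -/
def basicImages : Set P.Opens :=
  {W | ∃ (U : Y.Opens) (hU : IsAffineOpen U) (d : ℕ) (_ : 0 < d) (f : 𝒮.deg U hU d),
    W = (RelProj.emb p chart U hU) ''ᵁ (Proj.basicOpen (𝒮.deg U hU) f.1)}

theorem isBasis_basicImages : Opens.IsBasis (basicImages 𝒮 p chart) := by
  rw [Opens.isBasis_iff_nbhd]
  intro W x hx
  obtain ⟨U, hU0, hxU, -⟩ := Opens.isBasis_iff_nbhd.1 (Y.isBasis_affineOpens)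
    (show p x ∈ (⊤ : Y.Opens) from trivial)
  have hU : IsAffineOpen U := hU0
  have hy : (chart U hU).hom ⟨x, hxU⟩ ∈ (RelProj.emb p chart U hU) ⁻¹ᵁ W := by
    change (RelProj.emb p chart U hU) ((chart U hU).hom ⟨x, hxU⟩) ∈ W
    rw [RelTw.emb_chart_hom U hU ⟨x, hxU⟩]
    exact hx
  obtain ⟨d, hd, f, hf, hyf, hle⟩ :=
    GrGlue.exists_pos_homogeneous_basicOpen_le (𝒮.deg U hU) _ _ hy
  refine ⟨_, ⟨U, hU, d, hd, ⟨f, hf⟩, rfl⟩, ⟨_, hyf, RelTw.emb_chart_hom U hU ⟨x, hxU⟩⟩, ?_⟩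
  rintro _ ⟨z, hz, rfl⟩
  exact hle hz

theorem isBasis_range_basicImages :
    Opens.IsBasis (Set.range (fun W : basicImages 𝒮 p chart => (W : P.Opens))) := by
  rw [Subtype.range_coe_subtype]
  exact isBasis_basicImages

variable {ℳ 𝒩 : RelProj.GrModule 𝒮} {n : ℤ} {F G : P.Modules}
  {lam : ∀ (U : Y.Opens) (hU : IsAffineOpen U),
      F ⟶ (Scheme.Modules.pushforward (RelProj.emb p chart U hU)).obj
        (GrMod.tilde (𝒮.deg U hU) (ℳ.deg U hU) n)}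
  {lam' : ∀ (U : Y.Opens) (hU : IsAffineOpen U),
      G ⟶ (Scheme.Modules.pushforward (RelProj.emb p chart U hU)).obj
        (GrMod.tilde (𝒮.deg U hU) (𝒩.deg U hU) n)}

/-- the chartwise map of graded modules over an affine open -/
abbrev uAt (u : ℳ.mod ⟶ 𝒩.mod) (U : Y.Opens) :
    ℳ.mod.val.obj (op U) →ₗ[𝒮.presheaf.obj (op U)] 𝒩.mod.val.obj (op U) :=
  (u.val.app (op U)).hom

/-- the pinning condition, evaluated on sections -/
theorem app_comm {u : ℳ.mod ⟶ 𝒩.mod} {hu : RelProj.IsGrModHom u} {ut : F ⟶ G}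
    (hut : ∀ (U : Y.Opens) (hU : IsAffineOpen U),
      ut ≫ lam' U hU =
        lam U hU ≫ (Scheme.Modules.pushforward (RelProj.emb p chart U hU)).map
          (GrMod.map (𝒮.deg U hU) (uAt u U) (hu U hU) n))
    (U : Y.Opens) (hU : IsAffineOpen U) (W : P.Opens) (s : Γ(F, W)) :
    (lam' U hU).app W (ut.app W s) =
      (GrMod.map (𝒮.deg U hU) (uAt u U) (hu U hU) n).app ((RelProj.emb p chart U hU) ⁻¹ᵁ W)
        ((lam U hU).app W s) := by
  have h := congrArg (fun φ => Scheme.Modules.Hom.app φ W) (hut U hU)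
  simp only [Scheme.Modules.Hom.comp_app] at h
  exact ConcreteCategory.congr_hom h s

/-- the preimage under `emb` of a basic image is the basic open -/
theorem preimage_image_basicOpen (U : Y.Opens) (hU : IsAffineOpen U) (V : (Proj (𝒮.deg U hU)).Opens) :
    (RelProj.emb p chart U hU) ⁻¹ᵁ ((RelProj.emb p chart U hU) ''ᵁ V) = V :=
  Scheme.Hom.preimage_image_eq _ V

section ring

variable {A σ : Type u} [CommRing A] [SetLike σ A] [AddSubgroupClass σ A] (𝒜 : ℕ → σ) [GradedRing 𝒜]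
variable {M τ : Type u} [AddCommGroup M] [Module A M] [SetLike τ M] [AddSubgroupClass τ M]
  {ℳ' : ℕ → τ} [DirectSum.Decomposition ℳ'] [SetLike.GradedSMul 𝒜 ℳ']
variable {N τ' : Type u} [AddCommGroup N] [Module A N] [SetLike τ' N] [AddSubgroupClass τ' N]
  {𝒩' : ℕ → τ'} [DirectSum.Decomposition 𝒩'] [SetLike.GradedSMul 𝒜 𝒩']
variable {L τ'' : Type u} [AddCommGroup L] [Module A L] [SetLike τ'' L] [AddSubgroupClass τ'' L]
  {ℒ' : ℕ → τ''} [DirectSum.Decomposition ℒ'] [SetLike.GradedSMul 𝒜 ℒ']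

theorem exact_app_of_eq (u : M →ₗ[A] N) (hu : ∀ (i : ℕ) (m : M), m ∈ ℳ' i → u m ∈ 𝒩' i)
    (v : N →ₗ[A] L) (hv : ∀ (i : ℕ) (m : N), m ∈ 𝒩' i → v m ∈ ℒ' i)
    (hex : Function.Exact u v) (n : ℤ) {d : ℕ} (hd : 0 < d) (f : A) (hf : f ∈ 𝒜 d)
    (V : (Proj 𝒜).Opens) (hV : V = Proj.basicOpen 𝒜 f) :
    Function.Exact ((GrMod.map 𝒜 u hu n).app V) ((GrMod.map 𝒜 v hv n).app V) := by
  subst hV
  exact GrModExact.exact_app_basicOpen 𝒜 u hu v hv hex n hd f hf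

theorem injective_app_of_eq (u : M →ₗ[A] N) (hu : ∀ (i : ℕ) (m : M), m ∈ ℳ' i → u m ∈ 𝒩' i)
    (hinj : ∃ n₀ : ℕ, ∀ k : ℕ, n₀ ≤ k → ∀ m ∈ ℳ' k, u m = 0 → m = 0)
    (n : ℤ) {d : ℕ} (hd : 0 < d) (f : A) (hf : f ∈ 𝒜 d)
    (V : (Proj 𝒜).Opens) (hV : V = Proj.basicOpen 𝒜 f) :
    Function.Injective ((GrMod.map 𝒜 u hu n).app V) := by
  subst hV
  exact GrModExact.map_app_injective 𝒜 u hu hinj n hd f hf

theorem surjective_app_of_eq (u : M →ₗ[A] N) (hu : ∀ (i : ℕ) (m : M), m ∈ ℳ' i → u m ∈ 𝒩' i)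
    (hsurj : ∃ n₀ : ℕ, ∀ k : ℕ, n₀ ≤ k → ∀ m' ∈ 𝒩' k, ∃ m ∈ ℳ' k, u m = m')
    (n : ℤ) {d : ℕ} (hd : 0 < d) (f : A) (hf : f ∈ 𝒜 d)
    (V : (Proj 𝒜).Opens) (hV : V = Proj.basicOpen 𝒜 f) :
    Function.Surjective ((GrMod.map 𝒜 u hu n).app V) := by
  subst hV
  exact GrModExact.map_app_surjective 𝒜 u hu hsurj n hd f hf

end ring

/-- **(TN)-injective ⇒ mono** -/
theorem mono_of_isTNInjective (hF : RelProj.IsRelTilde 𝒮 p chart ℳ n F lam)
    (hG : RelProj.IsRelTilde 𝒮 p chart 𝒩 n G lam')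
    {u : ℳ.mod ⟶ 𝒩.mod} {hu : RelProj.IsGrModHom u} {ut : F ⟶ G}
    (hut : ∀ (U : Y.Opens) (hU : IsAffineOpen U),
      ut ≫ lam' U hU =
        lam U hU ≫ (Scheme.Modules.pushforward (RelProj.emb p chart U hU)).map
          (GrMod.map (𝒮.deg U hU) (uAt u U) (hu U hU) n))
    (hinj : ∃ n₀ : ℕ, ∀ (U : Y.Opens) (hU : IsAffineOpen U) (k : ℕ), n₀ ≤ k →
      ∀ m ∈ ℳ.deg U hU k, (u.val.app (op U)).hom m = 0 → m = 0) : Mono ut := by
  obtain ⟨n₀, hn₀⟩ := hinj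
  refine QCoh.mono_of_injective_of_isBasis _
    (isBasis_range_basicImages (𝒮 := 𝒮) (p := p) (chart := chart)) ut ?_
  rintro ⟨W, U, hU, d, hd, f, rfl⟩
  have hle := RelTw.emb_image_le (p := p) (chart := chart) U hU (Proj.basicOpen (𝒮.deg U hU) f.1)
  have hinjU := injective_app_of_eq (𝒮.deg U hU) (uAt u U) (hu U hU)
    ⟨n₀, fun k hk m hm h0 => hn₀ U hU k hk m hm h0⟩ n hd f.1 f.2 _
    (preimage_image_basicOpen (p := p) (chart := chart) U hU _)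
  intro s t hst
  apply (hF.bijective U hU _ hle).1
  apply hinjU
  rw [← app_comm hut U hU _ s, ← app_comm hut U hU _ t]
  exact congrArg _ hst

/-- **(TN)-surjective ⇒ epi** -/
theorem epi_of_isTNSurjective (hF : RelProj.IsRelTilde 𝒮 p chart ℳ n F lam)
    (hG : RelProj.IsRelTilde 𝒮 p chart 𝒩 n G lam')
    {u : ℳ.mod ⟶ 𝒩.mod} {hu : RelProj.IsGrModHom u} {ut : F ⟶ G}
    (hut : ∀ (U : Y.Opens) (hU : IsAffineOpen U),
      ut ≫ lam' U hU =
        lam U hU ≫ (Scheme.Modules.pushforward (RelProj.emb p chart U hU)).map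
          (GrMod.map (𝒮.deg U hU) (uAt u U) (hu U hU) n))
    (hsurj : ∃ n₀ : ℕ, ∀ (U : Y.Opens) (hU : IsAffineOpen U) (k : ℕ), n₀ ≤ k →
      ∀ m' ∈ 𝒩.deg U hU k, ∃ m ∈ ℳ.deg U hU k, (u.val.app (op U)).hom m = m') : Epi ut := by
  obtain ⟨n₀, hn₀⟩ := hsurj
  refine QCoh.epi_of_surjective_of_isBasis _
    (isBasis_range_basicImages (𝒮 := 𝒮) (p := p) (chart := chart)) ut ?_
  rintro ⟨W, U, hU, d, hd, f, rfl⟩
  have hle := RelTw.emb_image_le (p := p) (chart := chart) U hU (Proj.basicOpen (𝒮.deg U hU) f.1)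
  have hsurjU := surjective_app_of_eq (𝒮.deg U hU) (uAt u U) (hu U hU)
    ⟨n₀, fun k hk m hm => hn₀ U hU k hk m hm⟩ n hd f.1 f.2 _
    (preimage_image_basicOpen (p := p) (chart := chart) U hU _)
  intro t
  obtain ⟨x', hx'⟩ := hsurjU ((lam' U hU).app _ t)
  obtain ⟨x, rfl⟩ := (hF.bijective U hU _ hle).2 x'
  refine ⟨x, ?_⟩
  apply (hG.bijective U hU _ hle).1
  rw [app_comm hut U hU _ x]
  exact hx'

/-- **exactness of `ℳ ↦ (ℳ(n))~`** -/
theorem exact_of_exact {ℳ₁ ℳ₂ ℳ₃ : RelProj.GrModule 𝒮} {F₁ F₂ F₃ : P.Modules}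
    {lam₁ : ∀ (U : Y.Opens) (hU : IsAffineOpen U),
      F₁ ⟶ (Scheme.Modules.pushforward (RelProj.emb p chart U hU)).obj
        (GrMod.tilde (𝒮.deg U hU) (ℳ₁.deg U hU) n)}
    {lam₂ : ∀ (U : Y.Opens) (hU : IsAffineOpen U),
      F₂ ⟶ (Scheme.Modules.pushforward (RelProj.emb p chart U hU)).obj
        (GrMod.tilde (𝒮.deg U hU) (ℳ₂.deg U hU) n)}
    {lam₃ : ∀ (U : Y.Opens) (hU : IsAffineOpen U),
      F₃ ⟶ (Scheme.Modules.pushforward (RelProj.emb p chart U hU)).obj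
        (GrMod.tilde (𝒮.deg U hU) (ℳ₃.deg U hU) n)}
    (hF₁ : RelProj.IsRelTilde 𝒮 p chart ℳ₁ n F₁ lam₁)
    (hF₂ : RelProj.IsRelTilde 𝒮 p chart ℳ₂ n F₂ lam₂)
    (hF₃ : RelProj.IsRelTilde 𝒮 p chart ℳ₃ n F₃ lam₃)
    {u : ℳ₁.mod ⟶ ℳ₂.mod} {hu : RelProj.IsGrModHom u} {v : ℳ₂.mod ⟶ ℳ₃.mod}
    {hv : RelProj.IsGrModHom v}
    (hex : ∀ (U : Y.Opens) (hU : IsAffineOpen U),
      Function.Exact (u.val.app (op U)).hom (v.val.app (op U)).hom)
    {ut : F₁ ⟶ F₂}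
    (hut : ∀ (U : Y.Opens) (hU : IsAffineOpen U),
      ut ≫ lam₂ U hU =
        lam₁ U hU ≫ (Scheme.Modules.pushforward (RelProj.emb p chart U hU)).map
          (GrMod.map (𝒮.deg U hU) (uAt u U) (hu U hU) n))
    {vt : F₂ ⟶ F₃}
    (hvt : ∀ (U : Y.Opens) (hU : IsAffineOpen U),
      vt ≫ lam₃ U hU =
        lam₂ U hU ≫ (Scheme.Modules.pushforward (RelProj.emb p chart U hU)).map
          (GrMod.map (𝒮.deg U hU) (uAt v U) (hv U hU) n))
    (w : ut ≫ vt = 0) : (ShortComplex.mk ut vt w).Exact := by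
  refine QCoh.exact_of_exact_on_basis _ _
    (isBasis_range_basicImages (𝒮 := 𝒮) (p := p) (chart := chart)) ?_
  rintro ⟨W, U, hU, d, hd, f, rfl⟩
  have hle := RelTw.emb_image_le (p := p) (chart := chart) U hU (Proj.basicOpen (𝒮.deg U hU) f.1)
  have hexU := exact_app_of_eq (𝒮.deg U hU) (uAt u U) (hu U hU) (uAt v U) (hv U hU) (hex U hU)
    n hd f.1 f.2 _ (preimage_image_basicOpen (p := p) (chart := chart) U hU _)
  intro y
  change vt.app _ y = 0 ↔ y ∈ Set.range (ut.app _)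
  constructor
  · intro hy
    have h1 : (GrMod.map (𝒮.deg U hU) (uAt v U) (hv U hU) n).app _ ((lam₂ U hU).app _ y) = 0 := by
      rw [← app_comm hvt U hU _ y, hy, map_zero]
      rfl
    obtain ⟨x', hx'⟩ := (hexU _).1 h1
    obtain ⟨x, rfl⟩ := (hF₁.bijective U hU _ hle).2 x'
    refine ⟨x, ?_⟩
    apply (hF₂.bijective U hU _ hle).1
    rw [app_comm hut U hU _ x]
    exact hx'
  · rintro ⟨x, rfl⟩
    rw [← ConcreteCategory.comp_apply, ← Scheme.Modules.Hom.comp_app, w]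
    rfl

end Groth.Agent.Lib.Proj.RelTl
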