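import Groth.Agent.Lib.Proj.Helper66_RelTilde
import Groth.Agent.Lib.Proj.Helper66_GrModTN
import Groth.Agent.Lib.Proj.Helper66_GrModComap
import Groth.Agent.Lib.Helper22.QCohLoc
import Groth.Agent.Lib.QCoh.Helper50_FlatBC

/-!
# `ℳ~ = 0` and (TF) ⇒ (TN) on a quasi-compact base (helper66)

ns `Groth.Agent.Lib.Proj.RelTl`.
-/

universe u
open CategoryTheory CategoryTheory.Limits AlgebraicGeometry TopologicalSpace Opposite

namespace Groth.Agent.Lib.Proj.RelTl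

open RelProj

variable {Y P : Scheme.{u}} {𝒮 : RelProj.QCGrAlg Y} {p : P ⟶ Y}
  {chart : ∀ (U : Y.Opens) (hU : IsAffineOpen U),
    (((p ⁻¹ᵁ U : P.Opens) : Scheme.{u}) ≅ Proj (𝒮.deg U hU))}
  {ℳ : RelProj.GrModule 𝒮} {F : P.Modules}
  {lam : ∀ (U : Y.Opens) (hU : IsAffineOpen U),
      F ⟶ (Scheme.Modules.pushforward (RelProj.emb p chart U hU)).obj
        (GrMod.tilde (𝒮.deg U hU) (ℳ.deg U hU) 0)}

theorem fg_span_deg_one (hft : 𝒮.IsFTDeg 1) (U : Y.Opens) (hU : IsAffineOpen U) :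
    (Ideal.span ((𝒮.deg U hU 1 : Set (𝒮.presheaf.obj (op U))))).FG := by
  obtain ⟨T, hTsub, hT⟩ := hft U hU
  refine ⟨T, le_antisymm (Ideal.span_mono hTsub) (Ideal.span_le.2 fun x hx => ?_)⟩
  obtain ⟨c, hc⟩ := hT x hx
  rw [hc]
  exact Ideal.sum_mem _ fun t ht => Ideal.mul_mem_left _ _ (Ideal.subset_span ht)

/-- the bound over one affine open -/
theorem exists_bound_affine (hgen : 𝒮.IsGenDegOne) (hft : 𝒮.IsFTDeg 1) {n₀ : ℕ}
    (hn₀ : ∀ (U : Y.Opens) (hU : IsAffineOpen U),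
      (Submodule.span (𝒮.presheaf.obj (op U))
        (⋃ k ∈ Set.Ici n₀, (ℳ.deg U hU k : Set (ℳ.mod.val.obj (op U))))).FG)
    (hF : RelProj.IsRelTilde 𝒮 p chart ℳ 0 F lam) (h0 : IsZero F)
    (U : Y.Opens) (hU : IsAffineOpen U) :
    ∃ N : ℕ, ∀ k, N ≤ k → ∀ m ∈ ℳ.deg U hU k, m = 0 := by
  have hz : IsZero (GrMod.tilde (𝒮.deg U hU) (ℳ.deg U hU) 0) := by
    refine IsZero.of_iso ?_ (restrictEmbIso hF U hU).symm
    exact (Scheme.Modules.restrictFunctor (RelProj.emb p chart U hU)).map_isZero h0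
  exact GrModTN.exists_bound_of_isZero (𝒮.deg U hU) (ℳ.deg U hU) (hgen U hU)
    (fg_span_deg_one hft U hU) n₀ (hn₀ U hU) hz

/-- vanishing of a graded piece over an affine open passes to its basic opens (quasi-coherence) -/
theorem deg_basicOpen_eq_zero (hℳ : Coh.IsQCoh ((AMod.toOS 𝒮.toQCAlg).obj ℳ.mod)) {U : Y.Opens}
    (hU : IsAffineOpen U) (k : ℕ) (hk : ∀ m ∈ ℳ.deg U hU k, m = 0) (r : Γ(Y, U))
    (D : Y.Opens) (hD : IsAffineOpen D) (hDr : D = Y.basicOpen r) :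
    ∀ y ∈ ℳ.deg D hD k, y = 0 := by
  subst hDr
  intro y hy
  have : ((AMod.toOS 𝒮.toQCAlg).obj ℳ.mod).IsQuasicoherent := hℳ
  obtain ⟨y', hy'⟩ : ∃ y' : Γ((AMod.toOS 𝒮.toQCAlg).obj ℳ.mod, Y.basicOpen r), y' = y := ⟨y, rfl⟩
  obtain ⟨n, x, hx⟩ := Groth.Agent.Lib.Helper22.exists_pow_smul_eq_map_of_isAffineOpen
    ((AMod.toOS 𝒮.toQCAlg).obj ℳ.mod) hU r y'
  obtain ⟨x₀, hx₀⟩ : ∃ x₀ : ℳ.mod.val.obj (op U), x₀ = x := ⟨x, rfl⟩
  obtain ⟨ρ, hρ⟩ : ∃ ρ : 𝒮.presheaf.obj (op (Y.basicOpen r)),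
      ρ = (𝒮.str.app (op (Y.basicOpen r))).hom
        ((Y.presheaf.map (homOfLE (Y.basicOpen_le r)).op).hom r ^ n) := ⟨_, rfl⟩
  have hres : ℳ.res hU hD (Y.basicOpen_le r) x₀ = ρ • y := by
    rw [hx₀, hρ, ← hy']
    exact hx
  have hρ0 : ρ ∈ 𝒮.deg (Y.basicOpen r) hD 0 := hρ ▸ 𝒮.str_mem _ hD _
  have hρy : ρ • y ∈ ℳ.deg (Y.basicOpen r) hD k := by
    have := SetLike.GradedSMul.smul_mem (A := 𝒮.deg (Y.basicOpen r) hD)
      (B := ℳ.deg (Y.basicOpen r) hD) hρ0 hy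
    rwa [vadd_eq_add, zero_add] at this
  have hdec := GrModComap.decompose_map_add (ℳ.deg U hU) (ℳ.deg (Y.basicOpen r) hD)
    (ℳ.res hU hD (Y.basicOpen_le r)).toAddMonoidHom
    (fun i m hm => ℳ.res_mem hU hD (Y.basicOpen_le r) i m hm) x₀ k
  have h0 : (DirectSum.decompose (ℳ.deg U hU) x₀ k : ℳ.mod.val.obj (op U)) = 0 :=
    hk _ (Subtype.prop _)
  rw [h0, map_zero] at hdec
  have hdec' : (DirectSum.decompose (ℳ.deg (Y.basicOpen r) hD)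
      (ℳ.res hU hD (Y.basicOpen_le r) x₀) k : ℳ.mod.val.obj (op (Y.basicOpen r))) = 0 := hdec
  rw [hres, DirectSum.decompose_of_mem_same _ hρy] at hdec'
  have hu : IsUnit ρ := by
    rw [hρ]
    exact ((RingedSpace.isUnit_res_basicOpen Y.toRingedSpace r).pow n).map _
  exact (hu.smul_eq_zero).1 hdec'

/-- **`ℳ~ = 0` and (TF) ⇒ (TN)** over a quasi-compact base, for `𝒮` generated by `𝒮_1` of finite type -/
theorem isTN_of_isZero [CompactSpace Y] (hgen : 𝒮.IsGenDegOne) (hft : 𝒮.IsFTDeg 1)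
    (hℳ : Coh.IsQCoh ((AMod.toOS 𝒮.toQCAlg).obj ℳ.mod)) (hTF : ℳ.IsTF)
    (hF : RelProj.IsRelTilde 𝒮 p chart ℳ 0 F lam) (h0 : IsZero F) : ℳ.IsTN := by
  classical
  obtain ⟨n₀, hn₀⟩ := hTF
  -- a finite affine cover of the base
  have hex : ∀ y : Y, ∃ U : Y.Opens, IsAffineOpen U ∧ y ∈ U := by
    intro y
    obtain ⟨U, hU0, hyU, -⟩ := Opens.isBasis_iff_nbhd.1 (Y.isBasis_affineOpens)
      (show y ∈ (⊤ : Y.Opens) from trivial)
    exact ⟨U, hU0, hyU⟩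
  choose U hU hyU using hex
  obtain ⟨t, ht⟩ := isCompact_univ.elim_finite_subcover (fun y : Y => ((U y : Y.Opens) : Set Y))
    (fun y => (U y).isOpen) (fun y _ => Set.mem_iUnion.2 ⟨y, hyU y⟩)
  choose N hN using fun y : Y => exists_bound_affine hgen hft hn₀ hF h0 (U y) (hU y)
  refine ⟨t.sup N, fun V hV k hk m hm => ?_⟩
  -- local vanishing
  have hloc : ∀ x : V, ∃ r : Γ(Y, V), x.1 ∈ Y.basicOpen r ∧
      (ℳ.mod.val.map (homOfLE (Y.basicOpen_le r)).op).hom m = 0 := by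
    intro x
    obtain ⟨y, hy⟩ := Set.mem_iUnion.1 (ht (Set.mem_univ x.1))
    obtain ⟨hyt, hxy⟩ := Set.mem_iUnion.1 hy
    obtain ⟨r₁, r₂, hr, hx⟩ := exists_basicOpen_le_affine_inter hV (hU y) x.1 ⟨x.2, hxy⟩
    refine ⟨r₁, hx, ?_⟩
    have hNk : N y ≤ k := (Finset.le_sup (f := N) hyt).trans hk
    exact deg_basicOpen_eq_zero hℳ (hU y) k (hN y k hNk) r₂ (Y.basicOpen r₁) (hV.basicOpen r₁) hr
      _ (ℳ.map_mem hV (hV.basicOpen r₁) (Y.basicOpen_le r₁) hm)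
  choose r hxr hr0 using hloc
  obtain ⟨m', hm'⟩ : ∃ m' : Γ((AMod.toOS 𝒮.toQCAlg).obj ℳ.mod, V), m' = m := ⟨m, rfl⟩
  have key : m' = 0 := by
    refine Groth.Agent.Lib.QCoh.sections_ext_of_cover ((AMod.toOS 𝒮.toQCAlg).obj ℳ.mod)
      (fun x : V => Y.basicOpen (r x)) V (fun x => Y.basicOpen_le (r x)) ?_ m' 0 ?_
    · intro z hz
      exact Opens.mem_iSup.2 ⟨⟨z, hz⟩, hxr ⟨z, hz⟩⟩
    · intro x
      rw [map_zero, hm']
      exact hr0 x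
  rw [← hm']
  exact key

end Groth.Agent.Lib.Proj.RelTl
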