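import Groth.Agent.Lib.Proj.Helper66_RelTildeHom2
import Groth.Agent.Lib.Proj.Helper66_RelTwistLocal
import Groth.Agent.Lib.Proj.Helper66_GrModMul
import Groth.Agent.Lib.Helper48.TensorDesc

/-!
# `(ℳ(n))~ ≅ ℳ~ ⊗ O_P(n)` on a relative Proj of an algebra generated in degree one (helper66)

ns `Groth.Agent.Lib.Proj.RelTlT`.
-/

universe u
open CategoryTheory CategoryTheory.Limits AlgebraicGeometry TopologicalSpace Opposite

namespace Groth.Agent.Lib.Proj.RelTlT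

open RelProj Groth.Agent.Lib.Ample Groth.Agent.Lib.QCoh

section generic

variable {X : Scheme.{u}} {M N : X.Modules}

/-- a morphism of modules bijective on all small opens of a cover of `V` is bijective on `V` -/
theorem bijective_app_of_cover (φ : M ⟶ N) (V : X.Opens) {ι : Type*} (B : ι → X.Opens)
    (hB : ∀ i, B i ≤ V) (hcov : V ≤ iSup B)
    (hbij : ∀ Ω : X.Opens, (∃ i, Ω ≤ B i) → Function.Bijective (φ.app Ω)) :
    Function.Bijective (φ.app V) := by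
  constructor
  · intro a b hab
    refine sections_ext_of_cover M B V hB hcov a b fun i => ?_
    apply (hbij (B i) ⟨i, le_rfl⟩).1
    rw [app_naturality_apply φ (homOfLE (hB i)) a, app_naturality_apply φ (homOfLE (hB i)) b]
    exact congrArg _ hab
  · intro t
    choose a ha using fun i => (hbij (B i) ⟨i, le_rfl⟩).2 (N.presheaf.map (homOfLE (hB i)).op t)
    have hcompat : ∀ i j, M.presheaf.map (homOfLE (inf_le_left : B i ⊓ B j ≤ B i)).op (a i) =
        M.presheaf.map (homOfLE (inf_le_right : B i ⊓ B j ≤ B j)).op (a j) := by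
      intro i j
      apply (hbij (B i ⊓ B j) ⟨i, inf_le_left⟩).1
      rw [app_naturality_apply φ (homOfLE (inf_le_left : B i ⊓ B j ≤ B i)) (a i),
        app_naturality_apply φ (homOfLE (inf_le_right : B i ⊓ B j ≤ B j)) (a j), ha i, ha j,
        ← ConcreteCategory.comp_apply, ← ConcreteCategory.comp_apply, ← Functor.map_comp,
        ← Functor.map_comp]
      rfl
    obtain ⟨a₀, ha₀⟩ := exists_gluing_of_cover M B V hB hcov a hcompat
    refine ⟨a₀, ?_⟩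
    refine sections_ext_of_cover N B V hB hcov _ _ fun i => ?_
    rw [← app_naturality_apply φ (homOfLE (hB i)) a₀, ha₀ i]
    exact ha i

end generic

variable {Y P : Scheme.{u}} {𝒮 : RelProj.QCGrAlg Y} {p : P ⟶ Y}
  {chart : ∀ (U : Y.Opens) (hU : IsAffineOpen U),
    (((p ⁻¹ᵁ U : P.Opens) : Scheme.{u}) ≅ Proj (𝒮.deg U hU))}
  {ℳ : RelProj.GrModule 𝒮}

section lamval

variable {k : ℤ} {K : P.Modules}
  {lamK : ∀ (U : Y.Opens) (hU : IsAffineOpen U),
      K ⟶ (Scheme.Modules.pushforward (RelProj.emb p chart U hU)).obj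
        (GrMod.tilde (𝒮.deg U hU) (ℳ.deg U hU) k)}

/-- reading through `lam` commutes with restriction of sections -/
theorem mval_lam_app_res (U : Y.Opens) (hU : IsAffineOpen U) {V W : P.Opens} (h : W ≤ V) (t : Γ(K, V))
    (y : (RelProj.emb p chart U hU) ⁻¹ᵁ W) :
    GrMod.val (V := (RelProj.emb p chart U hU) ⁻¹ᵁ W) ((lamK U hU).app W (resSec K h t)) y =
      GrMod.val (V := (RelProj.emb p chart U hU) ⁻¹ᵁ V) ((lamK U hU).app V t) ⟨y.1, h y.2⟩ := by
  have h3 := app_naturality_apply (lamK U hU) (homOfLE h) t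
  have h4 : (lamK U hU).app W (resSec K h t) = _ := h3
  rw [h4]
  rfl

/-- the value of `lam (r • t)` is `emb^#(r)` times the value of `lam t` -/
theorem mval_lam_app_smul (U : Y.Opens) (hU : IsAffineOpen U) (V : P.Opens) (r : Γ(P, V)) (t : Γ(K, V))
    (y : (RelProj.emb p chart U hU) ⁻¹ᵁ V) :
    GrMod.val (V := (RelProj.emb p chart U hU) ⁻¹ᵁ V) ((lamK U hU).app V (r • t)) y =
      ((((RelProj.emb p chart U hU).app V).hom r :
        GrTwist.O (𝒜 := 𝒮.deg U hU) (op ((RelProj.emb p chart U hU) ⁻¹ᵁ V))).1 y).val •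
        GrMod.val (V := (RelProj.emb p chart U hU) ⁻¹ᵁ V) ((lamK U hU).app V t) y := by
  rw [Scheme.Modules.Hom.app_smul, QCoh.pushforward_smul_def]
  exact GrModQCoh.mval_smul (𝒮.deg U hU) (ℳ.deg U hU) k _ _ y

end lamval

variable {n : ℤ} {F L : P.Modules}
  {lamF : ∀ (U : Y.Opens) (hU : IsAffineOpen U),
      F ⟶ (Scheme.Modules.pushforward (RelProj.emb p chart U hU)).obj
        (GrMod.tilde (𝒮.deg U hU) (ℳ.deg U hU) 0)}
  {lamL : ∀ (U : Y.Opens) (hU : IsAffineOpen U),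
      L ⟶ (Scheme.Modules.pushforward (RelProj.emb p chart U hU)).obj
        (GrTwist.twist (𝒮.deg U hU) n)}

variable (lamF lamL) in
/-- the chartwise pairing `ℳ~ × O_P(n) → (ℳ(n))~`, read on the chart over `U` -/
noncomputable def pair (U : Y.Opens) (hU : IsAffineOpen U) (W : P.Opens) (s : Γ(F, W)) (l : Γ(L, W)) :
    Γ((Scheme.Modules.pushforward (RelProj.emb p chart U hU)).obj
      (GrMod.tilde (𝒮.deg U hU) (ℳ.deg U hU) n), W) :=
  GrModMul.mulSect (𝒮.deg U hU) (ℳ.deg U hU) (op ((RelProj.emb p chart U hU) ⁻¹ᵁ W))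
    (show n = 0 + n by ring)
    (show GrTw.Sec (𝒮.deg U hU) n (op ((RelProj.emb p chart U hU) ⁻¹ᵁ W)) from (lamL U hU).app W l)
    (show GrMod.sect (𝒮.deg U hU) (ℳ.deg U hU) 0 (op ((RelProj.emb p chart U hU) ⁻¹ᵁ W)) from
      (lamF U hU).app W s)

theorem val_pair (U : Y.Opens) (hU : IsAffineOpen U) (W : P.Opens) (s : Γ(F, W)) (l : Γ(L, W))
    (y : (RelProj.emb p chart U hU) ⁻¹ᵁ W) :
    GrMod.val (V := (RelProj.emb p chart U hU) ⁻¹ᵁ W) (pair lamF lamL U hU W s l) y =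
      GrTwist.val (V := (RelProj.emb p chart U hU) ⁻¹ᵁ W) ((lamL U hU).app W l) y •
        GrMod.val (V := (RelProj.emb p chart U hU) ⁻¹ᵁ W) ((lamF U hU).app W s) y := rfl

/-- the chartwise identification of the tensor product -/
theorem exists_lamG (U : Y.Opens) (hU : IsAffineOpen U) :
    ∃ μ : CohB1.tensorMod F L ⟶ (Scheme.Modules.pushforward (RelProj.emb p chart U hU)).obj
        (GrMod.tilde (𝒮.deg U hU) (ℳ.deg U hU) n),
      ∀ (W : P.Opens) (s : Γ(F, W)) (l : Γ(L, W)),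
        μ.app W (tmulSect F L s l) = pair lamF lamL U hU W s l := by
  refine Groth.Agent.Lib.Helper48.TensorDesc.exists_desc F L _ (pair lamF lamL U hU) ?_ ?_ ?_ ?_ ?_
  · intro W m m' l
    refine GrModQCoh.mval_ext (𝒮.deg U hU) (ℳ.deg U hU) n (U := (RelProj.emb p chart U hU) ⁻¹ᵁ W)
      fun y => ?_
    have e : (lamF U hU).app W (m + m') = (lamF U hU).app W m + (lamF U hU).app W m' :=
      map_add _ _ _
    refine (val_pair U hU W (m + m') l y).trans ?_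
    refine (congrArg (fun σ : Γ((Scheme.Modules.pushforward (RelProj.emb p chart U hU)).obj
      (GrMod.tilde (𝒮.deg U hU) (ℳ.deg U hU) 0), W) =>
      GrTwist.val (V := (RelProj.emb p chart U hU) ⁻¹ᵁ W) ((lamL U hU).app W l) y •
        GrMod.val (V := (RelProj.emb p chart U hU) ⁻¹ᵁ W) σ y) e).trans ?_
    exact smul_add _ _ _
  · intro W a m l
    refine GrModQCoh.mval_ext (𝒮.deg U hU) (ℳ.deg U hU) n (U := (RelProj.emb p chart U hU) ⁻¹ᵁ W)
      fun y => ?_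
    refine (val_pair U hU W (a • m) l y).trans ?_
    refine (congrArg (fun z => GrTwist.val (V := (RelProj.emb p chart U hU) ⁻¹ᵁ W)
      ((lamL U hU).app W l) y • z) (mval_lam_app_smul (lamK := lamF) U hU W a m y)).trans ?_
    refine Eq.trans ?_ (GrModQCoh.mval_smul (𝒮.deg U hU) (ℳ.deg U hU) n
      (((RelProj.emb p chart U hU).app W).hom a) (pair lamF lamL U hU W m l) y).symm
    exact smul_comm _ _ _
  · intro W m l l'
    refine GrModQCoh.mval_ext (𝒮.deg U hU) (ℳ.deg U hU) n (U := (RelProj.emb p chart U hU) ⁻¹ᵁ W)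
      fun y => ?_
    have e : (lamL U hU).app W (l + l') = (lamL U hU).app W l + (lamL U hU).app W l' :=
      map_add _ _ _
    refine (val_pair U hU W m (l + l') y).trans ?_
    refine (congrArg (fun σ : Γ((Scheme.Modules.pushforward (RelProj.emb p chart U hU)).obj
      (GrTwist.twist (𝒮.deg U hU) n), W) =>
      GrTwist.val (V := (RelProj.emb p chart U hU) ⁻¹ᵁ W) σ y •
        GrMod.val (V := (RelProj.emb p chart U hU) ⁻¹ᵁ W) ((lamF U hU).app W m) y) e).trans ?_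
    exact add_smul _ _ _
  · intro W a m l
    refine GrModQCoh.mval_ext (𝒮.deg U hU) (ℳ.deg U hU) n (U := (RelProj.emb p chart U hU) ⁻¹ᵁ W)
      fun y => ?_
    refine (val_pair U hU W m (a • l) y).trans ?_
    refine (congrArg (fun z => z • GrMod.val (V := (RelProj.emb p chart U hU) ⁻¹ᵁ W)
      ((lamF U hU).app W m) y) (RelTw.val_lam_app_smul (lam := lamL) U hU W a l y)).trans ?_
    refine Eq.trans ?_ (GrModQCoh.mval_smul (𝒮.deg U hU) (ℳ.deg U hU) n
      (((RelProj.emb p chart U hU).app W).hom a) (pair lamF lamL U hU W m l) y).symm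
    exact mul_smul _ _ _
  · intro W W' i m l
    refine GrModQCoh.mval_ext (𝒮.deg U hU) (ℳ.deg U hU) n (U := (RelProj.emb p chart U hU) ⁻¹ᵁ W')
      fun y => ?_
    obtain ⟨⟨hle⟩⟩ := i
    have e1 := RelTw.val_lam_app_res (lam := lamL) U hU hle l y
    have e2 := mval_lam_app_res (lamK := lamF) U hU hle m y
    refine Eq.trans ?_ ((val_pair U hU W' _ _ y).trans (congrArg₂ (fun u v => u • v) e1 e2)).symm
    rfl

section main

open GrModMul

/-- on opens inside the image of `D₊(t)`, `t` of degree one, the identification of the tensor product is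
bijective -/
theorem bijective_app_of_le (hF : RelProj.IsRelTilde 𝒮 p chart ℳ 0 F lamF)
    (hL : RelProj.IsRelTwist 𝒮 p chart n L lamL) {U : Y.Opens} {hU : IsAffineOpen U}
    (t : 𝒮.deg U hU 1)
    (μ : CohB1.tensorMod F L ⟶ (Scheme.Modules.pushforward (RelProj.emb p chart U hU)).obj
        (GrMod.tilde (𝒮.deg U hU) (ℳ.deg U hU) n))
    (hμ : ∀ (W : P.Opens) (s : Γ(F, W)) (l : Γ(L, W)),
        μ.app W (tmulSect F L s l) = pair lamF lamL U hU W s l)
    {Ω : P.Opens} (hΩ : Ω ≤ (RelProj.emb p chart U hU) ''ᵁ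
      (Proj.basicOpen (𝒮.deg U hU) (t : 𝒮.presheaf.obj (op U)))) :
    Function.Bijective (μ.app Ω) := by
  classical
  have hn : n = (((n.toNat : ℕ) : ℤ) - ((-n).toNat : ℕ)) * ((1 : ℕ) : ℤ) := by
    rw [Int.toNat_sub_toNat_neg]; simp
  obtain ⟨e, he⟩ := RelTw.exists_readsG (lam := lamL) hL hn t.2
  have hg : IsGenerator L _ e := RelTw.isGenerator_of_readsG hL hn t.2 le_rfl he
  have htm := bijective_tmulSect_of_isGenerator (F := F) hg hΩ
  rw [← Function.Bijective.of_comp_iff (μ.app Ω) htm]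
  have hΩU : Ω ≤ p ⁻¹ᵁ U := hΩ.trans (RelTw.emb_image_le U hU _)
  have hty : ∀ y : ((RelProj.emb p chart U hU) ⁻¹ᵁ Ω : (Proj (𝒮.deg U hU)).Opens),
      (t : 𝒮.presheaf.obj (op U)) ∉ y.1.asHomogeneousIdeal := by
    intro y
    obtain ⟨z, hz, hzy⟩ := hΩ y.2
    have hzy' : z = y.1 := (RelProj.emb p chart U hU).isOpenEmbedding.injective hzy
    exact hzy' ▸ (Proj.mem_basicOpen (𝒮.deg U hU) _ z).1 hz
  -- the reading of the generator and its inverse
  obtain ⟨τ, hτd⟩ : ∃ τ : GrTw.Sec (𝒮.deg U hU) n (op ((RelProj.emb p chart U hU) ⁻¹ᵁ Ω)),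
      τ = (lamL U hU).app Ω (resSec L hΩ e) := ⟨_, rfl⟩
  have hτ : ∀ y : ((RelProj.emb p chart U hU) ⁻¹ᵁ Ω : (Proj (𝒮.deg U hU)).Opens),
      algebraMap (𝒮.presheaf.obj (op U)) (GrTwist.Loc (𝒮.deg U hU) y.1)
        ((t : 𝒮.presheaf.obj (op U)) ^ (-n).toNat) * GrTw.val τ y =
      algebraMap (𝒮.presheaf.obj (op U)) (GrTwist.Loc (𝒮.deg U hU) y.1)
        ((t : 𝒮.presheaf.obj (op U)) ^ n.toNat) := by
    intro y
    rw [hτd]
    exact (he.restrict hΩ) y.1 y.2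
  have hdeg' : -n + ((n.toNat * 1 : ℕ) : ℤ) = (((-n).toNat * 1 : ℕ) : ℤ) := by
    have := Int.toNat_sub_toNat_neg n
    push_cast
    omega
  obtain ⟨τ', hτ'd⟩ : ∃ τ' : GrTw.Sec (𝒮.deg U hU) (-n) (op ((RelProj.emb p chart U hU) ⁻¹ᵁ Ω)),
      τ' = GrTw.fracSect'
        (⟨(t : 𝒮.presheaf.obj (op U)) ^ (-n).toNat, RelTw.pow_mem_deg t.2 _⟩ :
          𝒮.deg U hU ((-n).toNat * 1))
        (⟨(t : 𝒮.presheaf.obj (op U)) ^ n.toNat, RelTw.pow_mem_deg t.2 _⟩ : 𝒮.deg U hU (n.toNat * 1))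
        (-n) hdeg' (op ((RelProj.emb p chart U hU) ⁻¹ᵁ Ω))
        (fun y => RelTw.pow_not_mem' (hty y) _) := ⟨_, rfl⟩
  have hinv : ∀ y : ((RelProj.emb p chart U hU) ⁻¹ᵁ Ω : (Proj (𝒮.deg U hU)).Opens),
      GrTw.val τ' y * GrTw.val τ y = 1 := by
    intro y
    have h1 : GrTw.val τ' y = GrTw.frac y.1 ((t : 𝒮.presheaf.obj (op U)) ^ (-n).toNat)
        ((t : 𝒮.presheaf.obj (op U)) ^ n.toNat) (RelTw.pow_not_mem' (hty y) _) := by
      rw [hτ'd]
      exact GrTw.val_fracSect' _ _ _ _ _ _ y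
    have h2 := GrTw.mul_frac_eq y.1 ((t : 𝒮.presheaf.obj (op U)) ^ (-n).toNat)
      ((t : 𝒮.presheaf.obj (op U)) ^ n.toNat) (RelTw.pow_not_mem' (hty y) _)
    rw [← h1] at h2
    have hu : IsUnit (algebraMap (𝒮.presheaf.obj (op U)) (GrTwist.Loc (𝒮.deg U hU) y.1)
        ((t : 𝒮.presheaf.obj (op U)) ^ (-n).toNat)) :=
      IsLocalization.map_units (GrTwist.Loc (𝒮.deg U hU) y.1)
        (⟨(t : 𝒮.presheaf.obj (op U)) ^ (-n).toNat, RelTw.pow_not_mem' (hty y) _⟩ :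
          y.1.asHomogeneousIdeal.toIdeal.primeCompl)
    apply hu.mul_left_cancel
    calc _ = GrTw.val τ' y * (algebraMap (𝒮.presheaf.obj (op U)) (GrTwist.Loc (𝒮.deg U hU) y.1)
            ((t : 𝒮.presheaf.obj (op U)) ^ (-n).toNat) * GrTw.val τ y) := by ring
      _ = _ := by rw [hτ y, mul_comm, h2, mul_one]
  have hmul := mulSect_bijective (𝒮.deg U hU) (ℳ.deg U hU)
    (op ((RelProj.emb p chart U hU) ⁻¹ᵁ Ω)) (m := 0) (show n = 0 + n by ring)
    (show (0 : ℤ) = n + -n by ring) τ τ' hinv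
  have hlam := hF.bijective U hU Ω hΩU
  have hcomp : (fun z => (μ.app Ω) z) ∘
      (fun x : Γ(F, Ω) => tmulSect F L x (L.presheaf.map (homOfLE hΩ).op e)) =
      (fun σ : GrMod.sect (𝒮.deg U hU) (ℳ.deg U hU) 0 (op ((RelProj.emb p chart U hU) ⁻¹ᵁ Ω)) =>
        mulSect (𝒮.deg U hU) (ℳ.deg U hU) (op ((RelProj.emb p chart U hU) ⁻¹ᵁ Ω))
          (show n = 0 + n by ring) τ σ) ∘ (fun x : Γ(F, Ω) => (lamF U hU).app Ω x) := by
    funext x
    simp only [Function.comp]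
    rw [hτd]
    exact hμ Ω x _
  exact hcomp ▸ hmul.comp hlam

/-- the identification of the tensor product is bijective over each chart -/
theorem bijective_app (hgen : 𝒮.IsGenDegOne) (hF : RelProj.IsRelTilde 𝒮 p chart ℳ 0 F lamF)
    (hL : RelProj.IsRelTwist 𝒮 p chart n L lamL) (U : Y.Opens) (hU : IsAffineOpen U)
    (μ : CohB1.tensorMod F L ⟶ (Scheme.Modules.pushforward (RelProj.emb p chart U hU)).obj
        (GrMod.tilde (𝒮.deg U hU) (ℳ.deg U hU) n))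
    (hμ : ∀ (W : P.Opens) (s : Γ(F, W)) (l : Γ(L, W)),
        μ.app W (tmulSect F L s l) = pair lamF lamL U hU W s l)
    (W : P.Opens) (hW : W ≤ p ⁻¹ᵁ U) : Function.Bijective (μ.app W) := by
  refine bijective_app_of_cover μ W (fun t : 𝒮.deg U hU 1 => W ⊓ (RelProj.emb p chart U hU) ''ᵁ
    (Proj.basicOpen (𝒮.deg U hU) (t : 𝒮.presheaf.obj (op U)))) (fun _ => inf_le_left) ?_ ?_
  · intro z hz
    have hcov := GrTw.iSup_basicOpen_eq_top_of_closure (𝒮.deg U hU) (hgen U hU)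
    have hy : (chart U hU).hom.base ⟨z, hW hz⟩ ∈
        (⨆ t : 𝒮.deg U hU 1, Proj.basicOpen (𝒮.deg U hU) (t : 𝒮.presheaf.obj (op U))) := by
      rw [hcov]; trivial
    obtain ⟨t, ht⟩ := Opens.mem_iSup.1 hy
    exact Opens.mem_iSup.2 ⟨t, hz, _, ht, RelTw.emb_chart_hom U hU ⟨z, hW hz⟩⟩
  · rintro Ω ⟨t, hΩ⟩
    exact bijective_app_of_le hF hL t μ hμ (hΩ.trans inf_le_right)

/-- the identifications of the tensor product are compatible along restriction to basic opens -/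
theorem compat_lamG (hP : RelProj.IsRelProj 𝒮 p chart) (hgen : 𝒮.IsGenDegOne)
    (hF : RelProj.IsRelTilde 𝒮 p chart ℳ 0 F lamF)
    (hL : RelProj.IsRelTwist 𝒮 p chart n L lamL)
    (μ : ∀ (U : Y.Opens) (hU : IsAffineOpen U),
      CohB1.tensorMod F L ⟶ (Scheme.Modules.pushforward (RelProj.emb p chart U hU)).obj
        (GrMod.tilde (𝒮.deg U hU) (ℳ.deg U hU) n))
    (hμ : ∀ (U : Y.Opens) (hU : IsAffineOpen U) (W : P.Opens) (s : Γ(F, W)) (l : Γ(L, W)),
        (μ U hU).app W (tmulSect F L s l) = pair lamF lamL U hU W s l)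
    (U : Y.Opens) (hU : IsAffineOpen U) (r : Γ(Y, U)) (W : P.Opens)
    (s : Γ(CohB1.tensorMod F L, W))
    (y : ProjectiveSpectrum (𝒮.deg (Y.basicOpen r) (hU.basicOpen r)))
    (hy : (RelProj.emb p chart (Y.basicOpen r) (hU.basicOpen r)).base y ∈ W)
    (hy' : (RelProj.emb p chart U hU).base (ProjectiveSpectrum.comap
      (𝒮.res hU (hU.basicOpen r) (Y.basicOpen_le r)) (𝒮.irrelevant_le_map U hU r) y) ∈ W) :
    GrMod.val (V := RelProj.emb p chart (Y.basicOpen r) (hU.basicOpen r) ⁻¹ᵁ W)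
        ((μ (Y.basicOpen r) (hU.basicOpen r)).app W s) ⟨y, hy⟩ =
      GrMod.locModMap (𝒮.res hU (hU.basicOpen r) (Y.basicOpen_le r)) (𝒮.irrelevant_le_map U hU r)
        (ℳ.res hU (hU.basicOpen r) (Y.basicOpen_le r)) y
        (GrMod.val (V := RelProj.emb p chart U hU ⁻¹ᵁ W) ((μ U hU).app W s) ⟨_, hy'⟩) := by
  classical
  have hn : n = (((n.toNat : ℕ) : ℤ) - ((-n).toNat : ℕ)) * ((1 : ℕ) : ℤ) := by
    rw [Int.toNat_sub_toNat_neg]; simp
  obtain ⟨cy, hcy⟩ : ∃ cy : ProjectiveSpectrum (𝒮.deg U hU), cy = ProjectiveSpectrum.comap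
      (𝒮.res hU (hU.basicOpen r) (Y.basicOpen_le r)) (𝒮.irrelevant_le_map U hU r) y := ⟨_, rfl⟩
  have hcov := GrTw.iSup_basicOpen_eq_top_of_closure (𝒮.deg U hU) (hgen U hU)
  have hcy' : cy ∈ (⨆ t : 𝒮.deg U hU 1,
      Proj.basicOpen (𝒮.deg U hU) (t : 𝒮.presheaf.obj (op U))) := by
    rw [hcov]; trivial
  obtain ⟨t, ht⟩ := Opens.mem_iSup.1 hcy'
  obtain ⟨e, he⟩ := RelTw.exists_readsG (lam := lamL) hL hn t.2
  have hg : IsGenerator L _ e := RelTw.isGenerator_of_readsG hL hn t.2 le_rfl he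
  obtain ⟨Ω, hΩd⟩ : ∃ Ω : P.Opens, Ω = W ⊓ (RelProj.emb p chart U hU) ''ᵁ
    (Proj.basicOpen (𝒮.deg U hU) (t : 𝒮.presheaf.obj (op U))) := ⟨_, rfl⟩
  have hΩW : Ω ≤ W := hΩd ▸ inf_le_left
  have hΩV : Ω ≤ (RelProj.emb p chart U hU) ''ᵁ
    (Proj.basicOpen (𝒮.deg U hU) (t : 𝒮.presheaf.obj (op U))) := hΩd ▸ inf_le_right
  have hy'Ω : (RelProj.emb p chart U hU).base (ProjectiveSpectrum.comap
      (𝒮.res hU (hU.basicOpen r) (Y.basicOpen_le r)) (𝒮.irrelevant_le_map U hU r) y) ∈ Ω := by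
    rw [hΩd]
    exact ⟨hy', cy, ht, congrArg _ hcy⟩
  have hyΩ : (RelProj.emb p chart (Y.basicOpen r) (hU.basicOpen r)).base y ∈ Ω := by
    rw [RelTl.emb_basicOpen_apply hP U hU r y]
    exact hy'Ω
  obtain ⟨x, hx⟩ := (bijective_tmulSect_of_isGenerator (F := F) hg hΩV).2
    (resSec (CohB1.tensorMod F L) hΩW s)
  have hx' : tmulSect F L x (L.presheaf.map (homOfLE hΩV).op e) =
    resSec (CohB1.tensorMod F L) hΩW s := hx
  -- left side
  have hl1 := mval_lam_app_res (lamK := μ) (Y.basicOpen r) (hU.basicOpen r) hΩW s ⟨y, hyΩ⟩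
  have hl2 : (μ (Y.basicOpen r) (hU.basicOpen r)).app Ω (resSec (CohB1.tensorMod F L) hΩW s) =
      pair lamF lamL (Y.basicOpen r) (hU.basicOpen r) Ω x (L.presheaf.map (homOfLE hΩV).op e) := by
    rw [← hx']
    exact hμ _ _ Ω x _
  have hr1 := mval_lam_app_res (lamK := μ) U hU hΩW s ⟨_, hy'Ω⟩
  have hr2 : (μ U hU).app Ω (resSec (CohB1.tensorMod F L) hΩW s) =
      pair lamF lamL U hU Ω x (L.presheaf.map (homOfLE hΩV).op e) := by
    rw [← hx']
    exact hμ _ _ Ω x _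
  have hcL := hL.compat U hU r Ω (L.presheaf.map (homOfLE hΩV).op e) y hyΩ hy'Ω
  have hcF := hF.compat U hU r Ω x y hyΩ hy'Ω
  refine hl1.symm.trans ?_
  refine (congrArg (fun σ => GrMod.val
    (V := RelProj.emb p chart (Y.basicOpen r) (hU.basicOpen r) ⁻¹ᵁ Ω) σ ⟨y, hyΩ⟩) hl2).trans ?_
  refine (val_pair (Y.basicOpen r) (hU.basicOpen r) Ω x _ ⟨y, hyΩ⟩).trans ?_
  refine (congrArg₂ (fun u v => u • v) hcL hcF).trans ?_
  refine (GrMod.locModMap_smul _ _ _ y _ _).symm.trans ?_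
  refine congrArg _ ?_
  refine Eq.trans ?_ hr1
  refine Eq.trans ?_ (congrArg (fun σ => GrMod.val
    (V := RelProj.emb p chart U hU ⁻¹ᵁ Ω) σ ⟨_, hy'Ω⟩) hr2).symm
  exact (val_pair U hU Ω x _ ⟨_, hy'Ω⟩).symm

/-- **`(ℳ(n))~ ≅ ℳ~ ⊗ O_P(n)`** when `𝒮` is generated in degree one -/
theorem nonempty_iso (hP : RelProj.IsRelProj 𝒮 p chart) (hgen : 𝒮.IsGenDegOne)
    (hF : RelProj.IsRelTilde 𝒮 p chart ℳ 0 F lamF)
    {F' : P.Modules}
    {lam' : ∀ (U : Y.Opens) (hU : IsAffineOpen U),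
      F' ⟶ (Scheme.Modules.pushforward (RelProj.emb p chart U hU)).obj
        (GrMod.tilde (𝒮.deg U hU) (ℳ.deg U hU) n)}
    (hF' : RelProj.IsRelTilde 𝒮 p chart ℳ n F' lam')
    (hL : RelProj.IsRelTwist 𝒮 p chart n L lamL) :
    Nonempty (F' ≅ CohB1.tensorMod F L) := by
  choose μ hμ using fun (U : Y.Opens) (hU : IsAffineOpen U) =>
    exists_lamG (lamF := lamF) (lamL := lamL) U hU
  have hG : RelProj.IsRelTilde 𝒮 p chart ℳ n (CohB1.tensorMod F L) μ :=
    ⟨fun U hU W hW => bijective_app hgen hF hL U hU (μ U hU) (hμ U hU) W hW,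
      fun U hU r W s y hy hy' => compat_lamG hP hgen hF hL μ hμ U hU r W s y hy hy'⟩
  obtain ⟨⟨φ, hφ, -⟩, hiso⟩ := RelTl.unique_iso hP hF' hG
  have := hiso φ hφ
  exact ⟨asIso φ⟩

end main

end Groth.Agent.Lib.Proj.RelTlT
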