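import Groth.Agent.Lib.Proj.Helper66_RelTwist
import Groth.Agent.Lib.Proj.Helper66_GrTwistFinite
import Groth.Agent.Lib.QCoh.Helper66_FTLocal

/-!
# `O_P(n)` on a relative Proj is of finite type when the rings `𝒮(U)` are Noetherian (helper66)
-/

universe u
open CategoryTheory CategoryTheory.Limits AlgebraicGeometry TopologicalSpace Opposite

namespace Groth.Agent.Lib.Proj.RelTw

open RelProj

variable {Y P : Scheme.{u}} {𝒮 : RelProj.QCGrAlg Y} {p : P ⟶ Y}
  {chart : ∀ (U : Y.Opens) (hU : IsAffineOpen U),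
    (((p ⁻¹ᵁ U : P.Opens) : Scheme.{u}) ≅ Proj (𝒮.deg U hU))}
  {n : ℤ} {L : P.Modules}
  {lam : ∀ (U : Y.Opens) (hU : IsAffineOpen U),
      L ⟶ (Scheme.Modules.pushforward (RelProj.emb p chart U hU)).obj (GrTwist.twist (𝒮.deg U hU) n)}

theorem isFiniteType
    (hnoeth : ∀ (U : Y.Opens), IsAffineOpen U → IsNoetherianRing (𝒮.presheaf.obj (op U)))
    (hL : RelProj.IsRelTwist 𝒮 p chart n L lam) : L.IsFiniteType := by
  refine QCoh.isFiniteType_of_openImmersion_cover L fun x => ?_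
  obtain ⟨U, hU0, hxU, -⟩ := Opens.isBasis_iff_nbhd.1 (Y.isBasis_affineOpens)
    (show p x ∈ (⊤ : Y.Opens) from trivial)
  have hU : IsAffineOpen U := hU0
  refine ⟨Proj (𝒮.deg U hU), RelProj.emb p chart U hU, inferInstance,
    ⟨(chart U hU).hom ⟨x, hxU⟩, emb_chart_hom U hU ⟨x, hxU⟩⟩, ?_⟩
  have := hnoeth U hU
  have := GrTwistFinite.twist_isFiniteType (𝒮.deg U hU) n
  exact QCoh.isFiniteType_of_iso (restrictEmbIso hL U hU).symm

/-- finite type algebras over Noetherian affine opens are Noetherian -/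
theorem isNoetherianRing_of_finiteType [IsLocallyNoetherian Y]
    (hft : ∀ (U : Y.Opens) (hU : IsAffineOpen U), (𝒮.str.app (op U)).hom.FiniteType)
    (U : Y.Opens) (hU : IsAffineOpen U) : IsNoetherianRing (𝒮.presheaf.obj (op U)) := by
  have h1 : IsNoetherianRing Γ(Y, U) := IsLocallyNoetherian.component_noetherian ⟨U, hU⟩
  let _ := (𝒮.str.app (op U)).hom.toAlgebra
  have h2 : Algebra.FiniteType Γ(Y, U) (𝒮.presheaf.obj (op U)) := hft U hU
  exact Algebra.FiniteType.isNoetherianRing Γ(Y, U) _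

end Groth.Agent.Lib.Proj.RelTw
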