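import Groth.Agent.Lib.Proj.Helper66_RelTwistGen
import Groth.Agent.Lib.Proj.Helper66_RelTildeHom
import Groth.Agent.Lib.Helper42.RelProjMap

/-!
# The comparison `O_{Proj 𝒜}(n) → h_* O_{Proj ℬ}(n)` along a morphism of relative Proj's (helper66)

ns `Groth.Agent.Lib.Proj.RelTwC`.
-/

universe u
open CategoryTheory CategoryTheory.Limits AlgebraicGeometry TopologicalSpace Opposite
open scoped HomogeneousIdeal

namespace Groth.Agent.Lib.Proj.RelTwC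

open RelProj Groth.Agent.Lib.QCoh.Glue74 Groth.Agent.Lib.Helper42.RelProjMap

variable {Y PA PB : Scheme.{u}} {𝒜 ℬ : RelProj.QCGrAlg Y}
  {φ : 𝒜.toQCAlg ⟶ ℬ.toQCAlg} {hφ : RelProj.IsGradedHom φ}
  {hirr : ∀ (U : Y.Opens) (hU : IsAffineOpen U),
    (ℬ.deg U hU)₊ ≤ ((𝒜.deg U hU)₊).map (RelProj.gradedHomAt φ hφ U hU)}
  {pA : PA ⟶ Y} {pB : PB ⟶ Y}
  {chartA : ∀ (U : Y.Opens) (hU : IsAffineOpen U),
    (((pA ⁻¹ᵁ U : PA.Opens) : Scheme.{u}) ≅ Proj (𝒜.deg U hU))}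
  {chartB : ∀ (U : Y.Opens) (hU : IsAffineOpen U),
    (((pB ⁻¹ᵁ U : PB.Opens) : Scheme.{u}) ≅ Proj (ℬ.deg U hU))}
  {h : PB ⟶ PA}

/-- pointwise form of the chart equations of `IsRelProjMap` -/
theorem emb_h_apply (hh : RelProj.IsRelProjMap φ hφ hirr chartA chartB h) (U : Y.Opens)
    (hU : IsAffineOpen U) (y : ProjectiveSpectrum (ℬ.deg U hU)) :
    h.base ((RelProj.emb pB chartB U hU).base y) =
      (RelProj.emb pA chartA U hU).base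
        (ProjectiveSpectrum.comap (RelProj.gradedHomAt φ hφ U hU) (hirr U hU) y) := by
  have e := emb_comp_map φ hφ hirr hh U hU
  have e2 := congrArg (fun f => f.base y) e
  exact e2

theorem preimage_le (hPA : RelProj.IsRelProj 𝒜 pA chartA) (hPB : RelProj.IsRelProj ℬ pB chartB)
    (hh : RelProj.IsRelProjMap φ hφ hirr chartA chartB h) {U : Y.Opens} {W : PA.Opens}
    (hW : W ≤ pA ⁻¹ᵁ U) : h ⁻¹ᵁ W ≤ pB ⁻¹ᵁ U := by
  intro z hz
  have hc := comp_eq φ hφ hirr hPA hPB hh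
  have h2 : pA.base (h.base z) = pB.base z := congrArg (fun ψ => ψ.base z) hc
  have h3 : pA.base (h.base z) ∈ U := hW hz
  rw [h2] at h3
  exact h3

section square

variable {A σA B₁ σ₁ B₂ σ₂ C σC : Type u}
  [CommRing A] [SetLike σA A] [AddSubgroupClass σA A] {𝒜' : ℕ → σA} [GradedRing 𝒜']
  [CommRing B₁] [SetLike σ₁ B₁] [AddSubgroupClass σ₁ B₁] {ℬ₁ : ℕ → σ₁} [GradedRing ℬ₁]
  [CommRing B₂] [SetLike σ₂ B₂] [AddSubgroupClass σ₂ B₂] {ℬ₂ : ℕ → σ₂} [GradedRing ℬ₂]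
  [CommRing C] [SetLike σC C] [AddSubgroupClass σC C] {𝒞 : ℕ → σC} [GradedRing 𝒞]
  (ψ₁ : 𝒜' →+*ᵍ ℬ₁) (h₁ : ℬ₁₊ ≤ (𝒜'₊).map ψ₁) (χ₁ : ℬ₁ →+*ᵍ 𝒞) (k₁ : 𝒞₊ ≤ (ℬ₁₊).map χ₁)
  (ψ₂ : 𝒜' →+*ᵍ ℬ₂) (h₂ : ℬ₂₊ ≤ (𝒜'₊).map ψ₂) (χ₂ : ℬ₂ →+*ᵍ 𝒞) (k₂ : 𝒞₊ ≤ (ℬ₂₊).map χ₂)

include ψ₁ h₁ χ₁ k₁ ψ₂ h₂ χ₂ k₂ in
theorem comap_comap_eq (hcomm : ∀ a : A, χ₁ (ψ₁ a) = χ₂ (ψ₂ a)) (y : ProjectiveSpectrum 𝒞) :
    ProjectiveSpectrum.comap ψ₁ h₁ (ProjectiveSpectrum.comap χ₁ k₁ y) =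
      ProjectiveSpectrum.comap ψ₂ h₂ (ProjectiveSpectrum.comap χ₂ k₂ y) := by
  apply ProjectiveSpectrum.ext
  apply HomogeneousIdeal.toIdeal_injective
  ext a
  change χ₁ (ψ₁ a) ∈ y.asHomogeneousIdeal.toIdeal ↔ χ₂ (ψ₂ a) ∈ y.asHomogeneousIdeal.toIdeal
  rw [hcomm a]

theorem locMap_locMap_eq (hcomm : ∀ a : A, χ₁ (ψ₁ a) = χ₂ (ψ₂ a)) (y : ProjectiveSpectrum 𝒞)
    {m : ℤ} {V : Opens (ProjectiveSpectrum.top 𝒜')} (s : GrTw.Sec 𝒜' m (op V))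
    (hx₁ : ProjectiveSpectrum.comap ψ₁ h₁ (ProjectiveSpectrum.comap χ₁ k₁ y) ∈ V)
    (hx₂ : ProjectiveSpectrum.comap ψ₂ h₂ (ProjectiveSpectrum.comap χ₂ k₂ y) ∈ V) :
    GrTwist.locMap χ₁ k₁ y (GrTwist.locMap ψ₁ h₁ (ProjectiveSpectrum.comap χ₁ k₁ y)
        (GrTw.val s ⟨_, hx₁⟩)) =
      GrTwist.locMap χ₂ k₂ y (GrTwist.locMap ψ₂ h₂ (ProjectiveSpectrum.comap χ₂ k₂ y)
        (GrTw.val s ⟨_, hx₂⟩)) := by
  have key : ∀ (x₁ x₂ : ProjectiveSpectrum 𝒜') (_ : x₁ = x₂) (hx₁ : x₁ ∈ V) (hx₂ : x₂ ∈ V),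
      ∃ (a b : A) (hb₁ : b ∈ x₁.asHomogeneousIdeal.toIdeal.primeCompl)
        (hb₂ : b ∈ x₂.asHomogeneousIdeal.toIdeal.primeCompl),
        GrTw.val s ⟨x₁, hx₁⟩ = Localization.mk a ⟨b, hb₁⟩ ∧
        GrTw.val s ⟨x₂, hx₂⟩ = Localization.mk a ⟨b, hb₂⟩ := by
    intro x₁ x₂ e hx₁ hx₂
    subst e
    obtain ⟨q, hq⟩ : ∃ q : GrTwist.Loc 𝒜' x₁, q = GrTw.val s ⟨x₁, hx₁⟩ := ⟨_, rfl⟩
    rw [← hq]
    induction q using Localization.induction_on with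
    | H ab => exact ⟨ab.1, ab.2.1, ab.2.2, ab.2.2, rfl, rfl⟩
  obtain ⟨a, b, hb₁, hb₂, e₁, e₂⟩ := key _ _ (comap_comap_eq ψ₁ h₁ χ₁ k₁ ψ₂ h₂ χ₂ k₂ hcomm y) hx₁ hx₂
  rw [e₁, e₂, GrTwist.locMap_mk, GrTwist.locMap_mk, GrTwist.locMap_mk, GrTwist.locMap_mk]
  have hden : (⟨χ₁ (ψ₁ b), (⟨ψ₁ b, hb₁⟩ :
      (ProjectiveSpectrum.comap χ₁ k₁ y).asHomogeneousIdeal.toIdeal.primeCompl).2⟩ :
        y.asHomogeneousIdeal.toIdeal.primeCompl) =
      ⟨χ₂ (ψ₂ b), (⟨ψ₂ b, hb₂⟩ :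
      (ProjectiveSpectrum.comap χ₂ k₂ y).asHomogeneousIdeal.toIdeal.primeCompl).2⟩ :=
    Subtype.ext (hcomm b)
  exact (congrArg (fun d => Localization.mk (χ₁ (ψ₁ a)) d) hden).trans (by rw [hcomm a])

end square

variable {n : ℤ} {LA : PA.Modules}
  {lamA : ∀ (U : Y.Opens) (hU : IsAffineOpen U),
      LA ⟶ (Scheme.Modules.pushforward (RelProj.emb pA chartA U hU)).obj
        (GrTwist.twist (𝒜.deg U hU) n)}
  {LB : PB.Modules}
  {lamB : ∀ (U : Y.Opens) (hU : IsAffineOpen U),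
      LB ⟶ (Scheme.Modules.pushforward (RelProj.emb pB chartB U hU)).obj
        (GrTwist.twist (ℬ.deg U hU) n)}

variable (hirr h lamA lamB) in
/-- `t` is the image of `s`, as read on the charts over `U` -/
def Rel (U : Y.Opens) (hU : IsAffineOpen U) (W : PA.Opens) (s : Γ(LA, W)) (t : Γ(LB, h ⁻¹ᵁ W)) : Prop :=
  ∀ (y : ProjectiveSpectrum (ℬ.deg U hU))
    (hy : (RelProj.emb pB chartB U hU).base y ∈ h ⁻¹ᵁ W)
    (hy' : (RelProj.emb pA chartA U hU).base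
      (ProjectiveSpectrum.comap (RelProj.gradedHomAt φ hφ U hU) (hirr U hU) y) ∈ W),
    GrTwist.val (V := RelProj.emb pB chartB U hU ⁻¹ᵁ (h ⁻¹ᵁ W)) ((lamB U hU).app (h ⁻¹ᵁ W) t) ⟨y, hy⟩ =
      GrTwist.locMap (RelProj.gradedHomAt φ hφ U hU) (hirr U hU) y
        (GrTwist.val (V := RelProj.emb pA chartA U hU ⁻¹ᵁ W) ((lamA U hU).app W s) ⟨_, hy'⟩)

/-- existence of the image on a chart -/
theorem exists_rel (hPA : RelProj.IsRelProj 𝒜 pA chartA) (hPB : RelProj.IsRelProj ℬ pB chartB)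
    (hh : RelProj.IsRelProjMap φ hφ hirr chartA chartB h)
    (hLB : RelProj.IsRelTwist ℬ pB chartB n LB lamB) (U : Y.Opens) (hU : IsAffineOpen U)
    {W : PA.Opens} (hW : W ≤ pA ⁻¹ᵁ U) (s : Γ(LA, W)) :
    ∃ t : Γ(LB, h ⁻¹ᵁ W), Rel hirr h lamA lamB U hU W s t := by
  have hUV : ((RelProj.emb pB chartB U hU ⁻¹ᵁ (h ⁻¹ᵁ W) : (Proj (ℬ.deg U hU)).Opens)).1 ⊆
      ProjectiveSpectrum.comap (RelProj.gradedHomAt φ hφ U hU) (hirr U hU) ⁻¹'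
        ((RelProj.emb pA chartA U hU ⁻¹ᵁ W : (Proj (𝒜.deg U hU)).Opens)).1 := by
    intro y hy
    have h1 : h.base ((RelProj.emb pB chartB U hU).base y) ∈ W := hy
    rw [emb_h_apply hh U hU y] at h1
    exact h1
  obtain ⟨τ, hτ⟩ : ∃ τ : GrTwist.sectN (𝒜 := 𝒜.deg U hU) n
      (op (RelProj.emb pA chartA U hU ⁻¹ᵁ W)), τ = (lamA U hU).app W s := ⟨_, rfl⟩
  obtain ⟨t, ht⟩ := (hLB.bijective U hU (h ⁻¹ᵁ W) (preimage_le hPA hPB hh hW)).2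
    (GrTwist.comapApp (RelProj.gradedHomAt φ hφ U hU) (hirr U hU) n _ _ hUV τ)
  refine ⟨t, fun y hy hy' => ?_⟩
  have h1 := congrArg (fun q : GrTwist.sectN (𝒜 := ℬ.deg U hU) n
      (op (RelProj.emb pB chartB U hU ⁻¹ᵁ (h ⁻¹ᵁ W))) => GrTw.val q ⟨y, hy⟩) ht
  refine h1.trans ?_
  rw [hτ]
  rfl

theorem Rel.restrict {U : Y.Opens} {hU : IsAffineOpen U} {W' W : PA.Opens} (hW : W' ≤ W)
    {s : Γ(LA, W)} {t : Γ(LB, h ⁻¹ᵁ W)} (hr : Rel hirr h lamA lamB U hU W s t) :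
    Rel hirr h lamA lamB U hU W' (Groth.Agent.Lib.Ample.resSec LA hW s)
      (Groth.Agent.Lib.Ample.resSec LB (h.preimage_mono hW) t) := by
  intro y hy hy'
  have e1 := RelTw.val_lam_app_res (lam := lamB) U hU (h.preimage_mono hW) t ⟨y, hy⟩
  have e2 := RelTw.val_lam_app_res (lam := lamA) U hU hW s
    ⟨ProjectiveSpectrum.comap (RelProj.gradedHomAt φ hφ U hU) (hirr U hU) y, hy'⟩
  refine e1.trans ?_
  rw [e2]
  exact hr y (h.preimage_mono hW hy) (hW hy')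

/-- naturality of `φ` along restriction, elementwise -/
theorem gradedHomAt_res {U V : Y.Opens} (hU : IsAffineOpen U) (hV : IsAffineOpen V) (i : V ≤ U)
    (a : 𝒜.presheaf.obj (op U)) :
    ℬ.res hU hV i (RelProj.gradedHomAt φ hφ U hU a) =
      RelProj.gradedHomAt φ hφ V hV (𝒜.res hU hV i a) := by
  have h1 := φ.hom.naturality (homOfLE i).op
  exact (ConcreteCategory.congr_hom h1 a).symm

/-- **Step A**: the defining relation over `U` implies the one over a basic open `D(r) ⊆ U` -/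
theorem stepA (hPA : RelProj.IsRelProj 𝒜 pA chartA) (hPB : RelProj.IsRelProj ℬ pB chartB)
    (hh : RelProj.IsRelProjMap φ hφ hirr chartA chartB h)
    (hLA : RelProj.IsRelTwist 𝒜 pA chartA n LA lamA) (hLB : RelProj.IsRelTwist ℬ pB chartB n LB lamB)
    (U : Y.Opens) (hU : IsAffineOpen U) (r : Γ(Y, U)) (W : PA.Opens)
    (s : Γ(LA, W)) (t : Γ(LB, h ⁻¹ᵁ W)) (hr : Rel hirr h lamA lamB U hU W s t) :
    Rel hirr h lamA lamB (Y.basicOpen r) (hU.basicOpen r) W s t := by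
  intro y hy hy'
  -- the point read on the chart of `ℬ` over `U`
  have hyB : (RelProj.emb pB chartB U hU).base (ProjectiveSpectrum.comap
      (ℬ.res hU (hU.basicOpen r) (Y.basicOpen_le r)) (ℬ.irrelevant_le_map U hU r) y) ∈ h ⁻¹ᵁ W := by
    rw [← RelTl.emb_basicOpen_apply hPB U hU r y]
    exact hy
  have hyA₁ : (RelProj.emb pA chartA U hU).base (ProjectiveSpectrum.comap
      (RelProj.gradedHomAt φ hφ U hU) (hirr U hU) (ProjectiveSpectrum.comap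
      (ℬ.res hU (hU.basicOpen r) (Y.basicOpen_le r)) (ℬ.irrelevant_le_map U hU r) y)) ∈ W := by
    rw [← emb_h_apply hh U hU]
    exact hyB
  have hyA₂ : (RelProj.emb pA chartA U hU).base (ProjectiveSpectrum.comap
      (𝒜.res hU (hU.basicOpen r) (Y.basicOpen_le r)) (𝒜.irrelevant_le_map U hU r)
      (ProjectiveSpectrum.comap (RelProj.gradedHomAt φ hφ (Y.basicOpen r) (hU.basicOpen r))
        (hirr (Y.basicOpen r) (hU.basicOpen r)) y)) ∈ W := by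
    rw [← RelTl.emb_basicOpen_apply hPA U hU r]
    exact hy'
  have e1 := hLB.compat U hU r (h ⁻¹ᵁ W) t y hy hyB
  have e2 := hLA.compat U hU r W s _ hy' hyA₂
  have e3 := hr _ hyB hyA₁
  refine e1.trans ?_
  rw [e3, e2]
  exact locMap_locMap_eq (RelProj.gradedHomAt φ hφ U hU) (hirr U hU)
    (ℬ.res hU (hU.basicOpen r) (Y.basicOpen_le r)) (ℬ.irrelevant_le_map U hU r)
    (𝒜.res hU (hU.basicOpen r) (Y.basicOpen_le r)) (𝒜.irrelevant_le_map U hU r)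
    (RelProj.gradedHomAt φ hφ (Y.basicOpen r) (hU.basicOpen r))
    (hirr (Y.basicOpen r) (hU.basicOpen r))
    (fun a => gradedHomAt_res hU (hU.basicOpen r) (Y.basicOpen_le r) a) y
    ((lamA U hU).app W s) hyA₁ hyA₂

theorem Rel.basicOpen (hPA : RelProj.IsRelProj 𝒜 pA chartA) (hPB : RelProj.IsRelProj ℬ pB chartB)
    (hh : RelProj.IsRelProjMap φ hφ hirr chartA chartB h)
    (hLA : RelProj.IsRelTwist 𝒜 pA chartA n LA lamA) (hLB : RelProj.IsRelTwist ℬ pB chartB n LB lamB)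
    {U : Y.Opens} {hU : IsAffineOpen U} (r : Γ(Y, U)) (V : Y.Opens)
    (hV : IsAffineOpen V) (hVr : V = Y.basicOpen r) {W : PA.Opens} {s : Γ(LA, W)}
    {t : Γ(LB, h ⁻¹ᵁ W)} (hr : Rel hirr h lamA lamB U hU W s t) :
    Rel hirr h lamA lamB V hV W s t := by
  subst hVr
  exact stepA hPA hPB hh hLA hLB U hU r W s t hr

/-- two sections of `LB` over `h⁻¹(W)`, `W` over `U`, with the same reading on the chart over `U` agree -/
theorem eq_of_rel (hPA : RelProj.IsRelProj 𝒜 pA chartA) (hPB : RelProj.IsRelProj ℬ pB chartB)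
    (hh : RelProj.IsRelProjMap φ hφ hirr chartA chartB h)
    (hLB : RelProj.IsRelTwist ℬ pB chartB n LB lamB)
    {U : Y.Opens} {hU : IsAffineOpen U} {W : PA.Opens} (hW : W ≤ pA ⁻¹ᵁ U) {s : Γ(LA, W)}
    {t t' : Γ(LB, h ⁻¹ᵁ W)} (hr : Rel hirr h lamA lamB U hU W s t)
    (hr' : Rel hirr h lamA lamB U hU W s t') : t = t' := by
  apply (hLB.bijective U hU (h ⁻¹ᵁ W) (preimage_le hPA hPB hh hW)).1
  refine GrTw.sec_ext (V := op (RelProj.emb pB chartB U hU ⁻¹ᵁ (h ⁻¹ᵁ W))) fun y => ?_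
  have hy' : (RelProj.emb pA chartA U hU).base
      (ProjectiveSpectrum.comap (RelProj.gradedHomAt φ hφ U hU) (hirr U hU) y.1) ∈ W := by
    rw [← emb_h_apply hh U hU]
    exact y.2
  exact (hr y.1 y.2 hy').trans (hr' y.1 y.2 hy').symm

/-- **Step B**: independence of the chart -/
theorem Rel.of_le (hPA : RelProj.IsRelProj 𝒜 pA chartA) (hPB : RelProj.IsRelProj ℬ pB chartB)
    (hh : RelProj.IsRelProjMap φ hφ hirr chartA chartB h)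
    (hLA : RelProj.IsRelTwist 𝒜 pA chartA n LA lamA) (hLB : RelProj.IsRelTwist ℬ pB chartB n LB lamB)
    {U₁ U₂ : Y.Opens} {hU₁ : IsAffineOpen U₁} (hU₂ : IsAffineOpen U₂)
    {W : PA.Opens} (hW₁ : W ≤ pA ⁻¹ᵁ U₁) (hW₂ : W ≤ pA ⁻¹ᵁ U₂) {s : Γ(LA, W)}
    {t : Γ(LB, h ⁻¹ᵁ W)} (hr : Rel hirr h lamA lamB U₁ hU₁ W s t) :
    Rel hirr h lamA lamB U₂ hU₂ W s t := by
  obtain ⟨t₂, ht₂⟩ := exists_rel (lamA := lamA) hPA hPB hh hLB U₂ hU₂ hW₂ s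
  suffices t = t₂ by rw [this]; exact ht₂
  have key : ∀ z : (h ⁻¹ᵁ W : PB.Opens), ∃ W'' : PA.Opens, z.1 ∈ h ⁻¹ᵁ W'' ∧ ∃ hle : W'' ≤ W,
      Groth.Agent.Lib.Ample.resSec LB (h.preimage_mono hle) t =
        Groth.Agent.Lib.Ample.resSec LB (h.preimage_mono hle) t₂ := by
    intro z
    have hz : h.base z.1 ∈ W := z.2
    obtain ⟨r₁, r₂, hr12, hx⟩ := exists_basicOpen_le_affine_inter hU₁ hU₂ (pA.base (h.base z.1))
      ⟨hW₁ hz, hW₂ hz⟩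
    have hV : IsAffineOpen (Y.basicOpen r₁) := hU₁.basicOpen r₁
    refine ⟨W ⊓ pA ⁻¹ᵁ (Y.basicOpen r₁), ⟨hz, hx⟩, inf_le_left, ?_⟩
    have h1 := Rel.basicOpen hPA hPB hh hLA hLB r₁ _ hV rfl
      (hr.restrict (inf_le_left : W ⊓ pA ⁻¹ᵁ (Y.basicOpen r₁) ≤ W))
    have h2 := Rel.basicOpen hPA hPB hh hLA hLB r₂ _ hV hr12
      (ht₂.restrict (inf_le_left : W ⊓ pA ⁻¹ᵁ (Y.basicOpen r₁) ≤ W))
    exact eq_of_rel hPA hPB hh hLB inf_le_right h1 h2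
  choose W'' hx hle hres using key
  refine Groth.Agent.Lib.QCoh.sections_ext_of_cover LB (fun z => h ⁻¹ᵁ (W'' z)) (h ⁻¹ᵁ W)
    (fun z => h.preimage_mono (hle z)) ?_ t t₂ hres
  intro y hy
  exact Opens.mem_iSup.2 ⟨⟨y, hy⟩, hx ⟨y, hy⟩⟩

variable (hirr lamA lamB) in
/-- the image of a section over a good open -/
noncomputable def phi (hPA : RelProj.IsRelProj 𝒜 pA chartA) (hPB : RelProj.IsRelProj ℬ pB chartB)
    (hh : RelProj.IsRelProjMap φ hφ hirr chartA chartB h)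
    (hLB : RelProj.IsRelTwist ℬ pB chartB n LB lamB) (W : PA.Opens) (hW : RelTl.Good pA W)
    (s : Γ(LA, W)) : Γ(LB, h ⁻¹ᵁ W) :=
  (exists_rel (lamA := lamA) hPA hPB hh hLB hW.choose hW.choose_spec.choose
    hW.choose_spec.choose_spec s).choose

theorem phi_rel (hPA : RelProj.IsRelProj 𝒜 pA chartA) (hPB : RelProj.IsRelProj ℬ pB chartB)
    (hh : RelProj.IsRelProjMap φ hφ hirr chartA chartB h)
    (hLA : RelProj.IsRelTwist 𝒜 pA chartA n LA lamA) (hLB : RelProj.IsRelTwist ℬ pB chartB n LB lamB)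
    {W : PA.Opens} (hW : RelTl.Good pA W) (s : Γ(LA, W)) (U : Y.Opens)
    (hU : IsAffineOpen U) (hle : W ≤ pA ⁻¹ᵁ U) :
    Rel hirr h lamA lamB U hU W s (phi hirr lamA lamB hPA hPB hh hLB W hW s) := by
  have h0 : Rel hirr h lamA lamB hW.choose hW.choose_spec.choose W s
      (phi hirr lamA lamB hPA hPB hh hLB W hW s) :=
    (exists_rel (lamA := lamA) hPA hPB hh hLB hW.choose hW.choose_spec.choose
      hW.choose_spec.choose_spec s).choose_spec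
  exact h0.of_le hPA hPB hh hLA hLB hU hW.choose_spec.choose_spec hle

theorem eq_phi_of_rel (hPA : RelProj.IsRelProj 𝒜 pA chartA) (hPB : RelProj.IsRelProj ℬ pB chartB)
    (hh : RelProj.IsRelProjMap φ hφ hirr chartA chartB h)
    (hLA : RelProj.IsRelTwist 𝒜 pA chartA n LA lamA) (hLB : RelProj.IsRelTwist ℬ pB chartB n LB lamB)
    {W : PA.Opens} (hW : RelTl.Good pA W) {s : Γ(LA, W)} {t : Γ(LB, h ⁻¹ᵁ W)} {U : Y.Opens}
    {hU : IsAffineOpen U} (hle : W ≤ pA ⁻¹ᵁ U) (hr : Rel hirr h lamA lamB U hU W s t) :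
    t = phi hirr lamA lamB hPA hPB hh hLB W hW s :=
  eq_of_rel hPA hPB hh hLB hle hr (phi_rel hPA hPB hh hLA hLB hW s U hU hle)

/-- ring-level: the sheaf map of `Proj.map`, valuewise -/
theorem val_map_app {A σ B τ : Type u} [CommRing A] [SetLike σ A] [AddSubgroupClass σ A] {𝒜' : ℕ → σ}
    [GradedRing 𝒜'] [CommRing B] [SetLike τ B] [AddSubgroupClass τ B] {ℬ' : ℕ → τ} [GradedRing ℬ']
    (ψ : 𝒜' →+*ᵍ ℬ') (hψ : ℬ'₊ ≤ (𝒜'₊).map ψ) (V : (Proj 𝒜').Opens)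
    (ρ : GrTwist.O (𝒜 := 𝒜') (op V)) (y : (Proj.map ψ hψ ⁻¹ᵁ V : (Proj ℬ').Opens)) :
    (((((Proj.map ψ hψ).app V).hom ρ : GrTwist.O (𝒜 := ℬ') (op (Proj.map ψ hψ ⁻¹ᵁ V))).1 y).val) =
      GrTwist.locMap ψ hψ y.1 ((ρ.1 ⟨ProjectiveSpectrum.comap ψ hψ y.1, y.2⟩).val) := by
  have h1 : (((Proj.map ψ hψ).app V).hom ρ : GrTwist.O (𝒜 := ℬ') (op (Proj.map ψ hψ ⁻¹ᵁ V))) =
      Proj.comapStructureSheaf ψ hψ V (Proj.map ψ hψ ⁻¹ᵁ V) Set.Subset.rfl ρ := rfl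
  rw [h1, GrTwist.comapStructureSheaf_apply, HomogeneousLocalization.val_localRingHom]
  rfl

theorem val_map_eqToHom {B τ : Type u} [CommRing B] [SetLike τ B] [AddSubgroupClass τ B] {ℬ' : ℕ → τ}
    [GradedRing ℬ'] {V₁ V₂ : (Proj ℬ').Opens} (e : V₁ = V₂) (ρ : GrTwist.O (𝒜 := ℬ') (op V₂))
    (y : ProjectiveSpectrum ℬ') (hy : y ∈ V₁) :
    ((((Proj ℬ').presheaf.map (eqToHom e).op).hom ρ : GrTwist.O (𝒜 := ℬ') (op V₁)).1 ⟨y, hy⟩) =
      ρ.1 ⟨y, e ▸ hy⟩ := by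
  subst e
  rfl

theorem val_emb_app_h (hh : RelProj.IsRelProjMap φ hφ hirr chartA chartB h) (U : Y.Opens)
    (hU : IsAffineOpen U) (W : PA.Opens) (r : Γ(PA, W)) (y : ProjectiveSpectrum (ℬ.deg U hU))
    (hy : (RelProj.emb pB chartB U hU).base y ∈ h ⁻¹ᵁ W)
    (hy' : (RelProj.emb pA chartA U hU).base
      (ProjectiveSpectrum.comap (RelProj.gradedHomAt φ hφ U hU) (hirr U hU) y) ∈ W) :
    (((((RelProj.emb pB chartB U hU).app (h ⁻¹ᵁ W)).hom ((h.app W).hom r) :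
      GrTwist.O (𝒜 := ℬ.deg U hU) (op (RelProj.emb pB chartB U hU ⁻¹ᵁ (h ⁻¹ᵁ W)))).1 ⟨y, hy⟩).val) =
    GrTwist.locMap (RelProj.gradedHomAt φ hφ U hU) (hirr U hU) y
      (((((RelProj.emb pA chartA U hU).app W).hom r :
        GrTwist.O (𝒜 := 𝒜.deg U hU) (op (RelProj.emb pA chartA U hU ⁻¹ᵁ W))).1 ⟨_, hy'⟩).val) := by
  have e := emb_comp_map φ hφ hirr hh U hU
  obtain ⟨E, hE⟩ : ∃ E : RelProj.emb pB chartB U hU ⁻¹ᵁ (h ⁻¹ᵁ W) =
      Proj.map (RelProj.gradedHomAt φ hφ U hU) (hirr U hU) ⁻¹ᵁ (RelProj.emb pA chartA U hU ⁻¹ᵁ W),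
      (RelProj.emb pB chartB U hU ≫ h).app W =
        (Proj.map (RelProj.gradedHomAt φ hφ U hU) (hirr U hU) ≫ RelProj.emb pA chartA U hU).app W ≫
          (Proj (ℬ.deg U hU)).presheaf.map (eqToHom E).op := ⟨_, Scheme.Hom.congr_app e W⟩
  have e2 : ((RelProj.emb pB chartB U hU).app (h ⁻¹ᵁ W)).hom ((h.app W).hom r) =
      ((Proj (ℬ.deg U hU)).presheaf.map (eqToHom E).op).hom
        (((Proj.map (RelProj.gradedHomAt φ hφ U hU) (hirr U hU)).app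
          (RelProj.emb pA chartA U hU ⁻¹ᵁ W)).hom (((RelProj.emb pA chartA U hU).app W).hom r)) :=
    ConcreteCategory.congr_hom hE r
  have e3 := congrArg (fun σ : GrTwist.O (𝒜 := ℬ.deg U hU)
    (op (RelProj.emb pB chartB U hU ⁻¹ᵁ (h ⁻¹ᵁ W))) => (σ.1 ⟨y, hy⟩).val) e2
  refine e3.trans ?_
  simp only
  rw [val_map_eqToHom]
  exact val_map_app (RelProj.gradedHomAt φ hφ U hU) (hirr U hU) _ _ ⟨y, _⟩

/-- the chart immersion lands over `U` -/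
theorem emb_mem {𝒮 : RelProj.QCGrAlg Y} {P : Scheme.{u}} {p : P ⟶ Y}
    {chart : ∀ (U : Y.Opens) (hU : IsAffineOpen U),
      (((p ⁻¹ᵁ U : P.Opens) : Scheme.{u}) ≅ Proj (𝒮.deg U hU))} (U : Y.Opens) (hU : IsAffineOpen U)
    (y : ProjectiveSpectrum (𝒮.deg U hU)) : (RelProj.emb p chart U hU).base y ∈ p ⁻¹ᵁ U :=
  RelTw.emb_image_le (p := p) (chart := chart) U hU ⊤ ⟨y, trivial, rfl⟩

/-- **existence of the comparison morphism** -/
theorem exists_theta (hPA : RelProj.IsRelProj 𝒜 pA chartA) (hPB : RelProj.IsRelProj ℬ pB chartB)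
    (hh : RelProj.IsRelProjMap φ hφ hirr chartA chartB h)
    (hLA : RelProj.IsRelTwist 𝒜 pA chartA n LA lamA) (hLB : RelProj.IsRelTwist ℬ pB chartB n LB lamB) :
    ∃ θ : LA ⟶ (Scheme.Modules.pushforward h).obj LB,
      ∀ (U : Y.Opens) (hU : IsAffineOpen U) (W : PA.Opens) (s : Γ(LA, W)),
        Rel hirr h lamA lamB U hU W s (θ.app W s) := by
  obtain ⟨ψ, hnat, hψ⟩ := exists_family LA ((Scheme.Modules.pushforward h).obj LB) (RelTl.Good pA)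
    RelTl.good_basis (phi hirr lamA lamB hPA hPB hh hLB)
    (fun W' W => W' ≤ W) (fun hle => hle)
    (fun {W' W} hW' hW hle a => by
      obtain ⟨U, hU, hleU⟩ := hW
      exact (eq_phi_of_rel hPA hPB hh hLA hLB hW' (hle.trans hleU)
        ((phi_rel hPA hPB hh hLA hLB ⟨U, hU, hleU⟩ a U hU hleU).restrict hle)).symm)
    (fun W₁ W₂ hW₁ _ x hx => by
      obtain ⟨U, hU, hle⟩ := hW₁
      exact ⟨W₁ ⊓ W₂, ⟨U, hU, inf_le_left.trans hle⟩, hx, inf_le_left, inf_le_right⟩)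
  -- additivity and linearity on good opens
  have hadd0 : ∀ (W : PA.Opens) (hW : RelTl.Good pA W) (a b : Γ(LA, W)),
      phi hirr lamA lamB hPA hPB hh hLB W hW (a + b) =
        phi hirr lamA lamB hPA hPB hh hLB W hW a + phi hirr lamA lamB hPA hPB hh hLB W hW b := by
    intro W hW a b
    obtain ⟨U, hU, hle⟩ := hW
    refine (eq_phi_of_rel hPA hPB hh hLA hLB ⟨U, hU, hle⟩ (hU := hU) hle ?_).symm
    have ha := phi_rel hPA hPB hh hLA hLB ⟨U, hU, hle⟩ a U hU hle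
    have hb := phi_rel hPA hPB hh hLA hLB ⟨U, hU, hle⟩ b U hU hle
    intro y hy hy'
    rw [map_add, map_add]
    refine (GrTw.val_add (V := op (RelProj.emb pB chartB U hU ⁻¹ᵁ (h ⁻¹ᵁ W))) _ _ ⟨y, hy⟩).trans ?_
    refine (congrArg₂ (fun u v => u + v) (ha y hy hy') (hb y hy hy')).trans ?_
    exact (map_add (GrTwist.locMap (RelProj.gradedHomAt φ hφ U hU) (hirr U hU) y) _ _).symm
  have hsmul0 : ∀ (W : PA.Opens) (hW : RelTl.Good pA W) (r : Γ(PA, W)) (a : Γ(LA, W)),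
      phi hirr lamA lamB hPA hPB hh hLB W hW (r • a) =
        (show Γ((Scheme.Modules.pushforward h).obj LB, W) from
          r • (show Γ((Scheme.Modules.pushforward h).obj LB, W) from
            phi hirr lamA lamB hPA hPB hh hLB W hW a)) := by
    intro W hW r a
    obtain ⟨U, hU, hle⟩ := hW
    refine (eq_phi_of_rel hPA hPB hh hLA hLB ⟨U, hU, hle⟩ (hU := hU) hle ?_).symm
    have ha := phi_rel hPA hPB hh hLA hLB ⟨U, hU, hle⟩ a U hU hle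
    intro y hy hy'
    rw [Groth.Agent.Lib.QCoh.pushforward_smul_def]
    refine (RelTw.val_lam_app_smul (lam := lamB) U hU (h ⁻¹ᵁ W) ((h.app W).hom r) _ ⟨y, hy⟩).trans ?_
    refine (congrArg₂ (fun u v => u * v) (val_emb_app_h hh U hU W r y hy hy') (ha y hy hy')).trans ?_
    refine (map_mul (GrTwist.locMap (RelProj.gradedHomAt φ hφ U hU) (hirr U hU) y) _ _).symm.trans ?_
    exact congrArg _ (RelTw.val_lam_app_smul (lam := lamA) U hU W r a ⟨_, hy'⟩).symm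
  have hadd : ∀ (U : PA.Opens) (a b : Γ(LA, U)), ψ U (a + b) = ψ U a + ψ U b := by
    intro U a b
    refine eq_of_good _ (RelTl.Good pA) RelTl.good_basis _ _ fun W hW hWU => ?_
    rw [res_add, ← hnat hWU, ← hnat hWU, ← hnat hWU, res_add, hψ W hW, hψ W hW, hψ W hW, hadd0]
    rfl
  have hsmul : ∀ (U : PA.Opens) (r : Γ(PA, U)) (a : Γ(LA, U)), ψ U (r • a) = r • ψ U a := by
    intro U r a
    refine eq_of_good _ (RelTl.Good pA) RelTl.good_basis _ _ fun W hW hWU => ?_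
    rw [res_smul, ← hnat hWU, ← hnat hWU, res_smul, hψ W hW, hψ W hW, hsmul0]
  refine ⟨homOfFamily ψ hnat hadd hsmul, fun U hU W s => ?_⟩
  intro y hy hy'
  change GrTwist.val (V := RelProj.emb pB chartB U hU ⁻¹ᵁ (h ⁻¹ᵁ W))
    ((lamB U hU).app (h ⁻¹ᵁ W) (ψ W s)) ⟨y, hy⟩ = _
  have hle : W ⊓ pA ⁻¹ᵁ U ≤ W := inf_le_left
  have hgood : RelTl.Good pA (W ⊓ pA ⁻¹ᵁ U) := ⟨U, hU, inf_le_right⟩
  have hyW' : (RelProj.emb pA chartA U hU).base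
      (ProjectiveSpectrum.comap (RelProj.gradedHomAt φ hφ U hU) (hirr U hU) y) ∈ W ⊓ pA ⁻¹ᵁ U :=
    ⟨hy', emb_mem U hU _⟩
  have hyB' : (RelProj.emb pB chartB U hU).base y ∈ h ⁻¹ᵁ (W ⊓ pA ⁻¹ᵁ U) := by
    change h.base ((RelProj.emb pB chartB U hU).base y) ∈ W ⊓ pA ⁻¹ᵁ U
    rw [emb_h_apply hh U hU y]
    exact hyW'
  have h4 := phi_rel hPA hPB hh hLA hLB hgood (res LA hle s) U hU inf_le_right y hyB' hyW'
  have h6 : res ((Scheme.Modules.pushforward h).obj LB) hle (ψ W s) =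
      phi hirr lamA lamB hPA hPB hh hLB _ hgood (res LA hle s) := by
    rw [← hψ _ hgood, hnat hle]
  have e1 := RelTw.val_lam_app_res (lam := lamB) U hU (h.preimage_mono hle) (ψ W s) ⟨y, hyB'⟩
  have e2 := RelTw.val_lam_app_res (lam := lamA) U hU hle s
    ⟨ProjectiveSpectrum.comap (RelProj.gradedHomAt φ hφ U hU) (hirr U hU) y, hyW'⟩
  refine e1.symm.trans ?_
  have h7 : Groth.Agent.Lib.Ample.resSec LB (h.preimage_mono hle) (ψ W s) =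
      phi hirr lamA lamB hPA hPB hh hLB _ hgood (res LA hle s) := h6
  rw [h7]
  refine h4.trans ?_
  exact congrArg _ e2

/-- **uniqueness of the comparison morphism** -/
theorem theta_unique (hPA : RelProj.IsRelProj 𝒜 pA chartA) (hPB : RelProj.IsRelProj ℬ pB chartB)
    (hh : RelProj.IsRelProjMap φ hφ hirr chartA chartB h)
    (hLB : RelProj.IsRelTwist ℬ pB chartB n LB lamB)
    {θ₁ θ₂ : LA ⟶ (Scheme.Modules.pushforward h).obj LB}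
    (h₁ : ∀ (U : Y.Opens) (hU : IsAffineOpen U) (W : PA.Opens) (s : Γ(LA, W)),
      Rel hirr h lamA lamB U hU W s (θ₁.app W s))
    (h₂ : ∀ (U : Y.Opens) (hU : IsAffineOpen U) (W : PA.Opens) (s : Γ(LA, W)),
      Rel hirr h lamA lamB U hU W s (θ₂.app W s)) : θ₁ = θ₂ := by
  apply Scheme.Modules.hom_ext
  intro W
  ext s
  refine eq_of_good ((Scheme.Modules.pushforward h).obj LB) (RelTl.Good pA) RelTl.good_basis _ _
    fun W' hW' hle => ?_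
  obtain ⟨U, hU, hleU⟩ := hW'
  have e1 := Groth.Agent.Lib.QCoh.app_naturality_apply θ₁ (homOfLE hle) s
  have e2 := Groth.Agent.Lib.QCoh.app_naturality_apply θ₂ (homOfLE hle) s
  refine e1.symm.trans (Eq.trans ?_ e2)
  exact eq_of_rel hPA hPB hh hLB hleU (h₁ U hU W' _) (h₂ U hU W' _)

end Groth.Agent.Lib.Proj.RelTwC
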