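import Groth.Agent.Lib.Proj.Helper66_RelTwist
import Groth.Agent.Lib.Ample.GenLocus
import Groth.Agent.Lib.QCoh.Helper50_FinitePush

/-!
# Relative twisting sheaves: sections read through charts, generating loci (helper66)

ns `Groth.Agent.Lib.Proj.RelTw`.
* `image_ι_preimage_chart` : `(p⁻¹U).ι ''ᵁ (chart⁻¹ V) = emb ''ᵁ V`
* `val_lam_app_smul` : value of `lam (r • t)` is `emb^#(r)` times the value of `lam t`
* `bijective_smul_of_val` / `not_mem_of_surjective_smul` : sections with value `f/1`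
-/

universe u
open CategoryTheory CategoryTheory.Limits AlgebraicGeometry TopologicalSpace Opposite

namespace Groth.Agent.Lib.Proj.GrTw

open GrTwist

variable {A σ : Type u} [CommRing A] [SetLike σ A] [AddSubgroupClass σ A] {𝒜 : ℕ → σ} [GradedRing 𝒜]

/-- a section of `O(i)` with value `a / 1`, `a` nowhere vanishing on `V'`, is a free generator over `V'` -/
theorem bijective_smul_of_val_eq {i : ℕ} (a : 𝒜 i) (V' : (Opens (ProjectiveSpectrum.top 𝒜))ᵒᵖ)
    (ha : ∀ x : V'.unop, a.1 ∉ x.1.asHomogeneousIdeal) (τ : Sec 𝒜 (i : ℤ) V')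
    (hτ : ∀ x : V'.unop, val τ x = Localization.mk a.1 1) :
    Function.Bijective (fun ρ : O V' => ρ • τ) := by
  have h : (fun ρ : O V' => ρ • τ) =
      (mulFracSect V' a (one0 𝒜) (fun x => one_not_mem x.1) 0 i (by simp)) ∘ (toTwistZeroSect V') := by
    funext ρ
    apply sec_ext
    intro x
    rw [val_smul, hτ]
    exact mul_comm _ _
  rw [h]
  exact (mulFracSect_bijective V' a (one0 𝒜) ha (fun x => one_not_mem x.1) 0 i (by simp)).comp
    (toTwistZeroSect_bijective V')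

/-- if `c * (a / 1) = t ^ k / 1` in the local ring at `x` and `t ∉ x`, then `a ∉ x` -/
theorem not_mem_of_mul_mk_eq (x : ProjectiveSpectrum 𝒜) (c : Loc 𝒜 x) (a t : A) (k : ℕ)
    (h : c * Localization.mk a 1 = Localization.mk (t ^ k) 1) (ht : t ∉ x.asHomogeneousIdeal) :
    a ∉ x.asHomogeneousIdeal := by
  intro hax
  have e1 : ∀ b : A, (Localization.mk b 1 : Loc 𝒜 x) = algebraMap A (Loc 𝒜 x) b := fun b =>
    Localization.mk_one_eq_algebraMap b
  rw [e1, e1] at h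
  have h6 : algebraMap A (Loc 𝒜 x) a ∈ IsLocalRing.maximalIdeal (Loc 𝒜 x) :=
    (IsLocalization.AtPrime.to_map_mem_maximal_iff (Loc 𝒜 x) x.asHomogeneousIdeal.toIdeal a).mpr hax
  have h7 : algebraMap A (Loc 𝒜 x) (t ^ k) ∈ IsLocalRing.maximalIdeal (Loc 𝒜 x) := by
    rw [← h]
    exact Ideal.mul_mem_left _ _ h6
  have h8 : t ^ k ∈ x.asHomogeneousIdeal.toIdeal :=
    (IsLocalization.AtPrime.to_map_mem_maximal_iff (Loc 𝒜 x) x.asHomogeneousIdeal.toIdeal _).mp h7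
  exact ht (x.isPrime.mem_of_pow_mem k h8)

/-- the section `a / 1` of `O(i)` over any open -/
noncomputable def constSect {i : ℕ} (a : 𝒜 i) (V' : (Opens (ProjectiveSpectrum.top 𝒜))ᵒᵖ) :
    Sec 𝒜 (i : ℤ) V' :=
  mulFracSect V' a (one0 𝒜) (fun x => one_not_mem x.1) 0 i (by simp) (toTwistZeroSect V' 1)

lemma val_constSect {i : ℕ} (a : 𝒜 i) (V' : (Opens (ProjectiveSpectrum.top 𝒜))ᵒᵖ) (x : V'.unop) :
    val (constSect a V') x = Localization.mk a.1 1 := by
  unfold constSect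
  rw [val_mulFracSect]
  have h1 : val (toTwistZeroSect (𝒜 := 𝒜) V' 1) x = 1 := by
    change ((1 : O V').1 x).val = 1
    exact HomogeneousLocalization.val_one
  rw [h1, mul_one]
  rfl

end Groth.Agent.Lib.Proj.GrTw

namespace Groth.Agent.Lib.Proj.RelTw

open RelProj Groth.Agent.Lib.Ample

variable {Y P : Scheme.{u}} {𝒮 : RelProj.QCGrAlg Y} {p : P ⟶ Y}
  {chart : ∀ (U : Y.Opens) (hU : IsAffineOpen U),
    (((p ⁻¹ᵁ U : P.Opens) : Scheme.{u}) ≅ Proj (𝒮.deg U hU))}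
  {n : ℤ} {L : P.Modules}
  {lam : ∀ (U : Y.Opens) (hU : IsAffineOpen U),
      L ⟶ (Scheme.Modules.pushforward (RelProj.emb p chart U hU)).obj (GrTwist.twist (𝒮.deg U hU) n)}

lemma emb_apply (U : Y.Opens) (hU : IsAffineOpen U) (z : Proj (𝒮.deg U hU)) :
    (RelProj.emb p chart U hU) z = (p ⁻¹ᵁ U).ι ((chart U hU).inv z) := by
  unfold RelProj.emb
  exact Scheme.Hom.comp_apply _ _ _

lemma image_ι_preimage_chart (U : Y.Opens) (hU : IsAffineOpen U) (V : (Proj (𝒮.deg U hU)).Opens) :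
    (p ⁻¹ᵁ U).ι ''ᵁ ((chart U hU).hom ⁻¹ᵁ V) = (RelProj.emb p chart U hU) ''ᵁ V := by
  ext x
  constructor
  · rintro ⟨y, hy, rfl⟩
    exact ⟨(chart U hU).hom y, hy, emb_chart_hom U hU y⟩
  · rintro ⟨z, hz, rfl⟩
    refine ⟨(chart U hU).inv z, ?_, (emb_apply U hU z).symm⟩
    change (chart U hU).hom ((chart U hU).inv z) ∈ V
    have h : (chart U hU).hom ((chart U hU).inv z) = z := by
      rw [← Scheme.Hom.comp_apply, Iso.inv_hom_id]
      rfl
    rw [h]
    exact hz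

/-- the value of `lam (r • t)` is `emb^#(r)` times the value of `lam t` -/
theorem val_lam_app_smul (U : Y.Opens) (hU : IsAffineOpen U) (V : P.Opens) (r : Γ(P, V)) (t : Γ(L, V))
    (y : (RelProj.emb p chart U hU) ⁻¹ᵁ V) :
    GrTwist.val (V := (RelProj.emb p chart U hU) ⁻¹ᵁ V) ((lam U hU).app V (r • t)) y =
      ((((RelProj.emb p chart U hU).app V).hom r :
        GrTwist.O (𝒜 := 𝒮.deg U hU) (op ((RelProj.emb p chart U hU) ⁻¹ᵁ V))).1 y).val *
        GrTwist.val (V := (RelProj.emb p chart U hU) ⁻¹ᵁ V) ((lam U hU).app V t) y := by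
  rw [Scheme.Modules.Hom.app_smul, QCoh.pushforward_smul_def]
  exact GrTw.val_smul _ _ y

/-- reading through `lam` commutes with restriction of sections -/
theorem val_lam_app_res (U : Y.Opens) (hU : IsAffineOpen U) {V W : P.Opens} (h : W ≤ V) (t : Γ(L, V))
    (y : (RelProj.emb p chart U hU) ⁻¹ᵁ W) :
    GrTwist.val (V := (RelProj.emb p chart U hU) ⁻¹ᵁ W) ((lam U hU).app W (resSec L h t)) y =
      GrTwist.val (V := (RelProj.emb p chart U hU) ⁻¹ᵁ V) ((lam U hU).app V t) ⟨y.1, h y.2⟩ := by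
  have h1 := (lam U hU).mapPresheaf.naturality (homOfLE h).op
  have h2 := congrArg (fun k => k.hom t) h1
  simp only [Scheme.Modules.mapPresheaf_app] at h2
  have h3 : (lam U hU).app W (resSec L h t) =
      (((Scheme.Modules.pushforward (RelProj.emb p chart U hU)).obj
        (GrTwist.twist (𝒮.deg U hU) n)).presheaf.map (homOfLE h).op).hom ((lam U hU).app V t) := h2
  rw [h3]
  rfl

section gen

variable {d : ℕ}
  {lam : ∀ (U : Y.Opens) (hU : IsAffineOpen U),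
      L ⟶ (Scheme.Modules.pushforward (RelProj.emb p chart U hU)).obj
        (GrTwist.twist (𝒮.deg U hU) (d : ℤ))}

/-- a global section of `O_P(d)` reading `f / 1` on the chart over `U` freely generates `O_P(d)` over every open
inside the image of `D₊(f)` -/
theorem bijective_smul_resSec (hL : RelProj.IsRelTwist 𝒮 p chart (d : ℤ) L lam) (U : Y.Opens)
    (hU : IsAffineOpen U) (fU : 𝒮.deg U hU d) (σ : Γ(L, ⊤))
    (hσ : ∀ y : Proj (𝒮.deg U hU),
      GrTwist.val (V := (RelProj.emb p chart U hU) ⁻¹ᵁ ⊤) ((lam U hU).app ⊤ σ) ⟨y, Set.mem_univ _⟩ =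
        Localization.mk fU.1 1)
    (V : P.Opens) (hV : V ≤ (RelProj.emb p chart U hU) ''ᵁ (Proj.basicOpen (𝒮.deg U hU) fU.1)) :
    Function.Bijective (fun r : Γ(P, V) => r • resSec L (le_top : V ≤ ⊤) σ) := by
  have hVU : V ≤ p ⁻¹ᵁ U := hV.trans (emb_image_le U hU _)
  have hlam := hL.bijective U hU V hVU
  rw [← Function.Bijective.of_comp_iff' hlam]
  have hV' : ∀ y : ((RelProj.emb p chart U hU) ⁻¹ᵁ V : (Proj (𝒮.deg U hU)).Opens),
      fU.1 ∉ y.1.asHomogeneousIdeal := by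
    intro y
    obtain ⟨z, hz, hzy⟩ := hV y.2
    have hzy' : z = y.1 := (RelProj.emb p chart U hU).isOpenEmbedding.injective hzy
    exact hzy' ▸ (Proj.mem_basicOpen (𝒮.deg U hU) fU.1 z).1 hz
  obtain ⟨τ, hτd⟩ : ∃ τ : GrTw.Sec (𝒮.deg U hU) (d : ℤ) (op ((RelProj.emb p chart U hU) ⁻¹ᵁ V)),
      τ = (lam U hU).app V (resSec L (le_top : V ≤ ⊤) σ) := ⟨_, rfl⟩
  have hτ : ∀ y : ((RelProj.emb p chart U hU) ⁻¹ᵁ V : (Proj (𝒮.deg U hU)).Opens),
      GrTw.val τ y = Localization.mk fU.1 1 := by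
    intro y
    rw [hτd]
    exact (val_lam_app_res U hU le_top σ y).trans (hσ y.1)
  have hcomp : ((lam U hU).app V).hom ∘ (fun r : Γ(P, V) => r • resSec L (le_top : V ≤ ⊤) σ) =
      (fun ρ : GrTwist.O (𝒜 := 𝒮.deg U hU) (op ((RelProj.emb p chart U hU) ⁻¹ᵁ V)) => ρ • τ) ∘
        ((RelProj.emb p chart U hU).app V).hom := by
    funext r
    apply GrTw.sec_ext
    intro y
    refine (val_lam_app_smul U hU V r _ y).trans ?_
    refine Eq.trans ?_ (GrTw.val_smul _ τ y).symm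
    rw [hτd]
  rw [hcomp]
  have hiso : IsIso ((RelProj.emb p chart U hU).app V) :=
    Scheme.Hom.isIso_app _ V (hV.trans (by
      rintro _ ⟨z, -, rfl⟩
      exact ⟨z, rfl⟩))
  have hb1 : Function.Bijective ((RelProj.emb p chart U hU).app V).hom :=
    (ConcreteCategory.isIso_iff_bijective _).1 hiso
  have hb2 : Function.Bijective
      (fun ρ : GrTwist.O (𝒜 := 𝒮.deg U hU) (op ((RelProj.emb p chart U hU) ⁻¹ᵁ V)) => ρ • τ) :=
    GrTw.bijective_smul_of_val_eq fU (op ((RelProj.emb p chart U hU) ⁻¹ᵁ V)) hV' τ hτ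
  exact hb2.comp hb1

/-- conversely: where such a section generates, `f` does not vanish (given a degree-one element not vanishing
there) -/
theorem not_mem_of_surjective (hL : RelProj.IsRelTwist 𝒮 p chart (d : ℤ) L lam) (U : Y.Opens)
    (hU : IsAffineOpen U) (fU : 𝒮.deg U hU d) (σ : Γ(L, ⊤))
    (hσ : ∀ y : Proj (𝒮.deg U hU),
      GrTwist.val (V := (RelProj.emb p chart U hU) ⁻¹ᵁ ⊤) ((lam U hU).app ⊤ σ) ⟨y, Set.mem_univ _⟩ =
        Localization.mk fU.1 1)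
    (V : P.Opens) (hVU : V ≤ p ⁻¹ᵁ U)
    (hsurj : Function.Surjective (fun r : Γ(P, V) => r • resSec L (le_top : V ≤ ⊤) σ))
    (y : Proj (𝒮.deg U hU)) (hy : (RelProj.emb p chart U hU) y ∈ V)
    (t : 𝒮.deg U hU 1) (hty : t.1 ∉ y.asHomogeneousIdeal) :
    fU.1 ∉ y.asHomogeneousIdeal := by
  have htd : t.1 ^ d ∈ 𝒮.deg U hU d := by
    have := SetLike.pow_mem_graded d t.2
    simpa using this
  obtain ⟨τ', hτ'⟩ := (hL.bijective U hU V hVU).2
    (GrTw.constSect (⟨t.1 ^ d, htd⟩ : 𝒮.deg U hU d) (op ((RelProj.emb p chart U hU) ⁻¹ᵁ V)))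
  obtain ⟨r, hr⟩ := hsurj τ'
  have h1 := val_lam_app_smul (lam := lam) U hU V r (resSec L (le_top : V ≤ ⊤) σ) ⟨y, hy⟩
  have h2 : GrTwist.val (V := (RelProj.emb p chart U hU) ⁻¹ᵁ V)
      ((lam U hU).app V (resSec L (le_top : V ≤ ⊤) σ)) ⟨y, hy⟩ = Localization.mk fU.1 1 :=
    (val_lam_app_res U hU le_top σ ⟨y, hy⟩).trans (hσ y)
  rw [h2] at h1
  have h3 : GrTwist.val (V := (RelProj.emb p chart U hU) ⁻¹ᵁ V)
      ((lam U hU).app V (r • resSec L (le_top : V ≤ ⊤) σ)) ⟨y, hy⟩ = Localization.mk (t.1 ^ d) 1 := by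
    have h4 : (r • resSec L (le_top : V ≤ ⊤) σ) = τ' := hr
    rw [h4]
    have h5 := congrArg (fun q : GrTw.Sec (𝒮.deg U hU) (d : ℤ) (op ((RelProj.emb p chart U hU) ⁻¹ᵁ V)) =>
      GrTw.val q ⟨y, hy⟩) hτ'
    exact h5.trans (GrTw.val_constSect _ _ _)
  rw [h3] at h1
  exact GrTw.not_mem_of_mul_mk_eq y _ fU.1 t.1 d h1.symm hty

end gen

end Groth.Agent.Lib.Proj.RelTw
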