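import Groth.Agent.Lib.Proj.Helper66_RelTwistTensor
import Groth.Agent.Lib.QCoh.TensorRestrict

/-!
# `O_P(n)|_U ⊗ O_P(-n)|_U ≅ O_U` on quasi-compact opens, `n` sufficiently divisible (helper66)

ns `Groth.Agent.Lib.Proj.RelTw`.
-/

universe u
open CategoryTheory CategoryTheory.Limits AlgebraicGeometry TopologicalSpace Opposite

namespace Groth.Agent.Lib.Proj.RelTw

open RelProj Groth.Agent.Lib.Ample

variable {Y P : Scheme.{u}} {𝒮 : RelProj.QCGrAlg Y} {p : P ⟶ Y}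
  {chart : ∀ (U : Y.Opens) (hU : IsAffineOpen U),
    (((p ⁻¹ᵁ U : P.Opens) : Scheme.{u}) ≅ Proj (𝒮.deg U hU))}

/-- the cocycle computation for two opposite twists, exponents depending on the chart -/
lemma ring_aux2 {R : Type*} [CommRing R] {x z : R} (hx : IsUnit x) (hz : IsUnit z)
    {a₁ b₁ a₂ b₂ a₁' b₁' a₂' b₂' : ℕ} (hsum : a₁ + a₂ = b₁ + b₂) (hsum' : a₁' + a₂' = b₁' + b₂')
    {γ₁ γ₂ v₁ v₂ : R}
    (h₁ : x ^ b₁ * (γ₁ * v₁) = x ^ a₁) (h₂ : x ^ b₂ * (γ₂ * v₂) = x ^ a₂)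
    (k₁ : z ^ b₁' * v₁ = z ^ a₁') (k₂ : z ^ b₂' * v₂ = z ^ a₂') :
    γ₁ * γ₂ = 1 := by
  have e1 : (γ₁ * v₁) * (γ₂ * v₂) = 1 := by
    have hu : IsUnit (x ^ (b₁ + b₂)) := hx.pow _
    apply hu.mul_left_cancel
    calc x ^ (b₁ + b₂) * ((γ₁ * v₁) * (γ₂ * v₂))
        = (x ^ b₁ * (γ₁ * v₁)) * (x ^ b₂ * (γ₂ * v₂)) := by ring
      _ = x ^ a₁ * x ^ a₂ := by rw [h₁, h₂]
      _ = x ^ (b₁ + b₂) * 1 := by rw [← pow_add, hsum, mul_one]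
  have e2 : v₁ * v₂ = 1 := by
    have hu : IsUnit (z ^ (b₁' + b₂')) := hz.pow _
    apply hu.mul_left_cancel
    calc z ^ (b₁' + b₂') * (v₁ * v₂)
        = (z ^ b₁' * v₁) * (z ^ b₂' * v₂) := by ring
      _ = z ^ a₁' * z ^ a₂' := by rw [k₁, k₂]
      _ = z ^ (b₁' + b₂') * 1 := by rw [← pow_add, hsum', mul_one]
  calc γ₁ * γ₂ = γ₁ * γ₂ * (v₁ * v₂) := by rw [e2, mul_one]
    _ = (γ₁ * v₁) * (γ₂ * v₂) := by ring
    _ = 1 := e1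

section two

variable {n₁ n₂ : ℤ} {L₁ L₂ : P.Modules}
  {lam₁ : ∀ (U : Y.Opens) (hU : IsAffineOpen U),
      L₁ ⟶ (Scheme.Modules.pushforward (RelProj.emb p chart U hU)).obj (GrTwist.twist (𝒮.deg U hU) n₁)}
  {lam₂ : ∀ (U : Y.Opens) (hU : IsAffineOpen U),
      L₂ ⟶ (Scheme.Modules.pushforward (RelProj.emb p chart U hU)).obj (GrTwist.twist (𝒮.deg U hU) n₂)}

/-- transition functions of opposite twists are inverse to each other, read on one common chart -/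
theorem chart_mul_one {V : Y.Opens} {hV : IsAffineOpen V} {τ₁ τ₂ : 𝒮.presheaf.obj (op V)} {Ω : P.Opens}
    (hΩ : Ω ≤ p ⁻¹ᵁ V) (nv₁ : NV p chart τ₁ hV Ω) (nv₂ : NV p chart τ₂ hV Ω)
    {a₁ b₁ a₂ b₂ a₁' b₁' a₂' b₂' : ℕ} (hsum : a₁ + a₂ = b₁ + b₂) (hsum' : a₁' + a₂' = b₁' + b₂')
    {s₁ s₁' : Γ(L₁, Ω)} {c₁ : Γ(P, Ω)} (hc₁ : s₁ = c₁ • s₁')
    (r₁ : ReadsG lam₁ τ₁ a₁ b₁ hV Ω s₁) (r₁' : ReadsG lam₁ τ₂ a₁' b₁' hV Ω s₁')
    {s₂ s₂' : Γ(L₂, Ω)} {c₂ : Γ(P, Ω)} (hc₂ : s₂ = c₂ • s₂')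
    (r₂ : ReadsG lam₂ τ₁ a₂ b₂ hV Ω s₂) (r₂' : ReadsG lam₂ τ₂ a₂' b₂' hV Ω s₂') :
    c₁ * c₂ = 1 := by
  have hiso : IsIso ((RelProj.emb p chart V hV).app Ω) :=
    Scheme.Hom.isIso_app _ Ω (hΩ.trans (preimage_le_opensRange V hV))
  apply ((ConcreteCategory.isIso_iff_bijective _).1 hiso).1
  change ((RelProj.emb p chart V hV).app Ω).hom (c₁ * c₂) = ((RelProj.emb p chart V hV).app Ω).hom 1
  rw [map_mul, map_one]
  apply Subtype.ext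
  funext y
  apply HomogeneousLocalization.val_injective
  have hx : IsUnit (algebraMap (𝒮.presheaf.obj (op V)) (GrTwist.Loc (𝒮.deg V hV) y.1) τ₁) :=
    IsLocalization.map_units (GrTwist.Loc (𝒮.deg V hV) y.1)
      (⟨τ₁, nv₁ y.1 y.2⟩ : y.1.asHomogeneousIdeal.toIdeal.primeCompl)
  have hz : IsUnit (algebraMap (𝒮.presheaf.obj (op V)) (GrTwist.Loc (𝒮.deg V hV) y.1) τ₂) :=
    IsLocalization.map_units (GrTwist.Loc (𝒮.deg V hV) y.1)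
      (⟨τ₂, nv₂ y.1 y.2⟩ : y.1.asHomogeneousIdeal.toIdeal.primeCompl)
  have key := ring_aux2 hx hz hsum hsum'
    (trans_val hc₁ r₁ y.1 y.2) (trans_val hc₂ r₂ y.1 y.2)
    (reads_val r₁' y.1 y.2) (reads_val r₂' y.1 y.2)
  refine Eq.trans ?_ (key.trans HomogeneousLocalization.val_one.symm)
  exact HomogeneousLocalization.val_mul _ _

theorem trans_mul_one (hP : RelProj.IsRelProj 𝒮 p chart)
    (hL₁ : RelProj.IsRelTwist 𝒮 p chart n₁ L₁ lam₁) (hL₂ : RelProj.IsRelTwist 𝒮 p chart n₂ L₂ lam₂)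
    {a₁ b₁ a₂ b₂ a₁' b₁' a₂' b₂' : ℕ} (hsum : a₁ + a₂ = b₁ + b₂) (hsum' : a₁' + a₂' = b₁' + b₂')
    {Ua Ub : Y.Opens} {hUa : IsAffineOpen Ua} {hUb : IsAffineOpen Ub}
    {ta : 𝒮.presheaf.obj (op Ua)} {tb : 𝒮.presheaf.obj (op Ub)} {Wa Wb : P.Opens}
    (hWa : Wa ≤ p ⁻¹ᵁ Ua) (hWb : Wb ≤ p ⁻¹ᵁ Ub)
    (nva : NV p chart ta hUa Wa) (nvb : NV p chart tb hUb Wb)
    {ea₁ : Γ(L₁, Wa)} {eb₁ : Γ(L₁, Wb)} (ra₁ : ReadsG lam₁ ta a₁ b₁ hUa Wa ea₁)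
    (rb₁ : ReadsG lam₁ tb a₁' b₁' hUb Wb eb₁) {c₁ : Γ(P, Wa ⊓ Wb)}
    (hc₁ : resSec L₁ (inf_le_left : Wa ⊓ Wb ≤ Wa) ea₁ =
      c₁ • resSec L₁ (inf_le_right : Wa ⊓ Wb ≤ Wb) eb₁)
    {ea₂ : Γ(L₂, Wa)} {eb₂ : Γ(L₂, Wb)} (ra₂ : ReadsG lam₂ ta a₂ b₂ hUa Wa ea₂)
    (rb₂ : ReadsG lam₂ tb a₂' b₂' hUb Wb eb₂) {c₂ : Γ(P, Wa ⊓ Wb)}
    (hc₂ : resSec L₂ (inf_le_left : Wa ⊓ Wb ≤ Wa) ea₂ =
      c₂ • resSec L₂ (inf_le_right : Wa ⊓ Wb ≤ Wb) eb₂) :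
    c₁ * c₂ = 1 := by
  have key : ∀ x : (Wa ⊓ Wb : P.Opens), ∃ W'' : P.Opens, x.1 ∈ W'' ∧ ∃ hle : W'' ≤ Wa ⊓ Wb,
      resFn hle (c₁ * c₂) = resFn hle 1 := by
    intro x
    obtain ⟨r₁, r₂, hr, hx⟩ := exists_basicOpen_le_affine_inter hUa hUb (p x.1)
      ⟨hWa x.2.1, hWb x.2.2⟩
    refine ⟨(Wa ⊓ Wb) ⊓ p ⁻¹ᵁ (Y.basicOpen r₁), ⟨x.2, hx⟩, inf_le_left, ?_⟩
    have hΩ : (Wa ⊓ Wb) ⊓ p ⁻¹ᵁ (Y.basicOpen r₁) ≤ Wa ⊓ Wb := inf_le_left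
    have hΩa : (Wa ⊓ Wb) ⊓ p ⁻¹ᵁ (Y.basicOpen r₁) ≤ Wa := hΩ.trans inf_le_left
    have hΩb : (Wa ⊓ Wb) ⊓ p ⁻¹ᵁ (Y.basicOpen r₁) ≤ Wb := hΩ.trans inf_le_right
    have hmul : resFn hΩ (c₁ * c₂) = resFn hΩ c₁ * resFn hΩ c₂ :=
      map_mul (P.presheaf.map (homOfLE hΩ).op).hom c₁ c₂
    have hone : resFn hΩ (1 : Γ(P, Wa ⊓ Wb)) = 1 := map_one (P.presheaf.map (homOfLE hΩ).op).hom
    rw [hmul, hone]
    exact chart_mul_one (V := Y.basicOpen r₁) (hV := hUa.basicOpen r₁) inf_le_right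
      ((nva.mono hΩa).basicOpen hP r₁)
      (((nvb.mono hΩb).basicOpen hP r₂).of_eq hr.symm (hUa.basicOpen r₁)) hsum hsum'
      (smul_res_of_eq hΩ hc₁) ((ra₁.restrict hΩa).basicOpen hP hL₁ r₁)
      (((rb₁.restrict hΩb).basicOpen hP hL₁ r₂).of_eq hr.symm (hUa.basicOpen r₁))
      (smul_res_of_eq hΩ hc₂) ((ra₂.restrict hΩa).basicOpen hP hL₂ r₁)
      (((rb₂.restrict hΩb).basicOpen hP hL₂ r₂).of_eq hr.symm (hUa.basicOpen r₁))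
  choose W'' hx hle hres using key
  refine Groth.Agent.Lib.Helper48.UfdPic.fn_ext_of_cover W'' (Wa ⊓ Wb) hle ?_ _ _ hres
  intro y hy
  exact Opens.mem_iSup.2 ⟨⟨y, hy⟩, hx ⟨y, hy⟩⟩

end two

section main

/-- **`O_P(n)|_Ω ⊗ O_P(-n)|_Ω ≅ O_Ω` for `Ω` quasi-compact and `n` sufficiently divisible** -/
theorem exists_period_tensor_neg_iso (hP : RelProj.IsRelProj 𝒮 p chart) (Ω : P.Opens)
    (hΩ : IsCompact (Ω : Set P)) :
    ∃ d : ℕ, 0 < d ∧ ∀ (n : ℤ), (d : ℤ) ∣ n →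
      ∀ (L : P.Modules)
        (lam : ∀ (V : Y.Opens) (hV : IsAffineOpen V),
          L ⟶ (Scheme.Modules.pushforward (RelProj.emb p chart V hV)).obj
            (GrTwist.twist (𝒮.deg V hV) n)),
        RelProj.IsRelTwist 𝒮 p chart n L lam →
      ∀ (L' : P.Modules)
        (lam' : ∀ (V : Y.Opens) (hV : IsAffineOpen V),
          L' ⟶ (Scheme.Modules.pushforward (RelProj.emb p chart V hV)).obj
            (GrTwist.twist (𝒮.deg V hV) (-n))),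
        RelProj.IsRelTwist 𝒮 p chart (-n) L' lam' →
          Nonempty (CohB1.tensorMod (L.restrict Ω.ι) (L'.restrict Ω.ι) ≅
            Coh.structureModule (Ω : Scheme.{u})) := by
  classical
  choose U hU d hd f hf using exists_image_basicOpen_mem (𝒮 := 𝒮) (p := p) (chart := chart)
  obtain ⟨t, ht⟩ := hΩ.elim_finite_subcover
    (fun x : P => (((RelProj.emb p chart (U x) (hU x)) ''ᵁ
      (Proj.basicOpen (𝒮.deg (U x) (hU x)) (f x).1) : P.Opens) : Set P))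
    (fun x => Opens.isOpen _) (fun x _ => Set.mem_iUnion.2 ⟨x, hf x⟩)
  refine ⟨∏ x ∈ t, d x, Finset.prod_pos fun x _ => hd x, ?_⟩
  intro n hn L lam hL L' lam' hL'
  have hdvd : ∀ i : {x // x ∈ t}, ((d i.1 : ℕ) : ℤ) ∣ n := fun i =>
    (Int.natCast_dvd_natCast.2 (Finset.dvd_prod_of_mem d i.2)).trans hn
  choose q hq using hdvd
  let W : {x // x ∈ t} → P.Opens := fun i =>
    (RelProj.emb p chart (U i.1) (hU i.1)) ''ᵁ
      (Proj.basicOpen (𝒮.deg (U i.1) (hU i.1)) (f i.1).1)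
  have hcov : Ω ≤ iSup W := by
    intro y hy
    obtain ⟨x, hx⟩ := Set.mem_iUnion.1 (ht hy)
    obtain ⟨hxt, hyx⟩ := Set.mem_iUnion.1 hx
    exact Opens.mem_iSup.2 ⟨⟨x, hxt⟩, hyx⟩
  have hWle : ∀ i, W i ≤ p ⁻¹ᵁ (U i.1) := fun i => emb_image_le (U i.1) (hU i.1) _
  have hnv : ∀ i, NV p chart ((f i.1).1) (hU i.1) (W i) := fun i => NV.of_le_image le_rfl
  have hn1 : ∀ i : {x // x ∈ t},
      n = ((((q i).toNat : ℕ) : ℤ) - ((-(q i)).toNat : ℕ)) * ((d i.1 : ℕ) : ℤ) := by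
    intro i
    rw [Int.toNat_sub_toNat_neg, hq i, mul_comm]
  have hn2 : ∀ i : {x // x ∈ t},
      -n = ((((-(q i)).toNat : ℕ) : ℤ) - ((q i).toNat : ℕ)) * ((d i.1 : ℕ) : ℤ) := by
    intro i
    have h : (((-(q i)).toNat : ℕ) : ℤ) - ((q i).toNat : ℕ) = -(q i) := by
      have := Int.toNat_sub_toNat_neg (q i)
      omega
    rw [h, hq i]
    ring
  choose e he using fun i : {x // x ∈ t} => exists_readsG (lam := lam) hL (hn1 i) (f i.1).2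
  choose e' he' using fun i : {x // x ∈ t} => exists_readsG (lam := lam') hL' (hn2 i) (f i.1).2
  have hg : ∀ i, IsGenerator L (W i) (e i) :=
    fun i => isGenerator_of_readsG hL (hn1 i) (f i.1).2 le_rfl (he i)
  have hg' : ∀ i, IsGenerator L' (W i) (e' i) :=
    fun i => isGenerator_of_readsG hL' (hn2 i) (f i.1).2 le_rfl (he' i)
  have hgT : ∀ i, IsGenerator (CohB1.tensorMod L L') (W i) (tmulSect L L' (e i) (e' i)) :=
    fun i => IsGenerator.tmul (hg i) (hg' i)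
  choose η hη using fun i j : {x // x ∈ t} => ((hg j) (W i ⊓ W j) inf_le_right).2
    (resSec L (inf_le_left : W i ⊓ W j ≤ W i) (e i))
  choose η' hη' using fun i j : {x // x ∈ t} => ((hg' j) (W i ⊓ W j) inf_le_right).2
    (resSec L' (inf_le_left : W i ⊓ W j ≤ W i) (e' i))
  have hmul : ∀ i j, η i j * η' i j = 1 := fun i j =>
    trans_mul_one hP hL hL' (add_comm _ _) (add_comm _ _) (hWle i) (hWle j) (hnv i) (hnv j)
      (he i) (he j) (hη i j).symm (he' i) (he' j) (hη' i j).symm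
  have hcompat : ∀ i j,
      resSec (CohB1.tensorMod L L') (inf_le_left : W i ⊓ W j ≤ W i) (tmulSect L L' (e i) (e' i)) =
      resSec (CohB1.tensorMod L L') (inf_le_right : W i ⊓ W j ≤ W j)
        (tmulSect L L' (e j) (e' j)) := by
    intro i j
    have h1 := tmulSect_res (F := L) (L := L') (homOfLE (inf_le_left : W i ⊓ W j ≤ W i))
      (e i) (e' i)
    have h2 := tmulSect_res (F := L) (L := L') (homOfLE (inf_le_right : W i ⊓ W j ≤ W j))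
      (e j) (e' j)
    refine h1.trans (Eq.trans ?_ h2.symm)
    have h3 : L.presheaf.map (homOfLE (inf_le_left : W i ⊓ W j ≤ W i)).op (e i) =
        η i j • L.presheaf.map (homOfLE (inf_le_right : W i ⊓ W j ≤ W j)).op (e j) :=
      (hη i j).symm
    have h4 : L'.presheaf.map (homOfLE (inf_le_left : W i ⊓ W j ≤ W i)).op (e' i) =
        η' i j • L'.presheaf.map (homOfLE (inf_le_right : W i ⊓ W j ≤ W j)).op (e' j) :=
      (hη' i j).symm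
    rw [h3, h4, tmulSect_smul_left, tmulSect_smul_right, ← mul_smul, hmul, one_smul]
  -- glue on `Ω`
  have hAΩ : ∀ i, W i ⊓ Ω ≤ Ω := fun i => inf_le_right
  have hcovA : Ω ≤ iSup (fun i => W i ⊓ Ω) := by
    intro y hy
    obtain ⟨i, hi⟩ := Opens.mem_iSup.1 (hcov hy)
    exact Opens.mem_iSup.2 ⟨i, hi, hy⟩
  obtain ⟨ε, hε⟩ := Groth.Agent.Lib.Helper48.UfdPic.exists_isGenerator_of_cover
    (CohB1.tensorMod L L') (fun i => W i ⊓ Ω) Ω hAΩ hcovA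
    (fun i => resSec (CohB1.tensorMod L L') (inf_le_left : W i ⊓ Ω ≤ W i)
      (tmulSect L L' (e i) (e' i)))
    (fun i => (hgT i).mono inf_le_left)
    (fun i j => by
      have hle : (W i ⊓ Ω) ⊓ (W j ⊓ Ω) ≤ W i ⊓ W j :=
        inf_le_inf inf_le_left inf_le_left
      rw [resSec_resSec, resSec_resSec]
      have h := congrArg (resSec (CohB1.tensorMod L L') hle) (hcompat i j)
      rw [resSec_resSec, resSec_resSec] at h
      exact h)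
  obtain ⟨iso⟩ := Groth.Agent.Lib.Helper48.InvGen.nonempty_iso_of_isGenerator Ω ε hε
  exact ⟨(Groth.Agent.Lib.QCoh.restrictTensorModIso Ω.ι L L').symm ≪≫ iso⟩

end main

end Groth.Agent.Lib.Proj.RelTw
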