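import Groth.Agent.Lib.Proj.Helper66_RelTwistLocal
import Groth.Agent.Lib.Pic.Helper50_CocycleHom
import Groth.Agent.Lib.Helper48.TensorDesc

/-!
# `O_P(m) ⊗ O_P(n) ≅ O_P(m + n)` on a relative Proj generated in degree one (helper66)

ns `Groth.Agent.Lib.Proj.RelTw`.
-/

universe u
open CategoryTheory CategoryTheory.Limits AlgebraicGeometry TopologicalSpace Opposite

namespace Groth.Agent.Lib.Proj.RelTw

open RelProj Groth.Agent.Lib.Ample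

/-- the cocycle computation in a commutative ring -/
lemma ring_aux {R : Type*} [CommRing R] {x z : R} (hx : IsUnit x) (hz : IsUnit z)
    {a₁ b₁ a₂ b₂ a₃ b₃ : ℕ} (hsum : a₁ + a₂ + b₃ = a₃ + b₁ + b₂)
    {γ₁ γ₂ γ₃ v₁ v₂ v₃ : R}
    (h₁ : x ^ b₁ * (γ₁ * v₁) = x ^ a₁) (h₂ : x ^ b₂ * (γ₂ * v₂) = x ^ a₂)
    (h₃ : x ^ b₃ * (γ₃ * v₃) = x ^ a₃)
    (k₁ : z ^ b₁ * v₁ = z ^ a₁) (k₂ : z ^ b₂ * v₂ = z ^ a₂) (k₃ : z ^ b₃ * v₃ = z ^ a₃) :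
    γ₁ * γ₂ = γ₃ := by
  have e1 : (γ₁ * v₁) * (γ₂ * v₂) = γ₃ * v₃ := by
    have hu : IsUnit (x ^ (b₁ + b₂ + b₃)) := hx.pow _
    apply hu.mul_left_cancel
    calc x ^ (b₁ + b₂ + b₃) * ((γ₁ * v₁) * (γ₂ * v₂))
        = (x ^ b₁ * (γ₁ * v₁)) * (x ^ b₂ * (γ₂ * v₂)) * x ^ b₃ := by ring
      _ = x ^ a₁ * x ^ a₂ * x ^ b₃ := by rw [h₁, h₂]
      _ = x ^ (a₃ + b₁ + b₂) := by rw [← pow_add, ← pow_add, hsum]
      _ = x ^ b₁ * x ^ b₂ * x ^ a₃ := by ring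
      _ = x ^ b₁ * x ^ b₂ * (x ^ b₃ * (γ₃ * v₃)) := by rw [h₃]
      _ = x ^ (b₁ + b₂ + b₃) * (γ₃ * v₃) := by ring
  have e2 : v₁ * v₂ = v₃ := by
    have hu : IsUnit (z ^ (b₁ + b₂ + b₃)) := hz.pow _
    apply hu.mul_left_cancel
    calc z ^ (b₁ + b₂ + b₃) * (v₁ * v₂)
        = (z ^ b₁ * v₁) * (z ^ b₂ * v₂) * z ^ b₃ := by ring
      _ = z ^ a₁ * z ^ a₂ * z ^ b₃ := by rw [k₁, k₂]
      _ = z ^ (a₃ + b₁ + b₂) := by rw [← pow_add, ← pow_add, hsum]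
      _ = z ^ b₁ * z ^ b₂ * z ^ a₃ := by ring
      _ = z ^ b₁ * z ^ b₂ * (z ^ b₃ * v₃) := by rw [k₃]
      _ = z ^ (b₁ + b₂ + b₃) * v₃ := by ring
  have hv₃ : IsUnit v₃ := by
    have h : IsUnit (z ^ b₃ * v₃) := k₃ ▸ hz.pow _
    exact isUnit_of_mul_isUnit_right h
  apply hv₃.mul_right_cancel
  calc γ₁ * γ₂ * v₃ = (γ₁ * v₁) * (γ₂ * v₂) := by rw [← e2]; ring
    _ = γ₃ * v₃ := e1

variable {Y P : Scheme.{u}} {𝒮 : RelProj.QCGrAlg Y} {p : P ⟶ Y}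
  {chart : ∀ (U : Y.Opens) (hU : IsAffineOpen U),
    (((p ⁻¹ᵁ U : P.Opens) : Scheme.{u}) ≅ Proj (𝒮.deg U hU))}

variable (p chart) in
/-- `g` vanishes at no point of the chart over `U` mapping into `W` -/
def NV {U : Y.Opens} (g : 𝒮.presheaf.obj (op U)) (hU : IsAffineOpen U) (W : P.Opens) : Prop :=
  ∀ y : ProjectiveSpectrum (𝒮.deg U hU), (RelProj.emb p chart U hU).base y ∈ W →
    g ∉ y.asHomogeneousIdeal

lemma NV.of_le_image {U : Y.Opens} {g : 𝒮.presheaf.obj (op U)} {hU : IsAffineOpen U} {W : P.Opens}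
    (hW : W ≤ (RelProj.emb p chart U hU) ''ᵁ (Proj.basicOpen (𝒮.deg U hU) g)) : NV p chart g hU W := by
  intro y hy
  obtain ⟨z, hz, hzy⟩ := hW hy
  have hzy' : z = y := (RelProj.emb p chart U hU).isOpenEmbedding.injective hzy
  exact hzy' ▸ (Proj.mem_basicOpen (𝒮.deg U hU) _ z).1 hz

lemma NV.mono {U : Y.Opens} {g : 𝒮.presheaf.obj (op U)} {hU : IsAffineOpen U} {W W' : P.Opens}
    (h : W' ≤ W) (hg : NV p chart g hU W) : NV p chart g hU W' := fun y hy => hg y (h hy)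

lemma NV.basicOpen (hP : RelProj.IsRelProj 𝒮 p chart) {U : Y.Opens} {g : 𝒮.presheaf.obj (op U)}
    {hU : IsAffineOpen U} {W : P.Opens} (hg : NV p chart g hU W) (r : Γ(Y, U)) :
    NV p chart (𝒮.res hU (hU.basicOpen r) (Y.basicOpen_le r) g) (hU.basicOpen r) W := by
  intro y hy
  have hy' : (RelProj.emb p chart U hU).base (ProjectiveSpectrum.comap
      (𝒮.res hU (hU.basicOpen r) (Y.basicOpen_le r)) (𝒮.irrelevant_le_map U hU r) y) ∈ W := by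
    rw [← RelTl.emb_basicOpen_apply hP U hU r y]
    exact hy
  exact hg _ hy'

lemma NV.of_eq {U V : Y.Opens} (hUV : U = V) {g : 𝒮.presheaf.obj (op U)}
    {hU : IsAffineOpen U} (hV : IsAffineOpen V) {W : P.Opens} (hg : NV p chart g hU W) :
    NV p chart ((𝒮.presheaf.map (homOfLE (le_of_eq hUV.symm)).op).hom g) hV W := by
  subst hUV
  have h : (𝒮.presheaf.map (homOfLE (le_of_eq (rfl : U = U).symm)).op).hom g = g := by
    have h1 : (homOfLE (le_of_eq (rfl : U = U).symm)) = 𝟙 U := rfl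
    rw [h1]
    simp
  rw [h]
  exact hg

section one

variable {n : ℤ} {L : P.Modules}
  {lam : ∀ (U : Y.Opens) (hU : IsAffineOpen U),
      L ⟶ (Scheme.Modules.pushforward (RelProj.emb p chart U hU)).obj (GrTwist.twist (𝒮.deg U hU) n)}

/-- value relation on a common chart -/
lemma trans_val {V : Y.Opens} {hV : IsAffineOpen V} {τ₁ : 𝒮.presheaf.obj (op V)} {a b : ℕ}
    {Ω : P.Opens} {s₁ s₂ : Γ(L, Ω)} {c : Γ(P, Ω)} (hc : s₁ = c • s₂)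
    (h₁ : ReadsG lam τ₁ a b hV Ω s₁) (y : ProjectiveSpectrum (𝒮.deg V hV))
    (hy : (RelProj.emb p chart V hV).base y ∈ Ω) :
    (algebraMap (𝒮.presheaf.obj (op V)) (GrTwist.Loc (𝒮.deg V hV) y) τ₁) ^ b *
      (((((RelProj.emb p chart V hV).app Ω).hom c :
          GrTwist.O (𝒜 := 𝒮.deg V hV) (op ((RelProj.emb p chart V hV) ⁻¹ᵁ Ω))).1 ⟨y, hy⟩).val *
        GrTwist.val (V := (RelProj.emb p chart V hV) ⁻¹ᵁ Ω) ((lam V hV).app Ω s₂) ⟨y, hy⟩) =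
      (algebraMap (𝒮.presheaf.obj (op V)) (GrTwist.Loc (𝒮.deg V hV) y) τ₁) ^ a := by
  have h := h₁ y hy
  rw [hc, val_lam_app_smul, map_pow, map_pow] at h
  exact h

lemma reads_val {V : Y.Opens} {hV : IsAffineOpen V} {τ₂ : 𝒮.presheaf.obj (op V)} {a b : ℕ}
    {Ω : P.Opens} {s₂ : Γ(L, Ω)} (h₂ : ReadsG lam τ₂ a b hV Ω s₂)
    (y : ProjectiveSpectrum (𝒮.deg V hV)) (hy : (RelProj.emb p chart V hV).base y ∈ Ω) :
    (algebraMap (𝒮.presheaf.obj (op V)) (GrTwist.Loc (𝒮.deg V hV) y) τ₂) ^ b *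
        GrTwist.val (V := (RelProj.emb p chart V hV) ⁻¹ᵁ Ω) ((lam V hV).app Ω s₂) ⟨y, hy⟩ =
      (algebraMap (𝒮.presheaf.obj (op V)) (GrTwist.Loc (𝒮.deg V hV) y) τ₂) ^ a := by
  have h := h₂ y hy
  rw [map_pow, map_pow] at h
  exact h

end one

lemma preimage_le_opensRange (V : Y.Opens) (hV : IsAffineOpen V) :
    p ⁻¹ᵁ V ≤ (RelProj.emb p chart V hV).opensRange := by
  intro x hx
  exact ⟨(chart V hV).hom ⟨x, hx⟩, emb_chart_hom V hV ⟨x, hx⟩⟩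

section three

variable {n₁ n₂ n₃ : ℤ} {L₁ L₂ L₃ : P.Modules}
  {lam₁ : ∀ (U : Y.Opens) (hU : IsAffineOpen U),
      L₁ ⟶ (Scheme.Modules.pushforward (RelProj.emb p chart U hU)).obj (GrTwist.twist (𝒮.deg U hU) n₁)}
  {lam₂ : ∀ (U : Y.Opens) (hU : IsAffineOpen U),
      L₂ ⟶ (Scheme.Modules.pushforward (RelProj.emb p chart U hU)).obj (GrTwist.twist (𝒮.deg U hU) n₂)}
  {lam₃ : ∀ (U : Y.Opens) (hU : IsAffineOpen U),
      L₃ ⟶ (Scheme.Modules.pushforward (RelProj.emb p chart U hU)).obj (GrTwist.twist (𝒮.deg U hU) n₃)}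

/-- multiplicativity of transition functions, read on one common chart -/
theorem chart_mul {V : Y.Opens} {hV : IsAffineOpen V} {τ₁ τ₂ : 𝒮.presheaf.obj (op V)} {Ω : P.Opens}
    (hΩ : Ω ≤ p ⁻¹ᵁ V) (nv₁ : NV p chart τ₁ hV Ω) (nv₂ : NV p chart τ₂ hV Ω)
    {a₁ b₁ a₂ b₂ a₃ b₃ : ℕ} (hsum : a₁ + a₂ + b₃ = a₃ + b₁ + b₂)
    {s₁ s₁' : Γ(L₁, Ω)} {c₁ : Γ(P, Ω)} (hc₁ : s₁ = c₁ • s₁')
    (r₁ : ReadsG lam₁ τ₁ a₁ b₁ hV Ω s₁) (r₁' : ReadsG lam₁ τ₂ a₁ b₁ hV Ω s₁')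
    {s₂ s₂' : Γ(L₂, Ω)} {c₂ : Γ(P, Ω)} (hc₂ : s₂ = c₂ • s₂')
    (r₂ : ReadsG lam₂ τ₁ a₂ b₂ hV Ω s₂) (r₂' : ReadsG lam₂ τ₂ a₂ b₂ hV Ω s₂')
    {s₃ s₃' : Γ(L₃, Ω)} {c₃ : Γ(P, Ω)} (hc₃ : s₃ = c₃ • s₃')
    (r₃ : ReadsG lam₃ τ₁ a₃ b₃ hV Ω s₃) (r₃' : ReadsG lam₃ τ₂ a₃ b₃ hV Ω s₃') :
    c₁ * c₂ = c₃ := by
  have hiso : IsIso ((RelProj.emb p chart V hV).app Ω) :=
    Scheme.Hom.isIso_app _ Ω (hΩ.trans (preimage_le_opensRange V hV))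
  apply ((ConcreteCategory.isIso_iff_bijective _).1 hiso).1
  change ((RelProj.emb p chart V hV).app Ω).hom (c₁ * c₂) = ((RelProj.emb p chart V hV).app Ω).hom c₃
  rw [map_mul]
  apply Subtype.ext
  funext y
  apply HomogeneousLocalization.val_injective
  have hx : IsUnit (algebraMap (𝒮.presheaf.obj (op V)) (GrTwist.Loc (𝒮.deg V hV) y.1) τ₁) :=
    IsLocalization.map_units (GrTwist.Loc (𝒮.deg V hV) y.1)
      (⟨τ₁, nv₁ y.1 y.2⟩ : y.1.asHomogeneousIdeal.toIdeal.primeCompl)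
  have hz : IsUnit (algebraMap (𝒮.presheaf.obj (op V)) (GrTwist.Loc (𝒮.deg V hV) y.1) τ₂) :=
    IsLocalization.map_units (GrTwist.Loc (𝒮.deg V hV) y.1)
      (⟨τ₂, nv₂ y.1 y.2⟩ : y.1.asHomogeneousIdeal.toIdeal.primeCompl)
  have key := ring_aux hx hz hsum (trans_val hc₁ r₁ y.1 y.2) (trans_val hc₂ r₂ y.1 y.2)
    (trans_val hc₃ r₃ y.1 y.2) (reads_val r₁' y.1 y.2) (reads_val r₂' y.1 y.2) (reads_val r₃' y.1 y.2)
  refine Eq.trans ?_ key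
  exact HomogeneousLocalization.val_mul _ _

lemma smul_res_of_eq {L : P.Modules} {Wa Wb Ω' : P.Opens} (hΩ : Ω' ≤ Wa ⊓ Wb)
    {ea : Γ(L, Wa)} {eb : Γ(L, Wb)} {c : Γ(P, Wa ⊓ Wb)}
    (hc : resSec L (inf_le_left : Wa ⊓ Wb ≤ Wa) ea = c • resSec L (inf_le_right : Wa ⊓ Wb ≤ Wb) eb) :
    resSec L (hΩ.trans inf_le_left) ea = resFn hΩ c • resSec L (hΩ.trans inf_le_right) eb := by
  have h := congrArg (resSec L hΩ) hc
  rw [resSec_resSec, resSec_smul, resSec_resSec] at h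
  exact h

/-- **multiplicativity of transition functions** between two trivialising charts -/
theorem trans_mul (hP : RelProj.IsRelProj 𝒮 p chart)
    (hL₁ : RelProj.IsRelTwist 𝒮 p chart n₁ L₁ lam₁) (hL₂ : RelProj.IsRelTwist 𝒮 p chart n₂ L₂ lam₂)
    (hL₃ : RelProj.IsRelTwist 𝒮 p chart n₃ L₃ lam₃)
    {a₁ b₁ a₂ b₂ a₃ b₃ : ℕ} (hsum : a₁ + a₂ + b₃ = a₃ + b₁ + b₂)
    {Ua Ub : Y.Opens} {hUa : IsAffineOpen Ua} {hUb : IsAffineOpen Ub}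
    {ta : 𝒮.presheaf.obj (op Ua)} {tb : 𝒮.presheaf.obj (op Ub)} {Wa Wb : P.Opens}
    (hWa : Wa ≤ p ⁻¹ᵁ Ua) (hWb : Wb ≤ p ⁻¹ᵁ Ub)
    (nva : NV p chart ta hUa Wa) (nvb : NV p chart tb hUb Wb)
    {ea₁ : Γ(L₁, Wa)} {eb₁ : Γ(L₁, Wb)} (ra₁ : ReadsG lam₁ ta a₁ b₁ hUa Wa ea₁)
    (rb₁ : ReadsG lam₁ tb a₁ b₁ hUb Wb eb₁) {c₁ : Γ(P, Wa ⊓ Wb)}
    (hc₁ : resSec L₁ (inf_le_left : Wa ⊓ Wb ≤ Wa) ea₁ =
      c₁ • resSec L₁ (inf_le_right : Wa ⊓ Wb ≤ Wb) eb₁)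
    {ea₂ : Γ(L₂, Wa)} {eb₂ : Γ(L₂, Wb)} (ra₂ : ReadsG lam₂ ta a₂ b₂ hUa Wa ea₂)
    (rb₂ : ReadsG lam₂ tb a₂ b₂ hUb Wb eb₂) {c₂ : Γ(P, Wa ⊓ Wb)}
    (hc₂ : resSec L₂ (inf_le_left : Wa ⊓ Wb ≤ Wa) ea₂ =
      c₂ • resSec L₂ (inf_le_right : Wa ⊓ Wb ≤ Wb) eb₂)
    {ea₃ : Γ(L₃, Wa)} {eb₃ : Γ(L₃, Wb)} (ra₃ : ReadsG lam₃ ta a₃ b₃ hUa Wa ea₃)
    (rb₃ : ReadsG lam₃ tb a₃ b₃ hUb Wb eb₃) {c₃ : Γ(P, Wa ⊓ Wb)}
    (hc₃ : resSec L₃ (inf_le_left : Wa ⊓ Wb ≤ Wa) ea₃ =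
      c₃ • resSec L₃ (inf_le_right : Wa ⊓ Wb ≤ Wb) eb₃) :
    c₁ * c₂ = c₃ := by
  have key : ∀ x : (Wa ⊓ Wb : P.Opens), ∃ W'' : P.Opens, x.1 ∈ W'' ∧ ∃ hle : W'' ≤ Wa ⊓ Wb,
      resFn hle (c₁ * c₂) = resFn hle c₃ := by
    intro x
    obtain ⟨r₁, r₂, hr, hx⟩ := exists_basicOpen_le_affine_inter hUa hUb (p x.1)
      ⟨hWa x.2.1, hWb x.2.2⟩
    refine ⟨(Wa ⊓ Wb) ⊓ p ⁻¹ᵁ (Y.basicOpen r₁), ⟨x.2, hx⟩, inf_le_left, ?_⟩
    have hΩ : (Wa ⊓ Wb) ⊓ p ⁻¹ᵁ (Y.basicOpen r₁) ≤ Wa ⊓ Wb := inf_le_left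
    have hΩa : (Wa ⊓ Wb) ⊓ p ⁻¹ᵁ (Y.basicOpen r₁) ≤ Wa := hΩ.trans inf_le_left
    have hΩb : (Wa ⊓ Wb) ⊓ p ⁻¹ᵁ (Y.basicOpen r₁) ≤ Wb := hΩ.trans inf_le_right
    have hmul : resFn hΩ (c₁ * c₂) = resFn hΩ c₁ * resFn hΩ c₂ :=
      map_mul (P.presheaf.map (homOfLE hΩ).op).hom c₁ c₂
    rw [hmul]
    exact chart_mul (V := Y.basicOpen r₁) (hV := hUa.basicOpen r₁) inf_le_right
      ((nva.mono hΩa).basicOpen hP r₁)
      (((nvb.mono hΩb).basicOpen hP r₂).of_eq hr.symm (hUa.basicOpen r₁)) hsum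
      (smul_res_of_eq hΩ hc₁) ((ra₁.restrict hΩa).basicOpen hP hL₁ r₁)
      (((rb₁.restrict hΩb).basicOpen hP hL₁ r₂).of_eq hr.symm (hUa.basicOpen r₁))
      (smul_res_of_eq hΩ hc₂) ((ra₂.restrict hΩa).basicOpen hP hL₂ r₁)
      (((rb₂.restrict hΩb).basicOpen hP hL₂ r₂).of_eq hr.symm (hUa.basicOpen r₁))
      (smul_res_of_eq hΩ hc₃) ((ra₃.restrict hΩa).basicOpen hP hL₃ r₁)
      (((rb₃.restrict hΩb).basicOpen hP hL₃ r₂).of_eq hr.symm (hUa.basicOpen r₁))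
  choose W'' hx hle hres using key
  refine Groth.Agent.Lib.Helper48.UfdPic.fn_ext_of_cover W'' (Wa ⊓ Wb) hle ?_ _ _ hres
  intro y hy
  exact Opens.mem_iSup.2 ⟨⟨y, hy⟩, hx ⟨y, hy⟩⟩

end three

section main

variable {m n : ℤ} {L L' L'' : P.Modules}
  {lam : ∀ (U : Y.Opens) (hU : IsAffineOpen U),
      L ⟶ (Scheme.Modules.pushforward (RelProj.emb p chart U hU)).obj (GrTwist.twist (𝒮.deg U hU) m)}
  {lam' : ∀ (U : Y.Opens) (hU : IsAffineOpen U),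
      L' ⟶ (Scheme.Modules.pushforward (RelProj.emb p chart U hU)).obj (GrTwist.twist (𝒮.deg U hU) n)}
  {lam'' : ∀ (U : Y.Opens) (hU : IsAffineOpen U),
      L'' ⟶ (Scheme.Modules.pushforward (RelProj.emb p chart U hU)).obj
        (GrTwist.twist (𝒮.deg U hU) (m + n))}

open Groth.Agent.Lib.Pic.CocycleHom in
/-- **`O_P(m) ⊗ O_P(n) ≅ O_P(m + n)`** when `𝒮` is generated in degree one -/
theorem nonempty_tensor_iso (hP : RelProj.IsRelProj 𝒮 p chart) (hgen : 𝒮.IsGenDegOne)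
    (hL : RelProj.IsRelTwist 𝒮 p chart m L lam) (hL' : RelProj.IsRelTwist 𝒮 p chart n L' lam')
    (hL'' : RelProj.IsRelTwist 𝒮 p chart (m + n) L'' lam'') :
    Nonempty (CohB1.tensorMod L L' ≅ L'') := by
  classical
  -- the index set and the cover
  let ι : Type u := Σ U : Y.affineOpens, 𝒮.deg U.1 U.2 1
  let W : ι → P.Opens := fun i =>
    (RelProj.emb p chart i.1.1 i.1.2) ''ᵁ (Proj.basicOpen (𝒮.deg i.1.1 i.1.2) (i.2 : 𝒮.presheaf.obj (op i.1.1)))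
  have hW : iSup W = ⊤ := by
    rw [eq_top_iff]
    intro x _
    obtain ⟨U, hU0, hxU, -⟩ := Opens.isBasis_iff_nbhd.1 (Y.isBasis_affineOpens)
      (show p x ∈ (⊤ : Y.Opens) from trivial)
    have hU : IsAffineOpen U := hU0
    have hcov := GrTw.iSup_basicOpen_eq_top_of_closure (𝒮.deg U hU) (hgen U hU)
    have hy : (chart U hU).hom ⟨x, hxU⟩ ∈
        (⨆ t : 𝒮.deg U hU 1, Proj.basicOpen (𝒮.deg U hU) (t : 𝒮.presheaf.obj (op U))) := by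
      rw [hcov]; trivial
    obtain ⟨t, ht⟩ := Opens.mem_iSup.1 hy
    exact Opens.mem_iSup.2 ⟨⟨⟨U, hU0⟩, t⟩, ⟨_, ht, emb_chart_hom U hU ⟨x, hxU⟩⟩⟩
  have hWle : ∀ i : ι, W i ≤ p ⁻¹ᵁ i.1.1 := fun i => emb_image_le i.1.1 i.1.2 _
  have hnv : ∀ i : ι, NV p chart (i.2 : 𝒮.presheaf.obj (op i.1.1)) i.1.2 (W i) :=
    fun i => NV.of_le_image le_rfl
  -- exponents
  have hm : m = (((m.toNat : ℕ) : ℤ) - ((-m).toNat : ℕ)) * ((1 : ℕ) : ℤ) := by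
    rw [Int.toNat_sub_toNat_neg]; simp
  have hn : n = (((n.toNat : ℕ) : ℤ) - ((-n).toNat : ℕ)) * ((1 : ℕ) : ℤ) := by
    rw [Int.toNat_sub_toNat_neg]; simp
  have hmn : m + n = ((((m + n).toNat : ℕ) : ℤ) - ((-(m + n)).toNat : ℕ)) * ((1 : ℕ) : ℤ) := by
    rw [Int.toNat_sub_toNat_neg]; simp
  have hsum : m.toNat + n.toNat + (-(m + n)).toNat = (m + n).toNat + (-m).toNat + (-n).toNat := by
    have h1 := Int.toNat_sub_toNat_neg m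
    have h2 := Int.toNat_sub_toNat_neg n
    have h3 := Int.toNat_sub_toNat_neg (m + n)
    omega
  -- the local generators
  choose e he using fun i : ι => exists_readsG (lam := lam) hL hm i.2.2
  choose e' he' using fun i : ι => exists_readsG (lam := lam') hL' hn i.2.2
  choose e'' he'' using fun i : ι => exists_readsG (lam := lam'') hL'' hmn i.2.2
  have hg : ∀ i : ι, IsGenerator L (W i) (e i) :=
    fun i => isGenerator_of_readsG hL hm i.2.2 le_rfl (he i)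
  have hg' : ∀ i : ι, IsGenerator L' (W i) (e' i) :=
    fun i => isGenerator_of_readsG hL' hn i.2.2 le_rfl (he' i)
  have hg'' : ∀ i : ι, IsGenerator L'' (W i) (e'' i) :=
    fun i => isGenerator_of_readsG hL'' hmn i.2.2 le_rfl (he'' i)
  have hgT : ∀ i : ι, IsGenerator (CohB1.tensorMod L L') (W i) (tmulSect L L' (e i) (e' i)) :=
    fun i => IsGenerator.tmul (hg i) (hg' i)
  -- transition functions
  choose η hη using fun i j : ι => ((hg j) (W i ⊓ W j) inf_le_right).2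
    (resSec L (inf_le_left : W i ⊓ W j ≤ W i) (e i))
  choose η' hη' using fun i j : ι => ((hg' j) (W i ⊓ W j) inf_le_right).2
    (resSec L' (inf_le_left : W i ⊓ W j ≤ W i) (e' i))
  choose η'' hη'' using fun i j : ι => ((hg'' j) (W i ⊓ W j) inf_le_right).2
    (resSec L'' (inf_le_left : W i ⊓ W j ≤ W i) (e'' i))
  have hmul : ∀ i j : ι, η i j * η' i j = η'' i j := fun i j =>
    trans_mul hP hL hL' hL'' hsum (hWle i) (hWle j) (hnv i) (hnv j)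
      (he i) (he j) (hη i j).symm (he' i) (he' j) (hη' i j).symm (he'' i) (he'' j) (hη'' i j).symm
  -- the morphism
  obtain ⟨Φ, hΦ⟩ := exists_hom W hW (CohB1.tensorMod L L') L''
    (fun i => tmulSect L L' (e i) (e' i)) e'' (fun i V h => hgT i V h)
    (fun i j => η i j * η' i j) η''
    (fun i j => by
      have h1 := tmulSect_res (F := L) (L := L') (homOfLE (inf_le_left : W i ⊓ W j ≤ W i)) (e i) (e' i)
      have h2 := tmulSect_res (F := L) (L := L') (homOfLE (inf_le_right : W i ⊓ W j ≤ W j)) (e j) (e' j)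
      refine h1.trans ?_
      rw [h2]
      have h3 : L.presheaf.map (homOfLE (inf_le_left : W i ⊓ W j ≤ W i)).op (e i) =
          η i j • L.presheaf.map (homOfLE (inf_le_right : W i ⊓ W j ≤ W j)).op (e j) := (hη i j).symm
      have h4 : L'.presheaf.map (homOfLE (inf_le_left : W i ⊓ W j ≤ W i)).op (e' i) =
          η' i j • L'.presheaf.map (homOfLE (inf_le_right : W i ⊓ W j ≤ W j)).op (e' j) :=
        (hη' i j).symm
      rw [h3, h4, tmulSect_smul_left, tmulSect_smul_right, mul_smul])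
    (fun i j => (hη'' i j).symm)
    (fun _ => 1)
    (fun i j => by
      rw [map_one, map_one, mul_one, one_mul]
      exact (hmul i j).symm)
  have hΦe : ∀ j : ι, Φ.app (W j) (tmulSect L L' (e j) (e' j)) = e'' j := by
    intro j
    have h := hΦ j (W j) le_rfl 1
    have r1 : QCoh.Glue74.res (CohB1.tensorMod L L') (le_refl (W j)) (tmulSect L L' (e j) (e' j)) =
        tmulSect L L' (e j) (e' j) :=
      Groth.Agent.Lib.Helper48.UfdPic.resSec_self _ _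
    have r2 : QCoh.Glue74.res L'' (le_refl (W j)) (e'' j) = e'' j :=
      Groth.Agent.Lib.Helper48.UfdPic.resSec_self _ _
    have r3 : rX (le_refl (W j)) (1 : Γ(P, W j)) = 1 := map_one _
    rw [r1, r2, r3, one_smul, mul_one, one_smul] at h
    exact h
  have hiso : IsIso Φ := by
    refine Groth.Agent.Lib.Helper48.TensorDesc.isIso_of_isGenerator Φ fun x => ?_
    have hx : x ∈ iSup W := hW ▸ trivial
    obtain ⟨j, hj⟩ := Opens.mem_iSup.1 hx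
    exact ⟨W j, hj, tmulSect L L' (e j) (e' j), hgT j, (hΦe j).symm ▸ hg'' j⟩
  exact ⟨asIso Φ⟩

end main

end Groth.Agent.Lib.Proj.RelTw
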