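import Groth.Agent.Lib.Proj.Helper66_RelTwistGen
import Groth.Agent.Lib.Proj.Helper66_RelTildeHom
import Groth.Agent.Lib.Helper48.InvGen
import Groth.Agent.Lib.Helper48.UfdPicGlue

/-!
# `O_P(n d)` is trivial on `X_f` (relative Proj, `f` a global section of degree `d`) (helper66)

ns `Groth.Agent.Lib.Proj.RelTw`.
* `res_eq_of_chartwise` : abstract chart-independence for sections pinned chartwise by a predicate
* `Reads` : a section reads `f^a / f^b` on a chart (multiplicative form)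
-/

universe u
open CategoryTheory CategoryTheory.Limits AlgebraicGeometry TopologicalSpace Opposite

namespace Groth.Agent.Lib.Proj.RelTw

open RelProj Groth.Agent.Lib.Ample

variable {Y P : Scheme.{u}} {p : P ⟶ Y} {L : P.Modules}

/-- sections pinned chartwise (by a predicate `Q` stable under restriction and passage to basic opens, and
determining the section over opens inside `X`) agree on overlaps -/
theorem res_eq_of_chartwise (X : P.Opens)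
    (Q : ∀ (U : Y.Opens) (_ : IsAffineOpen U) (W : P.Opens), Γ(L, W) → Prop)
    (hres : ∀ (U : Y.Opens) (hU : IsAffineOpen U) (W W' : P.Opens) (h : W' ≤ W) (s : Γ(L, W)),
      Q U hU W s → Q U hU W' (resSec L h s))
    (hbasic : ∀ (U : Y.Opens) (hU : IsAffineOpen U) (r : Γ(Y, U)) (W : P.Opens) (s : Γ(L, W)),
      Q U hU W s → Q (Y.basicOpen r) (hU.basicOpen r) W s)
    (huniq : ∀ (U : Y.Opens) (hU : IsAffineOpen U) (W : P.Opens) (s s' : Γ(L, W)), W ≤ X → W ≤ p ⁻¹ᵁ U →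
      Q U hU W s → Q U hU W s' → s = s')
    {U₁ U₂ : Y.Opens} (hU₁ : IsAffineOpen U₁) (hU₂ : IsAffineOpen U₂) {W₁ W₂ : P.Opens}
    (hW₁ : W₁ ≤ X ⊓ p ⁻¹ᵁ U₁) (hW₂ : W₂ ≤ X ⊓ p ⁻¹ᵁ U₂) (s₁ : Γ(L, W₁)) (s₂ : Γ(L, W₂))
    (h₁ : Q U₁ hU₁ W₁ s₁) (h₂ : Q U₂ hU₂ W₂ s₂) :
    resSec L (inf_le_left : W₁ ⊓ W₂ ≤ W₁) s₁ = resSec L (inf_le_right : W₁ ⊓ W₂ ≤ W₂) s₂ := by
  have key : ∀ x : (W₁ ⊓ W₂ : P.Opens), ∃ W'' : P.Opens, x.1 ∈ W'' ∧ ∃ hle : W'' ≤ W₁ ⊓ W₂,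
      resSec L hle (resSec L (inf_le_left : W₁ ⊓ W₂ ≤ W₁) s₁) =
        resSec L hle (resSec L (inf_le_right : W₁ ⊓ W₂ ≤ W₂) s₂) := by
    intro x
    have hx1 : p x.1 ∈ U₁ := (hW₁ x.2.1).2
    have hx2 : p x.1 ∈ U₂ := (hW₂ x.2.2).2
    obtain ⟨r₁, r₂, hr, hx⟩ := exists_basicOpen_le_affine_inter hU₁ hU₂ (p x.1) ⟨hx1, hx2⟩
    refine ⟨(W₁ ⊓ W₂) ⊓ p ⁻¹ᵁ (Y.basicOpen r₁), ⟨x.2, hx⟩, inf_le_left, ?_⟩
    have q1 := hbasic U₁ hU₁ r₁ _ _ (hres U₁ hU₁ _ _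
      (inf_le_left : (W₁ ⊓ W₂) ⊓ p ⁻¹ᵁ (Y.basicOpen r₁) ≤ W₁ ⊓ W₂) _
      (hres U₁ hU₁ _ _ (inf_le_left : W₁ ⊓ W₂ ≤ W₁) _ h₁))
    have q2 := hbasic U₂ hU₂ r₂ _ _ (hres U₂ hU₂ _ _
      (inf_le_left : (W₁ ⊓ W₂) ⊓ p ⁻¹ᵁ (Y.basicOpen r₁) ≤ W₁ ⊓ W₂) _
      (hres U₂ hU₂ _ _ (inf_le_right : W₁ ⊓ W₂ ≤ W₂) _ h₂))
    have q2' : Q (Y.basicOpen r₁) (hU₁.basicOpen r₁) _
        (resSec L (inf_le_left : (W₁ ⊓ W₂) ⊓ p ⁻¹ᵁ (Y.basicOpen r₁) ≤ W₁ ⊓ W₂)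
          (resSec L (inf_le_right : W₁ ⊓ W₂ ≤ W₂) s₂)) := by
      have aux : ∀ (V : Y.Opens) (hV : IsAffineOpen V), V = Y.basicOpen r₂ →
          Q V hV _ (resSec L (inf_le_left : (W₁ ⊓ W₂) ⊓ p ⁻¹ᵁ (Y.basicOpen r₁) ≤ W₁ ⊓ W₂)
            (resSec L (inf_le_right : W₁ ⊓ W₂ ≤ W₂) s₂)) := by
        intro V hV hVr
        subst hVr
        exact q2
      exact aux _ _ hr
    exact huniq _ (hU₁.basicOpen r₁) _ _ _
      (inf_le_left.trans (inf_le_left.trans (hW₁.trans inf_le_left))) inf_le_right q1 q2'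
  choose W'' hx hle hres' using key
  refine QCoh.sections_ext_of_cover L W'' (W₁ ⊓ W₂) hle ?_ _ _ hres'
  intro y hy
  exact Opens.mem_iSup.2 ⟨⟨y, hy⟩, hx ⟨y, hy⟩⟩

end Groth.Agent.Lib.Proj.RelTw

namespace Groth.Agent.Lib.Proj.GrTw

open GrTwist

variable {A σ : Type u} [CommRing A] [SetLike σ A] [AddSubgroupClass σ A] {𝒜 : ℕ → σ} [GradedRing 𝒜]

/-- a section of `O(m)` with value `a / b`, `a, b` nowhere vanishing on `V'`, is a free generator over `V'` -/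
theorem bijective_smul_of_val_eq_frac {i j : ℕ} (a : 𝒜 i) (b : 𝒜 j) (m : ℤ) (h : m + j = i)
    (V' : (Opens (ProjectiveSpectrum.top 𝒜))ᵒᵖ)
    (ha : ∀ x : V'.unop, a.1 ∉ x.1.asHomogeneousIdeal) (hb : ∀ x : V'.unop, b.1 ∉ x.1.asHomogeneousIdeal)
    (τ : Sec 𝒜 m V') (hτ : ∀ x : V'.unop, val τ x = frac x.1 a.1 b.1 (hb x)) :
    Function.Bijective (fun ρ : O V' => ρ • τ) := by
  have h' : (fun ρ : O V' => ρ • τ) =
      (mulFracSect V' a b hb 0 m (by omega)) ∘ (toTwistZeroSect V') := by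
    funext ρ
    apply sec_ext
    intro x
    rw [val_smul, hτ]
    exact mul_comm _ _
  rw [h']
  exact (mulFracSect_bijective V' a b ha hb 0 m (by omega)).comp (toTwistZeroSect_bijective V')

/-- the section `a / b` of `O(m)` over an open where `b` does not vanish -/
noncomputable def fracSect' {i j : ℕ} (a : 𝒜 i) (b : 𝒜 j) (m : ℤ) (h : m + j = i)
    (V' : (Opens (ProjectiveSpectrum.top 𝒜))ᵒᵖ) (hb : ∀ x : V'.unop, b.1 ∉ x.1.asHomogeneousIdeal) :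
    Sec 𝒜 m V' :=
  mulFracSect V' a b hb 0 m (by omega) (toTwistZeroSect V' 1)

lemma val_fracSect' {i j : ℕ} (a : 𝒜 i) (b : 𝒜 j) (m : ℤ) (h : m + j = i)
    (V' : (Opens (ProjectiveSpectrum.top 𝒜))ᵒᵖ) (hb : ∀ x : V'.unop, b.1 ∉ x.1.asHomogeneousIdeal)
    (x : V'.unop) : val (fracSect' a b m h V' hb) x = frac x.1 a.1 b.1 (hb x) := by
  unfold fracSect'
  rw [val_mulFracSect]
  have h1 : val (toTwistZeroSect (𝒜 := 𝒜) V' 1) x = 1 := by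
    change ((1 : O V').1 x).val = 1
    exact HomogeneousLocalization.val_one
  rw [h1, mul_one]

/-- `b * q = a` in the localization, `b` outside the prime, forces `q = a / b` -/
lemma eq_frac_of_mul_eq (x : ProjectiveSpectrum 𝒜) (a b : A) (hb : b ∉ x.asHomogeneousIdeal)
    (q : Loc 𝒜 x) (h : algebraMap A (Loc 𝒜 x) b * q = algebraMap A (Loc 𝒜 x) a) :
    q = frac x a b hb := by
  unfold frac
  rw [Localization.mk_eq_mk', IsLocalization.eq_mk'_iff_mul_eq, mul_comm]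
  exact h

lemma mul_frac_eq (x : ProjectiveSpectrum 𝒜) (a b : A) (hb : b ∉ x.asHomogeneousIdeal) :
    algebraMap A (Loc 𝒜 x) b * frac x a b hb = algebraMap A (Loc 𝒜 x) a := by
  unfold frac
  rw [Localization.mk_eq_mk']
  exact IsLocalization.mk'_spec' _ a (⟨b, hb⟩ : x.asHomogeneousIdeal.toIdeal.primeCompl)

end Groth.Agent.Lib.Proj.GrTw

namespace Groth.Agent.Lib.Proj.RelTw

open RelProj Groth.Agent.Lib.Ample

variable {Y P : Scheme.{u}} {𝒮 : RelProj.QCGrAlg Y} {p : P ⟶ Y}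
  {chart : ∀ (U : Y.Opens) (hU : IsAffineOpen U),
    (((p ⁻¹ᵁ U : P.Opens) : Scheme.{u}) ≅ Proj (𝒮.deg U hU))}
  {n : ℤ} {L : P.Modules}
  {lam : ∀ (U : Y.Opens) (hU : IsAffineOpen U),
      L ⟶ (Scheme.Modules.pushforward (RelProj.emb p chart U hU)).obj (GrTwist.twist (𝒮.deg U hU) n)}

/-- the restriction of a global section of `𝒮` to `U` -/
noncomputable abbrev fAt (𝒮 : RelProj.QCGrAlg Y) (f : 𝒮.presheaf.obj (op ⊤)) (U : Y.Opens) :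
    𝒮.presheaf.obj (op U) :=
  (𝒮.presheaf.map (homOfLE (le_top : U ≤ ⊤)).op).hom f

lemma res_fAt (f : 𝒮.presheaf.obj (op ⊤)) {U V : Y.Opens} (hU : IsAffineOpen U) (hV : IsAffineOpen V)
    (i : V ≤ U) : 𝒮.res hU hV i (fAt 𝒮 f U) = fAt 𝒮 f V := by
  rw [RelProj.QCGrAlg.res_apply]
  unfold fAt
  rw [← CommRingCat.comp_apply, ← Functor.map_comp]
  rfl

variable (lam) in
/-- `s` reads `f^a / f^b` on the chart over `U` (multiplicative form) -/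
def Reads (f : 𝒮.presheaf.obj (op ⊤)) (a b : ℕ) (U : Y.Opens) (hU : IsAffineOpen U) (W : P.Opens)
    (s : Γ(L, W)) : Prop :=
  ∀ (y : ProjectiveSpectrum (𝒮.deg U hU)) (hy : (RelProj.emb p chart U hU).base y ∈ W),
    algebraMap (𝒮.presheaf.obj (op U)) (GrTwist.Loc (𝒮.deg U hU) y) (fAt 𝒮 f U ^ b) *
        GrTwist.val (V := (RelProj.emb p chart U hU) ⁻¹ᵁ W) ((lam U hU).app W s) ⟨y, hy⟩ =
      algebraMap (𝒮.presheaf.obj (op U)) (GrTwist.Loc (𝒮.deg U hU) y) (fAt 𝒮 f U ^ a)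

theorem Reads.restrict {f : 𝒮.presheaf.obj (op ⊤)} {a b : ℕ} {U : Y.Opens} {hU : IsAffineOpen U}
    {W W' : P.Opens} (h : W' ≤ W) {s : Γ(L, W)} (hs : Reads lam f a b U hU W s) :
    Reads lam f a b U hU W' (resSec L h s) := by
  intro y hy
  rw [val_lam_app_res U hU h s ⟨y, hy⟩]
  exact hs y (h hy)

theorem Reads.basicOpen (hP : RelProj.IsRelProj 𝒮 p chart) (hL : RelProj.IsRelTwist 𝒮 p chart n L lam)
    {f : 𝒮.presheaf.obj (op ⊤)} {a b : ℕ} {U : Y.Opens} {hU : IsAffineOpen U} (r : Γ(Y, U))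
    {W : P.Opens} {s : Γ(L, W)} (hs : Reads lam f a b U hU W s) :
    Reads lam f a b (Y.basicOpen r) (hU.basicOpen r) W s := by
  intro y hy
  have hy' : (RelProj.emb p chart U hU).base (ProjectiveSpectrum.comap
      (𝒮.res hU (hU.basicOpen r) (Y.basicOpen_le r)) (𝒮.irrelevant_le_map U hU r) y) ∈ W := by
    rw [← RelTl.emb_basicOpen_apply hP U hU r y]
    exact hy
  have e1 := hL.compat U hU r W s y hy hy'
  have e2 := congrArg (GrTwist.locMap (𝒮.res hU (hU.basicOpen r) (Y.basicOpen_le r))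
    (𝒮.irrelevant_le_map U hU r) y) (hs _ hy')
  rw [map_mul] at e2
  have e3 : ∀ x : 𝒮.presheaf.obj (op U),
      GrTwist.locMap (𝒮.res hU (hU.basicOpen r) (Y.basicOpen_le r)) (𝒮.irrelevant_le_map U hU r) y
        (algebraMap _ _ x) =
      algebraMap _ _ (𝒮.res hU (hU.basicOpen r) (Y.basicOpen_le r) x) := by
    intro x
    unfold GrTwist.locMap
    exact Localization.localRingHom_to_map _ _ _ _ x
  have e4 : ∀ k : ℕ, 𝒮.res hU (hU.basicOpen r) (Y.basicOpen_le r) (fAt 𝒮 f U ^ k) =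
      fAt 𝒮 f (Y.basicOpen r) ^ k := by
    intro k
    rw [map_pow, res_fAt]
  rw [e3, e3, e4, e4, ← e1] at e2
  exact e2

/-- points of the chart over `U` mapping into `X_f` lie in `D₊(f|_U)` -/
lemma fAt_not_mem {f : 𝒮.presheaf.obj (op ⊤)} {Xf : P.Opens} {U : Y.Opens} {hU : IsAffineOpen U}
    (hA : Xf ⊓ p ⁻¹ᵁ U =
      (RelProj.emb p chart U hU) ''ᵁ (Proj.basicOpen (𝒮.deg U hU) (fAt 𝒮 f U)))
    (y : ProjectiveSpectrum (𝒮.deg U hU)) (hy : (RelProj.emb p chart U hU).base y ∈ Xf) :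
    fAt 𝒮 f U ∉ y.asHomogeneousIdeal := by
  have h1 : (RelProj.emb p chart U hU).base y ∈ Xf ⊓ p ⁻¹ᵁ U :=
    ⟨hy, emb_image_le (p := p) (chart := chart) U hU ⊤ ⟨y, trivial, rfl⟩⟩
  rw [hA] at h1
  obtain ⟨z, hz, hzy⟩ := h1
  have hzy' : z = y := (RelProj.emb p chart U hU).isOpenEmbedding.injective hzy
  exact hzy' ▸ (Proj.mem_basicOpen (𝒮.deg U hU) _ z).1 hz

lemma pow_not_mem' {U : Y.Opens} {hU : IsAffineOpen U} {g : 𝒮.presheaf.obj (op U)}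
    {y : ProjectiveSpectrum (𝒮.deg U hU)} (hg : g ∉ y.asHomogeneousIdeal) (k : ℕ) :
    g ^ k ∉ y.asHomogeneousIdeal :=
  fun h => hg (y.isPrime.mem_of_pow_mem k h)

theorem Reads.val_eq {f : 𝒮.presheaf.obj (op ⊤)} {a b : ℕ} {U : Y.Opens} {hU : IsAffineOpen U}
    {W : P.Opens} {s : Γ(L, W)} (hs : Reads lam f a b U hU W s)
    (y : ProjectiveSpectrum (𝒮.deg U hU)) (hy : (RelProj.emb p chart U hU).base y ∈ W)
    (hfy : fAt 𝒮 f U ∉ y.asHomogeneousIdeal) :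
    GrTwist.val (V := (RelProj.emb p chart U hU) ⁻¹ᵁ W) ((lam U hU).app W s) ⟨y, hy⟩ =
      GrTw.frac y (fAt 𝒮 f U ^ a) (fAt 𝒮 f U ^ b) (pow_not_mem' hfy b) :=
  GrTw.eq_frac_of_mul_eq y _ _ _ _ (hs y hy)

/-- uniqueness of the section with a given reading, over opens inside `X_f ⊓ p⁻¹U` -/
theorem Reads.eq (hL : RelProj.IsRelTwist 𝒮 p chart n L lam) {f : 𝒮.presheaf.obj (op ⊤)} {a b : ℕ}
    {Xf : P.Opens} {U : Y.Opens} {hU : IsAffineOpen U}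
    (hA : Xf ⊓ p ⁻¹ᵁ U =
      (RelProj.emb p chart U hU) ''ᵁ (Proj.basicOpen (𝒮.deg U hU) (fAt 𝒮 f U)))
    {W : P.Opens} (hWX : W ≤ Xf) (hWU : W ≤ p ⁻¹ᵁ U) {s s' : Γ(L, W)}
    (hs : Reads lam f a b U hU W s) (hs' : Reads lam f a b U hU W s') : s = s' := by
  apply (hL.bijective U hU W hWU).1
  apply GrTw.sec_ext
  intro y
  have hfy := fAt_not_mem hA y.1 (hWX y.2)
  exact (hs.val_eq y.1 y.2 hfy).trans (hs'.val_eq y.1 y.2 hfy).symm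

lemma pow_mem_deg {U : Y.Opens} {hU : IsAffineOpen U} {g : 𝒮.presheaf.obj (op U)} {d : ℕ}
    (hg : g ∈ 𝒮.deg U hU d) (k : ℕ) : g ^ k ∈ 𝒮.deg U hU (k * d) := by
  have := SetLike.pow_mem_graded k hg
  simpa [smul_eq_mul] using this

/-- existence of the section reading `f^a / f^b` over the image of `D₊(f|_U)` -/
theorem exists_reads (hL : RelProj.IsRelTwist 𝒮 p chart n L lam) {f : 𝒮.presheaf.obj (op ⊤)}
    {a b d : ℕ} (hn : n = ((a : ℤ) - b) * d) {U : Y.Opens} {hU : IsAffineOpen U}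
    (hf : fAt 𝒮 f U ∈ 𝒮.deg U hU d) :
    ∃ s : Γ(L, (RelProj.emb p chart U hU) ''ᵁ (Proj.basicOpen (𝒮.deg U hU) (fAt 𝒮 f U))),
      Reads lam f a b U hU _ s := by
  have hAU : (RelProj.emb p chart U hU) ''ᵁ (Proj.basicOpen (𝒮.deg U hU) (fAt 𝒮 f U)) ≤ p ⁻¹ᵁ U :=
    emb_image_le U hU _
  have hb : ∀ x : ((RelProj.emb p chart U hU) ⁻¹ᵁ
      ((RelProj.emb p chart U hU) ''ᵁ (Proj.basicOpen (𝒮.deg U hU) (fAt 𝒮 f U))) :
        (Proj (𝒮.deg U hU)).Opens), fAt 𝒮 f U ^ b ∉ x.1.asHomogeneousIdeal := by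
    intro x
    obtain ⟨z, hz, hzx⟩ := x.2
    have hzx' : z = x.1 := (RelProj.emb p chart U hU).isOpenEmbedding.injective hzx
    exact pow_not_mem' (hzx' ▸ (Proj.mem_basicOpen (𝒮.deg U hU) _ z).1 hz) b
  obtain ⟨s, hs⟩ := (hL.bijective U hU _ hAU).2
    (GrTw.fracSect' (⟨fAt 𝒮 f U ^ a, pow_mem_deg hf a⟩ : 𝒮.deg U hU (a * d))
      (⟨fAt 𝒮 f U ^ b, pow_mem_deg hf b⟩ : 𝒮.deg U hU (b * d)) n (by rw [hn]; push_cast; ring)
      (op ((RelProj.emb p chart U hU) ⁻¹ᵁ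
        ((RelProj.emb p chart U hU) ''ᵁ (Proj.basicOpen (𝒮.deg U hU) (fAt 𝒮 f U))))) hb)
  refine ⟨s, fun y hy => ?_⟩
  have h1 := congrArg (fun q : GrTw.Sec (𝒮.deg U hU) n (op ((RelProj.emb p chart U hU) ⁻¹ᵁ
      ((RelProj.emb p chart U hU) ''ᵁ (Proj.basicOpen (𝒮.deg U hU) (fAt 𝒮 f U))))) =>
      GrTw.val q ⟨y, hy⟩) hs
  have h2 : GrTwist.val (V := (RelProj.emb p chart U hU) ⁻¹ᵁ
      ((RelProj.emb p chart U hU) ''ᵁ (Proj.basicOpen (𝒮.deg U hU) (fAt 𝒮 f U))))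
      ((lam U hU).app _ s) ⟨y, hy⟩ =
      GrTw.frac y (fAt 𝒮 f U ^ a) (fAt 𝒮 f U ^ b) (hb ⟨y, hy⟩) :=
    h1.trans (GrTw.val_fracSect' (⟨fAt 𝒮 f U ^ a, pow_mem_deg hf a⟩ : 𝒮.deg U hU (a * d))
      (⟨fAt 𝒮 f U ^ b, pow_mem_deg hf b⟩ : 𝒮.deg U hU (b * d)) n (by rw [hn]; push_cast; ring)
      (op ((RelProj.emb p chart U hU) ⁻¹ᵁ
        ((RelProj.emb p chart U hU) ''ᵁ (Proj.basicOpen (𝒮.deg U hU) (fAt 𝒮 f U))))) hb ⟨y, hy⟩)
  rw [h2]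
  exact GrTw.mul_frac_eq y _ _ _

/-- a section reading `f^a / f^b` on the chart over `U` freely generates `L` over opens inside the image of
`D₊(f|_U)` -/
theorem isGenerator_of_reads (hL : RelProj.IsRelTwist 𝒮 p chart n L lam) {f : 𝒮.presheaf.obj (op ⊤)}
    {a b d : ℕ} (hn : n = ((a : ℤ) - b) * d) {U : Y.Opens} {hU : IsAffineOpen U}
    (hf : fAt 𝒮 f U ∈ 𝒮.deg U hU d) {W : P.Opens}
    (hW : W ≤ (RelProj.emb p chart U hU) ''ᵁ (Proj.basicOpen (𝒮.deg U hU) (fAt 𝒮 f U)))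
    {s : Γ(L, W)} (hs : Reads lam f a b U hU W s) : IsGenerator L W s := by
  intro V hV
  have hVU : V ≤ p ⁻¹ᵁ U := (hV.trans hW).trans (emb_image_le U hU _)
  have hlam := hL.bijective U hU V hVU
  rw [← Function.Bijective.of_comp_iff' hlam]
  have hV' : ∀ y : ((RelProj.emb p chart U hU) ⁻¹ᵁ V : (Proj (𝒮.deg U hU)).Opens),
      fAt 𝒮 f U ∉ y.1.asHomogeneousIdeal := by
    intro y
    obtain ⟨z, hz, hzy⟩ := hW (hV y.2)
    have hzy' : z = y.1 := (RelProj.emb p chart U hU).isOpenEmbedding.injective hzy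
    exact hzy' ▸ (Proj.mem_basicOpen (𝒮.deg U hU) _ z).1 hz
  obtain ⟨τ, hτd⟩ : ∃ τ : GrTw.Sec (𝒮.deg U hU) n (op ((RelProj.emb p chart U hU) ⁻¹ᵁ V)),
      τ = (lam U hU).app V (resSec L hV s) := ⟨_, rfl⟩
  have hτ : ∀ y : ((RelProj.emb p chart U hU) ⁻¹ᵁ V : (Proj (𝒮.deg U hU)).Opens),
      GrTw.val τ y = GrTw.frac y.1 (fAt 𝒮 f U ^ a) (fAt 𝒮 f U ^ b) (pow_not_mem' (hV' y) b) := by
    intro y
    rw [hτd]
    exact (hs.restrict hV).val_eq y.1 y.2 (hV' y)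
  have hcomp : ((lam U hU).app V).hom ∘ (fun r : Γ(P, V) => r • resSec L hV s) =
      (fun ρ : GrTwist.O (𝒜 := 𝒮.deg U hU) (op ((RelProj.emb p chart U hU) ⁻¹ᵁ V)) => ρ • τ) ∘
        ((RelProj.emb p chart U hU).app V).hom := by
    funext r
    apply GrTw.sec_ext
    intro y
    refine (val_lam_app_smul U hU V r _ y).trans ?_
    refine Eq.trans ?_ (GrTw.val_smul _ τ y).symm
    rw [hτd]
  rw [hcomp]
  have hiso : IsIso ((RelProj.emb p chart U hU).app V) :=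
    Scheme.Hom.isIso_app _ V ((hV.trans hW).trans (by
      rintro _ ⟨z, -, rfl⟩
      exact ⟨z, rfl⟩))
  have hb1 : Function.Bijective ((RelProj.emb p chart U hU).app V).hom :=
    (ConcreteCategory.isIso_iff_bijective _).1 hiso
  have hb2 : Function.Bijective
      (fun ρ : GrTwist.O (𝒜 := 𝒮.deg U hU) (op ((RelProj.emb p chart U hU) ⁻¹ᵁ V)) => ρ • τ) :=
    GrTw.bijective_smul_of_val_eq_frac
      (⟨fAt 𝒮 f U ^ a, pow_mem_deg hf a⟩ : 𝒮.deg U hU (a * d))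
      (⟨fAt 𝒮 f U ^ b, pow_mem_deg hf b⟩ : 𝒮.deg U hU (b * d)) n (by rw [hn]; push_cast; ring)
      (op ((RelProj.emb p chart U hU) ⁻¹ᵁ V)) (fun y => pow_not_mem' (hV' y) a)
      (fun y => pow_not_mem' (hV' y) b) τ hτ
  exact hb2.comp hb1

/-- **`O_P(m d)` is trivial on `X_f`**, `f` a global section of `𝒮` of degree `d` -/
theorem nonempty_restrict_iso_unit (hP : RelProj.IsRelProj 𝒮 p chart) (hL : RelProj.IsRelTwist 𝒮 p chart n L lam)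
    (m : ℤ) {d : ℕ} (hnm : n = m * (d : ℤ)) (f : 𝒮.presheaf.obj (op ⊤))
    (hf : ∀ (U : Y.Opens) (hU : IsAffineOpen U), fAt 𝒮 f U ∈ 𝒮.deg U hU d) (Xf : P.Opens)
    (hXf : ∀ (U : Y.Opens) (hU : IsAffineOpen U), Xf ⊓ p ⁻¹ᵁ U =
      (RelProj.emb p chart U hU) ''ᵁ (Proj.basicOpen (𝒮.deg U hU) (fAt 𝒮 f U))) :
    Nonempty (L.restrict Xf.ι ≅ Coh.structureModule (Xf : Scheme.{u})) := by
  have hn : n = (((m.toNat : ℕ) : ℤ) - ((-m).toNat : ℕ)) * d := by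
    rw [Int.toNat_sub_toNat_neg, hnm]
  choose e he using fun U : Y.affineOpens =>
    exists_reads (lam := lam) hL (f := f) hn (U := U.1) (hU := U.2) (hf U.1 U.2)
  obtain ⟨ε, hε⟩ := Groth.Agent.Lib.Helper48.UfdPic.exists_isGenerator_of_cover L
    (fun U : Y.affineOpens =>
      (RelProj.emb p chart U.1 U.2) ''ᵁ (Proj.basicOpen (𝒮.deg U.1 U.2) (fAt 𝒮 f U.1))) Xf
    (fun U => by rw [← hXf U.1 U.2]; exact inf_le_left)
    (by
      intro x hx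
      obtain ⟨U, hU0, hxU, -⟩ := Opens.isBasis_iff_nbhd.1 (Y.isBasis_affineOpens)
        (show p x ∈ (⊤ : Y.Opens) from trivial)
      refine Opens.mem_iSup.2 ⟨⟨U, hU0⟩, ?_⟩
      change x ∈ (RelProj.emb p chart U hU0) ''ᵁ (Proj.basicOpen (𝒮.deg U hU0) (fAt 𝒮 f U))
      rw [← hXf U hU0]
      exact ⟨hx, hxU⟩)
    e (fun U => isGenerator_of_reads hL hn (hf U.1 U.2) le_rfl (he U))
    (fun U₁ U₂ => res_eq_of_chartwise (p := p) Xf
      (fun U hU W s => Reads lam f m.toNat (-m).toNat U hU W s)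
      (fun U hU W W' h s hs => hs.restrict h)
      (fun U hU r W s hs => hs.basicOpen hP hL r)
      (fun U hU W s s' hWX hWU hs hs' => Reads.eq hL (hXf U hU) hWX hWU hs hs')
      U₁.2 U₂.2 (le_of_eq (hXf U₁.1 U₁.2).symm) (le_of_eq (hXf U₂.1 U₂.2).symm) (e U₁) (e U₂)
      (he U₁) (he U₂))
  exact Groth.Agent.Lib.Helper48.InvGen.nonempty_iso_of_isGenerator Xf ε hε

end Groth.Agent.Lib.Proj.RelTw
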