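import Groth.Agent.Lib.Proj.Helper66_TildeMul
import Groth.Agent.Lib.QCoh.TensorRestrict

/-!
# `(M(m)~ ⊗ O(n))|_W ≅ M(m+n)~|_W` on opens `W` where `O(n)` has unit fractions (helper66)

ns `Groth.Agent.Lib.Proj.TildeMul`.
* `nonempty_restrict_tildeMul_iso W m n k h hW`
* `nonempty_restrict_twistMul_iso W m n k h hW` (same for `O(m) ⊗ O(n) → O(m+n)`, unit fractions of degree `m`)
-/

set_option autoImplicit false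
set_option linter.unusedSectionVars false
universe u
open CategoryTheory CategoryTheory.Limits AlgebraicGeometry TopologicalSpace Opposite TopCat MonoidalCategory
open scoped TensorProduct

namespace Groth.Agent.Lib.Proj.TildeMul

open Twist Scheme.Modules QCoh Groth.Agent.Lib.Proj

variable {R A : Type u} [CommRing R] [CommRing A] [Algebra R A] {𝒜 : ℕ → Submodule R A} [GradedAlgebra 𝒜]
  {M : Type u} [AddCommGroup M] [Module R M] [Module A M] [IsScalarTower R A M]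
  {ℳ : ℕ → Submodule R M} [DirectSum.Decomposition ℳ] [SetLike.GradedSMul 𝒜 ℳ]

lemma WX_resPre_mulPreHomM (W : (Proj 𝒜).Opens) (m n k : ℤ) (h : k = m + n)
    (hW : ∀ x ∈ W, ∃ (i j : ℕ) (a : 𝒜 i) (b : 𝒜 j),
      x ∈ Proj.basicOpen 𝒜 a.1 ∧ x ∈ Proj.basicOpen 𝒜 b.1 ∧ n + j = i) :
    WX (W : Scheme.{u}) ((resPre W.ι).map (mulPreHomM 𝒜 ℳ m n k h)) := by
  refine WX_of_bijective_of_isBasis _
    {V | ∃ (i j : ℕ) (a : 𝒜 i) (b : 𝒜 j), W.ι ''ᵁ V ≤ Proj.basicOpen 𝒜 a.1 ∧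
      W.ι ''ᵁ V ≤ Proj.basicOpen 𝒜 b.1 ∧ n + j = i} ?_ ?_
  · rw [Opens.isBasis_iff_nbhd]
    intro U x hx
    obtain ⟨i, j, a, b, hxa, hxb, hij⟩ := hW x.1 x.2
    refine ⟨U ⊓ W.ι ⁻¹ᵁ (Proj.basicOpen 𝒜 a.1) ⊓ W.ι ⁻¹ᵁ (Proj.basicOpen 𝒜 b.1),
      ⟨i, j, a, b, ?_, ?_, hij⟩, ⟨⟨hx, hxa⟩, hxb⟩, inf_le_left.trans inf_le_left⟩
    · rintro _ ⟨y, hy, rfl⟩
      exact hy.1.2
    · rintro _ ⟨y, hy, rfl⟩
      exact hy.2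
  · rintro V ⟨i, j, a, b, hVa, hVb, hij⟩
    exact mulLinM_bijective (op (W.ι ''ᵁ V)) m n k h a b (fun x => hVa x.2) (fun x => hVb x.2) hij

variable (ℳ) in
/-- `(M(m)~ ⊗ O(n))|_W ≅ M(m+n)~|_W` when `O(n)` has unit fractions near every point of `W` -/
theorem nonempty_restrict_tildeMul_iso (W : (Proj 𝒜).Opens) (m n k : ℤ) (h : k = m + n)
    (hW : ∀ x ∈ W, ∃ (i j : ℕ) (a : 𝒜 i) (b : 𝒜 j),
      x ∈ Proj.basicOpen 𝒜 a.1 ∧ x ∈ Proj.basicOpen 𝒜 b.1 ∧ n + j = i) :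
    Nonempty ((CohB1.tensorMod (GrTilde.tilde 𝒜 ℳ m) (twist 𝒜 n)).restrict W.ι ≅
      (GrTilde.tilde 𝒜 ℳ k).restrict W.ι) := by
  have : IsIso ((shf (W : Scheme.{u})).map ((resPre W.ι).map (mulPreHomM 𝒜 ℳ m n k h))) :=
    (WX_iff_isIso _ _).1 (WX_resPre_mulPreHomM W m n k h hW)
  exact ⟨(shfResPreIso W.ι (tlP 𝒜 ℳ m ⊗ twP 𝒜 n)).symm ≪≫
    asIso ((shf (W : Scheme.{u})).map ((resPre W.ι).map (mulPreHomM 𝒜 ℳ m n k h))) ≪≫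
    shfResPreIso W.ι (tlP 𝒜 ℳ k) ≪≫
    (restrictFunctor W.ι).mapIso (shfCounitIso (Proj 𝒜) (GrTilde.tilde 𝒜 ℳ k))⟩

lemma WX_resPre_mulPreHom (W : (Proj 𝒜).Opens) (m n k : ℤ) (h : k = m + n)
    (hW : ∀ x ∈ W, ∃ (i j : ℕ) (a : 𝒜 i) (b : 𝒜 j),
      x ∈ Proj.basicOpen 𝒜 a.1 ∧ x ∈ Proj.basicOpen 𝒜 b.1 ∧ m + j = i) :
    WX (W : Scheme.{u}) ((resPre W.ι).map (mulPreHom 𝒜 m n k h)) := by
  refine WX_of_bijective_of_isBasis _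
    {V | ∃ (i j : ℕ) (a : 𝒜 i) (b : 𝒜 j), W.ι ''ᵁ V ≤ Proj.basicOpen 𝒜 a.1 ∧
      W.ι ''ᵁ V ≤ Proj.basicOpen 𝒜 b.1 ∧ m + j = i} ?_ ?_
  · rw [Opens.isBasis_iff_nbhd]
    intro U x hx
    obtain ⟨i, j, a, b, hxa, hxb, hij⟩ := hW x.1 x.2
    refine ⟨U ⊓ W.ι ⁻¹ᵁ (Proj.basicOpen 𝒜 a.1) ⊓ W.ι ⁻¹ᵁ (Proj.basicOpen 𝒜 b.1),
      ⟨i, j, a, b, ?_, ?_, hij⟩, ⟨⟨hx, hxa⟩, hxb⟩, inf_le_left.trans inf_le_left⟩
    · rintro _ ⟨y, hy, rfl⟩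
      exact hy.1.2
    · rintro _ ⟨y, hy, rfl⟩
      exact hy.2
  · rintro V ⟨i, j, a, b, hVa, hVb, hij⟩
    exact mulLin_bijective (op (W.ι ''ᵁ V)) m n k h a b (fun x => hVa x.2) (fun x => hVb x.2) hij

/-- `(O(m) ⊗ O(n))|_W ≅ O(m+n)|_W` when `O(m)` has unit fractions near every point of `W` -/
theorem nonempty_restrict_twistMul_iso (W : (Proj 𝒜).Opens) (m n k : ℤ) (h : k = m + n)
    (hW : ∀ x ∈ W, ∃ (i j : ℕ) (a : 𝒜 i) (b : 𝒜 j),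
      x ∈ Proj.basicOpen 𝒜 a.1 ∧ x ∈ Proj.basicOpen 𝒜 b.1 ∧ m + j = i) :
    Nonempty ((CohB1.tensorMod (twist 𝒜 m) (twist 𝒜 n)).restrict W.ι ≅ (twist 𝒜 k).restrict W.ι) := by
  have : IsIso ((shf (W : Scheme.{u})).map ((resPre W.ι).map (mulPreHom 𝒜 m n k h))) :=
    (WX_iff_isIso _ _).1 (WX_resPre_mulPreHom W m n k h hW)
  exact ⟨(shfResPreIso W.ι (twP 𝒜 m ⊗ twP 𝒜 n)).symm ≪≫
    asIso ((shf (W : Scheme.{u})).map ((resPre W.ι).map (mulPreHom 𝒜 m n k h))) ≪≫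
    shfResPreIso W.ι (twP 𝒜 k) ≪≫
    (restrictFunctor W.ι).mapIso (shfCounitIso (Proj 𝒜) (twist 𝒜 k))⟩

/-- the locus `W_d`: near each of its points, `O(n d)` has a unit fraction -/
lemma exists_unitFrac_of_mem_Wd {d : ℕ} (n : ℤ) (x : Proj 𝒜)
    (hx : x ∈ (⨆ (j : ℕ) (a : 𝒜 (j + d)) (b : 𝒜 j), Proj.basicOpen 𝒜 ((a : A) * b))) :
    ∃ (i j : ℕ) (a : 𝒜 i) (b : 𝒜 j),
      x ∈ Proj.basicOpen 𝒜 a.1 ∧ x ∈ Proj.basicOpen 𝒜 b.1 ∧ n * (d : ℤ) + j = i := by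
  simp only [Opens.mem_iSup] at hx
  obtain ⟨j, a, b, hab⟩ := hx
  rw [Proj.basicOpen_mul] at hab
  obtain ⟨hxa, hxb⟩ := hab
  obtain ⟨N, rfl | rfl⟩ := n.eq_nat_or_neg
  · exact ⟨N • (j + d), N • j, ⟨a.1 ^ N, SetLike.pow_mem_graded N a.2⟩,
      ⟨b.1 ^ N, SetLike.pow_mem_graded N b.2⟩, pow_not_mem hxa N, pow_not_mem hxb N,
      by simp only [smul_eq_mul]; push_cast; ring⟩
  · exact ⟨N • j, N • (j + d), ⟨b.1 ^ N, SetLike.pow_mem_graded N b.2⟩,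
      ⟨a.1 ^ N, SetLike.pow_mem_graded N a.2⟩, pow_not_mem hxb N, pow_not_mem hxa N,
      by simp only [smul_eq_mul]; push_cast; ring⟩

end Groth.Agent.Lib.Proj.TildeMul
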