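import Mathlib
import Groth.Prelude.Def_GrTwist
import Groth.Agent.Lib.Proj.Helper66_GrSections
import Groth.Agent.Lib.Proj.Helper66_GrQCoh
import Groth.Agent.Lib.Proj.Helper66_GrTwistFinite
import Groth.Agent.Lib.Proj.Helper66_GrModBC2
import Groth.Agent.Lib.Proj.AwayBaseChange

/-!
# Base change of `O(n)` on `Proj`, sections over `D₊(g)` for `g` of any positive degree (helper66)

ns `Groth.Agent.Lib.Proj.TwistBC`. Part 1: the sections `c_i / g^k` and functions `c_{kd} / g^k`.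
-/

set_option autoImplicit false
set_option linter.unusedSectionVars false
universe u
open CategoryTheory AlgebraicGeometry Opposite TopologicalSpace
open scoped HomogeneousIdeal

namespace Groth.Agent.Lib.Proj.TwistBC

open Groth.Agent.Lib.Proj.GrQCohTwist Groth.Agent.Lib.Proj
open Groth.Agent.Lib.Proj.GrModBC (fval_ext fval_mul fval_one fval_add)

section Generic

variable {C σ : Type u} [CommRing C] [SetLike σ C] [AddSubgroupClass σ C] (𝒞 : ℕ → σ) [GradedRing 𝒞]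
  {d : ℕ} {g : C} (hg : g ∈ 𝒞 d) (n : ℤ)

lemma hden (k : ℕ) (x : Proj.basicOpen 𝒞 g) : g ^ k ∉ x.1.asHomogeneousIdeal := fun hh =>
  (ProjectiveSpectrum.mem_basicOpen 𝒞 g x.1).mp x.2 (x.1.isPrime.mem_of_pow_mem _ hh)

/-- `c ↦ c_i / g^k`, a section of `O(n)` over `D₊(g)` -/
noncomputable def secp (k i : ℕ) (hi : (i : ℤ) = ((k * d : ℕ) : ℤ) + n) (c : C) :
    Γ(GrTwist.twist 𝒞 n, Proj.basicOpen 𝒞 g) :=
  GrTwistFinite.sec 𝒞 hg n k (DirectSum.decompose 𝒞 c i) hi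

lemma tval_secp (k i : ℕ) (hi : (i : ℤ) = ((k * d : ℕ) : ℤ) + n) (c : C)
    (p : Proj.basicOpen 𝒞 g) :
    tval 𝒞 n (secp 𝒞 hg n k i hi c) p =
      (Localization.mk ((DirectSum.decompose 𝒞 c i : 𝒞 i) : C) ⟨g ^ k, hden 𝒞 k p⟩ :
        GrTwist.Loc 𝒞 p.1) := rfl

lemma secp_add (k i : ℕ) (hi : (i : ℤ) = ((k * d : ℕ) : ℤ) + n) (c c' : C) :
    secp 𝒞 hg n k i hi (c + c') = secp 𝒞 hg n k i hi c + secp 𝒞 hg n k i hi c' := by
  refine tval_ext 𝒞 n fun p => ?_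
  change _ = tval 𝒞 n (secp 𝒞 hg n k i hi c) p + tval 𝒞 n (secp 𝒞 hg n k i hi c') p
  rw [tval_secp, tval_secp, tval_secp, DirectSum.decompose_add, DirectSum.add_apply,
    AddMemClass.coe_add, Localization.add_mk_self]

lemma secp_zero (k i : ℕ) (hi : (i : ℤ) = ((k * d : ℕ) : ℤ) + n) :
    secp 𝒞 hg n k i hi 0 = 0 := by
  refine tval_ext 𝒞 n fun p => ?_
  rw [tval_secp, tval_zero, DirectSum.decompose_zero, DirectSum.zero_apply,
    ZeroMemClass.coe_zero, Localization.mk_zero]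

/-- `c ↦ c_{kd} / g^k`, a function on `D₊(g)` -/
noncomputable def fnp (k : ℕ) (c : C) : Γ(Proj 𝒞, Proj.basicOpen 𝒞 g) :=
  GrTwistFinite.fn 𝒞 hg k (DirectSum.decompose 𝒞 c (k * d))

lemma fval_fnp (k : ℕ) (c : C) (p : Proj.basicOpen 𝒞 g) :
    fval 𝒞 (fnp 𝒞 hg k c) p =
      (Localization.mk ((DirectSum.decompose 𝒞 c (k * d) : 𝒞 (k * d)) : C) ⟨g ^ k, hden 𝒞 k p⟩ :
        GrTwist.Loc 𝒞 p.1) :=
  GrTwistFinite.fval_fn 𝒞 hg k _ p

/-- the product of a function and a section -/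
lemma fnp_smul_secp (k' k i : ℕ) (hi : (i : ℤ) = ((k * d : ℕ) : ℤ) + n)
    (hi' : ((k' * d + i : ℕ) : ℤ) = (((k' + k) * d : ℕ) : ℤ) + n) (c' c : C) (hc : c ∈ 𝒞 i) :
    fnp 𝒞 hg k' c' • secp 𝒞 hg n k i hi c = secp 𝒞 hg n (k' + k) (k' * d + i) hi' (c' * c) := by
  refine tval_ext 𝒞 n fun p => ?_
  rw [tval_smul, fval_fnp, tval_secp, tval_secp, Localization.mk_mul,
    DirectSum.coe_decompose_mul_add_of_right_mem 𝒞 hc, DirectSum.decompose_of_mem_same 𝒞 hc,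
    Localization.mk_eq_mk_iff, Localization.r_iff_exists]
  refine ⟨1, ?_⟩
  simp only [OneMemClass.coe_one, one_mul, Submonoid.coe_mul, pow_add]

/-- multiplying numerator and denominator by a power of `g` -/
lemma secp_pow_mul (k i N : ℕ) (hi : (i : ℤ) = ((k * d : ℕ) : ℤ) + n)
    (hi' : ((N * d + i : ℕ) : ℤ) = (((k + N) * d : ℕ) : ℤ) + n) (c : C) :
    secp 𝒞 hg n (k + N) (N * d + i) hi' (g ^ N * c) = secp 𝒞 hg n k i hi c := by
  refine tval_ext 𝒞 n fun p => ?_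
  have hgN : g ^ N ∈ 𝒞 (N * d) := GrTwistFinite.pow_mem 𝒞 hg N
  rw [tval_secp, tval_secp, DirectSum.coe_decompose_mul_add_of_left_mem 𝒞 hgN,
    Localization.mk_eq_mk_iff, Localization.r_iff_exists]
  refine ⟨1, ?_⟩
  simp only [OneMemClass.coe_one, one_mul, pow_add]
  ring

/-- projecting first does not change `c_i / g^k` -/
lemma secp_proj (k i : ℕ) (hi : (i : ℤ) = ((k * d : ℕ) : ℤ) + n) (c : C) :
    secp 𝒞 hg n k i hi ((DirectSum.decompose 𝒞 c i : 𝒞 i) : C) = secp 𝒞 hg n k i hi c := by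
  refine tval_ext 𝒞 n fun p => ?_
  rw [tval_secp, tval_secp, DirectSum.decompose_of_mem_same 𝒞 (SetLike.coe_mem _)]

end Generic

end Groth.Agent.Lib.Proj.TwistBC
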