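import Mathlib
import Groth.Agent.Lib.Proj.Helper66_TwistBC1

/-!
# Base change of `O(n)` on `Proj`: the chart computation (helper66)

ns `Groth.Agent.Lib.Proj.TwistBC`. Part 2.
-/

set_option autoImplicit false
set_option linter.unusedSectionVars false
universe u
open CategoryTheory AlgebraicGeometry Opposite TopologicalSpace TensorProduct
open scoped HomogeneousIdeal

namespace Groth.Agent.Lib.Proj.TwistBC

open Groth.Agent.Lib.Proj.GrQCohTwist Groth.Agent.Lib.Proj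
open Groth.Agent.Lib.Proj.GrModBC (fval_ext fval_mul fval_one fval_add)
open Groth.Agent.Lib.Proj.AwayBaseChange (G P equiv_G equiv_P)

section GenericFn

variable {C σ : Type u} [CommRing C] [SetLike σ C] [AddSubgroupClass σ C] (𝒞 : ℕ → σ) [GradedRing 𝒞]
  {d : ℕ} {g : C} (hg : g ∈ 𝒞 d)

lemma fnp_add (k : ℕ) (c c' : C) : fnp 𝒞 hg k (c + c') = fnp 𝒞 hg k c + fnp 𝒞 hg k c' := by
  refine fval_ext 𝒞 fun p => ?_
  rw [fval_add, fval_fnp, fval_fnp, fval_fnp, DirectSum.decompose_add, DirectSum.add_apply,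
    AddMemClass.coe_add, Localization.add_mk_self]

lemma fnp_zero (k : ℕ) : fnp 𝒞 hg k 0 = 0 := by
  refine fval_ext 𝒞 fun p => ?_
  rw [fval_fnp, DirectSum.decompose_zero, DirectSum.zero_apply, ZeroMemClass.coe_zero,
    Localization.mk_zero]
  change _ = (0 : GrTwist.A0 𝒞 (p.1 : ProjectiveSpectrum 𝒞)).val
  rw [HomogeneousLocalization.val_zero]

end GenericFn

section Scalars

variable {R A : Type u} [CommRing R] [CommRing A] [Algebra R A] (𝒜 : ℕ → Submodule R A)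
  [GradedAlgebra 𝒜]

/-- the base ring acting on functions on `D₊(a)` -/
noncomputable def ιR (a : A) : R →+* Γ(Proj 𝒜, Proj.basicOpen 𝒜 a) :=
  (Proj.awayToSection 𝒜 a).hom.comp
    ((HomogeneousLocalization.fromZeroRingHom 𝒜 (Submonoid.powers a)).comp (algebraMap R (𝒜 0)))

lemma fval_ιR (a : A) (r : R) (p : Proj.basicOpen 𝒜 a) :
    fval 𝒜 (ιR 𝒜 a r) p = (Localization.mk (algebraMap R A r) 1 : GrTwist.Loc 𝒜 p.1) := by
  have h4 := ProjectiveSpectrum.Proj.awayToSection_apply 𝒜 a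
    (HomogeneousLocalization.fromZeroRingHom 𝒜 (Submonoid.powers a) (algebraMap R (𝒜 0) r)) p
  refine h4.trans ?_
  have h1 : (HomogeneousLocalization.fromZeroRingHom 𝒜 (Submonoid.powers a)
      (algebraMap R (𝒜 0) r)).val = Localization.mk (algebraMap R A r) 1 := rfl
  rw [h1, Localization.mk_eq_mk', IsLocalization.map_mk', Localization.mk_eq_mk']
  rfl

variable {d : ℕ} {g : A} (hg : g ∈ 𝒜 d) (n : ℤ)

lemma secp_smul (k i : ℕ) (hi : (i : ℤ) = ((k * d : ℕ) : ℤ) + n) (r : R) (c : A) :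
    secp 𝒜 hg n k i hi (r • c) = ιR 𝒜 g r • secp 𝒜 hg n k i hi c := by
  refine tval_ext 𝒜 n fun p => ?_
  rw [tval_smul, fval_ιR, tval_secp, tval_secp, DirectSum.decompose_smul, DirectSum.smul_apply,
    Submodule.coe_smul, Localization.mk_mul, one_mul, Algebra.smul_def]

end Scalars

section BaseChange

variable {R R' A B : Type u} [CommRing R'] [CommRing R] [Algebra R' R]
  [CommRing B] [Algebra R' B] (ℬ : ℕ → Submodule R' B) [GradedAlgebra ℬ]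
  [CommRing A] [Algebra R A] [Algebra R' A] [IsScalarTower R' R A] (𝒜 : ℕ → Submodule R A)
  [GradedAlgebra 𝒜] [Algebra B A] [IsScalarTower R' B A] [Algebra.IsPushout R' R B A]
  (φ : ℬ →+*ᵍ 𝒜) (hφA : ∀ b : B, φ b = algebraMap B A b) (hφ : 𝒜₊ ≤ (ℬ₊).map φ)
  {d : ℕ} (hd : 0 < d) {g : B} (hg : g ∈ ℬ d) (n : ℤ)

lemma cmem (y : Proj.basicOpen 𝒜 (φ g)) :
    ProjectiveSpectrum.comap φ hφ y.1 ∈ Proj.basicOpen ℬ g := y.2

variable {T : Type u} [AddCommGroup T] [Module Γ(Proj 𝒜, Proj.basicOpen 𝒜 (φ g)) T]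
  (ρ : Γ(Proj ℬ, Proj.basicOpen ℬ g) →+* Γ(Proj 𝒜, Proj.basicOpen 𝒜 (φ g)))
  (hρ : ∀ (r : Γ(Proj ℬ, Proj.basicOpen ℬ g)) (y : Proj.basicOpen 𝒜 (φ g)),
    fval 𝒜 (ρ r) y = GrTwist.locMap φ hφ y.1
      (fval ℬ r ⟨ProjectiveSpectrum.comap φ hφ y.1, cmem ℬ 𝒜 φ hφ y⟩))
  (ι : Γ(GrTwist.twist ℬ n, Proj.basicOpen ℬ g) →+ T)
  (hι : ∀ (r : Γ(Proj ℬ, Proj.basicOpen ℬ g)) (s : Γ(GrTwist.twist ℬ n, Proj.basicOpen ℬ g)),
    ι (r • s) = ρ r • ι s)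
  (hT : ∀ t : T, t ∈ AddSubgroup.closure {z : T | ∃ (σ : Γ(Proj 𝒜, Proj.basicOpen 𝒜 (φ g)))
    (s : Γ(GrTwist.twist ℬ n, Proj.basicOpen ℬ g)), z = σ • ι s})
  (c : T →ₗ[Γ(Proj 𝒜, Proj.basicOpen 𝒜 (φ g))] Γ(GrTwist.twist 𝒜 n, Proj.basicOpen 𝒜 (φ g)))
  (hc : ∀ (s : Γ(GrTwist.twist ℬ n, Proj.basicOpen ℬ g)) (y : Proj.basicOpen 𝒜 (φ g)),
    tval 𝒜 n (c (ι s)) y = GrTwist.locMap φ hφ y.1
      (tval ℬ n s ⟨ProjectiveSpectrum.comap φ hφ y.1, cmem ℬ 𝒜 φ hφ y⟩))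

include hφA hρ in
lemma rho_ιR (r' : R') : ρ (ιR ℬ g r') = ιR 𝒜 (φ g) (algebraMap R' R r') := by
  refine fval_ext 𝒜 fun y => ?_
  rw [hρ, fval_ιR, fval_ιR, GrTwist.locMap_mk, Localization.mk_eq_mk_iff, Localization.r_iff_exists]
  refine ⟨1, ?_⟩
  simp only [OneMemClass.coe_one, one_mul, map_one]
  rw [hφA, ← IsScalarTower.algebraMap_apply, ← IsScalarTower.algebraMap_apply]

include hφA hρ hι in
/-- `r ⊗ b ↦ r • ι (b_i / g^k)` -/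
noncomputable def Mm (k i : ℕ) (hi : (i : ℤ) = ((k * d : ℕ) : ℤ) + n) : R ⊗[R'] B →+ T :=
  TensorProduct.liftAddHom
    (AddMonoidHom.mk' (fun r => AddMonoidHom.mk'
        (fun b => ιR 𝒜 (φ g) r • ι (secp ℬ hg n k i hi b))
        (fun b b' => by rw [secp_add, map_add, smul_add]))
      (fun r r' => by
        ext b
        simp only [AddMonoidHom.mk'_apply, AddMonoidHom.add_apply, map_add, add_smul]))
    (fun r' r b => by
      simp only [AddMonoidHom.mk'_apply]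
      rw [secp_smul, hι, rho_ιR ℬ 𝒜 φ hφA hφ ρ hρ, smul_smul, Algebra.smul_def, map_mul,
        mul_comm])

lemma Mm_tmul (k i : ℕ) (hi : (i : ℤ) = ((k * d : ℕ) : ℤ) + n) (r : R) (b : B) :
    Mm ℬ 𝒜 φ hφA hφ hg n ρ hρ ι hι k i hi (r ⊗ₜ[R'] b) =
      ιR 𝒜 (φ g) r • ι (secp ℬ hg n k i hi b) := rfl

lemma Mm_G (k i N : ℕ) (hi : (i : ℤ) = ((k * d : ℕ) : ℤ) + n)
    (hi' : ((N * d + i : ℕ) : ℤ) = (((k + N) * d : ℕ) : ℤ) + n) (s : R ⊗[R'] B) :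
    Mm ℬ 𝒜 φ hφA hφ hg n ρ hρ ι hι (k + N) (N * d + i) hi' (G (R := R) g N s) =
      Mm ℬ 𝒜 φ hφA hφ hg n ρ hρ ι hι k i hi s := by
  induction s using TensorProduct.induction_on with
  | zero => rw [map_zero, map_zero, map_zero]
  | tmul r b =>
    have h1 : G (R := R) g N (r ⊗ₜ[R'] b) = r ⊗ₜ[R'] (g ^ N * b) := rfl
    rw [h1, Mm_tmul, Mm_tmul, secp_pow_mul ℬ hg n k i N hi hi']
  | add s₁ s₂ h₁ h₂ => rw [map_add, map_add, map_add, h₁, h₂]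

lemma Mm_P (k i : ℕ) (hi : (i : ℤ) = ((k * d : ℕ) : ℤ) + n) (s : R ⊗[R'] B) :
    Mm ℬ 𝒜 φ hφA hφ hg n ρ hρ ι hι k i hi (P (R := R) ℬ i s) =
      Mm ℬ 𝒜 φ hφA hφ hg n ρ hρ ι hι k i hi s := by
  induction s using TensorProduct.induction_on with
  | zero => rw [map_zero]
  | tmul r b =>
    have h1 : P (R := R) ℬ i (r ⊗ₜ[R'] b) = r ⊗ₜ[R'] ((DirectSum.decompose ℬ b i : B)) := rfl
    rw [h1, Mm_tmul, Mm_tmul, secp_proj]
  | add s₁ s₂ h₁ h₂ => rw [map_add, map_add, map_add, h₁, h₂]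

include hc in
/-- the key formula -/
lemma c_Mm (k i : ℕ) (hi : (i : ℤ) = ((k * d : ℕ) : ℤ) + n) (s : R ⊗[R'] B) :
    c (Mm ℬ 𝒜 φ hφA hφ hg n ρ hρ ι hι k i hi s) =
      secp 𝒜 (φ.map_mem hg) n k i hi (Algebra.IsPushout.equiv R' R B A s) := by
  induction s using TensorProduct.induction_on with
  | zero => rw [map_zero, map_zero, map_zero, secp_zero]
  | tmul r b =>
    rw [Mm_tmul, c.map_smul]
    refine tval_ext 𝒜 n fun y => ?_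
    have h1 : P (R := R) ℬ i (r ⊗ₜ[R'] b) = r ⊗ₜ[R'] ((DirectSum.decompose ℬ b i : B)) := rfl
    rw [tval_smul, fval_ιR, hc, tval_secp, tval_secp, GrTwist.locMap_mk, Localization.mk_mul,
      ← equiv_P ℬ 𝒜 φ hφA, h1, Algebra.IsPushout.equiv_tmul, ← hφA,
      Localization.mk_eq_mk_iff, Localization.r_iff_exists]
    refine ⟨1, ?_⟩
    simp only [OneMemClass.coe_one, one_mul, map_pow]
    rfl
  | add s₁ s₂ h₁ h₂ => rw [map_add, map_add, map_add, secp_add, h₁, h₂]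

lemma Mm_congr {k i k₂ i₂ : ℕ} (hk : k = k₂) (hii : i = i₂)
    (hi : (i : ℤ) = ((k * d : ℕ) : ℤ) + n) (hi₂ : (i₂ : ℤ) = ((k₂ * d : ℕ) : ℤ) + n)
    (s : R ⊗[R'] B) :
    Mm ℬ 𝒜 φ hφA hφ hg n ρ hρ ι hι k i hi s = Mm ℬ 𝒜 φ hφA hφ hg n ρ hρ ι hι k₂ i₂ hi₂ s := by
  subst hk hii
  rfl

include hφA hρ in
lemma fnp_equiv_mem (k' : ℕ) (s' : R ⊗[R'] B) :
    fnp 𝒜 (φ.map_mem hg) k' (Algebra.IsPushout.equiv R' R B A s') ∈
      AddSubgroup.closure {z : Γ(Proj 𝒜, Proj.basicOpen 𝒜 (φ g)) |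
        ∃ (r : R) (x : Γ(Proj ℬ, Proj.basicOpen ℬ g)), z = ιR 𝒜 (φ g) r * ρ x} := by
  induction s' using TensorProduct.induction_on with
  | zero =>
    rw [map_zero, fnp_zero]
    exact AddSubgroup.zero_mem _
  | tmul r b' =>
    refine AddSubgroup.subset_closure ⟨r, fnp ℬ hg k' b', ?_⟩
    refine fval_ext 𝒜 fun y => ?_
    have h1 : P (R := R) ℬ (k' * d) (r ⊗ₜ[R'] b') =
        r ⊗ₜ[R'] ((DirectSum.decompose ℬ b' (k' * d) : B)) := rfl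
    rw [fval_mul, fval_ιR, hρ, fval_fnp, fval_fnp, GrTwist.locMap_mk, Localization.mk_mul,
      ← equiv_P ℬ 𝒜 φ hφA, h1, Algebra.IsPushout.equiv_tmul, ← hφA,
      Localization.mk_eq_mk_iff, Localization.r_iff_exists]
    refine ⟨1, ?_⟩
    simp only [OneMemClass.coe_one, one_mul, map_pow]
    rfl
  | add s₁ s₂ h₁ h₂ =>
    rw [map_add, fnp_add]
    exact AddSubgroup.add_mem _ h₁ h₂

include hd hg hφA hρ in
lemma mem_closure_R₂ (σ₂ : Γ(Proj 𝒜, Proj.basicOpen 𝒜 (φ g))) :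
    σ₂ ∈ AddSubgroup.closure {z : Γ(Proj 𝒜, Proj.basicOpen 𝒜 (φ g)) |
        ∃ (r : R) (x : Γ(Proj ℬ, Proj.basicOpen ℬ g)), z = ιR 𝒜 (φ g) r * ρ x} := by
  obtain ⟨k', a', ha', hval⟩ := exists_frac_fn 𝒜 hd (φ.map_mem hg) σ₂
  have h1 : σ₂ = fnp 𝒜 (φ.map_mem hg) k' (Algebra.IsPushout.equiv R' R B A
      ((Algebra.IsPushout.equiv R' R B A).symm a')) := by
    rw [AlgEquiv.apply_symm_apply]
    refine fval_ext 𝒜 fun y => ?_
    rw [fval_fnp, DirectSum.decompose_of_mem_same 𝒜 ha']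
    exact hval y
  rw [h1]
  exact fnp_equiv_mem ℬ 𝒜 φ hφA hφ hg ρ hρ k' _

include hd hT in
/-- every element of `T` is of the form `Mm k i s` -/
lemma exists_Mm (t : T) : ∃ (k i : ℕ) (hi : (i : ℤ) = ((k * d : ℕ) : ℤ) + n) (s : R ⊗[R'] B),
    Mm ℬ 𝒜 φ hφA hφ hg n ρ hρ ι hι k i hi s = t := by
  have hadd : ∀ t t' : T,
      (∃ (k i : ℕ) (hi : (i : ℤ) = ((k * d : ℕ) : ℤ) + n) (s : R ⊗[R'] B),
        Mm ℬ 𝒜 φ hφA hφ hg n ρ hρ ι hι k i hi s = t) →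
      (∃ (k i : ℕ) (hi : (i : ℤ) = ((k * d : ℕ) : ℤ) + n) (s : R ⊗[R'] B),
        Mm ℬ 𝒜 φ hφA hφ hg n ρ hρ ι hι k i hi s = t') →
      ∃ (k i : ℕ) (hi : (i : ℤ) = ((k * d : ℕ) : ℤ) + n) (s : R ⊗[R'] B),
        Mm ℬ 𝒜 φ hφA hφ hg n ρ hρ ι hι k i hi s = t + t' := by
    rintro _ _ ⟨k, i, hi, s, rfl⟩ ⟨k', i', hi', s', rfl⟩
    have h1 : ((k' * d + i : ℕ) : ℤ) = (((k + k') * d : ℕ) : ℤ) + n := by
      push_cast; push_cast at hi; linarith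
    have h2 : ((k * d + i' : ℕ) : ℤ) = (((k' + k) * d : ℕ) : ℤ) + n := by
      push_cast; push_cast at hi'; linarith
    have hii : k * d + i' = k' * d + i := by
      have : ((k * d + i' : ℕ) : ℤ) = ((k' * d + i : ℕ) : ℤ) := by
        rw [h1, h2]; push_cast; ring
      exact_mod_cast this
    refine ⟨k + k', k' * d + i, h1, G (R := R) g k' s + G (R := R) g k s', ?_⟩
    rw [map_add, Mm_G ℬ 𝒜 φ hφA hφ hg n ρ hρ ι hι k i k' hi h1 s,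
      ← Mm_congr ℬ 𝒜 φ hφA hφ hg n ρ hρ ι hι (Nat.add_comm k' k) hii h2 h1,
      Mm_G ℬ 𝒜 φ hφA hφ hg n ρ hρ ι hι k' i' k hi' h2 s']
  have hbasic : ∀ (r : R) (s₂ : Γ(GrTwist.twist ℬ n, Proj.basicOpen ℬ g)),
      ∃ (k i : ℕ) (hi : (i : ℤ) = ((k * d : ℕ) : ℤ) + n) (s : R ⊗[R'] B),
        Mm ℬ 𝒜 φ hφA hφ hg n ρ hρ ι hι k i hi s = ιR 𝒜 (φ g) r • ι s₂ := by
    intro r s₂
    obtain ⟨k, i, b, hi, hs⟩ := GrSections.exists_frac ℬ n hd hg s₂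
    have hi' : (i : ℤ) = ((k * d : ℕ) : ℤ) + n := by rw [hi]; push_cast; ring
    refine ⟨k, i, hi', r ⊗ₜ[R'] (b : B), ?_⟩
    rw [Mm_tmul]
    congr 2
    refine tval_ext ℬ n fun p => ?_
    rw [tval_secp, DirectSum.decompose_of_mem_same ℬ b.2]
    exact (hs p).symm
  have hzero : ∃ (k i : ℕ) (hi : (i : ℤ) = ((k * d : ℕ) : ℤ) + n) (s : R ⊗[R'] B),
      Mm ℬ 𝒜 φ hφA hφ hg n ρ hρ ι hι k i hi s = 0 := by
    obtain ⟨k, i, hi, s, hs⟩ := hbasic 0 0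
    exact ⟨k, i, hi, s, by rw [hs, map_zero, zero_smul]⟩
  have hneg : ∀ t : T,
      (∃ (k i : ℕ) (hi : (i : ℤ) = ((k * d : ℕ) : ℤ) + n) (s : R ⊗[R'] B),
        Mm ℬ 𝒜 φ hφA hφ hg n ρ hρ ι hι k i hi s = t) →
      ∃ (k i : ℕ) (hi : (i : ℤ) = ((k * d : ℕ) : ℤ) + n) (s : R ⊗[R'] B),
        Mm ℬ 𝒜 φ hφA hφ hg n ρ hρ ι hι k i hi s = -t := by
    rintro _ ⟨k, i, hi, s, rfl⟩
    exact ⟨k, i, hi, -s, map_neg _ _⟩
  induction hT t using AddSubgroup.closure_induction with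
  | mem t ht =>
    obtain ⟨σ₂, s₁, rfl⟩ := ht
    induction mem_closure_R₂ ℬ 𝒜 φ hφA hφ hd hg ρ hρ σ₂ using AddSubgroup.closure_induction with
    | mem z hz =>
      obtain ⟨r, x, rfl⟩ := hz
      rw [mul_smul, ← hι]
      exact hbasic r _
    | zero => rw [zero_smul]; exact hzero
    | add z z' _ _ h h' => rw [add_smul]; exact hadd _ _ h h'
    | neg z _ h => rw [neg_smul]; exact hneg _ h
  | zero => exact hzero
  | add t t' _ _ h h' => exact hadd _ _ h h'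
  | neg t _ h => exact hneg _ h

include hd hφA hg hρ hι hT hc in
/-- **the chart computation**: `R₂ ⊗_{R₁} Γ(D₊(g), O_B(n)) ≅ Γ(D₊(φ g), O_A(n))` for `A = R ⊗_{R'} B` -/
theorem core_bijective : Function.Bijective c := by
  constructor
  · rw [injective_iff_map_eq_zero]
    intro t ht
    obtain ⟨k, i, hi, s, rfl⟩ := exists_Mm ℬ 𝒜 φ hφA hφ hd hg n ρ hρ ι hι hT t
    rw [c_Mm ℬ 𝒜 φ hφA hφ hg n ρ hρ ι hι c hc] at ht
    have hva : ∀ y : ProjectiveSpectrum 𝒜, φ g ∉ y.asHomogeneousIdeal →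
        ∃ w : A, w ∉ y.asHomogeneousIdeal ∧
          w * ((DirectSum.decompose 𝒜 (Algebra.IsPushout.equiv R' R B A s) i : 𝒜 i) : A) = 0 := by
      intro y hy
      have hyV : y ∈ Proj.basicOpen 𝒜 (φ g) := (Proj.mem_basicOpen 𝒜 _ y).2 hy
      have h1 := congrArg (fun t => tval 𝒜 n t ⟨y, hyV⟩) ht
      simp only at h1
      rw [tval_secp, tval_zero] at h1
      exact GrSections.exists_mul_eq_zero_of_mk_eq_zero 𝒜 y _ _ h1
    obtain ⟨N, hN⟩ := GrSections.exists_pow_mul_eq_zero 𝒜 hd (φ.map_mem hg) (SetLike.coe_mem _) hva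
    have hi' : ((N * d + i : ℕ) : ℤ) = (((k + N) * d : ℕ) : ℤ) + n := by
      push_cast; push_cast at hi; linarith
    rw [← Mm_G ℬ 𝒜 φ hφA hφ hg n ρ hρ ι hι k i N hi hi' s,
      ← Mm_P ℬ 𝒜 φ hφA hφ hg n ρ hρ ι hι (k + N) (N * d + i) hi' (G (R := R) g N s)]
    have h2 : P (R := R) ℬ (N * d + i) (G (R := R) g N s) = 0 := by
      apply (Algebra.IsPushout.equiv R' R B A).injective
      rw [map_zero, equiv_P ℬ 𝒜 φ hφA, equiv_G ℬ 𝒜 φ hφA]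
      have h3 := DirectSum.coe_decompose_mul_add_of_left_mem 𝒜 (i := N * d) (j := i)
        (GrTwistFinite.pow_mem 𝒜 (φ.map_mem hg) N) (b := Algebra.IsPushout.equiv R' R B A s)
      exact h3.trans hN
    rw [h2, map_zero]
  · intro y
    obtain ⟨k, i, a, hi, hy⟩ := GrSections.exists_frac 𝒜 n hd (φ.map_mem hg) y
    have hi' : (i : ℤ) = ((k * d : ℕ) : ℤ) + n := by rw [hi]; push_cast; ring
    refine ⟨Mm ℬ 𝒜 φ hφA hφ hg n ρ hρ ι hι k i hi' ((Algebra.IsPushout.equiv R' R B A).symm a), ?_⟩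
    rw [c_Mm ℬ 𝒜 φ hφA hφ hg n ρ hρ ι hι c hc, AlgEquiv.apply_symm_apply]
    refine tval_ext 𝒜 n fun p => ?_
    rw [tval_secp, DirectSum.decompose_of_mem_same 𝒜 a.2]
    exact (hy p).symm

end BaseChange

end Groth.Agent.Lib.Proj.TwistBC
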