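import Mathlib
import Groth.Agent.Lib.Proj.Helper66_TwistBC2
import Groth.Agent.Lib.Proj.Helper66_RelTwistPullback
import Groth.Agent.Lib.QCoh.Helper50_PullbackSections
import Groth.Agent.Lib.QCoh.Helper50_Pullback
import Groth.Agent.Lib.Helper42.QCohIso

/-!
# `Φ^* O_{Proj B}(n) ≅ O_{Proj A}(n)` for a base change `A = R ⊗_{R'} B` (no degree-one generation) (helper66)

ns `Groth.Agent.Lib.Proj.TwistBC`. Part 3: `bijective_app_adjunct`, `isIso_adjunct`.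
-/

set_option autoImplicit false
set_option linter.unusedSectionVars false
universe u
open CategoryTheory AlgebraicGeometry Opposite TopologicalSpace
open scoped HomogeneousIdeal

namespace Groth.Agent.Lib.Proj.TwistBC

open Groth.Agent.Lib.Proj.GrQCohTwist Groth.Agent.Lib.Proj Groth.Agent.Lib.QCoh
  Groth.Agent.Lib.Proj.PullSec

variable {R R' A B : Type u} [CommRing R'] [CommRing R] [Algebra R' R]
  [CommRing B] [Algebra R' B] (ℬ : ℕ → Submodule R' B) [GradedAlgebra ℬ]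
  [CommRing A] [Algebra R A] [Algebra R' A] [IsScalarTower R' R A] (𝒜 : ℕ → Submodule R A)
  [GradedAlgebra 𝒜] [Algebra B A] [IsScalarTower R' B A] [Algebra.IsPushout R' R B A]
  (φ : ℬ →+*ᵍ 𝒜) (hφA : ∀ b : B, φ b = algebraMap B A b) (hφ : 𝒜₊ ≤ (ℬ₊).map φ)

open ModuleCat ChangeOfRings in
set_option backward.isDefEq.respectTransparency false in
set_option maxHeartbeats 1000000 in
include hφA in
/-- the adjunct is bijective on sections over `D₊(φ g)` -/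
theorem bijective_app_adjunct {d : ℕ} (hd : 0 < d) {g : B} (hg : g ∈ ℬ d) (n : ℤ) :
    Function.Bijective ((((Scheme.Modules.pullbackPushforwardAdjunction (Proj.map φ hφ)).homEquiv _ _).symm
      (GrTwist.comap φ hφ n)).app (Proj.basicOpen 𝒜 (φ g))) := by
  have hV : IsAffineOpen (Proj.basicOpen ℬ g) := Proj.isAffineOpen_basicOpen ℬ g hg hd
  have hW' : IsAffineOpen (Proj.basicOpen 𝒜 (φ g)) :=
    Proj.isAffineOpen_basicOpen 𝒜 (φ g) (φ.map_mem hg) hd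
  have e : Proj.basicOpen 𝒜 (φ g) ≤ (Proj.map φ hφ) ⁻¹ᵁ Proj.basicOpen ℬ g := le_of_eq rfl
  have : (GrTwist.twist ℬ n).IsQuasicoherent := twist_isQuasicoherent ℬ n
  obtain ⟨κ, hκ⟩ := exists_iso_extendScalars_pullbackSections (Proj.map φ hφ) hV hW' e
    (GrTwist.twist ℬ n)
  obtain ⟨ν, hν⟩ : ∃ ν, ν = ((Scheme.Modules.pullbackPushforwardAdjunction (Proj.map φ hφ)).homEquiv _ _).symm
      (GrTwist.comap φ hφ n) := ⟨_, rfl⟩
  rw [← hν]
  let _ : Module Γ(Proj ℬ, Proj.basicOpen ℬ g) Γ(Proj 𝒜, Proj.basicOpen 𝒜 (φ g)) :=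
    Module.compHom _ ((Proj.map φ hφ).appLE (Proj.basicOpen ℬ g) (Proj.basicOpen 𝒜 (φ g)) e).hom
  let ι : Γ(GrTwist.twist ℬ n, Proj.basicOpen ℬ g) →+
      ((ModuleCat.extendScalars ((Proj.map φ hφ).appLE (Proj.basicOpen ℬ g)
        (Proj.basicOpen 𝒜 (φ g)) e).hom).obj
        (ModuleCat.of Γ(Proj ℬ, Proj.basicOpen ℬ g) Γ(GrTwist.twist ℬ n, Proj.basicOpen ℬ g))) :=
    { toFun := fun m => (1 : Γ(Proj 𝒜, Proj.basicOpen 𝒜 (φ g))) ⊗ₜ[Γ(Proj ℬ, Proj.basicOpen ℬ g),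
        ((Proj.map φ hφ).appLE (Proj.basicOpen ℬ g) (Proj.basicOpen 𝒜 (φ g)) e).hom] m
      map_zero' := TensorProduct.tmul_zero _ _
      map_add' := fun m m' => TensorProduct.tmul_add _ m m' }
  let c : ((ModuleCat.extendScalars ((Proj.map φ hφ).appLE (Proj.basicOpen ℬ g)
        (Proj.basicOpen 𝒜 (φ g)) e).hom).obj
        (ModuleCat.of Γ(Proj ℬ, Proj.basicOpen ℬ g) Γ(GrTwist.twist ℬ n, Proj.basicOpen ℬ g)))
      →ₗ[Γ(Proj 𝒜, Proj.basicOpen 𝒜 (φ g))] Γ(GrTwist.twist 𝒜 n, Proj.basicOpen 𝒜 (φ g)) :=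
    { toFun := fun t => (ν.app (Proj.basicOpen 𝒜 (φ g))).hom (κ.hom.hom t)
      map_add' := fun x y => by rw [map_add, map_add]
      map_smul' := fun r x => by
        rw [map_smul]
        exact Scheme.Modules.Hom.app_smul ν r _ }
  have hρ : ∀ (r : Γ(Proj ℬ, Proj.basicOpen ℬ g)) (y : Proj.basicOpen 𝒜 (φ g)),
      fval 𝒜 (((Proj.map φ hφ).appLE (Proj.basicOpen ℬ g) (Proj.basicOpen 𝒜 (φ g)) e).hom r) y =
        GrTwist.locMap φ hφ y.1 (fval ℬ r ⟨ProjectiveSpectrum.comap φ hφ y.1, cmem ℬ 𝒜 φ hφ y⟩) := by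
    intro r y
    exact RelTwC.val_map_app φ hφ (Proj.basicOpen ℬ g) r ⟨y.1, e y.2⟩
  have hγ : ∀ (s : Γ(GrTwist.twist ℬ n, Proj.basicOpen ℬ g)) (y : Proj.basicOpen 𝒜 (φ g)),
      tval 𝒜 n (c (ι s)) y =
        GrTwist.locMap φ hφ y.1 (tval ℬ n s ⟨ProjectiveSpectrum.comap φ hφ y.1, cmem ℬ 𝒜 φ hφ y⟩) := by
    intro s y
    have h1 : c (ι s) = (ν.app (Proj.basicOpen 𝒜 (φ g))).hom
        (pullbackSectionsMap (Proj.map φ hφ) e (GrTwist.twist ℬ n) s) :=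
      congrArg (ν.app (Proj.basicOpen 𝒜 (φ g))).hom (hκ s)
    have h2 : (ν.app (Proj.basicOpen 𝒜 (φ g))).hom
        (pullbackSectionsMap (Proj.map φ hφ) e (GrTwist.twist ℬ n) s) =
        (GrTwist.twist 𝒜 n).presheaf.map (homOfLE e).op
          ((ν.app ((Proj.map φ hφ) ⁻¹ᵁ Proj.basicOpen ℬ g)).hom
            (pullSecOn (Proj.map φ hφ) (GrTwist.twist ℬ n) (Proj.basicOpen ℬ g) s)) :=
      app_naturality_apply ν (homOfLE e) _
    have h3 : (ν.app ((Proj.map φ hφ) ⁻¹ᵁ Proj.basicOpen ℬ g)).hom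
        (pullSecOn (Proj.map φ hφ) (GrTwist.twist ℬ n) (Proj.basicOpen ℬ g) s) =
        (GrTwist.comap φ hφ n).app (Proj.basicOpen ℬ g) s := by
      rw [hν]
      exact RelTwC.adjunct_app_pullSecOn (Proj.map φ hφ) (GrTwist.comap φ hφ n) _ s
    rw [h1, h2, h3]
    rfl
  have hcb : Function.Bijective c := by
    refine core_bijective ℬ 𝒜 φ hφA hφ hd hg n
      ((Proj.map φ hφ).appLE (Proj.basicOpen ℬ g) (Proj.basicOpen 𝒜 (φ g)) e).hom hρ ι ?_ ?_ c hγ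
    · intro r s
      change ((1 : Γ(Proj 𝒜, Proj.basicOpen 𝒜 (φ g))) ⊗ₜ[Γ(Proj ℬ, Proj.basicOpen ℬ g),
        ((Proj.map φ hφ).appLE (Proj.basicOpen ℬ g) (Proj.basicOpen 𝒜 (φ g)) e).hom] (r • s)) = _
      rw [← TensorProduct.smul_tmul]
      change _ = ((Proj.map φ hφ).appLE (Proj.basicOpen ℬ g) (Proj.basicOpen 𝒜 (φ g)) e).hom r •
        ((1 : Γ(Proj 𝒜, Proj.basicOpen 𝒜 (φ g))) ⊗ₜ[Γ(Proj ℬ, Proj.basicOpen ℬ g),
        ((Proj.map φ hφ).appLE (Proj.basicOpen ℬ g) (Proj.basicOpen 𝒜 (φ g)) e).hom] s)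
      rw [ModuleCat.ExtendScalars.smul_tmul]
      rfl
    · intro t
      induction t using TensorProduct.induction_on with
      | zero => exact AddSubgroup.zero_mem _
      | tmul σ s =>
        refine AddSubgroup.subset_closure ⟨σ, s, ?_⟩
        have h1 := ModuleCat.ExtendScalars.smul_tmul
          (f := ((Proj.map φ hφ).appLE (Proj.basicOpen ℬ g) (Proj.basicOpen 𝒜 (φ g)) e).hom)
          (M := ModuleCat.of Γ(Proj ℬ, Proj.basicOpen ℬ g)
            Γ(GrTwist.twist ℬ n, Proj.basicOpen ℬ g))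
          (show Γ(Proj 𝒜, Proj.basicOpen 𝒜 (φ g)) from σ) (1 : Γ(Proj 𝒜, Proj.basicOpen 𝒜 (φ g))) s
        rw [mul_one] at h1
        exact h1.symm
      | add x y hx hy => exact AddSubgroup.add_mem _ hx hy
  have hκb : Function.Bijective κ.hom := ConcreteCategory.bijective_of_isIso κ.hom
  have hcomp : (c : _ → _) = (fun z => (ν.app (Proj.basicOpen 𝒜 (φ g))).hom z) ∘ (fun z => κ.hom z) := rfl
  rw [hcomp] at hcb
  exact (Function.Bijective.of_comp_iff _ hκb).1 hcb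

include hφA in
/-- **`Φ^* O_B(n) ⟶ O_A(n)` is an isomorphism** for `A = R ⊗_{R'} B` -/
theorem isIso_adjunct (n : ℤ) :
    IsIso (((Scheme.Modules.pullbackPushforwardAdjunction (Proj.map φ hφ)).homEquiv _ _).symm
      (GrTwist.comap φ hφ n)) := by
  have : (GrTwist.twist ℬ n).IsQuasicoherent := twist_isQuasicoherent ℬ n
  have : (GrTwist.twist 𝒜 n).IsQuasicoherent := twist_isQuasicoherent 𝒜 n
  have : ((Scheme.Modules.pullback (Proj.map φ hφ)).obj (GrTwist.twist ℬ n)).IsQuasicoherent :=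
    isQuasicoherent_pullback _ _
  refine Groth.Agent.Lib.Helper42.QCohIso.isIso_of_bijective_affine_cover _
    (fun a : {a : B // ∃ d : ℕ, 0 < d ∧ a ∈ ℬ d} => Proj.basicOpen 𝒜 (φ a.1))
    (fun a => ?_) ?_ (fun a => ?_)
  · obtain ⟨a, d, hd, ha⟩ := a
    exact Proj.isAffineOpen_basicOpen 𝒜 _ (φ.map_mem ha) hd
  · intro y
    obtain ⟨d, hd, a, ha, hxa, -⟩ := GrGlue.exists_pos_homogeneous_basicOpen_le ℬ
      (ProjectiveSpectrum.comap φ hφ (show ProjectiveSpectrum 𝒜 from y)) ⊤ trivial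
    exact ⟨⟨a, d, hd, ha⟩, (Proj.mem_basicOpen 𝒜 _ y).2 hxa⟩
  · obtain ⟨a, d, hd, ha⟩ := a
    exact bijective_app_adjunct ℬ 𝒜 φ hφA hφ hd ha n

end Groth.Agent.Lib.Proj.TwistBC
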