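import Mathlib
import Groth.Prelude.Def_GrTwist
import Groth.Agent.Lib.Proj.Helper66_GrSections
import Groth.Agent.Lib.Proj.Helper66_GrQCoh
import Groth.Agent.Lib.Proj.Helper66_RelTwistTriv
import Groth.Agent.Lib.QCoh.Helper50_BaseChange
import Groth.Agent.Lib.Helper42.ProjDomIso

/-!
# `r^* O_{Proj A}(n) ≅ O_{Proj B}(n)` for a graded homomorphism bijective in high degrees (helper66)

ns `Groth.Agent.Lib.Proj.TwEvBij`.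
-/

set_option autoImplicit false
set_option linter.unusedSectionVars false
universe u
open CategoryTheory AlgebraicGeometry Opposite TopologicalSpace
open scoped HomogeneousIdeal

namespace Groth.Agent.Lib.Proj.TwEvBij

open Groth.Agent.Lib.Proj.GrQCohTwist Groth.Agent.Lib.Proj

variable {A σ : Type u} [CommRing A] [SetLike σ A] [AddSubgroupClass σ A] {𝒜 : ℕ → σ} [GradedRing 𝒜]
  {B σ' : Type u} [CommRing B] [SetLike σ' B] [AddSubgroupClass σ' B] {ℬ : ℕ → σ'} [GradedRing ℬ]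
  (ψ : 𝒜 →+*ᵍ ℬ) (hψ : ℬ₊ ≤ (𝒜₊).map ψ) (d₀ : ℕ)

lemma pow_mem' {d : ℕ} {f : A} (hf : f ∈ 𝒜 d) (k : ℕ) : f ^ k ∈ 𝒜 (k * d) := by
  have := SetLike.pow_mem_graded k hf
  simpa [smul_eq_mul] using this

theorem comap_app_injective (hinj : ∀ d : ℕ, d₀ ≤ d → ∀ a ∈ 𝒜 d, ψ a = 0 → a = 0)
    (n : ℤ) {d : ℕ} (hd : 0 < d) (f : A) (hf : f ∈ 𝒜 d) :
    Function.Injective ((GrTwist.comap ψ hψ n).app (Proj.basicOpen 𝒜 f)) := by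
  rw [injective_iff_map_eq_zero]
  intro x hx
  obtain ⟨k, i, a, hi, hxa⟩ := GrSections.exists_frac 𝒜 n hd hf x
  have hva : ∀ y : ProjectiveSpectrum ℬ, ψ f ∉ y.asHomogeneousIdeal →
      ∃ w : B, w ∉ y.asHomogeneousIdeal ∧ w * ψ (a : A) = 0 := by
    intro y hy
    have hyV : y ∈ (Proj.map ψ hψ) ⁻¹ᵁ (Proj.basicOpen 𝒜 f) := (Proj.mem_basicOpen ℬ _ y).2 hy
    have h1 := congrArg (fun s : Γ(GrTwist.twist ℬ n, (Proj.map ψ hψ) ⁻¹ᵁ (Proj.basicOpen 𝒜 f)) =>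
      tval ℬ n s ⟨y, hyV⟩) hx
    simp only at h1
    have h2 : tval ℬ n ((GrTwist.comap ψ hψ n).app (Proj.basicOpen 𝒜 f) x) ⟨y, hyV⟩ =
        GrTwist.locMap ψ hψ y (tval 𝒜 n x ⟨ProjectiveSpectrum.comap ψ hψ y, hyV⟩) := rfl
    rw [h2] at h1
    have h3 : tval 𝒜 n x ⟨ProjectiveSpectrum.comap ψ hψ y, hyV⟩ = _ :=
      hxa ⟨ProjectiveSpectrum.comap ψ hψ y, hyV⟩
    rw [h3, GrTwist.locMap_mk] at h1
    exact GrSections.exists_mul_eq_zero_of_mk_eq_zero ℬ y _ _ h1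
  obtain ⟨K, hK⟩ := GrSections.exists_pow_mul_eq_zero ℬ hd (ψ.map_mem hf) (ψ.map_mem a.2) hva
  have hdeg : f ^ (d₀ + K) * (a : A) ∈ 𝒜 ((d₀ + K) * d + i) :=
    SetLike.mul_mem_graded (pow_mem' hf _) a.2
  have hK' : ψ f ^ K * ψ (a : A) = 0 := hK
  have h0 : ψ (f ^ (d₀ + K) * (a : A)) = 0 := by
    rw [map_mul, map_pow, pow_add, mul_assoc, hK', mul_zero]
  have hle : d₀ ≤ (d₀ + K) * d + i := by
    have := Nat.le_mul_of_pos_right d₀ hd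
    nlinarith
  have hz : f ^ (d₀ + K) * (a : A) = 0 := hinj _ hle _ hdeg h0
  refine tval_ext 𝒜 n fun p => ?_
  refine (hxa p).trans ?_
  rw [tval_zero, ← Localization.mk_zero 1, Localization.mk_eq_mk_iff, Localization.r_iff_exists]
  refine ⟨⟨f ^ (d₀ + K), fun hh => (ProjectiveSpectrum.mem_basicOpen 𝒜 f p.1).mp p.2
    (p.1.isPrime.mem_of_pow_mem _ hh)⟩, ?_⟩
  simp only [OneMemClass.coe_one, one_mul, mul_zero]
  exact hz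

theorem comap_app_surjective (hsurj : ∀ d : ℕ, d₀ ≤ d → ∀ b ∈ ℬ d, ∃ a ∈ 𝒜 d, ψ a = b)
    (n : ℤ) {d : ℕ} (hd : 0 < d) (f : A) (hf : f ∈ 𝒜 d) :
    Function.Surjective ((GrTwist.comap ψ hψ n).app (Proj.basicOpen 𝒜 f)) := by
  intro y'
  obtain ⟨k, i, b, hi, hy'⟩ := GrSections.exists_frac ℬ n hd (ψ.map_mem hf) y'
  have hbdeg : (ψ f) ^ d₀ * (b : B) ∈ ℬ (d₀ * d + i) :=
    SetLike.mul_mem_graded (pow_mem' (ψ.map_mem hf) _) b.2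
  have hle : d₀ ≤ d₀ * d + i := by
    have := Nat.le_mul_of_pos_right d₀ hd
    omega
  obtain ⟨a, ha, hab⟩ := hsurj (d₀ * d + i) hle _ hbdeg
  have hden : ∀ x : Proj.basicOpen 𝒜 f, f ^ (d₀ + k) ∉ x.1.asHomogeneousIdeal := fun x hh =>
    (ProjectiveSpectrum.mem_basicOpen 𝒜 f x.1).mp x.2 (x.1.isPrime.mem_of_pow_mem _ hh)
  obtain ⟨s, hs⟩ : ∃ s : Γ(GrTwist.twist 𝒜 n, Proj.basicOpen 𝒜 f), s =
      GrTw.fracSect' (⟨a, ha⟩ : 𝒜 (d₀ * d + i)) (⟨f ^ (d₀ + k), pow_mem' hf _⟩ : 𝒜 ((d₀ + k) * d)) n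
        (by push_cast; rw [hi]; ring) (op (Proj.basicOpen 𝒜 f)) hden := ⟨_, rfl⟩
  refine ⟨s, ?_⟩
  refine tval_ext ℬ n (U := (Proj.map ψ hψ) ⁻¹ᵁ (Proj.basicOpen 𝒜 f)) fun y => ?_
  have h2 : tval ℬ n ((GrTwist.comap ψ hψ n).app (Proj.basicOpen 𝒜 f) s) y =
      GrTwist.locMap ψ hψ y.1 (tval 𝒜 n s ⟨ProjectiveSpectrum.comap ψ hψ y.1, y.2⟩) := rfl
  have h3 : tval 𝒜 n s ⟨ProjectiveSpectrum.comap ψ hψ y.1, y.2⟩ =
      Localization.mk a ⟨f ^ (d₀ + k), hden ⟨ProjectiveSpectrum.comap ψ hψ y.1, y.2⟩⟩ := by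
    rw [hs]
    exact GrTw.val_fracSect' _ _ _ _ _ _ ⟨ProjectiveSpectrum.comap ψ hψ y.1, y.2⟩
  refine h2.trans ?_
  rw [h3, GrTwist.locMap_mk]
  refine Eq.trans ?_ (hy' y).symm
  rw [Localization.mk_eq_mk_iff, Localization.r_iff_exists]
  refine ⟨1, ?_⟩
  simp only [OneMemClass.coe_one, one_mul]
  rw [hab, map_pow, pow_add]
  ring_nf
  rfl

/-- `O_A(n) ⟶ r_* O_B(n)` is an isomorphism when `ψ` is bijective in high degrees -/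
theorem isIso_comap (hinj : ∀ d : ℕ, d₀ ≤ d → ∀ a ∈ 𝒜 d, ψ a = 0 → a = 0)
    (hsurj : ∀ d : ℕ, d₀ ≤ d → ∀ b ∈ ℬ d, ∃ a ∈ 𝒜 d, ψ a = b) (n : ℤ) :
    IsIso (GrTwist.comap ψ hψ n) := by
  refine QCoh.isIso_of_bijective_app_of_isBasis _
    (fun a : {a : A // ∃ d : ℕ, 0 < d ∧ a ∈ 𝒜 d} => Proj.basicOpen 𝒜 a.1) ?_ ?_
  · rw [Opens.isBasis_iff_nbhd]
    intro U x hx
    obtain ⟨d, hd, a, ha, hxa, haU⟩ := GrGlue.exists_pos_homogeneous_basicOpen_le 𝒜 x U hx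
    exact ⟨_, ⟨⟨a, d, hd, ha⟩, rfl⟩, hxa, haU⟩
  · rintro ⟨a, d, hd, ha⟩
    exact ⟨comap_app_injective ψ hψ d₀ hinj n hd a ha, comap_app_surjective ψ hψ d₀ hsurj n hd a ha⟩

/-- **the adjunct `r^* O_A(n) ⟶ O_B(n)` is an isomorphism** when `ψ` is bijective in high degrees (so that
`r` is an isomorphism) -/
theorem isIso_adjunct [IsIso (Proj.map ψ hψ)]
    (hinj : ∀ d : ℕ, d₀ ≤ d → ∀ a ∈ 𝒜 d, ψ a = 0 → a = 0)
    (hsurj : ∀ d : ℕ, d₀ ≤ d → ∀ b ∈ ℬ d, ∃ a ∈ 𝒜 d, ψ a = b) (n : ℤ) :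
    IsIso (((Scheme.Modules.pullbackPushforwardAdjunction (Proj.map ψ hψ)).homEquiv _ _).symm
      (GrTwist.comap ψ hψ n)) := by
  haveI := isIso_comap ψ hψ d₀ hinj hsurj n
  rw [Adjunction.homEquiv_counit]
  infer_instance

end Groth.Agent.Lib.Proj.TwEvBij
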