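import Groth.Agent.S10908
import Groth.Agent.Lib.Proj.TwistMul
import Groth.Agent.Lib.Proj.Helper66_Glue
import Groth.Agent.Lib.Helper38.HypB

/-!
# `O(d) ≅ O(e)` on `P^n_L` (`n ≥ 1`, `L` a field) forces `d = e` (helper66, for helper38's S10960)

ns `Groth.Agent.Lib.Proj.TwistInj`.
* `deg_eq_zero_of_forall_notMem`: a homogeneous polynomial of degree `m` in `≥ 2` variables over a field with empty
  projective zero locus (as a set of homogeneous primes) has `m = 0`.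
* `exists_nowhere_vanishing`: `twist 𝒜 m ≅ twist 𝒜 0` (`m : ℕ`, `𝒜` as in S10908) gives `F ∈ 𝒜 m` lying in no point of
  `Proj 𝒜`.
* `eq_zero_of_iso`: `twist m ≅ twist 0` on `P^n_L` ⇒ `m = 0`.
* **`twist_inj`**.
-/

set_option autoImplicit false
universe u
open CategoryTheory CategoryTheory.Limits AlgebraicGeometry TopologicalSpace Opposite

namespace Groth.Agent.Lib.Proj.TwistInj

open Twist Groth.Agent.Lib.Proj

section Alg

open MvPolynomial

variable (L : Type u) [Field L] (n : ℕ)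

theorem deg_eq_zero_of_forall_notMem (hn : 1 ≤ n) (m : ℕ) (F : MvPolynomial (Fin (n + 1)) L)
    (hF : F ∈ CohB1.polyGrading n L m)
    (hx : ∀ x : ProjectiveSpectrum (CohB1.polyGrading n L), F ∉ x.asHomogeneousIdeal) : m = 0 := by
  have key : ∀ i : Fin (n + 1), ∃ K, F ∣ (X i : MvPolynomial (Fin (n + 1)) L) ^ K := by
    intro i
    obtain ⟨K, hK⟩ := Glue.exists_pow_mem_span (CohB1.polyGrading n L) Nat.one_pos
      (show (X i : MvPolynomial (Fin (n + 1)) L) ∈ CohB1.polyGrading n L 1 from isHomogeneous_X L i)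
      (fun _ : Unit => F) (fun _ => m) (fun _ => hF) (fun z _ => ⟨(), hx z⟩)
    refine ⟨K, ?_⟩
    rw [Set.range_const, Ideal.mem_span_singleton] at hK
    exact hK
  obtain ⟨K0, hK0⟩ := key 0
  obtain ⟨K1, hK1⟩ := key (Fin.last n)
  obtain ⟨j, -, hj⟩ := (dvd_prime_pow (X_prime (R := L) (i := (0 : Fin (n + 1)))) K0).mp hK0
  obtain ⟨l, -, hl⟩ := (dvd_prime_pow (X_prime (R := L) (i := Fin.last n)) K1).mp hK1
  have hj0 : j = 0 := by
    by_contra hne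
    have h1 : (X 0 : MvPolynomial (Fin (n + 1)) L) ∣ X (Fin.last n) ^ l :=
      (dvd_pow_self _ hne).trans (hj.symm.dvd.trans hl.dvd)
    have h2 := (X_prime (R := L) (i := (0 : Fin (n + 1)))).dvd_of_dvd_pow h1
    rw [X_dvd_X] at h2
    have h3 := congrArg Fin.val h2
    simp at h3
    omega
  rw [hj0, pow_zero, associated_one_iff_isUnit] at hj
  obtain ⟨r, hr, hFr⟩ := isUnit_iff_eq_C_of_isReduced.mp hj
  have hF0 : F ≠ 0 := hj.ne_zero
  have h0 : F.IsHomogeneous 0 := hFr ▸ isHomogeneous_C _ r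
  exact IsHomogeneous.inj_right hF h0 hF0

end Alg

section Sheaf

variable {R A : Type u} [CommRing R] [CommRing A] [IsDomain A] [IsNoetherianRing A] [Algebra R A]
  (𝒜 : ℕ → Submodule R A) [GradedAlgebra 𝒜]

theorem exists_nowhere_vanishing (hgen : ∀ i : ℕ, 𝒜 1 * 𝒜 i = 𝒜 (i + 1)) (h1 : 𝒜 1 ≠ ⊥)
    (hint : IsIntegrallyClosed A) (m : ℕ) (φ : twist 𝒜 (m : ℤ) ≅ twist 𝒜 0) :
    ∃ F : 𝒜 m, ∀ x : ProjectiveSpectrum 𝒜, F.1 ∉ x.asHomogeneousIdeal := by
  have hdeg1 := Groth.Agent.S10908.exists_deg_one_notMem 𝒜 hgen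
  obtain ⟨T, hT⟩ : ∃ T : (Proj 𝒜).Opens, T = ⊤ := ⟨_, rfl⟩
  obtain ⟨one, hone⟩ : ∃ one : Sec 𝒜 0 (op T), one = toTwistZeroSect (𝒜 := 𝒜) (op T) 1 := ⟨_, rfl⟩
  obtain ⟨g, hg⟩ : ∃ g : Sec 𝒜 (m : ℤ) (op T), g = (φ.inv.app T).hom one := ⟨_, rfl⟩
  obtain ⟨F, hFg⟩ : ∃ F : 𝒜 m, ∀ x : T, val g x = frac x.1 F.1 1 (one_not_mem x.1) := by
    subst hT
    obtain ⟨F, hFg⟩ := (Groth.Agent.S10908.result 𝒜 hgen h1 hint m).2 g
    refine ⟨F, fun x => ?_⟩
    have := congrArg (fun q : Sec 𝒜 (m : ℤ) (op (⊤ : (Proj 𝒜).Opens)) => val q x) hFg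
    exact this.symm
  refine ⟨F, fun x hFx => ?_⟩
  obtain ⟨t, ht, htx⟩ := hdeg1 x
  have htm : t ^ m ∈ 𝒜 m := by
    have := SetLike.pow_mem_graded m ht
    simpa using this
  obtain ⟨s, hs⟩ : ∃ s : Sec 𝒜 (m : ℤ) (op T), ∀ x : T, val s x = frac x.1 (t ^ m) 1 (one_not_mem x.1) := by
    subst hT
    exact ⟨Twist.globalOf 𝒜 (⟨t ^ m, htm⟩ : 𝒜 m), fun x => rfl⟩
  obtain ⟨ρ, hρ⟩ := (toTwistZeroSect_bijective (𝒜 := 𝒜) (op T)).2 ((φ.hom.app T).hom s)
  have h2 : (φ.inv.app T).hom ((φ.hom.app T).hom s) = s := by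
    have h := congrArg (fun ψ : twist 𝒜 (m : ℤ) ⟶ twist 𝒜 (m : ℤ) => (ψ.app T).hom s) φ.hom_inv_id
    exact h
  have h3 : toTwistZeroSect (𝒜 := 𝒜) (op T) ρ = ρ • one := by
    rw [hone, ← map_smul, smul_eq_mul, mul_one]
  have h4 : s = ρ • g := by
    rw [← h2, ← hρ, h3, hg]
    exact Scheme.Modules.Hom.app_smul φ.inv ρ one
  have hxT : x ∈ T := hT ▸ trivial
  have h5 := congrArg (fun q : Sec 𝒜 (m : ℤ) (op T) => val q ⟨x, hxT⟩) h4
  simp only [] at h5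
  rw [val_smul, hFg, hs] at h5
  have e1 : ∀ a : A, frac x a 1 (one_not_mem x) = algebraMap A (Loc 𝒜 x) a := fun a =>
    Localization.mk_one_eq_algebraMap a
  change frac x (t ^ m) 1 (one_not_mem x) = _ * frac x F.1 1 (one_not_mem x) at h5
  rw [e1, e1] at h5
  have h6 : algebraMap A (Loc 𝒜 x) F.1 ∈ IsLocalRing.maximalIdeal (Loc 𝒜 x) :=
    (IsLocalization.AtPrime.to_map_mem_maximal_iff (Loc 𝒜 x) x.asHomogeneousIdeal.toIdeal F.1).mpr hFx
  have h7 : algebraMap A (Loc 𝒜 x) (t ^ m) ∈ IsLocalRing.maximalIdeal (Loc 𝒜 x) := by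
    rw [h5]
    exact Ideal.mul_mem_left _ _ h6
  have h8 : t ^ m ∈ x.asHomogeneousIdeal.toIdeal :=
    (IsLocalization.AtPrime.to_map_mem_maximal_iff (Loc 𝒜 x) x.asHomogeneousIdeal.toIdeal _).mp h7
  exact htx (x.isPrime.mem_of_pow_mem m h8)

end Sheaf

section Main

open MvPolynomial QCoh

variable (L : Type u) [Field L] (n : ℕ)

/-- `O(m) ≅ O(0)` on `P^n_L` (`n ≥ 1`) forces `m = 0`. -/
theorem eq_zero_of_iso (hn : 1 ≤ n) (m : ℕ)
    (φ : twist (CohB1.polyGrading n L) (m : ℤ) ≅ twist (CohB1.polyGrading n L) 0) : m = 0 := by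
  obtain ⟨F, hF⟩ := exists_nowhere_vanishing (R := L) (CohB1.polyGrading n L)
    (fun i => Groth.Agent.Lib.Helper38.Hyp.homogeneousSubmodule_one_mul (σ := Fin (n + 1)) (R := L) i)
    (by
      intro h
      have h1 : (X 0 : MvPolynomial (Fin (n + 1)) L) ∈ (CohB1.polyGrading n L) 1 := isHomogeneous_X L 0
      rw [h] at h1
      exact X_ne_zero (0 : Fin (n + 1)) ((Submodule.mem_bot L).1 h1))
    inferInstance m φ
  exact deg_eq_zero_of_forall_notMem L n hn m F.1 F.2 hF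

/-- **`O(d) ≅ O(e)` on `P^n_L`, `n ≥ 1`, forces `d = e`.** -/
theorem twist_inj (hn : 1 ≤ n) (d e : ℤ)
    (h : Nonempty (Twist.twistProjSpace n L d ≅ Twist.twistProjSpace n L e)) : d = e := by
  obtain ⟨φ0⟩ := h
  have φ : twist (CohB1.polyGrading n L) d ≅ twist (CohB1.polyGrading n L) e := φ0
  have hcov := Groth.Agent.Lib.Helper38.Hyp.iSup_deg_one L n
  have huf := fun k => hasUnitFrac_of_cover (𝒜 := CohB1.polyGrading n L) hcov k
  have e1 : twist (CohB1.polyGrading n L) (d - e) ≅ twist (CohB1.polyGrading n L) 0 :=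
    (twistMulIso d (-e) (d - e) (by ring) (huf d)).symm ≪≫ tensorModCongr φ (Iso.refl _) ≪≫
      twistMulIso e (-e) 0 (by ring) (huf e)
  have e2 : twist (CohB1.polyGrading n L) (e - d) ≅ twist (CohB1.polyGrading n L) 0 :=
    (twistMulIso e (-d) (e - d) (by ring) (huf e)).symm ≪≫ tensorModCongr φ.symm (Iso.refl _) ≪≫
      twistMulIso d (-d) 0 (by ring) (huf d)
  rcases le_total e d with hle | hle
  · obtain ⟨m, hm⟩ := Int.eq_ofNat_of_zero_le (sub_nonneg.mpr hle)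
    rw [hm] at e1
    have := eq_zero_of_iso L n hn m e1
    omega
  · obtain ⟨m, hm⟩ := Int.eq_ofNat_of_zero_le (sub_nonneg.mpr hle)
    rw [hm] at e2
    have := eq_zero_of_iso L n hn m e2
    omega

end Main

end Groth.Agent.Lib.Proj.TwistInj
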