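import Groth.Agent.Lib.Proj.PnUnique
import Groth.Agent.Lib.QCoh.Helper18_StalkLoc
import Groth.Agent.Lib.QCoh.TensorQCoh

/-!
# Sections of `P^n_R` over `Spec R` and invertible quotients of `R^{n+1}`, part A (lead)

ns `Groth.Agent.Lib.Proj.PnSections`.

* `exists_iso_of_moduleIso` : quasi-coherent modules on `Spec R` with isomorphic global sections are
  isomorphic, compatibly.
* `span_eq_top_of_generatedBy`, `generatedBy_of_span_eq_top` : on an affine scheme, a family of
  global sections of a quasi-coherent module generates it iff it spans the global sections.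
* `generatedBy_pullSec_coord` : the pulled back coordinates generate `r^* O(1)`.
-/

universe u
open CategoryTheory CategoryTheory.Limits AlgebraicGeometry TopologicalSpace Opposite

namespace Groth.Agent.Lib.Proj.PnSections

open Groth.Agent.Lib.Ample Groth.Agent.Lib.QCoh Groth.Agent.Lib.Proj
  Groth.Agent.Lib.Proj.PullSec Groth.Agent.Lib.Proj.QuotCompare Groth.Agent.Lib.Proj.ToProj
  Groth.Agent.Lib.Proj.ToPn Groth.Agent.Lib.Proj.PnUP Scheme.Modules Twist

section B

variable {R : CommRingCat.{u}}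

set_option backward.isDefEq.respectTransparency false in
/-- quasi-coherent modules on `Spec R` with isomorphic modules of global sections are isomorphic -/
theorem exists_iso_of_moduleIso (F F' : (Spec R).Modules) [F.IsQuasicoherent] [F'.IsQuasicoherent]
    (Ψ : moduleSpecΓFunctor.obj F ≅ moduleSpecΓFunctor.obj F') :
    ∃ τ : F ≅ F', moduleSpecΓFunctor.map τ.hom = Ψ.hom := by
  have h1 : IsIso F.fromTildeΓ := Scheme.Modules.isIso_fromTildeΓ_of_isQuasicoherent F
  have h2 : IsIso F'.fromTildeΓ := Scheme.Modules.isIso_fromTildeΓ_of_isQuasicoherent F'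
  let η := (tilde.adjunction (R := R)).unit
  have t1 : η.app (moduleSpecΓFunctor.obj F) ≫ moduleSpecΓFunctor.map F.fromTildeΓ = 𝟙 _ :=
    (tilde.adjunction (R := R)).right_triangle_components F
  have t2 : η.app (moduleSpecΓFunctor.obj F') ≫ moduleSpecΓFunctor.map F'.fromTildeΓ = 𝟙 _ :=
    (tilde.adjunction (R := R)).right_triangle_components F'
  have n1 : Ψ.hom ≫ η.app (moduleSpecΓFunctor.obj F') =
      η.app (moduleSpecΓFunctor.obj F) ≫ moduleSpecΓFunctor.map ((tilde.functor R).map Ψ.hom) :=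
    η.naturality Ψ.hom
  have e1 : moduleSpecΓFunctor.map (inv F.fromTildeΓ) = η.app (moduleSpecΓFunctor.obj F) := by
    have h3 : moduleSpecΓFunctor.map F.fromTildeΓ ≫ moduleSpecΓFunctor.map (inv F.fromTildeΓ) =
        𝟙 _ := by
      rw [← CategoryTheory.Functor.map_comp, IsIso.hom_inv_id, CategoryTheory.Functor.map_id]
    calc moduleSpecΓFunctor.map (inv F.fromTildeΓ)
        = (η.app (moduleSpecΓFunctor.obj F) ≫ moduleSpecΓFunctor.map F.fromTildeΓ) ≫
            moduleSpecΓFunctor.map (inv F.fromTildeΓ) := by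
          rw [t1]; exact (Category.id_comp _).symm
      _ = η.app (moduleSpecΓFunctor.obj F) := by
          rw [Category.assoc, h3]; exact Category.comp_id _
  refine ⟨⟨inv F.fromTildeΓ ≫ (tilde.functor R).map Ψ.hom ≫ F'.fromTildeΓ,
    inv F'.fromTildeΓ ≫ (tilde.functor R).map Ψ.inv ≫ F.fromTildeΓ, ?_, ?_⟩, ?_⟩
  · simp only [Category.assoc, IsIso.hom_inv_id_assoc]
    rw [← CategoryTheory.Functor.map_comp_assoc, Iso.hom_inv_id, CategoryTheory.Functor.map_id,
      Category.id_comp, IsIso.inv_hom_id]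
  · simp only [Category.assoc, IsIso.hom_inv_id_assoc]
    rw [← CategoryTheory.Functor.map_comp_assoc, Iso.inv_hom_id, CategoryTheory.Functor.map_id,
      Category.id_comp, IsIso.inv_hom_id]
  · show moduleSpecΓFunctor.map (inv F.fromTildeΓ ≫ (tilde.functor R).map Ψ.hom ≫ F'.fromTildeΓ) =
      Ψ.hom
    rw [CategoryTheory.Functor.map_comp, CategoryTheory.Functor.map_comp, e1, ← Category.assoc,
      ← n1, Category.assoc, t2]
    exact Category.comp_id _

end B

section CD

variable {X : Scheme.{u}} [IsAffine X]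

lemma exists_primeIdealOf_eq (y : PrimeSpectrum Γ(X, ⊤)) :
    ∃ x : X, (isAffineOpen_top X).primeIdealOf ⟨x, trivial⟩ = y := by
  refine ⟨((isAffineOpen_top X).isoSpec.inv y).1, ?_⟩
  exact Scheme.inv_hom_apply (isAffineOpen_top X).isoSpec y

/-- on an affine scheme, a family of global sections generating a quasi-coherent module stalkwise
spans its global sections -/
theorem span_eq_top_of_generatedBy (F : X.Modules) [F.IsQuasicoherent] {ι : Type*}
    (t : ι → Γ(F, ⊤)) (hgen : ProjUP.GeneratedBy F t) :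
    Submodule.span Γ(X, ⊤) (Set.range t) = ⊤ := by
  have hU : IsAffineOpen (⊤ : X.Opens) := isAffineOpen_top X
  rw [eq_top_iff]
  rintro m -
  by_contra hm
  let I : Ideal Γ(X, ⊤) := (Submodule.span Γ(X, ⊤) (Set.range t)).comap
    (LinearMap.toSpanSingleton Γ(X, ⊤) Γ(F, ⊤) m)
  have hI : I ≠ ⊤ := by
    intro h
    apply hm
    have h1 : (1 : Γ(X, ⊤)) ∈ I := h ▸ Submodule.mem_top
    have h2 : (1 : Γ(X, ⊤)) • m ∈ Submodule.span Γ(X, ⊤) (Set.range t) := h1
    rwa [one_smul] at h2
  obtain ⟨P, hP, hIP⟩ := Ideal.exists_le_maximal I hI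
  obtain ⟨x, hx⟩ := exists_primeIdealOf_eq (X := X) ⟨P, hP.isPrime⟩
  have hPx : ∀ a : Γ(X, ⊤), a ∉ P ↔ a ∈ (hU.primeIdealOf ⟨x, trivial⟩).asIdeal.primeCompl := by
    intro a
    rw [hx]
    rfl
  let _ := X.presheaf.algebra_section_stalk (U := (⊤ : X.Opens)) ⟨x, trivial⟩
  have hloc : IsLocalization.AtPrime (X.presheaf.stalk x)
      (hU.primeIdealOf ⟨x, trivial⟩).asIdeal := hU.isLocalization_stalk ⟨x, trivial⟩
  have key : ∀ z ∈ Submodule.span (X.presheaf.stalk x)
      (Set.range fun i => (F.presheaf.germ ⊤ x trivial).hom (t i)),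
      ∃ s : Γ(X, ⊤), s ∉ P ∧ ∃ n ∈ Submodule.span Γ(X, ⊤) (Set.range t),
        X.presheaf.germ ⊤ x trivial s • z = F.presheaf.germ ⊤ x trivial n := by
    intro z hz
    induction hz using Submodule.span_induction with
    | mem z hz =>
      obtain ⟨i, rfl⟩ := hz
      refine ⟨1, (Ideal.ne_top_iff_one P).1 hP.ne_top, t i, Submodule.subset_span ⟨i, rfl⟩, ?_⟩
      rw [map_one, one_smul]
    | zero =>
      refine ⟨1, (Ideal.ne_top_iff_one P).1 hP.ne_top, 0, Submodule.zero_mem _, ?_⟩
      rw [smul_zero, map_zero]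
    | add z w _ _ hz hw =>
      obtain ⟨s, hs, n, hn, e⟩ := hz
      obtain ⟨s', hs', n', hn', e'⟩ := hw
      refine ⟨s * s', fun h => (hP.isPrime.mem_or_mem h).elim hs hs', s' • n + s • n',
        Submodule.add_mem _ (Submodule.smul_mem _ _ hn) (Submodule.smul_mem _ _ hn'), ?_⟩
      rw [map_mul, smul_add, map_add]
      erw [germ_smul F x ⊤ trivial s' n, germ_smul F x ⊤ trivial s n']
      rw [← e, ← e', smul_smul, smul_smul, mul_comm]
    | smul c z _ hz =>
      obtain ⟨s, hs, n, hn, e⟩ := hz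
      obtain ⟨⟨a, u⟩, hau⟩ := IsLocalization.surj
        (hU.primeIdealOf ⟨x, trivial⟩).asIdeal.primeCompl c
      have hau' : c * X.presheaf.germ ⊤ x trivial u.1 = X.presheaf.germ ⊤ x trivial a := hau
      refine ⟨u.1 * s, fun h => (hP.isPrime.mem_or_mem h).elim ((hPx _).2 u.2) hs, a • n,
        Submodule.smul_mem _ _ hn, ?_⟩
      rw [map_mul]
      erw [germ_smul F x ⊤ trivial a n]
      rw [← e, ← hau', smul_smul, smul_smul]
      congr 1
      ring
  obtain ⟨s, hs, n, hn, e⟩ := key (F.presheaf.germ ⊤ x trivial m)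
    (by rw [hgen x]; exact Submodule.mem_top)
  have e' : F.presheaf.germ ⊤ x trivial (s • m - n) = 0 := by
    rw [map_sub]
    erw [germ_smul F x ⊤ trivial s m]
    rw [e, sub_self]
  let _ := stalkModuleOfOpen F ⊤ x trivial
  have hlocM := isLocalizedModule_germ F hU x trivial
  obtain ⟨c, hc⟩ := (IsLocalizedModule.eq_zero_iff
    (hU.primeIdealOf ⟨x, trivial⟩).asIdeal.primeCompl (germₗ F ⊤ x trivial)).1 e'
  have hcs : c.1 * s ∈ I := by
    show (c.1 * s) • m ∈ Submodule.span Γ(X, ⊤) (Set.range t)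
    have h3 : c.1 • (s • m - n) = 0 := hc
    rw [smul_sub, sub_eq_zero] at h3
    rw [mul_smul, h3]
    exact Submodule.smul_mem _ _ hn
  exact (hP.isPrime.mem_or_mem (hIP hcs)).elim ((hPx _).2 c.2) hs

/-- on an affine scheme, a family of global sections spanning the global sections of a
quasi-coherent module generates it stalkwise -/
theorem generatedBy_of_span_eq_top (F : X.Modules) [F.IsQuasicoherent] {ι : Type*}
    (t : ι → Γ(F, ⊤)) (h : Submodule.span Γ(X, ⊤) (Set.range t) = ⊤) :
    ProjUP.GeneratedBy F t := by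
  have hU : IsAffineOpen (⊤ : X.Opens) := isAffineOpen_top X
  intro x
  rw [eq_top_iff]
  rintro z -
  have hxt : x ∈ (⊤ : X.Opens) := trivial
  have hall : ∀ m ∈ Submodule.span Γ(X, ⊤) (Set.range t),
      F.presheaf.germ ⊤ x trivial m ∈ Submodule.span (X.presheaf.stalk x)
        (Set.range fun i => (F.presheaf.germ ⊤ x trivial).hom (t i)) := by
    intro m hm0
    induction hm0 using Submodule.span_induction with
    | mem m hm =>
      obtain ⟨i, rfl⟩ := hm
      exact Submodule.subset_span ⟨i, rfl⟩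
    | zero => rw [map_zero]; exact Submodule.zero_mem _
    | add a b _ _ ha hb => rw [map_add]; exact Submodule.add_mem _ ha hb
    | smul a m _ hm => erw [germ_smul F x ⊤ trivial a m]; exact Submodule.smul_mem _ _ hm
  let _ := stalkModuleOfOpen F ⊤ x trivial
  have hlocM := isLocalizedModule_germ F hU x trivial
  obtain ⟨⟨m, s⟩, hms⟩ := IsLocalizedModule.surj
    (hU.primeIdealOf ⟨x, trivial⟩).asIdeal.primeCompl (germₗ F ⊤ x trivial) z
  have hms' : X.presheaf.germ ⊤ x trivial s.1 • z = F.presheaf.germ ⊤ x trivial m := hms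
  have hu : IsUnit (X.presheaf.germ ⊤ x trivial s.1) := by
    rw [← Scheme.mem_basicOpen _ _ x hxt]
    exact (notMem_primeIdealOf_iff hU x hxt s.1).1 s.2
  have hm := hall m (h ▸ Submodule.mem_top)
  obtain ⟨u, hu⟩ := hu
  have hz : z = (↑u⁻¹ : X.presheaf.stalk x) • F.presheaf.germ ⊤ x trivial m := by
    rw [← hms', smul_smul, ← hu, Units.inv_mul, one_smul]
  rw [hz]
  exact Submodule.smul_mem _ _ hm

end CD

section E

variable {X : Scheme.{u}} {R : Type u} [CommRing R] (n : ℕ)
  (r : X ⟶ Proj (CohB1.polyGrading n R))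

/-- the pulled back coordinates generate `r^* O(1)` -/
theorem generatedBy_pullSec_coord :
    ProjUP.GeneratedBy ((Scheme.Modules.pullback r).obj (twist (CohB1.polyGrading n R) 1))
      (fun i => ProjUP.pullSec r (twist (CohB1.polyGrading n R) 1) (coord n R i)) := by
  intro x
  obtain ⟨i, hi⟩ := PnUnique.cover_of_iso n (fun i => μ n r i) r (Iso.refl _)
    (fun i => (secOf_μ n r i).symm) x
  have hg := (IsGenerator.stalk_bijective (isGenerator_resSec_genLocus (μ n r i)) x hi).2
  rw [eq_top_iff]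
  rintro y -
  obtain ⟨c, hc⟩ := hg y
  have hc' : c • ((Scheme.Modules.pullback r).obj (twist (CohB1.polyGrading n R) 1)).presheaf.germ
      ⊤ x trivial (secOf (μ n r i)) = y := by
    rw [germ_top_eq _ _ _ x hi]; exact hc
  rw [← hc']
  refine Submodule.smul_mem _ _ (Submodule.subset_span ⟨i, ?_⟩)
  show _ = _
  rw [secOf_μ]

end E

end Groth.Agent.Lib.Proj.PnSections
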