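import Groth.Agent.Lib.Proj.ToPn
import Groth.Agent.Lib.Proj.PullSec
import Groth.Agent.Lib.Proj.QuotCompare
import Groth.Agent.Lib.Proj.TwistAmple
import Groth.Agent.Lib.Proj.TwistTriv
import Groth.Agent.Lib.QCoh.Helper18_GlobGen

/-!
# The universal property of projective space: existence (lead)

ns `Groth.Agent.Lib.Proj.PnUP`.
-/

universe u
open CategoryTheory CategoryTheory.Limits AlgebraicGeometry TopologicalSpace Opposite
  HomogeneousLocalization

namespace Groth.Agent.Lib.Proj.PnUP

open Groth.Agent.Lib.Ample Groth.Agent.Lib.QCoh Groth.Agent.Lib.Proj Groth.Agent.Lib.Proj.ToProj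
  Groth.Agent.Lib.Proj.ToPn Groth.Agent.Lib.Proj.PullSec Groth.Agent.Lib.Proj.QuotCompare
  Scheme.Modules Twist

section Coordinates

variable (n : ℕ) (R : Type u) [CommRing R]

/-- the coordinate `T_i` as an element of degree one -/
noncomputable def T (i : Fin (n + 1)) : CohB1.polyGrading n R 1 := ⟨MvPolynomial.X i, X_mem n R i⟩

lemma hcov : (⨆ f : CohB1.polyGrading n R 1,
    Proj.basicOpen (CohB1.polyGrading n R) (f : MvPolynomial (Fin (n + 1)) R)) = ⊤ := by
  rw [eq_top_iff, ← iSup_basicOpen_X n R]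
  exact iSup_le fun i => le_iSup (fun f : CohB1.polyGrading n R 1 =>
    Proj.basicOpen (CohB1.polyGrading n R) (f : MvPolynomial (Fin (n + 1)) R)) (T n R i)

lemma isInvertible_O1 : PicF.IsInvertible (twist (CohB1.polyGrading n R) 1) :=
  isInvertible_twist (hcov n R) 1

/-- the section `T_i` of `O(1)` as a morphism `O ⟶ O(1)` -/
noncomputable def θ (i : Fin (n + 1)) :
    Coh.structureModule (Proj (CohB1.polyGrading n R)) ⟶ twist (CohB1.polyGrading n R) 1 :=
  sectHom (T n R i)

/-- the coordinate section, as a section of `twist 𝒜 1` -/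
noncomputable abbrev coord (i : Fin (n + 1)) : Γ(twist (CohB1.polyGrading n R) 1, ⊤) :=
  ProjUP.coord n R i

lemma secOf_θ (i : Fin (n + 1)) : secOf (θ n R i) = coord n R i := by
  apply sec_ext
  intro x
  have h1 := val_sectHom_app (T n R i) ⊤ (1 : O (𝒜 := CohB1.polyGrading n R) (op ⊤)) x
  refine h1.trans ?_
  have h2 : (((1 : O (𝒜 := CohB1.polyGrading n R) (op ⊤)).1 x).val : Loc (CohB1.polyGrading n R) x.1) = 1 := by
    exact HomogeneousLocalization.val_one
  rw [h2, mul_one]
  rfl

lemma genLocus_θ (i : Fin (n + 1)) :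
    CohB1.genLocus (twist (CohB1.polyGrading n R) 1) (θ n R i) =
      Proj.basicOpen (CohB1.polyGrading n R) (MvPolynomial.X i : MvPolynomial (Fin (n + 1)) R) :=
  genLocus_sectHom (T n R i) (hasUnitFrac_of_cover (hcov n R) _)

/-- the function `T_j / T_i` on `D₊(T_i)` -/
noncomputable def zfrac (i j : Fin (n + 1)) :
    Γ(Proj (CohB1.polyGrading n R), Proj.basicOpen (CohB1.polyGrading n R)
      (MvPolynomial.X i : MvPolynomial (Fin (n + 1)) R)) :=
  (Proj.awayToSection (CohB1.polyGrading n R) (MvPolynomial.X i)).hom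
    (Away.mk (CohB1.polyGrading n R) (X_mem n R i) 1 (MvPolynomial.X j) (X_mem' n R j))

/-- `T_j = (T_j / T_i) • T_i` on `D₊(T_i)` -/
lemma coord_rel (i j : Fin (n + 1)) :
    resSec (twist (CohB1.polyGrading n R) 1)
        (le_top : Proj.basicOpen (CohB1.polyGrading n R)
          (MvPolynomial.X i : MvPolynomial (Fin (n + 1)) R) ≤ ⊤) (coord n R j) =
      zfrac n R i j • resSec (twist (CohB1.polyGrading n R) 1)
        (le_top : Proj.basicOpen (CohB1.polyGrading n R)
          (MvPolynomial.X i : MvPolynomial (Fin (n + 1)) R) ≤ ⊤) (coord n R i) := by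
  apply sec_ext (𝒜 := CohB1.polyGrading n R) (m := 1)
    (V := op (Proj.basicOpen (CohB1.polyGrading n R)
      (MvPolynomial.X i : MvPolynomial (Fin (n + 1)) R)))
  intro x
  refine Eq.trans ?_ (val_smul (𝒜 := CohB1.polyGrading n R) (m := 1) (zfrac n R i j) _ x).symm
  have hx : (MvPolynomial.X i : MvPolynomial (Fin (n + 1)) R) ∉ x.1.asHomogeneousIdeal := x.2
  have h1 : (((zfrac n R i j).1 x).val : Loc (CohB1.polyGrading n R) x.1) =
      frac x.1 (MvPolynomial.X j) (MvPolynomial.X i ^ 1) (pow_not_mem hx 1) := by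
    have := ProjectiveSpectrum.Proj.awayToSection_apply (𝒜 := CohB1.polyGrading n R)
      (MvPolynomial.X i : MvPolynomial (Fin (n + 1)) R)
      (Away.mk (CohB1.polyGrading n R) (X_mem n R i) 1 (MvPolynomial.X j) (X_mem' n R j)) x
    refine this.trans ?_
    rw [Away.val_mk, Localization.mk_eq_mk', IsLocalization.map_mk']
    rw [← Localization.mk_eq_mk']
    rfl
  rw [h1]
  show frac x.1 (MvPolynomial.X j) 1 (one_not_mem x.1) =
    frac x.1 (MvPolynomial.X j) (MvPolynomial.X i ^ 1) (pow_not_mem hx 1) *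
      frac x.1 (MvPolynomial.X i) 1 (one_not_mem x.1)
  refine Eq.trans ?_ (frac_mul_frac x.1 (MvPolynomial.X j) (MvPolynomial.X i ^ 1) (MvPolynomial.X i) 1
    (pow_not_mem hx 1) (one_not_mem x.1)).symm
  refine Localization.mk_eq_mk_iff.2 (Localization.r_iff_exists.2 ⟨1, ?_⟩)
  simp only [OneMemClass.coe_one, one_mul, pow_one, mul_one]
  ring

end Coordinates

section FreeGerm

variable {X : Scheme.{u}}

lemma secOf_ιFree_comp_homOfFamily (G : X.Modules) {ι : Type u} (t : ι → Γ(G, ⊤)) (j : ι) :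
    secOf (SheafOfModules.ιFree (R := X.ringCatSheaf) j ≫ homOfFamily G t) = t j := by
  refine Eq.trans ?_ (homOfFamily_app_top G t j)
  rfl

lemma stalkMap_homOfFamily_freeGerm (G : X.Modules) {ι : Type u} (t : ι → Γ(G, ⊤)) (j : ι)
    (x : X) :
    stalkMap (homOfFamily G t) x (freeGerm ι j x) = G.presheaf.germ ⊤ x trivial (t j) := by
  have h1 := stalkMap_comp_apply (SheafOfModules.ιFree (R := X.ringCatSheaf) j) (homOfFamily G t) x
    (germOne x)
  refine h1.symm.trans ?_
  rw [stalkMap_germOne, secOf_ιFree_comp_homOfFamily]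

end FreeGerm

section SameRatios

variable {X : Scheme.{u}} {ι : Type u} {M L : X.Modules}
  (m : ι → (Coh.structureModule X ⟶ M)) (s : ι → (Coh.structureModule X ⟶ L))

/-- germ of a global section, computed on a smaller open -/
lemma germ_top_eq (G : X.Modules) (t : Γ(G, ⊤)) (U : X.Opens) (x : X) (hx : x ∈ U) :
    G.presheaf.germ ⊤ x trivial t = G.presheaf.germ U x hx (resSec G (le_top : U ≤ ⊤) t) :=
  (TopCat.Presheaf.germ_res_apply G.presheaf (homOfLE (le_top : U ≤ ⊤)) x hx t).symm

/-- **two modules with families of global sections having the same generating loci and the same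
ratios are isomorphic**, compatibly with the sections. -/
theorem exists_iso_of_same_ratios
    (hcov : ∀ x : X, ∃ i, x ∈ CohB1.genLocus L (s i))
    (hle : ∀ i, CohB1.genLocus L (s i) ≤ CohB1.genLocus M (m i))
    (hrel : ∀ i j, resSec M (le_top : CohB1.genLocus L (s i) ≤ ⊤) (secOf (m j)) =
      ratio (s i) (s j) • resSec M (le_top : CohB1.genLocus L (s i) ≤ ⊤) (secOf (m i))) :
    ∃ τ : M ≅ L, ∀ j, (τ.hom.app ⊤).hom (secOf (m j)) = secOf (s j) := by
  -- stalkwise description
  have key : ∀ x : X, ∃ ψ : M.presheaf.stalk x ≃ₗ[X.presheaf.stalk x] L.presheaf.stalk x,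
      ∀ j : ι, ψ (M.presheaf.germ ⊤ x trivial (secOf (m j))) =
        L.presheaf.germ ⊤ x trivial (secOf (s j)) := by
    intro x
    obtain ⟨i, hx⟩ := hcov x
    have hgM := IsGenerator.stalk_bijective
      (isGenerator_resSec_of_le_genLocus (m i) (hle i)) x hx
    have hgL := IsGenerator.stalk_bijective (isGenerator_resSec_genLocus (s i)) x hx
    let eM : X.presheaf.stalk x ≃ₗ[X.presheaf.stalk x] M.presheaf.stalk x :=
      LinearEquiv.ofBijective (LinearMap.toSpanSingleton (X.presheaf.stalk x) _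
        (M.presheaf.germ _ x hx (resSec M (le_top : CohB1.genLocus L (s i) ≤ ⊤) (secOf (m i))))) hgM
    let eL : X.presheaf.stalk x ≃ₗ[X.presheaf.stalk x] L.presheaf.stalk x :=
      LinearEquiv.ofBijective (LinearMap.toSpanSingleton (X.presheaf.stalk x) _
        (L.presheaf.germ _ x hx (resSec L (le_top : CohB1.genLocus L (s i) ≤ ⊤) (secOf (s i))))) hgL
    refine ⟨eM.symm ≪≫ₗ eL, fun j => ?_⟩
    have h1 : M.presheaf.germ ⊤ x trivial (secOf (m j)) =
        eM (X.presheaf.germ _ x hx (ratio (s i) (s j))) := by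
      rw [germ_top_eq M _ _ x hx, hrel i j, germ_smul]
      rfl
    have h2 : L.presheaf.germ ⊤ x trivial (secOf (s j)) =
        eL (X.presheaf.germ _ x hx (ratio (s i) (s j))) := by
      rw [germ_top_eq L _ _ x hx, ratio_spec (s i) (s j), germ_smul]
      rfl
    rw [h1, h2, LinearEquiv.trans_apply, LinearEquiv.symm_apply_apply]
  let pM := homOfFamily M (fun j => secOf (m j))
  let pL := homOfFamily L (fun j => secOf (s j))
  -- the maps from the free module are epimorphisms
  have hepi : ∀ (G : X.Modules) (t : ι → Γ(G, ⊤)),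
      (∀ x : X, ∃ i, Function.Surjective
        (fun c : X.presheaf.stalk x => c • G.presheaf.germ ⊤ x trivial (t i))) →
      Epi (homOfFamily G t) := by
    intro G t h
    apply epi_of_forall_stalkMap_surjective
    intro x y
    obtain ⟨i, hi⟩ := h x
    obtain ⟨c, rfl⟩ := hi y
    refine ⟨c • freeGerm ι i x, ?_⟩
    rw [stalkMap_smul, stalkMap_homOfFamily_freeGerm]
  have hM : Epi pM := hepi M _ (fun x => by
    obtain ⟨i, hx⟩ := hcov x
    refine ⟨i, ?_⟩
    have hgM := (IsGenerator.stalk_bijective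
      (isGenerator_resSec_of_le_genLocus (m i) (hle i)) x hx).2
    intro y
    obtain ⟨c, hc⟩ := hgM y
    exact ⟨c, by rw [germ_top_eq M _ _ x hx]; exact hc⟩)
  have hL : Epi pL := hepi L _ (fun x => by
    obtain ⟨i, hx⟩ := hcov x
    refine ⟨i, ?_⟩
    have hgL := (IsGenerator.stalk_bijective (isGenerator_resSec_genLocus (s i)) x hx).2
    intro y
    obtain ⟨c, hc⟩ := hgL y
    exact ⟨c, by rw [germ_top_eq L _ _ x hx]; exact hc⟩)
  obtain ⟨τ, hτ⟩ := exists_iso_of_stalkwise pM pL (fun x => by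
    obtain ⟨ψ, hψ⟩ := key x
    refine ⟨ψ, fun j => ?_⟩
    rw [stalkMap_homOfFamily_freeGerm, stalkMap_homOfFamily_freeGerm]
    exact hψ j)
  refine ⟨τ, fun j => ?_⟩
  have h1 := homOfFamily_app_top M (fun j => secOf (m j)) j
  have h2 := homOfFamily_app_top L (fun j => secOf (s j)) j
  have h3 := congrArg (fun k => (Hom.app k ⊤).hom
    ((SheafOfModules.freeSection (R := X.ringCatSheaf) j).val (op ⊤))) hτ
  rw [← h1]
  exact h3.trans h2

end SameRatios

section Main

variable {X : Scheme.{u}} {R : Type u} [CommRing R] (n : ℕ) (q : X ⟶ Spec (CommRingCat.of R))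
  {L : X.Modules} (σ : Fin (n + 1) → (Coh.structureModule X ⟶ L))
  (r : X ⟶ Proj (CohB1.polyGrading n R))
  (hr : ∀ i, (CohB1.genLocus L (σ i)).ι ≫ r =
        toProjChart (CohB1.polyGrading n R) (CohB1.genLocus L (σ i))
          ((CohB1.genLocus L (σ i)).topIso.inv.hom.comp (chartHom n q σ i)) (X_mem n R i) one_pos
          ((isUnit_chartHom_X_self n q σ i).map (CohB1.genLocus L (σ i)).topIso.inv.hom))

/-- the pulled back coordinate sections, as morphisms `O_X ⟶ r^* O(1)` -/
noncomputable def μ (i : Fin (n + 1)) :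
    Coh.structureModule X ⟶ (Scheme.Modules.pullback r).obj (twist (CohB1.polyGrading n R) 1) :=
  pullHom r (θ n R i)

lemma secOf_μ (i : Fin (n + 1)) :
    secOf (μ n r i) = ProjUP.pullSec r (twist (CohB1.polyGrading n R) 1) (coord n R i) := by
  rw [μ, secOf_pullHom, secOf_θ]

lemma genLocus_μ (i : Fin (n + 1)) :
    CohB1.genLocus _ (μ n r i) = r ⁻¹ᵁ Proj.basicOpen (CohB1.polyGrading n R)
      (MvPolynomial.X i : MvPolynomial (Fin (n + 1)) R) := by
  rw [μ, genLocus_pullHom r (isInvertible_O1 n R), genLocus_θ]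

include hr in
lemma le_genLocus_μ (i : Fin (n + 1)) :
    CohB1.genLocus L (σ i) ≤ CohB1.genLocus _ (μ n r i) := by
  rw [genLocus_μ]
  exact le_preimage_basicOpen_of_eq_toProjChart _ r _ _ (X_mem n R i) one_pos _ (hr i)

include hr in
/-- the pulled back coordinates have the same ratios as the sections `σ` -/
lemma μ_rel (i j : Fin (n + 1)) :
    resSec _ (le_top : CohB1.genLocus L (σ i) ≤ ⊤) (secOf (μ n r j)) =
      ratio (σ i) (σ j) • resSec _ (le_top : CohB1.genLocus L (σ i) ≤ ⊤) (secOf (μ n r i)) := by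
  have hUV : CohB1.genLocus L (σ i) ≤ r ⁻¹ᵁ Proj.basicOpen (CohB1.polyGrading n R)
      (MvPolynomial.X i : MvPolynomial (Fin (n + 1)) R) :=
    le_preimage_basicOpen_of_eq_toProjChart _ r _ _ (X_mem n R i) one_pos _ (hr i)
  -- step 1: apply `pullSecOn` to `coord_rel`
  have h1 := congrArg (pullSecOn r (twist (CohB1.polyGrading n R) 1)
    (Proj.basicOpen (CohB1.polyGrading n R) (MvPolynomial.X i : MvPolynomial (Fin (n + 1)) R)))
    (coord_rel n R i j)
  rw [pullSecOn_smul] at h1
  -- step 2: compatibility with restriction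
  have h2 : ∀ k, pullSecOn r (twist (CohB1.polyGrading n R) 1)
      (Proj.basicOpen (CohB1.polyGrading n R) (MvPolynomial.X i : MvPolynomial (Fin (n + 1)) R))
      (resSec (twist (CohB1.polyGrading n R) 1) le_top (coord n R k)) =
      resSec ((Scheme.Modules.pullback r).obj (twist (CohB1.polyGrading n R) 1))
        (le_top : r ⁻¹ᵁ Proj.basicOpen (CohB1.polyGrading n R)
          (MvPolynomial.X i : MvPolynomial (Fin (n + 1)) R) ≤ ⊤) (secOf (μ n r k)) := by
    intro k
    rw [secOf_μ, ← pullSecOn_top]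
    exact (pullSecOn_res r (twist (CohB1.polyGrading n R) 1) le_top (coord n R k)).symm
  rw [h2, h2] at h1
  -- step 3: restrict to `X_{σ_i}`
  have h3 := congrArg (resSec ((Scheme.Modules.pullback r).obj (twist (CohB1.polyGrading n R) 1))
    hUV) h1
  rw [resSec_smul, resSec_resSec, resSec_resSec] at h3
  -- step 4: identify the coefficient
  have h4 : resFn hUV ((r.app (Proj.basicOpen (CohB1.polyGrading n R)
      (MvPolynomial.X i : MvPolynomial (Fin (n + 1)) R))).hom (zfrac n R i j)) =
      ratio (σ i) (σ j) := by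
    have h6 := appLE_awayToSection_apply' (CohB1.polyGrading n R) r (CohB1.genLocus L (σ i))
      (chartHom n q σ i) (X_mem n R i) one_pos (isUnit_chartHom_X_self n q σ i) (hr i)
      (Away.mk _ (X_mem n R i) 1 (MvPolynomial.X j) (X_mem' n R j))
    have h5 := hAwayLift_mk_mul (CohB1.polyGrading n R) (chartHom n q σ i) (X_mem n R i)
      (isUnit_chartHom_X_self n q σ i) 1 (MvPolynomial.X j) (X_mem' n R j)
    rw [chartHom_X, chartHom_X, ratio_self, one_pow, mul_one] at h5
    rw [← h5, ← h6]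
    rfl
  rw [h4] at h3
  exact h3

end Main

section Generated

variable {X : Scheme.{u}}

/-- if the germs at `x` of the global sections `t i` span the stalk of the invertible module `L`,
some `t i` generates `L` at `x` -/
theorem exists_mem_genLocus_of_span_germ_eq_top {L : X.Modules} (hL : PicF.IsInvertible L)
    {ι : Type*} (t : ι → (Coh.structureModule X ⟶ L)) (x : X)
    (hspan : Submodule.span (X.presheaf.stalk x) (Set.range fun i : ι =>
      L.presheaf.germ ⊤ x trivial (secOf (t i))) = ⊤) :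
    ∃ i, x ∈ CohB1.genLocus L (t i) := by
  obtain ⟨U, hxU, e, he⟩ := exists_isGenerator_of_isInvertible hL x
  obtain ⟨ε, hε⟩ : ∃ ε : L.presheaf.stalk x, ε = L.presheaf.germ U x hxU e := ⟨_, rfl⟩
  have hc : ∀ i : ι, ∃ c : Γ(X, U), resSec L (le_top : U ≤ ⊤) (secOf (t i)) = c • e :=
    fun i => exists_eq_smul_of_isGenerator he _
  choose c hc using hc
  by_contra hcon
  push Not at hcon
  have hnu : ∀ i, X.presheaf.germ U x hxU (c i) ∈ IsLocalRing.maximalIdeal (X.presheaf.stalk x) := by
    intro i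
    rw [IsLocalRing.mem_maximalIdeal, mem_nonunits_iff]
    intro hu
    have h1 : x ∈ X.basicOpen (c i) := (X.mem_basicOpen (c i) x hxU).2 hu
    have h2 := genLocus_inf_eq_basicOpen (t i) U e he (c i) (hc i)
    rw [← h2] at h1
    exact hcon _ h1.1
  have hg : ∀ i, L.presheaf.germ ⊤ x trivial (secOf (t i)) = X.presheaf.germ U x hxU (c i) • ε := by
    intro i
    rw [germ_top_eq L _ U x hxU, hc i, germ_smul, hε]
  have key : ∀ y ∈ Submodule.span (X.presheaf.stalk x) (Set.range fun i : ι =>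
      L.presheaf.germ ⊤ x trivial (secOf (t i))),
      ∃ a ∈ IsLocalRing.maximalIdeal (X.presheaf.stalk x), y = a • ε := by
    intro y hy
    induction hy using Submodule.span_induction with
    | mem y hy =>
      obtain ⟨i, rfl⟩ := hy
      exact ⟨_, hnu i, hg i⟩
    | zero => exact ⟨0, Ideal.zero_mem _, (zero_smul _ _).symm⟩
    | add y z _ _ hy hz =>
      obtain ⟨a, ha, rfl⟩ := hy
      obtain ⟨b, hb, rfl⟩ := hz
      exact ⟨a + b, Ideal.add_mem _ ha hb, (add_smul _ _ _).symm⟩
    | smul r y _ hy =>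
      obtain ⟨a, ha, rfl⟩ := hy
      exact ⟨r * a, Ideal.mul_mem_left _ r ha, (mul_smul _ _ _).symm⟩
  obtain ⟨a, ha, hεa⟩ := key ε (hspan ▸ Submodule.mem_top)
  have hinj := (IsGenerator.stalk_bijective he x hxU).1
  have h1 : (1 : X.presheaf.stalk x) = a := by
    apply hinj
    show (1 : X.presheaf.stalk x) • L.presheaf.germ U x hxU e = a • L.presheaf.germ U x hxU e
    rw [one_smul, ← hε]
    exact hεa
  rw [← h1] at ha
  exact (IsLocalRing.maximalIdeal (X.presheaf.stalk x)).ne_top_iff_one.1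
    (IsLocalRing.maximalIdeal.isMaximal _).ne_top ha

end Generated

section Final

variable {X : Scheme.{u}} {R : Type u} [CommRing R] (n : ℕ) (q : X ⟶ Spec (CommRingCat.of R))
  {L : X.Modules} (σ : Fin (n + 1) → (Coh.structureModule X ⟶ L))

/-- **existence part of the universal property of `P^n_R`** (morphism form): sections `σ_i : O_X ⟶ L`
whose generating loci cover `X` define an `R`-morphism `r : X ⟶ P^n_R` and an isomorphism
`r^* O(1) ≅ L` carrying `r^* T_i` to `σ_i`. -/
theorem exists_toPn_iso (hcov : ∀ x : X, ∃ i, x ∈ CohB1.genLocus L (σ i)) :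
    ∃ (r : X ⟶ Proj (CohB1.polyGrading n R)) (_ : r ≫ CohB1.ProjSpace.toSpec n R = q)
      (τ : (Scheme.Modules.pullback r).obj (twist (CohB1.polyGrading n R) 1) ≅ L),
      ∀ i, (τ.hom.app ⊤).hom (ProjUP.pullSec r (twist (CohB1.polyGrading n R) 1) (coord n R i)) =
        secOf (σ i) := by
  obtain ⟨r, hrq, hr⟩ := exists_toPn n q σ hcov
  obtain ⟨τ, hτ⟩ := exists_iso_of_same_ratios (ι := ULift.{u} (Fin (n + 1)))
    (fun j => μ n r j.down) (fun j => σ j.down)
    (fun x => by obtain ⟨i, hi⟩ := hcov x; exact ⟨⟨i⟩, hi⟩)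
    (fun i => le_genLocus_μ n q σ r hr i.down)
    (fun i j => μ_rel n q σ r hr i.down j.down)
  refine ⟨r, hrq, τ, fun i => ?_⟩
  rw [← secOf_μ]
  exact hτ ⟨i⟩

end Final

end Groth.Agent.Lib.Proj.PnUP
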