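import Groth.Agent.Lib.Proj.PnSectionsA
import Groth.Agent.Lib.QCoh.OmegaS3
import Groth.Agent.Lib.QCoh.Helper74_LocFreeDeg
import Groth.Agent.Lib.Proj.Helper66_QCoh
import Groth.Agent.S3572
import Groth.Agent.S3573

/-!
# Sections of `P^n_R` over `Spec R` and invertible quotients of `R^{n+1}`, part B (lead)

ns `Groth.Agent.Lib.Proj.PnSections`.
-/

universe u
open CategoryTheory CategoryTheory.Limits AlgebraicGeometry TopologicalSpace Opposite

namespace Groth.Agent.Lib.Proj.PnSections

open Groth.Agent.Lib.Ample Groth.Agent.Lib.QCoh Groth.Agent.Lib.Proj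
  Groth.Agent.Lib.Proj.PullSec Groth.Agent.Lib.Proj.QuotCompare Groth.Agent.Lib.Proj.ToProj
  Groth.Agent.Lib.Proj.ToPn Groth.Agent.Lib.Proj.PnUP Scheme.Modules Twist

variable {R : Type u} [CommRing R] (n : ℕ)

lemma smul_top_eq (M : (Spec (CommRingCat.of R)).Modules) (r : R) (x : Γ(M, ⊤)) :
    r • x = (Scheme.ΓSpecIso (CommRingCat.of R)).inv.hom r • x := by
  have h := Scheme.Modules.smul_Spec_def (R := CommRingCat.of R) (M := M) (U := ⊤) r x
  refine h.trans ?_
  congr 1

set_option backward.isDefEq.respectTransparency false in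
lemma moduleSpecΓFunctor_map_apply {F F' : (Spec (CommRingCat.of R)).Modules} (φ : F ⟶ F')
    (x : Γ(F, ⊤)) :
    ((moduleSpecΓFunctor (R := CommRingCat.of R)).map φ).hom x = (φ.app ⊤).hom x := rfl

/-- the linear combination map `R^{n+1} → Γ(L)` -/
noncomputable def comb (L : (Spec (CommRingCat.of R)).Modules) (t : Fin (n + 1) → Γ(L, ⊤)) :
    (Fin (n + 1) → R) →ₗ[R] Γ(L, ⊤) := Fintype.linearCombination R t

lemma comb_apply (L : (Spec (CommRingCat.of R)).Modules) (t : Fin (n + 1) → Γ(L, ⊤))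
    (c : Fin (n + 1) → R) :
    comb n L t c = ∑ i, (Scheme.ΓSpecIso (CommRingCat.of R)).inv.hom (c i) • t i := by
  rw [comb, Fintype.linearCombination_apply]
  exact Finset.sum_congr rfl (fun i _ => smul_top_eq L (c i) (t i))

lemma comb_single (L : (Spec (CommRingCat.of R)).Modules) (t : Fin (n + 1) → Γ(L, ⊤))
    (i : Fin (n + 1)) : comb n L t (Pi.single i 1) = t i := by
  rw [comb, Fintype.linearCombination_apply_single, one_smul]

lemma mem_secKernel (s : Spec (CommRingCat.of R) ⟶ CohB1.ProjSpace n R) (c : Fin (n + 1) → R) :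
    c ∈ ProjUP.secKernel n R s ↔
      comb n ((Scheme.Modules.pullback s).obj (Twist.twistProjSpace n R 1))
        (fun i => ProjUP.pullSec s (Twist.twistProjSpace n R 1) (ProjUP.coord n R i)) c = 0 := by
  rw [comb_apply]
  unfold ProjUP.secKernel
  rw [LinearMap.mem_ker, Fintype.linearCombination_apply]
  rfl

section Main

/-- the module `s^* O(1)` -/
noncomputable abbrev LL (s : Spec (CommRingCat.of R) ⟶ CohB1.ProjSpace n R) :
    (Spec (CommRingCat.of R)).Modules :=
  (Scheme.Modules.pullback s).obj (Twist.twistProjSpace n R 1)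

/-- the pulled back coordinates -/
noncomputable abbrev tt (s : Spec (CommRingCat.of R) ⟶ CohB1.ProjSpace n R) (i : Fin (n + 1)) :
    Γ(LL n s, ⊤) :=
  ProjUP.pullSec s (Twist.twistProjSpace n R 1) (ProjUP.coord n R i)

instance isQuasicoherent_LL (s : Spec (CommRingCat.of R) ⟶ CohB1.ProjSpace n R) :
    (LL n s).IsQuasicoherent := by
  have : (Twist.twistProjSpace n R 1).IsQuasicoherent :=
    Groth.Agent.Lib.Proj.QCohTwist.twist_isQuasicoherent _ 1
  exact isQuasicoherent_pullback s _

lemma isInvertible_LL (s : Spec (CommRingCat.of R) ⟶ CohB1.ProjSpace n R) :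
    PicF.IsInvertible (LL n s) :=
  isInvertible_pullback s (isInvertible_O1 n R)

/-- a family of sections spanning `Γ(L)` over `Γ(X, ⊤)` makes `comb` surjective -/
lemma comb_surjective_of_span (L : (Spec (CommRingCat.of R)).Modules) (t : Fin (n + 1) → Γ(L, ⊤))
    (hspan : Submodule.span Γ(Spec (CommRingCat.of R), ⊤) (Set.range t) = ⊤) :
    Function.Surjective (comb n L t) := by
  intro y
  have hy : y ∈ Submodule.span Γ(Spec (CommRingCat.of R), ⊤) (Set.range t) :=
    hspan ▸ Submodule.mem_top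
  induction hy using Submodule.span_induction with
  | mem y hy =>
    obtain ⟨i, rfl⟩ := hy
    exact ⟨Pi.single i 1, comb_single n L t i⟩
  | zero => exact ⟨0, map_zero _⟩
  | add a b _ _ ha hb =>
    obtain ⟨c, rfl⟩ := ha
    obtain ⟨d, rfl⟩ := hb
    exact ⟨c + d, map_add _ _ _⟩
  | smul a y _ hy =>
    obtain ⟨c, rfl⟩ := hy
    refine ⟨(Scheme.ΓSpecIso (CommRingCat.of R)).hom.hom a • c, ?_⟩
    rw [LinearMap.map_smul, smul_top_eq]
    congr 1
    exact congrArg (fun k => k.hom a) (Scheme.ΓSpecIso (CommRingCat.of R)).hom_inv_id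

lemma span_of_comb_surjective (L : (Spec (CommRingCat.of R)).Modules) (t : Fin (n + 1) → Γ(L, ⊤))
    (h : Function.Surjective (comb n L t)) :
    Submodule.span Γ(Spec (CommRingCat.of R), ⊤) (Set.range t) = ⊤ := by
  rw [eq_top_iff]
  rintro y -
  obtain ⟨c, rfl⟩ := h y
  rw [comb_apply]
  exact Submodule.sum_mem _ (fun i _ => Submodule.smul_mem _ _ (Submodule.subset_span ⟨i, rfl⟩))

lemma comb_surjective (s : Spec (CommRingCat.of R) ⟶ CohB1.ProjSpace n R) :
    Function.Surjective (comb n (LL n s) (tt n s)) :=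
  comb_surjective_of_span n _ _
    (span_eq_top_of_generatedBy (LL n s) (tt n s) (generatedBy_pullSec_coord n s))

lemma ker_comb (s : Spec (CommRingCat.of R) ⟶ CohB1.ProjSpace n R) :
    LinearMap.ker (comb n (LL n s) (tt n s)) = ProjUP.secKernel n R s := by
  ext c
  rw [LinearMap.mem_ker, mem_secKernel]

/-- morphisms of modules act `R`-linearly on global sections over `Spec R` -/
lemma app_top_smul {L L' : (Spec (CommRingCat.of R)).Modules} (φ : L ⟶ L') (a : R) (x : Γ(L, ⊤)) :
    (φ.app ⊤).hom (a • x) = a • (φ.app ⊤).hom x := by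
  rw [smul_top_eq, smul_top_eq]
  exact Hom.app_smul φ _ x

lemma app_top_comb {L L' : (Spec (CommRingCat.of R)).Modules} (φ : L ⟶ L')
    (t : Fin (n + 1) → Γ(L, ⊤)) (c : Fin (n + 1) → R) :
    (φ.app ⊤).hom (comb n L t c) = comb n L' (fun i => (φ.app ⊤).hom (t i)) c := by
  rw [comb, comb, Fintype.linearCombination_apply, Fintype.linearCombination_apply, map_sum]
  exact Finset.sum_congr rfl (fun i _ => app_top_smul φ (c i) (t i))

set_option backward.isDefEq.respectTransparency false in
/-- **a section of `P^n_R` is determined by its module of relations** -/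
theorem eq_of_secKernel_eq (s₁ s₂ : Spec (CommRingCat.of R) ⟶ CohB1.ProjSpace n R)
    (h₁ : s₁ ≫ CohB1.ProjSpace.toSpec n R = 𝟙 _) (h₂ : s₂ ≫ CohB1.ProjSpace.toSpec n R = 𝟙 _)
    (h : ProjUP.secKernel n R s₁ = ProjUP.secKernel n R s₂) : s₁ = s₂ := by
  have hker : LinearMap.ker (comb n (LL n s₁) (tt n s₁)) =
      LinearMap.ker (comb n (LL n s₂) (tt n s₂)) := by
    rw [ker_comb, ker_comb, h]
  let Ψ : Γ(LL n s₁, ⊤) ≃ₗ[R] Γ(LL n s₂, ⊤) :=
    ((comb n (LL n s₁) (tt n s₁)).quotKerEquivOfSurjective (comb_surjective n s₁)).symm ≪≫ₗ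
      Submodule.quotEquivOfEq _ _ hker ≪≫ₗ
      (comb n (LL n s₂) (tt n s₂)).quotKerEquivOfSurjective (comb_surjective n s₂)
  have hΨ : ∀ c, Ψ (comb n (LL n s₁) (tt n s₁) c) = comb n (LL n s₂) (tt n s₂) c := by
    intro c
    show (comb n (LL n s₂) (tt n s₂)).quotKerEquivOfSurjective (comb_surjective n s₂)
      (Submodule.quotEquivOfEq _ _ hker
        (((comb n (LL n s₁) (tt n s₁)).quotKerEquivOfSurjective (comb_surjective n s₁)).symm
          (comb n (LL n s₁) (tt n s₁) c))) = _
    rw [LinearMap.quotKerEquivOfSurjective_symm_apply, Submodule.quotEquivOfEq_mk,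
      LinearMap.quotKerEquivOfSurjective_apply_mk]
  obtain ⟨τ, hτ⟩ := exists_iso_of_moduleIso (R := CommRingCat.of R) (LL n s₁) (LL n s₂)
    (LinearEquiv.toModuleIso (X₁ := (moduleSpecΓFunctor (R := CommRingCat.of R)).obj (LL n s₁))
      (X₂ := (moduleSpecΓFunctor (R := CommRingCat.of R)).obj (LL n s₂)) Ψ)
  refine Groth.Agent.S3573.result n s₁ s₂ (h₁.trans h₂.symm) τ (fun i => ?_)
  have h3 : ((moduleSpecΓFunctor (R := CommRingCat.of R)).map τ.hom).hom (tt n s₁ i) =
      Ψ (tt n s₁ i) := by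
    rw [hτ]; rfl
  rw [moduleSpecΓFunctor_map_apply] at h3
  refine h3.trans ?_
  rw [← comb_single n (LL n s₁) (tt n s₁) i, hΨ, comb_single]

end Main

section Rank

open FlatMod TensorProduct

/-- a finite projective module of constant rank `n` has finite locally free tilde of rank `n` -/
theorem isFinLocFreeOfRank_tilde_of_rankAtStalk {A : CommRingCat.{u}} (M : ModuleCat.{u} A)
    [Module.Finite A M] [Module.Projective A M] (k : ℕ)
    (hr : ∀ p : PrimeSpectrum A, Module.rankAtStalk M p = k) : IsFinLocFreeOfRank k (tilde M) := by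
  apply isFinLocFreeOfRank_of_openImmersions
  intro x
  obtain ⟨r, hr1, ⟨b⟩⟩ := exists_basis_away_of_rankAtStalk_eq A M k hr {x} (Set.finite_singleton x)
  refine ⟨Spec (.of (Localization.Away r)),
    Spec.map (CommRingCat.ofHom (algebraMap A (Localization.Away r))), inferInstance, ?_, ⟨?_⟩⟩
  · have := Scheme.Hom.opensRange_localizationAway r
    have hx : x ∈ (PrimeSpectrum.basicOpen r : (Spec A).Opens) := hr1 x rfl
    rw [← this] at hx
    exact hx
  · let e : Localization.Away r ⊗[A] M ≃ₗ[Localization.Away r] LocalizedModule.Away r M :=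
      (IsLocalizedModule.isBaseChange (Submonoid.powers r) (Localization.Away r)
        (LocalizedModule.mkLinearMap (Submonoid.powers r) M)).equiv
    exact restrictTildeAwayIso M r ≪≫ tildeIsoFreeModOfBasis (b.map e.symm)

end Rank

section S3590

open FlatMod

/-- **the module of relations of a section has invertible quotient** -/
theorem projective_and_rank_of_section (s : Spec (CommRingCat.of R) ⟶ CohB1.ProjSpace n R) :
    Module.Projective R ((Fin (n + 1) → R) ⧸ ProjUP.secKernel n R s) ∧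
      ∀ p : PrimeSpectrum R, Module.finrank (Localization.AtPrime p.asIdeal)
        (LocalizedModule p.asIdeal.primeCompl ((Fin (n + 1) → R) ⧸ ProjUP.secKernel n R s)) = 1 := by
  let e : ((Fin (n + 1) → R) ⧸ ProjUP.secKernel n R s) ≃ₗ[R] Γ(LL n s, ⊤) :=
    Submodule.quotEquivOfEq _ _ (ker_comb n s).symm ≪≫ₗ
      (comb n (LL n s) (tt n s)).quotKerEquivOfSurjective (comb_surjective n s)
  have hinv := isInvertible_LL n s
  have hfr : IsFinLocFreeOfRank 1 (LL n s) := isFinLocFreeOfRank_one_iff_isInvertible.2 hinv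
  obtain ⟨hfin, hproj⟩ := finite_projective_Γ_of_isFinLocFree (R := CommRingCat.of R)
    (isFinLocFree_of_isFinLocFreeOfRank hfr)
  have hrk := rankAtStalk_of_isFinLocFreeOfRank_tilde (R := CommRingCat.of R)
    ((moduleSpecΓFunctor (R := CommRingCat.of R)).obj (LL n s))
    (isFinLocFreeOfRank_of_iso (tildeΓIso (R := CommRingCat.of R) (LL n s)).symm hfr)
  have hproj' : Module.Projective R Γ(LL n s, ⊤) := hproj
  refine ⟨Module.Projective.of_equiv e.symm, fun p => ?_⟩
  have h1 := congrFun (Module.rankAtStalk_eq_of_equiv e) p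
  have h2 : Module.rankAtStalk (R := R) Γ(LL n s, ⊤) p = 1 := hrk p
  exact h1.trans h2

lemma app_top_injective_of_iso {X : Scheme.{u}} {L L' : X.Modules} (τ : L ≅ L') :
    Function.Injective (τ.hom.app ⊤).hom := by
  intro x y hxy
  have h1 : ∀ z, (τ.inv.app ⊤).hom ((τ.hom.app ⊤).hom z) = z := by
    intro z
    have h2 := congrArg (fun k : L ⟶ L => (Scheme.Modules.Hom.app k ⊤).hom z) τ.hom_inv_id
    exact h2
  rw [← h1 x, ← h1 y, hxy]

/-- **a submodule with invertible quotient is the module of relations of a section** -/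
theorem exists_section_of_projective_rank_one (F : Submodule R (Fin (n + 1) → R))
    (hproj : Module.Projective R ((Fin (n + 1) → R) ⧸ F))
    (hrank : ∀ p : PrimeSpectrum R, Module.finrank (Localization.AtPrime p.asIdeal)
      (LocalizedModule p.asIdeal.primeCompl ((Fin (n + 1) → R) ⧸ F)) = 1) :
    ∃ s : Spec (CommRingCat.of R) ⟶ CohB1.ProjSpace n R,
      s ≫ CohB1.ProjSpace.toSpec n R = 𝟙 _ ∧ ProjUP.secKernel n R s = F := by
  let Q : ModuleCat.{u} (CommRingCat.of R) := ModuleCat.of R ((Fin (n + 1) → R) ⧸ F)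
  have hQfin : Module.Finite (CommRingCat.of R) Q :=
    inferInstanceAs (Module.Finite R ((Fin (n + 1) → R) ⧸ F))
  have hQproj : Module.Projective (CommRingCat.of R) Q := hproj
  have hfr : IsFinLocFreeOfRank 1 (tilde Q) :=
    isFinLocFreeOfRank_tilde_of_rankAtStalk Q 1 hrank
  have hL : PicF.IsInvertible (tilde Q) := isFinLocFreeOfRank_one_iff_isInvertible.1 hfr
  have hqc : (tilde Q).IsQuasicoherent :=
    isQuasicoherent_of_isFinLocFree (isFinLocFree_of_isFinLocFreeOfRank hfr)
  let e : ((Fin (n + 1) → R) ⧸ F) ≃ₗ[R] Γ(tilde Q, ⊤) := (tilde.isoTop Q).toLinearEquiv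
  let t : Fin (n + 1) → Γ(tilde Q, ⊤) := fun i => e (Submodule.Quotient.mk (Pi.single i 1))
  have hcomb : ∀ c, comb n (tilde Q) t c = e (Submodule.Quotient.mk c) := by
    intro c
    rw [comb, Fintype.linearCombination_apply]
    have h1 : c = ∑ i, c i • (Pi.single i 1 : Fin (n + 1) → R) := by
      ext j
      simp [Finset.sum_apply, Pi.single_apply]
    conv_rhs => rw [h1]
    show _ = e (F.mkQ (∑ i, c i • (Pi.single i 1 : Fin (n + 1) → R)))
    rw [map_sum, map_sum]
    refine Finset.sum_congr rfl (fun i _ => ?_)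
    rw [LinearMap.map_smul, LinearEquiv.map_smul]
    rfl
  have hsurj : Function.Surjective (comb n (tilde Q) t) := by
    intro y
    obtain ⟨q, rfl⟩ := e.surjective y
    obtain ⟨c, rfl⟩ := Submodule.Quotient.mk_surjective _ q
    exact ⟨c, hcomb c⟩
  have hgen := generatedBy_of_span_eq_top (tilde Q) t (span_of_comb_surjective n (tilde Q) t hsurj)
  obtain ⟨r, hr, τ, hτ⟩ := Groth.Agent.S3572.result n (𝟙 _) (tilde Q) hL t hgen
  refine ⟨r, hr, ?_⟩
  ext c
  rw [mem_secKernel]
  have h1 := app_top_comb n τ.hom (tt n r) c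
  have h2 : (fun i => (τ.hom.app ⊤).hom (tt n r i)) = t := funext hτ
  rw [h2, hcomb] at h1
  constructor
  · intro h0
    rw [h0, map_zero] at h1
    have h3 := e.injective (h1.symm.trans (map_zero e).symm)
    exact (Submodule.Quotient.mk_eq_zero F).1 h3
  · intro hc
    have h3 : e (Submodule.Quotient.mk c) = 0 := by
      rw [(Submodule.Quotient.mk_eq_zero F).2 hc, map_zero]
    rw [h3] at h1
    exact app_top_injective_of_iso τ (h1.trans (map_zero _).symm)

end S3590

end Groth.Agent.Lib.Proj.PnSections
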