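import Groth.Agent.Lib.Proj.PnUnique
import Groth.Agent.Lib.Proj.ImmersionCrit
import Groth.Agent.Lib.Ample.Helper50_MulSec
import Groth.Agent.Lib.QCoh.TensorPic
import Mathlib.AlgebraicGeometry.Morphisms.Flat

/-!
# Segre morphisms, part A (lead)

ns `Groth.Agent.Lib.Proj.Segre`.

* `mem_closure_of_eq_prodOpen` : sections over `D ×_B V` (affine opens, `B` affine) are generated as a
  ring by the sections over `D` and over `V`.
* `exists_segre` : two invertible modules `L₁`, `L₂` on `X / R` with generating sections `σ_i`, `τ_j`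
  define `r : X ⟶ P^N_R`, `N + 1 = (n+1)(m+1)`, with `r⁻¹ D₊(z_{ij}) = X_{σ_i} ⊓ X_{τ_j}` and
  `r^♯ (z_{kl} / z_{ij}) = (σ_k/σ_i) (τ_l/τ_j)`.
-/

universe u
open CategoryTheory CategoryTheory.Limits AlgebraicGeometry TopologicalSpace Opposite
  HomogeneousLocalization

namespace Groth.Agent.Lib.Proj.Segre

open Groth.Agent.Lib.Ample Groth.Agent.Lib.QCoh Groth.Agent.Lib.Proj Groth.Agent.Lib.Proj.ToProj
  Groth.Agent.Lib.Proj.ToPn Groth.Agent.Lib.Proj.PullSec Groth.Agent.Lib.Proj.QuotCompare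
  Groth.Agent.Lib.Proj.PnUP Groth.Agent.Lib.Proj.PnUnique Groth.Agent.Lib.Proj.ImmersionCrit
  Scheme.Modules Twist

section Pushout

/-- in a pushout square of commutative rings, the pushout is generated by the two images -/
lemma mem_closure_of_isPushout {A B C D : CommRingCat.{u}} {a : A ⟶ B} {b : A ⟶ C} {c : B ⟶ D}
    {d : C ⟶ D} (h : IsPushout a b c d) (y : D) :
    y ∈ Subring.closure (Set.range c.hom ∪ Set.range d.hom) := by
  let K : Subring D := Subring.closure (Set.range c.hom ∪ Set.range d.hom)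
  let c' : B ⟶ CommRingCat.of K := CommRingCat.ofHom
    (RingHom.codRestrict c.hom K (fun x => Subring.subset_closure (Or.inl ⟨x, rfl⟩)))
  let d' : C ⟶ CommRingCat.of K := CommRingCat.ofHom
    (RingHom.codRestrict d.hom K (fun x => Subring.subset_closure (Or.inr ⟨x, rfl⟩)))
  let incl : CommRingCat.of K ⟶ D := CommRingCat.ofHom K.subtype
  have hw : a ≫ c' = b ≫ d' := by
    ext x
    exact congrArg (fun k => k.hom x) h.w
  have hc : c' ≫ incl = c := by ext x; rfl
  have hd : d' ≫ incl = d := by ext x; rfl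
  have h1 : h.desc c' d' hw ≫ incl = 𝟙 D := by
    apply h.hom_ext
    · rw [← Category.assoc, h.inl_desc, hc, Category.comp_id]
    · rw [← Category.assoc, h.inr_desc, hd, Category.comp_id]
  have h2 := congrArg (fun k => k.hom y) h1
  have h3 : y = ((h.desc c' d' hw).hom y : K) := h2.symm
  rw [h3]
  exact ((h.desc c' d' hw).hom y).2

variable {P S B : Scheme.{u}} (p : P ⟶ B) (t : S ⟶ B)

/-- sections over a product of affine opens (over an affine base) are generated by the factors -/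
theorem mem_closure_of_eq_prodOpen [IsAffine B] {D : P.Opens} (hD : IsAffineOpen D) {V : S.Opens}
    (hV : IsAffineOpen V) (W : (pullback p t).Opens) (hW : W = prodOpen p t D V)
    (y : Γ(pullback p t, W)) :
    y ∈ Subring.closure
      (Set.range ((pullback.fst p t).appLE D W (hW.le.trans inf_le_left)).hom ∪
        Set.range ((pullback.snd p t).appLE V W (hW.le.trans inf_le_right)).hom) := by
  subst hW
  have H : IsPullback (pullback.fst p t) (pullback.snd p t) p t := IsPullback.of_hasPullback p t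
  have hiso := isIso_pushoutSection_of_isAffineOpen H (US := ⊤) (UT := V) (UX := D)
    (UY := prodOpen p t D V) le_top le_top rfl (isAffineOpen_top B) hV hD
  have hpo := (isIso_pushoutSection_iff H (US := ⊤) (UT := V) (UX := D)
    (UY := prodOpen p t D V) le_top le_top rfl).1 hiso
  exact mem_closure_of_isPushout hpo y

end Pushout

section ResFn

variable {X : Scheme.{u}}

lemma resFn_resFn {U V W : X.Opens} (h : V ≤ U) (h' : W ≤ V) (f : Γ(X, U)) :
    resFn h' (resFn h f) = resFn (h'.trans h) f := by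
  unfold resFn
  rw [← CommRingCat.comp_apply, ← Functor.map_comp]
  rfl

lemma resFn_rfl {U : X.Opens} (f : Γ(X, U)) : resFn (le_refl U) f = f := by
  unfold resFn
  have : (homOfLE (le_refl U)).op = 𝟙 (op U) := rfl
  rw [this, X.presheaf.map_id]
  rfl

lemma resFn_mul {U V : X.Opens} (h : V ≤ U) (f g : Γ(X, U)) :
    resFn h (f * g) = resFn h f * resFn h g := map_mul _ _ _

lemma resFn_one {U V : X.Opens} (h : V ≤ U) : resFn h (1 : Γ(X, U)) = 1 := map_one _

end ResFn

section TwoBundles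

variable {X : Scheme.{u}} {R : Type u} [CommRing R] (n m : ℕ) (q : X ⟶ Spec (CommRingCat.of R))
  {L₁ L₂ : X.Modules} (hL₁ : PicF.IsInvertible L₁) (hL₂ : PicF.IsInvertible L₂)
  (σ : Fin (n + 1) → (Coh.structureModule X ⟶ L₁)) (τ : Fin (m + 1) → (Coh.structureModule X ⟶ L₂))

/-- the index bijection `(i, j) ↦ z_{ij}` -/
def idx : Fin (n + 1) × Fin (m + 1) ≃ Fin (n * m + n + m + 1) :=
  finProdFinEquiv.trans (finCongr (by ring))

/-- first index of `a` -/
def ix (a : Fin (n * m + n + m + 1)) : Fin (n + 1) := ((idx n m).symm a).1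

/-- second index of `a` -/
def jx (a : Fin (n * m + n + m + 1)) : Fin (m + 1) := ((idx n m).symm a).2

lemma ix_idx (i : Fin (n + 1)) (j : Fin (m + 1)) : ix n m (idx n m (i, j)) = i := by
  unfold ix; rw [Equiv.symm_apply_apply]

lemma jx_idx (i : Fin (n + 1)) (j : Fin (m + 1)) : jx n m (idx n m (i, j)) = j := by
  unfold jx; rw [Equiv.symm_apply_apply]

/-- the product sections `σ_i ⊗ τ_j` -/
noncomputable def ρ (a : Fin (n * m + n + m + 1)) :
    Coh.structureModule X ⟶ CohB1.tensorMod L₁ L₂ :=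
  mulSec (σ (ix n m a)) (τ (jx n m a))

include hL₁ hL₂ in
lemma genLocus_ρ (a : Fin (n * m + n + m + 1)) :
    CohB1.genLocus (CohB1.tensorMod L₁ L₂) (ρ n m σ τ a) =
      CohB1.genLocus L₁ (σ (ix n m a)) ⊓ CohB1.genLocus L₂ (τ (jx n m a)) :=
  genLocus_mulSec _ _ hL₁ hL₂

include hL₁ hL₂ in
lemma ratio_ρ (a b : Fin (n * m + n + m + 1)) :
    ratio (ρ n m σ τ a) (ρ n m σ τ b) =
      resFn ((genLocus_ρ n m hL₁ hL₂ σ τ a).le.trans inf_le_left)
          (ratio (σ (ix n m a)) (σ (ix n m b))) *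
        resFn ((genLocus_ρ n m hL₁ hL₂ σ τ a).le.trans inf_le_right)
          (ratio (τ (jx n m a)) (τ (jx n m b))) := by
  apply eq_of_smul_resSec_eq (ρ n m σ τ a) le_rfl
  refine (ratio_spec (ρ n m σ τ a) (ρ n m σ τ b)).symm.trans ?_
  have hU₁ := (genLocus_ρ n m hL₁ hL₂ σ τ a).le.trans inf_le_left
  have hU₂ := (genLocus_ρ n m hL₁ hL₂ σ τ a).le.trans inf_le_right
  have e1 : ∀ c, resSec (CohB1.tensorMod L₁ L₂)
      (le_top : CohB1.genLocus (CohB1.tensorMod L₁ L₂) (ρ n m σ τ a) ≤ ⊤) (secOf (ρ n m σ τ c)) =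
      tmulSect L₁ L₂ (resSec L₁ le_top (secOf (σ (ix n m c))))
        (resSec L₂ le_top (secOf (τ (jx n m c)))) := fun c => secOn_mulSec _ _ _
  rw [e1 a, e1 b, ratio_spec_res (σ (ix n m a)) (σ (ix n m b)) hU₁,
    ratio_spec_res (τ (jx n m a)) (τ (jx n m b)) hU₂, tmulSect_smul_left, tmulSect_smul_right,
    smul_smul]

include hL₁ hL₂ in
/-- **the Segre morphism of two projective data** -/
theorem exists_segre_iso (hcovσ : ∀ x : X, ∃ i, x ∈ CohB1.genLocus L₁ (σ i))
    (hcovτ : ∀ x : X, ∃ j, x ∈ CohB1.genLocus L₂ (τ j)) :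
    ∃ (r : X ⟶ Proj (CohB1.polyGrading (n * m + n + m) R))
      (_ : r ≫ CohB1.ProjSpace.toSpec (n * m + n + m) R = q)
      (hpre : ∀ a, r ⁻¹ᵁ Proj.basicOpen (CohB1.polyGrading (n * m + n + m) R)
          (MvPolynomial.X a : MvPolynomial (Fin (n * m + n + m + 1)) R) =
        CohB1.genLocus L₁ (σ (ix n m a)) ⊓ CohB1.genLocus L₂ (τ (jx n m a))),
      (∀ a b, (r.app (Proj.basicOpen (CohB1.polyGrading (n * m + n + m) R)
          (MvPolynomial.X a : MvPolynomial (Fin (n * m + n + m + 1)) R))).hom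
            (zfrac (n * m + n + m) R a b) =
        resFn ((hpre a).le.trans inf_le_left) (ratio (σ (ix n m a)) (σ (ix n m b))) *
          resFn ((hpre a).le.trans inf_le_right) (ratio (τ (jx n m a)) (τ (jx n m b)))) ∧
      Nonempty ((Scheme.Modules.pullback r).obj (twist (CohB1.polyGrading (n * m + n + m) R) 1) ≅
        CohB1.tensorMod L₁ L₂) := by
  have hcovρ : ∀ x : X, ∃ a, x ∈ CohB1.genLocus (CohB1.tensorMod L₁ L₂) (ρ n m σ τ a) := by
    intro x
    obtain ⟨i, hi⟩ := hcovσ x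
    obtain ⟨j, hj⟩ := hcovτ x
    refine ⟨idx n m (i, j), ?_⟩
    rw [genLocus_ρ n m hL₁ hL₂ σ τ, ix_idx, jx_idx]
    exact ⟨hi, hj⟩
  obtain ⟨r, hrq, τ', hτ'⟩ := exists_toPn_iso (n * m + n + m) q (ρ n m σ τ) hcovρ
  have hpre : ∀ a, r ⁻¹ᵁ Proj.basicOpen (CohB1.polyGrading (n * m + n + m) R)
      (MvPolynomial.X a : MvPolynomial (Fin (n * m + n + m + 1)) R) =
      CohB1.genLocus L₁ (σ (ix n m a)) ⊓ CohB1.genLocus L₂ (τ (jx n m a)) := fun a =>
    (genLocus_eq_preimage (n * m + n + m) (ρ n m σ τ) r τ' hτ' a).symm.trans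
      (genLocus_ρ n m hL₁ hL₂ σ τ a)
  refine ⟨r, hrq, hpre, fun a b => ?_, ⟨τ'⟩⟩
  have h1 := app_zfrac (n * m + n + m) (ρ n m σ τ) r τ' hτ' a b
  rw [ratio_ρ n m hL₁ hL₂ σ τ a b] at h1
  have h2 := congrArg
    (resFn (genLocus_eq_preimage (n * m + n + m) (ρ n m σ τ) r τ' hτ' a).ge) h1
  rw [resFn_resFn, resFn_rfl, resFn_mul, resFn_resFn, resFn_resFn] at h2
  exact h2

include hL₁ hL₂ in
/-- **the Segre morphism of two projective data** -/
theorem exists_segre (hcovσ : ∀ x : X, ∃ i, x ∈ CohB1.genLocus L₁ (σ i))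
    (hcovτ : ∀ x : X, ∃ j, x ∈ CohB1.genLocus L₂ (τ j)) :
    ∃ (r : X ⟶ Proj (CohB1.polyGrading (n * m + n + m) R))
      (_ : r ≫ CohB1.ProjSpace.toSpec (n * m + n + m) R = q)
      (hpre : ∀ a, r ⁻¹ᵁ Proj.basicOpen (CohB1.polyGrading (n * m + n + m) R)
          (MvPolynomial.X a : MvPolynomial (Fin (n * m + n + m + 1)) R) =
        CohB1.genLocus L₁ (σ (ix n m a)) ⊓ CohB1.genLocus L₂ (τ (jx n m a))),
      ∀ a b, (r.app (Proj.basicOpen (CohB1.polyGrading (n * m + n + m) R)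
          (MvPolynomial.X a : MvPolynomial (Fin (n * m + n + m + 1)) R))).hom
            (zfrac (n * m + n + m) R a b) =
        resFn ((hpre a).le.trans inf_le_left) (ratio (σ (ix n m a)) (σ (ix n m b))) *
          resFn ((hpre a).le.trans inf_le_right) (ratio (τ (jx n m a)) (τ (jx n m b))) := by
  obtain ⟨r, hrq, hpre, h, -⟩ := exists_segre_iso n m q hL₁ hL₂ σ τ hcovσ hcovτ
  exact ⟨r, hrq, hpre, h⟩

end TwoBundles

end Groth.Agent.Lib.Proj.Segre
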