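import Groth.Agent.Lib.Proj.SegreA
import Groth.Agent.Lib.QCoh.Invertible

/-!
# Segre morphisms, part B: the Segre embedding over a ring (lead)

ns `Groth.Agent.Lib.Proj.Segre`.

* `appLE_const` : an `R`-morphism to `P^n_R` pulls back constants to constants.
* `closure_gens_eq_top` : `(R[T]_{T_i})_0` is generated by the `T_j/T_i` and constants.
* `exists_segre_ring` : the Segre closed immersion `P^n_R ×_R P^m_R ⟶ P^{nm+n+m}_R`.
-/

universe u
open CategoryTheory CategoryTheory.Limits AlgebraicGeometry TopologicalSpace Opposite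
  HomogeneousLocalization

namespace Groth.Agent.Lib.Proj.Segre

open Groth.Agent.Lib.Ample Groth.Agent.Lib.QCoh Groth.Agent.Lib.Proj Groth.Agent.Lib.Proj.ToProj
  Groth.Agent.Lib.Proj.ToPn Groth.Agent.Lib.Proj.PullSec Groth.Agent.Lib.Proj.QuotCompare
  Groth.Agent.Lib.Proj.PnUP Groth.Agent.Lib.Proj.PnUnique Groth.Agent.Lib.Proj.ImmersionCrit
  Scheme.Modules Twist

section Const

variable {X : Scheme.{u}} {R : Type u} [CommRing R] (n : ℕ) (q : X ⟶ Spec (CommRingCat.of R))
  (r : X ⟶ Proj (CohB1.polyGrading n R)) (hrq : r ≫ CohB1.ProjSpace.toSpec n R = q)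

include hrq in
/-- an `R`-morphism to `P^n_R` pulls back constants to constants -/
lemma appLE_const (i : Fin (n + 1)) (U : X.Opens)
    (hUV : U ≤ r ⁻¹ᵁ Proj.basicOpen (CohB1.polyGrading n R)
      (MvPolynomial.X i : MvPolynomial (Fin (n + 1)) R)) (c : R) :
    (r.appLE _ U hUV).hom ((Proj.awayToSection (CohB1.polyGrading n R) (MvPolynomial.X i)).hom
      (constHom n R i c)) = baseHom q U c := by
  have h1 := ι_comp_toSpecZero (CohB1.polyGrading n R) r U (X_mem n R i) one_pos hUV
  have h2 : U.ι ≫ q = ((U.ι ≫ r) ≫ Proj.toSpecZero (CohB1.polyGrading n R)) ≫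
      Spec.map (CommRingCat.ofHom (algebraMap R (CohB1.polyGrading n R 0))) := by
    rw [← hrq]
    simp only [Category.assoc]; rfl
  rw [h1, Category.assoc] at h2
  have h2' := ((toSpecΓ_baseHom q U).trans h2).trans
    (congrArg (fun m => U.toScheme.toSpecΓ ≫ m) (Spec.map_comp _ _).symm)
  have h3 := toSpecΓ_SpecMap_injective _ _ h2'
  have h4 := congrArg (fun k => k.hom c) h3
  have h5 : U.topIso.inv.hom (baseHom q U c) =
      chartRingHom (CohB1.polyGrading n R) r U (X_mem n R i) one_pos hUV (constHom n R i c) := h4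
  rw [chartRingHom_apply] at h5
  have hinj : Function.Injective U.topIso.inv.hom :=
    (ConcreteCategory.bijective_of_isIso U.topIso.inv).1
  exact (hinj h5).symm

end Const

section Gens

variable (n : ℕ) (R : Type u) [CommRing R] (i : Fin (n + 1))

/-- `(R[T]_{T_i})_0` is generated as a ring by the `T_j / T_i` and the constants -/
lemma closure_gens_eq_top :
    Subring.closure
      (Set.range (fun j : Fin (n + 1) =>
          Away.mk (CohB1.polyGrading n R) (X_mem n R i) 1 (MvPolynomial.X j) (X_mem' n R j)) ∪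
        Set.range (constHom n R i)) = ⊤ := by
  rw [eq_top_iff]
  intro y _
  obtain ⟨z, rfl⟩ := chartToAway_surjective n R i y
  induction z using MvPolynomial.induction_on with
  | C c =>
    have : chartToAway n R i (MvPolynomial.C c) = constHom n R i c := by
      simp only [chartToAway, MvPolynomial.coe_eval₂Hom, MvPolynomial.eval₂_C]
    rw [this]
    exact Subring.subset_closure (Or.inr ⟨c, rfl⟩)
  | add p q hp hq => rw [map_add]; exact Subring.add_mem _ (hp trivial) (hq trivial)
  | mul_X p j hp =>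
    rw [map_mul]
    refine Subring.mul_mem _ (hp trivial) ?_
    have : chartToAway n R i (MvPolynomial.X j) =
        Away.mk (CohB1.polyGrading n R) (X_mem n R i) 1 (MvPolynomial.X j.1) (X_mem' n R j.1) := by
      simp only [chartToAway, MvPolynomial.coe_eval₂Hom, MvPolynomial.eval₂_X]
    rw [this]
    exact Subring.subset_closure (Or.inl ⟨j.1, rfl⟩)

end Gens

section Factor

variable {X : Scheme.{u}} {R : Type u} [CommRing R] (n N : ℕ) (q : X ⟶ Spec (CommRingCat.of R))
  (p : X ⟶ Proj (CohB1.polyGrading n R)) (hpq : p ≫ CohB1.ProjSpace.toSpec n R = q)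
  (r : X ⟶ Proj (CohB1.polyGrading N R)) (hrq : r ≫ CohB1.ProjSpace.toSpec N R = q)

include hpq hrq in
/-- if the pullbacks under `p` of the `T_k / T_i` are pullbacks under `r` of functions on `D₊(z_a)`,
then so are all pullbacks of functions on `D₊(T_i)` -/
lemma exists_appLE_eq (i : Fin (n + 1)) (a : Fin (N + 1)) (W : X.Opens)
    (hWp : W ≤ p ⁻¹ᵁ Proj.basicOpen (CohB1.polyGrading n R)
      (MvPolynomial.X i : MvPolynomial (Fin (n + 1)) R))
    (hWr : W ≤ r ⁻¹ᵁ Proj.basicOpen (CohB1.polyGrading N R)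
      (MvPolynomial.X a : MvPolynomial (Fin (N + 1)) R))
    (h : ∀ k, ∃ w, (p.appLE _ W hWp).hom (zfrac n R i k) = (r.appLE _ W hWr).hom w)
    (s : Γ(Proj (CohB1.polyGrading n R), Proj.basicOpen (CohB1.polyGrading n R)
      (MvPolynomial.X i : MvPolynomial (Fin (n + 1)) R))) :
    ∃ w, (p.appLE _ W hWp).hom s = (r.appLE _ W hWr).hom w := by
  obtain ⟨z, rfl⟩ : ∃ z, (Proj.awayToSection (CohB1.polyGrading n R) (MvPolynomial.X i)).hom z = s :=
    (ConcreteCategory.bijective_of_isIso
      (Proj.basicOpenIsoAway (CohB1.polyGrading n R) (MvPolynomial.X i)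
        (X_mem n R i) one_pos).hom).2 s
  let T : Subring (Away (CohB1.polyGrading n R) (MvPolynomial.X i : MvPolynomial (Fin (n + 1)) R)) :=
    ((r.appLE _ W hWr).hom.range).comap
      ((p.appLE _ W hWp).hom.comp
        (Proj.awayToSection (CohB1.polyGrading n R) (MvPolynomial.X i)).hom)
  have hT : (⊤ : Subring _) ≤ T := by
    rw [← closure_gens_eq_top n R i, Subring.closure_le]
    rintro g (⟨k, rfl⟩ | ⟨c, rfl⟩)
    · obtain ⟨w, hw⟩ := h k
      exact ⟨w, hw.symm⟩
    · refine ⟨(Proj.awayToSection (CohB1.polyGrading N R) (MvPolynomial.X a)).hom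
        (constHom N R a c), ?_⟩
      exact (appLE_const N q r hrq a W hWr c).trans (appLE_const n q p hpq i W hWp c).symm
  obtain ⟨w, hw⟩ := hT (Subring.mem_top z)
  exact ⟨w, hw.symm⟩

end Factor

section SegreRing

variable (R : Type u) [CommRing R] (n m : ℕ)

/-- `P^n_R ×_R P^m_R` -/
noncomputable abbrev PP : Scheme.{u} :=
  pullback (CohB1.ProjSpace.toSpec n R) (CohB1.ProjSpace.toSpec m R)

/-- first projection -/
noncomputable def p₁ : PP R n m ⟶ Proj (CohB1.polyGrading n R) := pullback.fst _ _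

/-- second projection -/
noncomputable def p₂ : PP R n m ⟶ Proj (CohB1.polyGrading m R) := pullback.snd _ _

/-- structure morphism -/
noncomputable def q₀ : PP R n m ⟶ Spec (CommRingCat.of R) :=
  p₁ R n m ≫ CohB1.ProjSpace.toSpec n R

lemma p₂_toSpec : p₂ R n m ≫ CohB1.ProjSpace.toSpec m R = q₀ R n m := pullback.condition.symm

lemma cover_μ {X : Scheme.{u}} (k : ℕ) (p : X ⟶ Proj (CohB1.polyGrading k R)) (x : X) :
    ∃ i, x ∈ CohB1.genLocus _ (μ k p i) := by
  have h1 : p x ∈ (⊤ : (Proj (CohB1.polyGrading k R)).Opens) := trivial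
  rw [← iSup_basicOpen_X k R] at h1
  obtain ⟨i, hi⟩ := Opens.mem_iSup.1 h1
  exact ⟨i, by rw [genLocus_μ]; exact hi⟩

lemma refl_μ {X : Scheme.{u}} (k : ℕ) (p : X ⟶ Proj (CohB1.polyGrading k R)) (i : Fin (k + 1)) :
    ((Iso.refl ((Scheme.Modules.pullback p).obj (twist (CohB1.polyGrading k R) 1))).hom.app ⊤).hom
      (ProjUP.pullSec p (twist (CohB1.polyGrading k R) 1) (coord k R i)) = secOf (μ k p i) := by
  rw [secOf_μ]; rfl

/-- `p^♯(T_k/T_i)` restricted to `W` is the restriction of the ratio of pulled back coordinates -/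
lemma appLE_zfrac_eq {X : Scheme.{u}} (k : ℕ) (p : X ⟶ Proj (CohB1.polyGrading k R))
    (i j : Fin (k + 1)) (W : X.Opens)
    (hWp : W ≤ p ⁻¹ᵁ Proj.basicOpen (CohB1.polyGrading k R)
      (MvPolynomial.X i : MvPolynomial (Fin (k + 1)) R))
    (hWg : W ≤ CohB1.genLocus _ (μ k p i)) :
    (p.appLE _ W hWp).hom (zfrac k R i j) = resFn hWg (ratio (μ k p i) (μ k p j)) := by
  have h1 := app_zfrac k (μ k p) p (Iso.refl _) (refl_μ R k p) i j
  rw [← h1, resFn_resFn]
  rfl

/-- **the Segre embedding over a ring** -/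
theorem exists_segre_ring_iso :
    ∃ r : PP R n m ⟶ Proj (CohB1.polyGrading (n * m + n + m) R),
      IsClosedImmersion r ∧ r ≫ CohB1.ProjSpace.toSpec (n * m + n + m) R = q₀ R n m ∧
      Nonempty ((Scheme.Modules.pullback r).obj (twist (CohB1.polyGrading (n * m + n + m) R) 1) ≅
        CohB1.tensorMod ((Scheme.Modules.pullback (p₁ R n m)).obj (twist (CohB1.polyGrading n R) 1))
          ((Scheme.Modules.pullback (p₂ R n m)).obj (twist (CohB1.polyGrading m R) 1))) := by
  have hL₁ : PicF.IsInvertible ((Scheme.Modules.pullback (p₁ R n m)).obj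
      (twist (CohB1.polyGrading n R) 1)) := isInvertible_pullback _ (isInvertible_O1 n R)
  have hL₂ : PicF.IsInvertible ((Scheme.Modules.pullback (p₂ R n m)).obj
      (twist (CohB1.polyGrading m R) 1)) := isInvertible_pullback _ (isInvertible_O1 m R)
  obtain ⟨r, hrq, hpre, hb, hiso⟩ := exists_segre_iso n m (q₀ R n m) hL₁ hL₂
    (μ n (p₁ R n m)) (μ m (p₂ R n m)) (cover_μ R n (p₁ R n m)) (cover_μ R m (p₂ R n m))
  refine ⟨r, ?_, hrq, hiso⟩
  -- the preimage of `D₊(z_a)` is a product open
  have hWeq : ∀ a, r ⁻¹ᵁ Proj.basicOpen (CohB1.polyGrading (n * m + n + m) R)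
      (MvPolynomial.X a : MvPolynomial (Fin (n * m + n + m + 1)) R) =
      prodOpen (CohB1.ProjSpace.toSpec n R) (CohB1.ProjSpace.toSpec m R)
        (Proj.basicOpen (CohB1.polyGrading n R)
          (MvPolynomial.X (ix n m a) : MvPolynomial (Fin (n + 1)) R))
        (Proj.basicOpen (CohB1.polyGrading m R)
          (MvPolynomial.X (jx n m a) : MvPolynomial (Fin (m + 1)) R)) := by
    intro a
    rw [hpre a, genLocus_μ, genLocus_μ]
    rfl
  refine isClosedImmersion_of_affine_cover r
    (fun a => Proj.basicOpen (CohB1.polyGrading (n * m + n + m) R)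
      (MvPolynomial.X a : MvPolynomial (Fin (n * m + n + m + 1)) R))
    (fun a => Proj.isAffineOpen_basicOpen _ _ (X_mem _ R a) one_pos)
    (iSup_basicOpen_X (n * m + n + m) R) (fun a => ?_) (fun a => ?_)
  · rw [hWeq a]
    exact isAffineOpen_prodOpen _ _ (Proj.isAffineOpen_basicOpen _ _ (X_mem n R _) one_pos)
      (Proj.isAffineOpen_basicOpen _ _ (X_mem m R _) one_pos)
  · intro y
    have hW₁ : r ⁻¹ᵁ Proj.basicOpen (CohB1.polyGrading (n * m + n + m) R)
        (MvPolynomial.X a : MvPolynomial (Fin (n * m + n + m + 1)) R) ≤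
        p₁ R n m ⁻¹ᵁ Proj.basicOpen (CohB1.polyGrading n R)
          (MvPolynomial.X (ix n m a) : MvPolynomial (Fin (n + 1)) R) :=
      (hWeq a).le.trans inf_le_left
    have hW₂ : r ⁻¹ᵁ Proj.basicOpen (CohB1.polyGrading (n * m + n + m) R)
        (MvPolynomial.X a : MvPolynomial (Fin (n * m + n + m + 1)) R) ≤
        p₂ R n m ⁻¹ᵁ Proj.basicOpen (CohB1.polyGrading m R)
          (MvPolynomial.X (jx n m a) : MvPolynomial (Fin (m + 1)) R) :=
      (hWeq a).le.trans inf_le_right
    have hy := mem_closure_of_eq_prodOpen (CohB1.ProjSpace.toSpec n R) (CohB1.ProjSpace.toSpec m R)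
      (Proj.isAffineOpen_basicOpen _ _ (X_mem n R (ix n m a)) one_pos)
      (Proj.isAffineOpen_basicOpen _ _ (X_mem m R (jx n m a)) one_pos) _ (hWeq a) y
    have key : Subring.closure
        (Set.range ((pullback.fst (CohB1.ProjSpace.toSpec n R)
            (CohB1.ProjSpace.toSpec m R)).appLE _ _ ((hWeq a).le.trans inf_le_left)).hom ∪
          Set.range ((pullback.snd (CohB1.ProjSpace.toSpec n R)
            (CohB1.ProjSpace.toSpec m R)).appLE _ _ ((hWeq a).le.trans inf_le_right)).hom) ≤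
        (r.appLE _ _ le_rfl).hom.range := by
      rw [Subring.closure_le]
      rintro g (⟨s, rfl⟩ | ⟨s, rfl⟩)
      · have hk : ∀ k, ∃ w, ((p₁ R n m).appLE _ _ hW₁).hom (zfrac n R (ix n m a) k) =
            (r.appLE _ _ le_rfl).hom w := by
          intro k
          refine ⟨zfrac (n * m + n + m) R a (idx n m (k, jx n m a)), ?_⟩
          rw [appLE_zfrac_eq R n (p₁ R n m) (ix n m a) k _ hW₁ ((hpre a).le.trans inf_le_left)]
          have h1 := hb a (idx n m (k, jx n m a))
          rw [ix_idx, jx_idx, ratio_self, resFn_one, mul_one] at h1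
          rw [Scheme.Hom.appLE_eq_app]
          exact h1.symm
        obtain ⟨w, hw⟩ := exists_appLE_eq n (n * m + n + m) (q₀ R n m) (p₁ R n m) rfl r hrq
          (ix n m a) a _ hW₁ le_rfl hk s
        exact ⟨w, hw.symm⟩
      · have hk : ∀ k, ∃ w, ((p₂ R n m).appLE _ _ hW₂).hom (zfrac m R (jx n m a) k) =
            (r.appLE _ _ le_rfl).hom w := by
          intro k
          refine ⟨zfrac (n * m + n + m) R a (idx n m (ix n m a, k)), ?_⟩
          rw [appLE_zfrac_eq R m (p₂ R n m) (jx n m a) k _ hW₂ ((hpre a).le.trans inf_le_right)]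
          have h1 := hb a (idx n m (ix n m a, k))
          rw [ix_idx, jx_idx, ratio_self, resFn_one, one_mul] at h1
          rw [Scheme.Hom.appLE_eq_app]
          exact h1.symm
        obtain ⟨w, hw⟩ := exists_appLE_eq m (n * m + n + m) (q₀ R n m) (p₂ R n m)
          (p₂_toSpec R n m) r hrq (jx n m a) a _ hW₂ le_rfl hk s
        exact ⟨w, hw.symm⟩
    obtain ⟨w, hw⟩ := key hy
    rw [Scheme.Hom.appLE_eq_app] at hw
    exact ⟨w, hw⟩

/-- **the Segre embedding over a ring** -/
theorem exists_segre_ring :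
    ∃ r : PP R n m ⟶ Proj (CohB1.polyGrading (n * m + n + m) R),
      IsClosedImmersion r ∧ r ≫ CohB1.ProjSpace.toSpec (n * m + n + m) R = q₀ R n m := by
  obtain ⟨r, h1, h2, -⟩ := exists_segre_ring_iso R n m
  exact ⟨r, h1, h2⟩

end SegreRing

end Groth.Agent.Lib.Proj.Segre
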