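import Groth.Agent.Lib.Proj.SegreB

/-!
# Segre morphisms, part C: base change to an arbitrary base (lead)

ns `Groth.Agent.Lib.Proj.Segre`.

* `isPullback_prod_baseChange` : `(X ×_B S) ×_S (Y ×_B S) = (X ×_B Y) ×_B S`.
* `isPullback_lift_baseChange` : a `B`-morphism `r : X ×_B Y ⟶ Z` induces
  `(X ×_B S) ×_S (Y ×_B S) ⟶ Z ×_B S`, a base change of `r`.
* `exists_segre_over` : the Segre closed immersion `P^n_S ×_S P^m_S ⟶ P^{nm+n+m}_S`.
-/

universe u v
open CategoryTheory CategoryTheory.Limits AlgebraicGeometry

namespace Groth.Agent.Lib.Proj.Segre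

section Cat

variable {C : Type u} [Category.{v} C] [HasPullbacks C] {X Y Z B S : C}
  (a : X ⟶ B) (a' : Y ⟶ B) (c : Z ⟶ B) (s : S ⟶ B)

/-- the comparison `(X ×_B S) ×_S (Y ×_B S) ⟶ X ×_B Y` -/
noncomputable def prodBC :
    pullback (pullback.snd a s) (pullback.snd a' s) ⟶ pullback a a' :=
  pullback.lift (pullback.fst _ _ ≫ pullback.fst a s) (pullback.snd _ _ ≫ pullback.fst a' s) (by
    rw [Category.assoc, Category.assoc, pullback.condition, pullback.condition (f := a'),
      ← Category.assoc, ← Category.assoc, pullback.condition])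

/-- `(X ×_B S) ×_S (Y ×_B S) = (X ×_B Y) ×_B S` -/
theorem isPullback_prod_baseChange :
    IsPullback (prodBC a a' s)
      (pullback.fst (pullback.snd a s) (pullback.snd a' s) ≫ pullback.snd a s)
      (pullback.fst a a' ≫ a) s := by
  have sq1 : IsPullback (pullback.snd (pullback.snd a s) (pullback.snd a' s))
      (pullback.fst (pullback.snd a s) (pullback.snd a' s)) (pullback.snd a' s)
      (pullback.snd a s) := (IsPullback.of_hasPullback _ _).flip
  have sq2 : IsPullback (pullback.fst a' s) (pullback.snd a' s) a' s :=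
    IsPullback.of_hasPullback _ _
  have st1 := sq1.paste_horiz sq2
  have e1 : pullback.snd a s ≫ s = pullback.fst a s ≫ a := pullback.condition.symm
  rw [e1] at st1
  have e2 : pullback.snd (pullback.snd a s) (pullback.snd a' s) ≫ pullback.fst a' s =
      prodBC a a' s ≫ pullback.snd a a' := (pullback.lift_snd _ _ _).symm
  rw [e2] at st1
  have sq3 : IsPullback (pullback.snd a a') (pullback.fst a a') a' a :=
    (IsPullback.of_hasPullback _ _).flip
  have st2 := IsPullback.of_right st1 (pullback.lift_fst _ _ _) sq3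
  exact st2.paste_vert (IsPullback.of_hasPullback a s)

variable (r : pullback a a' ⟶ Z) (hr : r ≫ c = pullback.fst a a' ≫ a)

/-- the base change of `r` -/
noncomputable def liftBC :
    pullback (pullback.snd a s) (pullback.snd a' s) ⟶ pullback c s :=
  pullback.lift (prodBC a a' s ≫ r)
    (pullback.fst (pullback.snd a s) (pullback.snd a' s) ≫ pullback.snd a s) (by
      rw [Category.assoc, hr]
      exact (isPullback_prod_baseChange a a' s).w)

lemma liftBC_snd : liftBC a a' c s r hr ≫ pullback.snd c s =
    pullback.fst (pullback.snd a s) (pullback.snd a' s) ≫ pullback.snd a s :=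
  pullback.lift_snd _ _ _

theorem isPullback_liftBC :
    IsPullback (liftBC a a' c s r hr) (prodBC a a' s) (pullback.fst c s) r := by
  have outer := (isPullback_prod_baseChange a a' s).flip
  rw [← hr, ← liftBC_snd a a' c s r hr] at outer
  exact IsPullback.of_right outer (pullback.lift_fst _ _ _)
    (IsPullback.of_hasPullback c s).flip

end Cat

section Final

/-- **the Segre embedding over an arbitrary base scheme** -/
theorem exists_segre_over (S : Scheme.{u}) (n m : ℕ) :
    ∃ φ : pullback (CohB1.ProjSpaceOver.toBase n S) (CohB1.ProjSpaceOver.toBase m S) ⟶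
        CohB1.ProjSpaceOver (n * m + n + m) S,
      IsClosedImmersion φ ∧ φ ≫ CohB1.ProjSpaceOver.toBase (n * m + n + m) S =
        pullback.fst (CohB1.ProjSpaceOver.toBase n S) (CohB1.ProjSpaceOver.toBase m S) ≫
          CohB1.ProjSpaceOver.toBase n S := by
  obtain ⟨r, hr, hrq⟩ := exists_segre_ring (ULift.{u} ℤ) n m
  refine ⟨liftBC (CohB1.ProjSpace.toSpec n (ULift.{u} ℤ)) (CohB1.ProjSpace.toSpec m (ULift.{u} ℤ))
    (CohB1.ProjSpace.toSpec (n * m + n + m) (ULift.{u} ℤ)) (specULiftZIsTerminal.from S) r hrq,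
    ?_, liftBC_snd _ _ _ _ r hrq⟩
  exact MorphismProperty.of_isPullback (P := @IsClosedImmersion)
    (isPullback_liftBC _ _ _ _ r hrq).flip hr

end Final

end Groth.Agent.Lib.Proj.Segre
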