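import Groth.Agent.Lib.Proj.GenUP
import Groth.Agent.Lib.Proj.PnUnique
import Mathlib.LinearAlgebra.SymmetricAlgebra.Basic

/-!
# The universal property of `P(M) = Proj (Sym M)` over an affine base (lead)

ns `Groth.Agent.Lib.Proj.SymUP`.
-/

universe u
open CategoryTheory CategoryTheory.Limits AlgebraicGeometry TopologicalSpace Opposite
  HomogeneousLocalization

namespace Groth.Agent.Lib.Proj.SymUP

open Groth.Agent.Lib.Ample Groth.Agent.Lib.QCoh Groth.Agent.Lib.Proj Groth.Agent.Lib.Proj.ToProj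
  Groth.Agent.Lib.Proj.ToPn Groth.Agent.Lib.Proj.PullSec Groth.Agent.Lib.Proj.QuotCompare
  Groth.Agent.Lib.Proj.PnUP Groth.Agent.Lib.Proj.GenUP Scheme.Modules Twist

section Algebra

variable {A S : Type u} [CommRing A] [CommRing S] [Algebra A S] (𝒮 : ℕ → Submodule A S)
  [GradedAlgebra 𝒮] {B : Type*} [CommRing B]

/-- graded twist of a ring hom by `u`: `a ↦ Σ u^k f(a_k)` -/
noncomputable def gradedTwist (f : S →+* B) (u : B) : S →+* B :=
  (DirectSum.toSemiring
    (fun k => (AddMonoidHom.mulLeft (u ^ k)).comp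
      (f.toAddMonoidHom.comp (𝒮 k).subtype.toAddMonoidHom))
    (by simp)
    (by
      intro i j ai aj
      simp only [AddMonoidHom.coe_comp, Function.comp_apply, AddMonoidHom.coe_mulLeft,
        RingHom.toAddMonoidHom_eq_coe, AddMonoidHom.coe_coe, LinearMap.toAddMonoidHom_coe,
        Submodule.coe_subtype, SetLike.coe_gMul, map_mul, pow_add]
      ring)).comp (DirectSum.decomposeRingEquiv 𝒮).toRingHom

lemma gradedTwist_of_mem (f : S →+* B) (u : B) {k : ℕ} {a : S} (ha : a ∈ 𝒮 k) :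
    gradedTwist 𝒮 f u a = u ^ k * f a := by
  unfold gradedTwist
  rw [RingHom.comp_apply]
  show DirectSum.toSemiring _ _ _ (DirectSum.decompose 𝒮 a) = _
  rw [DirectSum.decompose_of_mem 𝒮 ha, DirectSum.toSemiring_of]
  rfl

variable {M : Type u} [AddCommGroup M] [Module A M] (ι : M →ₗ[A] S) (hι : ∀ m : M, ι m ∈ 𝒮 1)
  (hsym : IsSymmetricAlgebra ι)

include hsym in
/-- ring maps out of `Sym M` are determined by their values on `A` and on `M` -/
lemma sym_ringHom_ext (f₁ f₂ : S →+* B)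
    (hA : ∀ c : A, f₂ (algebraMap A S c) = f₁ (algebraMap A S c))
    (h : ∀ x, f₂ (ι x) = f₁ (ι x)) : f₂ = f₁ := by
  letI : Algebra A B := (f₁.comp (algebraMap A S)).toAlgebra
  let F₁ : S →ₐ[A] B := { f₁ with commutes' := fun c => rfl }
  let F₂ : S →ₐ[A] B := { f₂ with commutes' := fun c => hA c }
  have := hsym.algHom_ext (F := F₂) (G := F₁) (LinearMap.ext fun x => h x)
  exact congrArg (fun F : S →ₐ[A] B => (F : S →+* B)) this

include hsym hι in
/-- ring maps `f₁, f₂` out of `Sym M` with `f₂ = u • f₁` on `M` satisfy `f₂ = u^k • f₁` in degree `k` -/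
lemma sym_twist_eq (f₁ f₂ : S →+* B) (u : B)
    (hA : ∀ c : A, f₂ (algebraMap A S c) = f₁ (algebraMap A S c))
    (h : ∀ x, f₂ (ι x) = u * f₁ (ι x)) (k : ℕ) (a : S) (ha : a ∈ 𝒮 k) :
    f₂ a = u ^ k * f₁ a := by
  have h1 : f₂ = gradedTwist 𝒮 f₁ u := by
    refine sym_ringHom_ext ι hsym (gradedTwist 𝒮 f₁ u) f₂ (fun c => ?_) (fun x => ?_)
    · rw [gradedTwist_of_mem 𝒮 f₁ u (SetLike.algebraMap_mem_graded 𝒮 c), pow_zero, one_mul, hA]
    · rw [gradedTwist_of_mem 𝒮 f₁ u (hι x), pow_one, h]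
  rw [h1, gradedTwist_of_mem 𝒮 f₁ u ha]

include hsym in
/-- existence of ring maps out of `Sym M` -/
lemma exists_sym_lift (b : A →+* B) (ℓ : M →+ B) (hℓ : ∀ c x, ℓ (c • x) = b c * ℓ x) :
    ∃ f : S →+* B, (∀ c, f (algebraMap A S c) = b c) ∧ ∀ x, f (ι x) = ℓ x := by
  letI : Algebra A B := b.toAlgebra
  let ℓ' : M →ₗ[A] B := { toFun := ℓ, map_add' := map_add ℓ, map_smul' := fun c x => hℓ c x }
  refine ⟨(hsym.lift ℓ' : S →+* B), fun c => ?_, fun x => ?_⟩
  · exact (hsym.lift ℓ').commutes c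
  · exact hsym.lift_eq ℓ' x

include hsym in
/-- `Sym M` is generated by `M` over `A` -/
lemma adjoin_range_eq_top : Algebra.adjoin A (Set.range ι) = ⊤ := by
  rw [eq_top_iff]
  intro a _
  induction a using hsym.induction with
  | algebraMap c => exact Subalgebra.algebraMap_mem _ c
  | ι x => exact Algebra.subset_adjoin ⟨x, rfl⟩
  | mul a b ha hb => exact Subalgebra.mul_mem _ (ha trivial) (hb trivial)
  | add a b ha hb => exact Subalgebra.add_mem _ (ha trivial) (hb trivial)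

end Algebra

section Geometry

variable {A S : Type u} [CommRing A] [CommRing S] [Algebra A S] (𝒮 : ℕ → Submodule A S)
  [GradedAlgebra 𝒮] {M : Type u} [AddCommGroup M] [Module A M] (ι : M →ₗ[A] S)
  (hι : ∀ m : M, ι m ∈ 𝒮 1) (hsym : IsSymmetricAlgebra ι)

include hsym hι in
/-- `P(M)` is covered by the `D₊(ι m)` -/
lemma iSup_basicOpen_ι : (⨆ m : M, Proj.basicOpen 𝒮 (ι m)) = ⊤ := by
  refine Proj.iSup_basicOpen_eq_top' 𝒮 (fun m : M => ι m) (fun m => ⟨1, hι m⟩) ?_
  rw [eq_top_iff]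
  intro a _
  induction a using hsym.induction with
  | algebraMap c =>
    exact Subalgebra.algebraMap_mem _ (⟨algebraMap A S c, SetLike.algebraMap_mem_graded 𝒮 c⟩ : 𝒮 0)
  | ι x => exact Algebra.subset_adjoin ⟨x, rfl⟩
  | mul a b ha hb => exact Subalgebra.mul_mem _ (ha trivial) (hb trivial)
  | add a b ha hb => exact Subalgebra.add_mem _ (ha trivial) (hb trivial)

include hsym hι in
lemma hcovS : (⨆ f : 𝒮 1, Proj.basicOpen 𝒮 (f : S)) = ⊤ := by
  rw [eq_top_iff, ← iSup_basicOpen_ι 𝒮 ι hι hsym]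
  exact iSup_le fun m => le_iSup (fun f : 𝒮 1 => Proj.basicOpen 𝒮 (f : S)) ⟨ι m, hι m⟩

variable {X : Scheme.{u}} (q : X ⟶ Spec (CommRingCat.of A)) {L : X.Modules}
  (v : M →+ ProjUP.Γm L) (hv : ∀ (a : A) (m : M), v (a • m) = ProjUP.toGlobal q a • v m)

/-- the sections `v m` as morphisms `O_X ⟶ L` -/
noncomputable def sec (m : M) : Coh.structureModule X ⟶ L := homOfSec L (v m)

lemma secOf_sec (m : M) : secOf (sec v m) = v m := secOf_homOfSec L (v m)

lemma ratio_add (m x y : M) :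
    ratio (sec v m) (sec v (x + y)) = ratio (sec v m) (sec v x) + ratio (sec v m) (sec v y) := by
  apply eq_of_smul_resSec_eq (sec v m) le_rfl
  rw [← ratio_spec, add_smul, ← ratio_spec, ← ratio_spec, secOf_sec, secOf_sec, secOf_sec, map_add]
  exact map_add _ _ _

include hv in
lemma ratio_smul (m : M) (c : A) (x : M) :
    ratio (sec v m) (sec v (c • x)) = baseHom q _ c * ratio (sec v m) (sec v x) := by
  apply eq_of_smul_resSec_eq (sec v m) le_rfl
  rw [← ratio_spec, mul_smul, ← ratio_spec, secOf_sec, secOf_sec, hv, resSec_smul]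
  rfl

/-- the additive map `x ↦ v x / v m` -/
noncomputable def ratioHom (m : M) : M →+ Γ(X, CohB1.genLocus L (sec v m)) :=
  AddMonoidHom.mk' (fun x => ratio (sec v m) (sec v x)) (ratio_add v m)

/-- the chart ring map `Sym M → Γ(X, X_{v m})`, `ι x ↦ v x / v m` -/
noncomputable def chartHom (m : M) : S →+* Γ(X, CohB1.genLocus L (sec v m)) :=
  (exists_sym_lift ι hsym (baseHom q _) (ratioHom v m) (fun c x => ratio_smul q v hv m c x)).choose

lemma chartHom_algebraMap (m : M) (c : A) :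
    chartHom ι hsym q v hv m (algebraMap A S c) = baseHom q _ c :=
  (exists_sym_lift ι hsym (baseHom q _) (ratioHom v m)
    (fun c x => ratio_smul q v hv m c x)).choose_spec.1 c

lemma chartHom_ι (m x : M) :
    chartHom ι hsym q v hv m (ι x) = ratio (sec v m) (sec v x) :=
  (exists_sym_lift ι hsym (baseHom q _) (ratioHom v m)
    (fun c x => ratio_smul q v hv m c x)).choose_spec.2 x

lemma isUnit_chartHom_self (m : M) : IsUnit (chartHom ι hsym q v hv m (ι m)) := by
  rw [chartHom_ι, ratio_self]; exact isUnit_one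

include hι in
lemma chartHom_compat (m₁ m₂ : M) (k : ℕ) (a : S) (ha : a ∈ 𝒮 k) :
    (X.presheaf.map (homOfLE (inf_le_right :
        CohB1.genLocus L (sec v m₁) ⊓ CohB1.genLocus L (sec v m₂) ≤ _)).op).hom
      (chartHom ι hsym q v hv m₂ a) =
      resFn (inf_le_right : CohB1.genLocus L (sec v m₁) ⊓ CohB1.genLocus L (sec v m₂) ≤ _)
          (ratio (sec v m₂) (sec v m₁)) ^ k *
        (X.presheaf.map (homOfLE (inf_le_left :
          CohB1.genLocus L (sec v m₁) ⊓ CohB1.genLocus L (sec v m₂) ≤ _)).op).hom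
          (chartHom ι hsym q v hv m₁ a) := by
  refine sym_twist_eq 𝒮 ι hι hsym
    ((X.presheaf.map (homOfLE (inf_le_left :
      CohB1.genLocus L (sec v m₁) ⊓ CohB1.genLocus L (sec v m₂) ≤ _)).op).hom.comp
        (chartHom ι hsym q v hv m₁))
    ((X.presheaf.map (homOfLE (inf_le_right :
      CohB1.genLocus L (sec v m₁) ⊓ CohB1.genLocus L (sec v m₂) ≤ _)).op).hom.comp
        (chartHom ι hsym q v hv m₂)) _ (fun c => ?_) (fun x => ?_) k a ha
  · simp only [RingHom.comp_apply, chartHom_algebraMap]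
    exact (resFn_baseHom q _ c).trans (resFn_baseHom q _ c).symm
  · simp only [RingHom.comp_apply, chartHom_ι]
    exact ratio_cocycle (sec v m₁) (sec v m₂) (sec v x)

include hι hsym hv in
/-- **existence part of the universal property of `P(M)`** -/
theorem exists_toProj_iso (hL : PicF.IsInvertible L) (hgen : ProjUP.GeneratedBy L v) :
    ∃ (r : X ⟶ Proj 𝒮)
      (_ : r ≫ Proj.toSpecZero 𝒮 ≫ Spec.map (CommRingCat.ofHom (algebraMap A (𝒮 0))) = q)
      (τ : (Scheme.Modules.pullback r).obj (twist 𝒮 1) ≅ L),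
      ∀ m : M, (τ.hom.app ⊤).hom
        (ProjUP.pullSec r (twist 𝒮 1) (Twist.globalOf 𝒮 ⟨ι m, hι m⟩)) = v m := by
  have hXcov : ∀ x : X, ∃ m, x ∈ CohB1.genLocus L (sec v m) := fun x => by
    refine exists_mem_genLocus_of_span_germ_eq_top hL (sec v) x ?_
    have := hgen x
    simpa only [secOf_sec] using this
  have hopen : TopologicalSpace.IsOpenCover (fun m => CohB1.genLocus L (sec v m)) := by
    rw [TopologicalSpace.IsOpenCover, eq_top_iff]
    intro x _
    obtain ⟨m, hm⟩ := hXcov x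
    exact Opens.mem_iSup.2 ⟨m, hm⟩
  obtain ⟨r, hr⟩ := exists_glue_toProjChart' 𝒮 X (fun m => CohB1.genLocus L (sec v m)) hopen
    (fun m => ι m) (fun _ => 1) hι (fun _ => one_pos) (fun m => chartHom ι hsym q v hv m)
    (fun m => isUnit_chartHom_self ι hsym q v hv m) (fun m₁ m₂ => by
      refine ⟨resFn inf_le_right (ratio (sec v m₂) (sec v m₁)), ?_,
        fun k a ha => chartHom_compat 𝒮 ι hι hsym q v hv m₁ m₂ k a ha⟩
      exact IsUnit.of_mul_eq_one _ (ratio_mul_ratio (sec v m₁) (sec v m₂)))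
  have hrq : r ≫ Proj.toSpecZero 𝒮 ≫ Spec.map (CommRingCat.ofHom (algebraMap A (𝒮 0))) = q := by
    refine (X.openCoverOfIsOpenCover _ hopen).hom_ext _ _ ?_
    intro (m : M)
    show (CohB1.genLocus L (sec v m)).ι ≫ r ≫ Proj.toSpecZero 𝒮 ≫
      Spec.map (CommRingCat.ofHom (algebraMap A (𝒮 0))) = (CohB1.genLocus L (sec v m)).ι ≫ q
    have h1 : (CohB1.genLocus L (sec v m)).ι ≫ r ≫ Proj.toSpecZero 𝒮 ≫
        Spec.map (CommRingCat.ofHom (algebraMap A (𝒮 0))) =
        (((CohB1.genLocus L (sec v m)).ι ≫ r) ≫ Proj.toSpecZero 𝒮) ≫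
          Spec.map (CommRingCat.ofHom (algebraMap A (𝒮 0))) := by
      simp only [Category.assoc]
    rw [h1, hr m, toProjChart_toSpecZero, Category.assoc, ← toSpecΓ_baseHom]
    refine congrArg (fun k => (CohB1.genLocus L (sec v m)).toScheme.toSpecΓ ≫ k) ?_
    refine (Spec.map_comp _ _).symm.trans (congrArg Spec.map ?_)
    ext c
    show (CohB1.genLocus L (sec v m)).topIso.inv.hom
      (chartHom ι hsym q v hv m (algebraMap A S c)) = _
    rw [chartHom_algebraMap]
    rfl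
  obtain ⟨τ, hτ⟩ := exists_iso_of_chart 𝒮 (fun m : M => (⟨ι m, hι m⟩ : 𝒮 1)) (sec v)
    (fun m => chartHom ι hsym q v hv m) (fun m x => chartHom_ι ι hsym q v hv m x)
    (hcovS 𝒮 ι hι hsym) r hr hXcov
  refine ⟨r, hrq, τ, fun m => ?_⟩
  exact (hτ m).trans (secOf_sec v m)

end Geometry

end Groth.Agent.Lib.Proj.SymUP
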