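import Groth.Agent.Lib.Proj.SymUP

/-!
# Uniqueness in the universal property of `Proj` of an algebra generated in degree one (lead)

ns `Groth.Agent.Lib.Proj.SymUnique`.

* `dehom 𝒜 ht : A →+* Away 𝒜 t` (`t ∈ 𝒜 1`), `a ∈ 𝒜 k ↦ a / t^k`; `dehom_surjective`.
* `away_ringHom_ext` : ring maps out of `A_(t)` are determined on `t_j / t` and constants, when the
  `t_j ∈ 𝒜 1` generate `A` over `R`.
* `eq_of_iso` : `r, r' : X ⟶ Proj 𝒜` over `Spec R` with `r^* O(1) ≅ r'^* O(1)` matching the `t_j` agree.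
-/

universe u
open CategoryTheory CategoryTheory.Limits AlgebraicGeometry TopologicalSpace Opposite
  HomogeneousLocalization

namespace Groth.Agent.Lib.Proj.SymUnique

open Groth.Agent.Lib.Ample Groth.Agent.Lib.QCoh Groth.Agent.Lib.Proj Groth.Agent.Lib.Proj.ToProj
  Groth.Agent.Lib.Proj.ToPn Groth.Agent.Lib.Proj.PullSec Groth.Agent.Lib.Proj.QuotCompare
  Groth.Agent.Lib.Proj.PnUP Groth.Agent.Lib.Proj.GenUP Groth.Agent.Lib.Proj.PnUnique
  Scheme.Modules Twist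

variable {R A : Type u} [CommRing R] [CommRing A] [Algebra R A] (𝒜 : ℕ → Submodule R A)
  [GradedAlgebra 𝒜]

section Dehom

variable {t : A} (ht : t ∈ 𝒜 1)

omit [GradedAlgebra 𝒜] in
lemma mem_smul_one {k : ℕ} {a : A} (ha : a ∈ 𝒜 k) : a ∈ 𝒜 (k • 1) := by
  rw [smul_eq_mul, mul_one]; exact ha

/-- the degree `k` component of the dehomogenization -/
noncomputable def dehomComp (k : ℕ) : 𝒜 k →+ Away 𝒜 t where
  toFun a := Away.mk 𝒜 ht k (a : A) (mem_smul_one 𝒜 a.2)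
  map_zero' := by
    apply HomogeneousLocalization.val_injective
    rw [Away.val_mk, HomogeneousLocalization.val_zero]
    exact Localization.mk_zero _
  map_add' a b := by
    apply HomogeneousLocalization.val_injective
    rw [HomogeneousLocalization.val_add, Away.val_mk, Away.val_mk, Away.val_mk]
    exact (Localization.add_mk_self _ _ _).symm

/-- dehomogenization `A → A_(t)`, `a ∈ 𝒜 k ↦ a / t^k`, for `t` of degree one -/
noncomputable def dehom : A →+* Away 𝒜 t :=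
  (DirectSum.toSemiring (fun k => dehomComp 𝒜 ht k)
    (by
      apply HomogeneousLocalization.val_injective
      show (Away.mk 𝒜 ht 0 _ _).val = _
      rw [Away.val_mk, HomogeneousLocalization.val_one]
      have : (⟨t ^ 0, ⟨0, rfl⟩⟩ : Submonoid.powers t) = 1 := Subtype.ext (pow_zero t)
      rw [this]
      exact Localization.mk_one)
    (by
      intro i j ai aj
      apply HomogeneousLocalization.val_injective
      show (Away.mk 𝒜 ht (i + j) _ _).val = _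
      rw [HomogeneousLocalization.val_mul]
      show _ = (Away.mk 𝒜 ht i _ _).val * (Away.mk 𝒜 ht j _ _).val
      rw [Away.val_mk, Away.val_mk, Away.val_mk, Localization.mk_mul]
      congr 1
      exact Subtype.ext (pow_add t i j))).comp (DirectSum.decomposeRingEquiv 𝒜).toRingHom

lemma dehom_of_mem {k : ℕ} {a : A} (ha : a ∈ 𝒜 k) :
    dehom 𝒜 ht a = Away.mk 𝒜 ht k a (mem_smul_one 𝒜 ha) := by
  unfold dehom
  rw [RingHom.comp_apply]
  show DirectSum.toSemiring _ _ _ (DirectSum.decompose 𝒜 a) = _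
  rw [DirectSum.decompose_of_mem 𝒜 ha, DirectSum.toSemiring_of]
  rfl

lemma dehom_surjective : Function.Surjective (dehom 𝒜 ht) := by
  intro z
  obtain ⟨n, a, ha, rfl⟩ := Away.mk_surjective 𝒜 ht z
  have ha' : a ∈ 𝒜 n := by rw [smul_eq_mul, mul_one] at ha; exact ha
  exact ⟨a, dehom_of_mem 𝒜 ht ha'⟩

lemma dehom_algebraMap (c : R) :
    dehom 𝒜 ht (algebraMap R A c) = fromZeroRingHom 𝒜 _ (algebraMap R (𝒜 0) c) := by
  rw [dehom_of_mem 𝒜 ht (SetLike.algebraMap_mem_graded 𝒜 c)]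
  apply HomogeneousLocalization.val_injective
  rw [Away.val_mk]
  show _ = Localization.mk _ 1
  have : (⟨t ^ 0, ⟨0, rfl⟩⟩ : Submonoid.powers t) = 1 := Subtype.ext (pow_zero t)
  rw [this]
  rfl

variable {ι : Type*} (s : ι → 𝒜 1) (hgen : Algebra.adjoin R (Set.range fun i => (s i : A)) = ⊤)

include hgen in
/-- ring maps out of `A_(t)` are determined on the `s_j / t` and on constants -/
lemma away_ringHom_ext {B : Type*} [CommRing B] (φ ψ : Away 𝒜 t →+* B)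
    (hX : ∀ j, φ (Away.mk 𝒜 ht 1 (s j : A) (mem_one_smul_one 𝒜 (s j))) =
      ψ (Away.mk 𝒜 ht 1 (s j : A) (mem_one_smul_one 𝒜 (s j))))
    (hC : ∀ c : R, φ (fromZeroRingHom 𝒜 _ (algebraMap R (𝒜 0) c)) =
      ψ (fromZeroRingHom 𝒜 _ (algebraMap R (𝒜 0) c))) : φ = ψ := by
  have h : ∀ a : A, φ (dehom 𝒜 ht a) = ψ (dehom 𝒜 ht a) := by
    intro a
    have ha : a ∈ Algebra.adjoin R (Set.range fun i => (s i : A)) := by rw [hgen]; trivial
    induction ha using Algebra.adjoin_induction with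
    | mem x hx =>
      obtain ⟨j, rfl⟩ := hx
      rw [dehom_of_mem 𝒜 ht (s j).2]
      exact hX j
    | algebraMap c => rw [dehom_algebraMap]; exact hC c
    | add x y _ _ hx hy => rw [map_add, map_add, map_add, hx, hy]
    | mul x y _ _ hx hy => rw [map_mul, map_mul, map_mul, hx, hy]
  ext z
  obtain ⟨a, rfl⟩ := dehom_surjective 𝒜 ht z
  exact h a

include hgen in
lemma adjoin_zero_eq_top : Algebra.adjoin (𝒜 0) (Set.range fun i => (s i : A)) = ⊤ := by
  rw [eq_top_iff]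
  intro a _
  have ha : a ∈ Algebra.adjoin R (Set.range fun i => (s i : A)) := by rw [hgen]; trivial
  induction ha using Algebra.adjoin_induction with
  | mem x hx => exact Algebra.subset_adjoin hx
  | algebraMap c =>
    exact Subalgebra.algebraMap_mem _ (⟨algebraMap R A c, SetLike.algebraMap_mem_graded 𝒜 c⟩ : 𝒜 0)
  | add x y _ _ hx hy => exact Subalgebra.add_mem _ (hx trivial) (hy trivial)
  | mul x y _ _ hx hy => exact Subalgebra.mul_mem _ (hx trivial) (hy trivial)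

include hgen in
lemma iSup_basicOpen_gen : (⨆ i, Proj.basicOpen 𝒜 (s i : A)) = ⊤ :=
  Proj.iSup_basicOpen_eq_top' 𝒜 (fun i => (s i : A)) (fun i => ⟨1, (s i).2⟩)
    (adjoin_zero_eq_top 𝒜 s hgen)

include hgen in
lemma hcov_gen : (⨆ f : 𝒜 1, Proj.basicOpen 𝒜 (f : A)) = ⊤ := by
  rw [eq_top_iff, ← iSup_basicOpen_gen 𝒜 s hgen]
  exact iSup_le fun i => le_iSup (fun f : 𝒜 1 => Proj.basicOpen 𝒜 (f : A)) (s i)

end Dehom

section Iso

variable {X : Scheme.{u}} {L : X.Modules} {ι : Type u} (t : ι → 𝒜 1)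
  (σ : ι → (Coh.structureModule X ⟶ L))
  (hcov : (⨆ f : 𝒜 1, Proj.basicOpen 𝒜 (f : A)) = ⊤)
  (r : X ⟶ Proj 𝒜)
  (τ : (Scheme.Modules.pullback r).obj (twist 𝒜 1) ≅ L)
  (hτ : ∀ i, (τ.hom.app ⊤).hom (ProjUP.pullSec r (twist 𝒜 1) (gsec 𝒜 (t i))) = secOf (σ i))

include hτ in
lemma μ_comp_iso (i : ι) : μ 𝒜 t r i ≫ τ.hom = σ i := by
  rw [← homOfSec_secOf (μ 𝒜 t r i ≫ τ.hom), ← homOfSec_secOf (σ i)]
  congr 1
  rw [← hτ i, ← GenUP.secOf_μ]
  rfl

include hτ hcov in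
/-- **`r⁻¹ D₊(t_i) = X_{σ_i}`** -/
lemma genLocus_eq_preimage (i : ι) :
    CohB1.genLocus L (σ i) = r ⁻¹ᵁ Proj.basicOpen 𝒜 (t i : A) := by
  rw [← μ_comp_iso 𝒜 t σ r τ hτ i, genLocus_comp_iso, GenUP.genLocus_μ 𝒜 t hcov]

include hτ hcov in
/-- **`r^♯ (t_j / t_i) = σ_j / σ_i`** -/
lemma app_zfrac (i j : ι) :
    resFn (genLocus_eq_preimage 𝒜 t σ hcov r τ hτ i).le
      ((r.app (Proj.basicOpen 𝒜 (t i : A))).hom (GenUP.zfrac 𝒜 (t i) (t j))) =
      ratio (σ i) (σ j) := by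
  have h3 := pull_globalOf_rel 𝒜 t r i j (genLocus_eq_preimage 𝒜 t σ hcov r τ hτ i).le
  have h4 := congrArg (fun m => (τ.hom.app (CohB1.genLocus L (σ i))).hom m) h3
  beta_reduce at h4
  rw [Hom.app_smul, app_resSec, app_resSec] at h4
  have h5 : ∀ k, (τ.hom.app ⊤).hom (secOf (μ 𝒜 t r k)) = secOf (σ k) := fun k => by
    rw [GenUP.secOf_μ]; exact hτ k
  rw [h5, h5] at h4
  apply eq_of_smul_resSec_eq (σ i) le_rfl
  exact h4.symm.trans (ratio_spec (σ i) (σ j))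

end Iso

section Unique

variable {X : Scheme.{u}} {ι : Type u} (t : ι → 𝒜 1)
  (hgen : Algebra.adjoin R (Set.range fun i => (t i : A)) = ⊤)

include hgen in
/-- **uniqueness**: two morphisms `r, r' : X ⟶ Proj 𝒜` over `Spec R` with an isomorphism
`r^* O(1) ≅ r'^* O(1)` matching the pullbacks of the degree one generators `t_i` are equal. -/
theorem eq_of_iso (r r' : X ⟶ Proj 𝒜)
    (hrr' : r ≫ Proj.toSpecZero 𝒜 ≫ Spec.map (CommRingCat.ofHom (algebraMap R (𝒜 0))) =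
      r' ≫ Proj.toSpecZero 𝒜 ≫ Spec.map (CommRingCat.ofHom (algebraMap R (𝒜 0))))
    (τ : (Scheme.Modules.pullback r).obj (twist 𝒜 1) ≅
      (Scheme.Modules.pullback r').obj (twist 𝒜 1))
    (hτ : ∀ i, (τ.hom.app ⊤).hom (ProjUP.pullSec r (twist 𝒜 1) (gsec 𝒜 (t i))) =
      ProjUP.pullSec r' (twist 𝒜 1) (gsec 𝒜 (t i))) : r = r' := by
  have hcov := hcov_gen 𝒜 t hgen
  -- the sections on the target side
  have hτ1 : ∀ i, (τ.hom.app ⊤).hom (ProjUP.pullSec r (twist 𝒜 1) (gsec 𝒜 (t i))) =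
      secOf (μ 𝒜 t r' i) := fun i => by rw [GenUP.secOf_μ]; exact hτ i
  have hτ2 : ∀ i, ((Iso.refl ((Scheme.Modules.pullback r').obj (twist 𝒜 1))).hom.app ⊤).hom
      (ProjUP.pullSec r' (twist 𝒜 1) (gsec 𝒜 (t i))) = secOf (μ 𝒜 t r' i) := fun i => by
    rw [GenUP.secOf_μ]; rfl
  have hU := fun i => genLocus_eq_preimage 𝒜 t (μ 𝒜 t r') hcov r τ hτ1 i
  have hU' := fun i => genLocus_eq_preimage 𝒜 t (μ 𝒜 t r') hcov r' (Iso.refl _) hτ2 i
  have hz := fun i j => app_zfrac 𝒜 t (μ 𝒜 t r') hcov r τ hτ1 i j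
  have hz' := fun i j => app_zfrac 𝒜 t (μ 𝒜 t r') hcov r' (Iso.refl _) hτ2 i j
  have hXcov : ∀ x : X, ∃ i, x ∈ CohB1.genLocus _ (μ 𝒜 t r' i) := by
    intro x
    have h1 : r' x ∈ (⊤ : (Proj 𝒜).Opens) := trivial
    rw [← iSup_basicOpen_gen 𝒜 t hgen] at h1
    obtain ⟨i, hi⟩ := Opens.mem_iSup.1 h1
    exact ⟨i, by rw [hU' i]; exact hi⟩
  have hopen : TopologicalSpace.IsOpenCover (fun i => CohB1.genLocus _ (μ 𝒜 t r' i)) := by
    rw [TopologicalSpace.IsOpenCover, eq_top_iff]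
    intro x _
    obtain ⟨i, hi⟩ := hXcov x
    exact Opens.mem_iSup.2 ⟨i, hi⟩
  refine (X.openCoverOfIsOpenCover _ hopen).hom_ext _ _ ?_
  intro (i : ι)
  show (CohB1.genLocus _ (μ 𝒜 t r' i)).ι ≫ r = (CohB1.genLocus _ (μ 𝒜 t r' i)).ι ≫ r'
  rw [ι_comp_eq 𝒜 r _ (t i).2 one_pos (hU i).le, ι_comp_eq 𝒜 r' _ (t i).2 one_pos (hU' i).le]
  have key : chartRingHom 𝒜 r _ (t i).2 one_pos (hU i).le =
      chartRingHom 𝒜 r' _ (t i).2 one_pos (hU' i).le := by
    refine away_ringHom_ext 𝒜 (t i).2 t hgen _ _ (fun j => ?_) (fun c => ?_)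
    · rw [chartRingHom_apply, chartRingHom_apply]
      have e1 := hz i j
      have e2 := hz' i j
      refine congrArg (CohB1.genLocus _ (μ 𝒜 t r' i)).topIso.inv.hom ?_
      exact e1.trans e2.symm
    · have h1 := ι_comp_toSpecZero 𝒜 r (CohB1.genLocus _ (μ 𝒜 t r' i)) (t i).2 one_pos (hU i).le
      have h1' := ι_comp_toSpecZero 𝒜 r' (CohB1.genLocus _ (μ 𝒜 t r' i)) (t i).2 one_pos
        (hU' i).le
      have h2 : (((CohB1.genLocus _ (μ 𝒜 t r' i)).ι ≫ r) ≫ Proj.toSpecZero 𝒜) ≫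
          Spec.map (CommRingCat.ofHom (algebraMap R (𝒜 0))) =
          (((CohB1.genLocus _ (μ 𝒜 t r' i)).ι ≫ r') ≫ Proj.toSpecZero 𝒜) ≫
          Spec.map (CommRingCat.ofHom (algebraMap R (𝒜 0))) := by
        simp only [Category.assoc]
        rw [hrr']
      rw [h1, h1', Category.assoc, Category.assoc] at h2
      have h2' := ((congrArg (fun m => (CohB1.genLocus _ (μ 𝒜 t r' i)).toScheme.toSpecΓ ≫ m)
        (Spec.map_comp _ _)).trans h2).trans
        (congrArg (fun m => (CohB1.genLocus _ (μ 𝒜 t r' i)).toScheme.toSpecΓ ≫ m)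
          (Spec.map_comp _ _).symm)
      have h3 := toSpecΓ_SpecMap_injective _ _ h2'
      exact congrArg (fun k => k.hom c) h3
  rw [key]

end Unique

end Groth.Agent.Lib.Proj.SymUnique
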