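import Groth.Agent.Lib.Proj.ToProj
import Groth.Agent.Lib.Proj.Helper56_Charts
import Groth.Agent.Lib.Ample.Affine
import Groth.Prelude.Def_ProjUP

/-!
# The morphism to projective space defined by sections of an invertible module (lead)

ns `Groth.Agent.Lib.Proj.ToPn`.

* `isGenerator_resSec_genLocus` : `σ : O_X ⟶ L` restricted to `X_σ = genLocus L σ` is a free generator
* `ratio σ τ : Γ(X, X_σ)` with `τ|X_σ = ratio σ τ • σ|X_σ`, cocycle relations
* `exists_toPn` : sections `σ_0, …, σ_n` whose loci `X_{σ_i}` cover `X` define an `R`-morphism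
  `r : X ⟶ P^n_R`, on `X_{σ_i}` given through the chart `D₊(T_i)` by `T_j ↦ σ_j / σ_i`.
-/

universe u
open CategoryTheory CategoryTheory.Limits AlgebraicGeometry TopologicalSpace Opposite
  HomogeneousLocalization

namespace Groth.Agent.Lib.Proj.ToPn

open Groth.Agent.Lib.Ample Groth.Agent.Lib.Proj.ToProj Scheme.Modules

variable {X : Scheme.{u}} {L : X.Modules}

/-- `σ` restricted to its generating locus is a free generator. -/
theorem isGenerator_resSec_of_le_genLocus (σ : Coh.structureModule X ⟶ L) {U : X.Opens}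
    (hU : U ≤ CohB1.genLocus L σ) :
    IsGenerator L U (resSec L (le_top : U ≤ ⊤) (secOf σ)) := by
  intro V hV
  have hb := (le_genLocus_iff' L σ U).1 hU V hV
  have h1 : (fun r : Γ(X, V) => r • resSec L hV (resSec L (le_top : U ≤ ⊤) (secOf σ))) =
      fun r : Γ(X, V) => (σ.app V).hom (show Γ(Coh.structureModule X, V) from r) := by
    funext r
    rw [resSec_resSec, app_apply]
  rw [h1]
  exact hb

theorem isGenerator_resSec_genLocus (σ : Coh.structureModule X ⟶ L) :
    IsGenerator L (CohB1.genLocus L σ) (resSec L le_top (secOf σ)) :=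
  isGenerator_resSec_of_le_genLocus σ le_rfl

/-- the ratio `τ / σ` on `X_σ` -/
noncomputable def ratio (σ τ : Coh.structureModule X ⟶ L) : Γ(X, CohB1.genLocus L σ) :=
  (exists_eq_smul_of_isGenerator (isGenerator_resSec_genLocus σ)
    (resSec L le_top (secOf τ))).choose

lemma ratio_spec (σ τ : Coh.structureModule X ⟶ L) :
    resSec L (le_top : CohB1.genLocus L σ ≤ ⊤) (secOf τ) =
      ratio σ τ • resSec L (le_top : CohB1.genLocus L σ ≤ ⊤) (secOf σ) :=
  (exists_eq_smul_of_isGenerator (isGenerator_resSec_genLocus σ)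
    (resSec L le_top (secOf τ))).choose_spec

/-- `ratio` restricted to a smaller open -/
lemma ratio_spec_res (σ τ : Coh.structureModule X ⟶ L) {V : X.Opens}
    (hV : V ≤ CohB1.genLocus L σ) :
    resSec L (le_top : V ≤ ⊤) (secOf τ) =
      resFn hV (ratio σ τ) • resSec L (le_top : V ≤ ⊤) (secOf σ) := by
  have h := congrArg (resSec L hV) (ratio_spec σ τ)
  rwa [resSec_smul, resSec_resSec, resSec_resSec] at h

lemma eq_of_smul_resSec_eq (σ : Coh.structureModule X ⟶ L) {V : X.Opens}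
    (hV : V ≤ CohB1.genLocus L σ) (a b : Γ(X, V))
    (h : a • resSec L (le_top : V ≤ ⊤) (secOf σ) = b • resSec L (le_top : V ≤ ⊤) (secOf σ)) :
    a = b := by
  have hg := isGenerator_resSec_of_le_genLocus σ hV
  have h2 := (hg V le_rfl).1
  apply h2
  have h1 : resSec L (le_refl V) (resSec L (le_top : V ≤ ⊤) (secOf σ)) =
      resSec L (le_top : V ≤ ⊤) (secOf σ) := resSec_resSec L _ _ _
  show a • resSec L (le_refl V) _ = b • resSec L (le_refl V) _
  rw [h1]; exact h

lemma ratio_self (σ : Coh.structureModule X ⟶ L) : ratio σ σ = 1 := by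
  apply eq_of_smul_resSec_eq σ le_rfl
  rw [one_smul, ← ratio_spec]

/-- cocycle relation on `X_σ ⊓ X_τ` -/
lemma ratio_cocycle (σ τ ρ : Coh.structureModule X ⟶ L) :
    resFn (inf_le_right : CohB1.genLocus L σ ⊓ CohB1.genLocus L τ ≤ CohB1.genLocus L τ) (ratio τ ρ) =
      resFn (inf_le_right : CohB1.genLocus L σ ⊓ CohB1.genLocus L τ ≤ CohB1.genLocus L τ)
          (ratio τ σ) *
        resFn (inf_le_left : CohB1.genLocus L σ ⊓ CohB1.genLocus L τ ≤ CohB1.genLocus L σ)
          (ratio σ ρ) := by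
  apply eq_of_smul_resSec_eq τ inf_le_right
  rw [← ratio_spec_res τ ρ, mul_comm, mul_smul, ← ratio_spec_res τ σ, ← ratio_spec_res σ ρ]

lemma ratio_mul_ratio (σ τ : Coh.structureModule X ⟶ L) :
    resFn (inf_le_right : CohB1.genLocus L σ ⊓ CohB1.genLocus L τ ≤ CohB1.genLocus L τ)
          (ratio τ σ) *
        resFn (inf_le_left : CohB1.genLocus L σ ⊓ CohB1.genLocus L τ ≤ CohB1.genLocus L σ)
          (ratio σ τ) = 1 := by
  rw [← ratio_cocycle σ τ τ, ratio_self]
  exact map_one _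

section Morphism

variable {R : Type u} [CommRing R] (n : ℕ) (q : X ⟶ Spec (CommRingCat.of R))

/-- the ring map `R → Γ(X, U)` given by `q : X ⟶ Spec R` -/
noncomputable def baseHom (U : X.Opens) : R →+* Γ(X, U) :=
  (q.appLE ⊤ U le_top).hom.comp (Scheme.ΓSpecIso (CommRingCat.of R)).inv.hom

lemma resFn_baseHom {U V : X.Opens} (h : V ≤ U) (c : R) :
    resFn h (baseHom q U c) = baseHom q V c := by
  unfold baseHom resFn
  simp only [RingHom.comp_apply]
  exact congrArg (fun φ => φ.hom ((Scheme.ΓSpecIso (CommRingCat.of R)).inv.hom c))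
    (Scheme.Hom.appLE_map q (le_top : U ≤ q ⁻¹ᵁ ⊤) (homOfLE h).op)

variable (σ : Fin (n + 1) → (Coh.structureModule X ⟶ L))

/-- the ring map `R[T_0..T_n] → Γ(X, X_{σ_i})`, `T_j ↦ σ_j / σ_i` -/
noncomputable def chartHom (i : Fin (n + 1)) :
    MvPolynomial (Fin (n + 1)) R →+* Γ(X, CohB1.genLocus L (σ i)) :=
  MvPolynomial.eval₂Hom (baseHom q _) (fun j => ratio (σ i) (σ j))

lemma chartHom_X (i j : Fin (n + 1)) : chartHom n q σ i (MvPolynomial.X j) = ratio (σ i) (σ j) := by
  simp [chartHom]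

lemma chartHom_C (i : Fin (n + 1)) (c : R) : chartHom n q σ i (MvPolynomial.C c) = baseHom q _ c := by
  simp [chartHom]

lemma isUnit_chartHom_X_self (i : Fin (n + 1)) : IsUnit (chartHom n q σ i (MvPolynomial.X i)) := by
  rw [chartHom_X, ratio_self]; exact isUnit_one

lemma chartHom_compat (i j : Fin (n + 1)) (k : ℕ) (a : MvPolynomial (Fin (n + 1)) R)
    (ha : a ∈ CohB1.polyGrading n R k) :
    resFn (inf_le_right : CohB1.genLocus L (σ i) ⊓ CohB1.genLocus L (σ j) ≤ _) (chartHom n q σ j a) =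
      resFn (inf_le_right : CohB1.genLocus L (σ i) ⊓ CohB1.genLocus L (σ j) ≤ _)
          (ratio (σ j) (σ i)) ^ k *
        resFn (inf_le_left : CohB1.genLocus L (σ i) ⊓ CohB1.genLocus L (σ j) ≤ _)
          (chartHom n q σ i a) := by
  have e1 : ∀ (i' : Fin (n + 1)) (h : CohB1.genLocus L (σ i) ⊓ CohB1.genLocus L (σ j) ≤
      CohB1.genLocus L (σ i')), resFn h (chartHom n q σ i' a) =
      MvPolynomial.eval₂Hom (baseHom q (CohB1.genLocus L (σ i) ⊓ CohB1.genLocus L (σ j)))
        (fun l => resFn h (ratio (σ i') (σ l))) a := by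
    intro i' h
    have := MvPolynomial.comp_eval₂Hom (baseHom q (CohB1.genLocus L (σ i')))
      (fun l => ratio (σ i') (σ l)) (X.presheaf.map (homOfLE h).op).hom
    have h2 := congrArg (fun φ => φ a) this
    simp only [RingHom.comp_apply] at h2
    refine h2.trans ?_
    congr 2
    ext c
    exact resFn_baseHom q h c
  rw [e1 j inf_le_right, e1 i inf_le_left, mul_comm]
  rw [← eval₂Hom_mul_of_isHomogeneous _ _ _ ha]
  congr 2
  funext l
  rw [ratio_cocycle (σ i) (σ j) (σ l), mul_comm]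

lemma isOpenCover_genLocus (hcov : ∀ x : X, ∃ i, x ∈ CohB1.genLocus L (σ i)) :
    TopologicalSpace.IsOpenCover (fun i => CohB1.genLocus L (σ i)) := by
  rw [TopologicalSpace.IsOpenCover, eq_top_iff]
  intro x _
  obtain ⟨i, hi⟩ := hcov x
  exact Opens.mem_iSup.2 ⟨i, hi⟩

lemma appLE_top_comp_topIso_inv {Y : Scheme.{u}} (q : X ⟶ Y) (U : X.Opens) :
    q.appLE ⊤ U le_top ≫ U.topIso.inv = (U.ι ≫ q).appTop := by
  have e1 : U.topIso.inv = U.ι.appLE U ⊤ U.ι_preimage_self.ge := by
    rw [Scheme.Opens.ι_appLE]; rfl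
  have e2 : (U.ι ≫ q).appTop = (U.ι ≫ q).appLE ⊤ ⊤ le_top := Scheme.Hom.app_eq_appLE _
  rw [e1, e2]
  exact Scheme.Hom.appLE_comp_appLE U.ι q ⊤ U ⊤ _ _

lemma toSpecΓ_baseHom (U : X.Opens) :
    U.toScheme.toSpecΓ ≫ Spec.map (CommRingCat.ofHom (U.topIso.inv.hom.comp (baseHom q U))) =
      U.ι ≫ q := by
  have h1 : CommRingCat.ofHom (U.topIso.inv.hom.comp (baseHom q U)) =
      (Scheme.ΓSpecIso (CommRingCat.of R)).inv ≫ (U.ι ≫ q).appTop := by
    rw [← appLE_top_comp_topIso_inv]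
    rfl
  refine (congrArg (fun m => U.toScheme.toSpecΓ ≫ m) (congrArg Spec.map h1)).trans ?_
  show U.toScheme.toSpecΓ ≫ Spec.map (_ ≫ _) = _
  rw [Spec.map_comp, ← Scheme.toSpecΓ_naturality_assoc, toSpecΓ_SpecMap_ΓSpecIso_inv,
    Category.comp_id]

/-- **the morphism to projective space defined by sections generating `L`**. -/
theorem exists_toPn (hcov : ∀ x : X, ∃ i, x ∈ CohB1.genLocus L (σ i)) :
    ∃ r : X ⟶ Proj (CohB1.polyGrading n R),
      r ≫ CohB1.ProjSpace.toSpec n R = q ∧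
      ∀ i, (CohB1.genLocus L (σ i)).ι ≫ r =
        toProjChart (CohB1.polyGrading n R) (CohB1.genLocus L (σ i))
          ((CohB1.genLocus L (σ i)).topIso.inv.hom.comp (chartHom n q σ i)) (X_mem n R i) one_pos
          ((isUnit_chartHom_X_self n q σ i).map (CohB1.genLocus L (σ i)).topIso.inv.hom) := by
  obtain ⟨r, hr⟩ := exists_glue_toProjChart' (CohB1.polyGrading n R) X
    (fun i => CohB1.genLocus L (σ i)) (isOpenCover_genLocus n σ hcov)
    (fun i => (MvPolynomial.X i : MvPolynomial (Fin (n + 1)) R)) (fun _ => 1)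
    (fun i => X_mem n R i) (fun _ => one_pos) (fun i => chartHom n q σ i)
    (fun i => isUnit_chartHom_X_self n q σ i) (fun i j => by
      refine ⟨resFn inf_le_right (ratio (σ j) (σ i)), ?_, fun k a ha => chartHom_compat n q σ i j k a ha⟩
      exact IsUnit.of_mul_eq_one _ (ratio_mul_ratio (σ i) (σ j)))
  refine ⟨r, ?_, hr⟩
  refine (X.openCoverOfIsOpenCover _ (isOpenCover_genLocus n σ hcov)).hom_ext _ _ ?_
  intro (i : Fin (n + 1))
  show (CohB1.genLocus L (σ i)).ι ≫ r ≫ CohB1.ProjSpace.toSpec n R = (CohB1.genLocus L (σ i)).ι ≫ q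
  have h1 : (CohB1.genLocus L (σ i)).ι ≫ r ≫ CohB1.ProjSpace.toSpec n R =
      (((CohB1.genLocus L (σ i)).ι ≫ r) ≫ Proj.toSpecZero (CohB1.polyGrading n R)) ≫
        Spec.map (CommRingCat.ofHom (algebraMap R (CohB1.polyGrading n R 0))) := by
    simp only [Category.assoc]; rfl
  rw [h1, hr i, toProjChart_toSpecZero,
    Category.assoc, ← Spec.map_comp, ← CommRingCat.ofHom_comp, ← toSpecΓ_baseHom]
  congr 3
  ext c
  simp only [RingHom.comp_apply]
  congr 1
  show chartHom n q σ i (MvPolynomial.C c) = _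
  exact chartHom_C n q σ i c

end Morphism

end Groth.Agent.Lib.Proj.ToPn
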