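import Mathlib.AlgebraicGeometry.ProjectiveSpectrum.Basic
import Mathlib.AlgebraicGeometry.ProjectiveSpectrum.Proper

/-!
# Morphisms to `Proj 𝒜` from charts (lead)

ns `Groth.Agent.Lib.Proj.ToProj`.

For a graded ring `𝒜`, a scheme `Y`, a ring map `f : A →+* Γ(Y, ⊤)` and a homogeneous element `t` of
positive degree with `f t` a unit we define `toProjChart : Y ⟶ Proj 𝒜`, landing in `D₊(t)`.
* `hAwayLift f t hu : Away 𝒜 t →+* B` (`a / t^k ↦ f a * (f t)⁻¹^k`) and `hAwayLift_mk`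
* `toProjChart_eq_of_isUnit` : independence of the chart `t`
* `comp_toProjChart` : naturality in `Y`
* `toProjChart_congr_of_twist` : invariance under `f' a = u ^ d * f a` (`a ∈ 𝒜 d`, `u` a unit)
-/

universe u
open CategoryTheory AlgebraicGeometry HomogeneousLocalization

namespace Groth.Agent.Lib.Proj.ToProj

section Algebra

variable {A : Type u} [CommRing A] {σ : Type*} [SetLike σ A] [AddSubgroupClass σ A]
  (𝒜 : ℕ → σ) [GradedRing 𝒜] {B : Type*} [CommRing B]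

/-- `A_(t) → B` induced by `f : A → B` with `f t` a unit. -/
noncomputable def hAwayLift (f : A →+* B) (t : A) (hu : IsUnit (f t)) : Away 𝒜 t →+* B :=
  (Localization.awayLift f t hu).comp (algebraMap (Away 𝒜 t) (Localization.Away t))

lemma hAwayLift_mk (f : A →+* B) {t : A} {d : ℕ} (ht : t ∈ 𝒜 d) (v : B) (hv : f t * v = 1)
    (k : ℕ) (a : A) (ha : a ∈ 𝒜 (k • d)) :
    hAwayLift 𝒜 f t (isUnit_iff_exists_inv.mpr ⟨v, hv⟩) (Away.mk 𝒜 ht k a ha) = f a * v ^ k := by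
  rw [hAwayLift, RingHom.comp_apply, HomogeneousLocalization.algebraMap_apply, Away.val_mk]
  exact Localization.awayLift_mk f t a v hv k

lemma hAwayLift_mk_mul (f : A →+* B) {t : A} {d : ℕ} (ht : t ∈ 𝒜 d) (hu : IsUnit (f t))
    (k : ℕ) (a : A) (ha : a ∈ 𝒜 (k • d)) :
    hAwayLift 𝒜 f t hu (Away.mk 𝒜 ht k a ha) * f t ^ k = f a := by
  obtain ⟨v, hv⟩ := isUnit_iff_exists_inv.mp hu
  rw [hAwayLift_mk 𝒜 f ht v hv, mul_assoc, ← mul_pow, mul_comm v, hv, one_pow, mul_one]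

lemma hAwayLift_ext {t : A} {d : ℕ} (ht : t ∈ 𝒜 d) (φ ψ : Away 𝒜 t →+* B)
    (h : ∀ (k : ℕ) (a : A) (ha : a ∈ 𝒜 (k • d)), φ (Away.mk 𝒜 ht k a ha) = ψ (Away.mk 𝒜 ht k a ha)) :
    φ = ψ := by
  ext x
  obtain ⟨k, a, ha, rfl⟩ := Away.mk_surjective 𝒜 ht x
  exact h k a ha

/-- characterisation of `hAwayLift` -/
lemma eq_hAwayLift (f : A →+* B) {t : A} {d : ℕ} (ht : t ∈ 𝒜 d) (hu : IsUnit (f t))
    (φ : Away 𝒜 t →+* B)
    (h : ∀ (k : ℕ) (a : A) (ha : a ∈ 𝒜 (k • d)), φ (Away.mk 𝒜 ht k a ha) * f t ^ k = f a) :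
    φ = hAwayLift 𝒜 f t hu := by
  refine hAwayLift_ext 𝒜 ht _ _ fun k a ha => ?_
  have h1 := h k a ha
  have h2 := hAwayLift_mk_mul 𝒜 f ht hu k a ha
  exact (hu.pow k).mul_left_injective (h1.trans h2.symm)

lemma comp_hAwayLift {C : Type*} [CommRing C] (g : B →+* C) (f : A →+* B) {t : A} {d : ℕ}
    (ht : t ∈ 𝒜 d) (hu : IsUnit (f t)) :
    g.comp (hAwayLift 𝒜 f t hu) = hAwayLift 𝒜 (g.comp f) t (hu.map g) := by
  refine eq_hAwayLift 𝒜 (g.comp f) ht (hu.map g) _ fun k a ha => ?_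
  simp only [RingHom.comp_apply]
  rw [← map_pow, ← map_mul, hAwayLift_mk_mul 𝒜 f ht hu]

/-- unit twist invariance -/
lemma hAwayLift_congr_of_twist (f f' : A →+* B) (u : B) (hu' : IsUnit u)
    (hff' : ∀ (d : ℕ) (a : A), a ∈ 𝒜 d → f' a = u ^ d * f a) {t : A} {d : ℕ} (ht : t ∈ 𝒜 d)
    (hu : IsUnit (f t)) (hu2 : IsUnit (f' t)) :
    hAwayLift 𝒜 f' t hu2 = hAwayLift 𝒜 f t hu := by
  refine eq_hAwayLift 𝒜 f ht hu _ fun k a ha => ?_
  have h1 := hAwayLift_mk_mul 𝒜 f' ht hu2 k a ha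
  rw [hff' _ _ ha, hff' _ _ ht, mul_pow, ← pow_mul, mul_comm d k, ← smul_eq_mul (a := k),
    ← mul_assoc, mul_comm _ (u ^ _)] at h1
  refine (hu'.pow (k • d)).mul_right_injective ?_
  show u ^ (k • d) * (_ * _) = u ^ (k • d) * _
  rw [← mul_assoc]; exact h1

variable {e : ℕ} {t g : A} (hg : g ∈ 𝒜 e) {x : A} (hx : x = t * g)

lemma hAwayLift_comp_awayMap (f : A →+* B) {d : ℕ} (ht : t ∈ 𝒜 d) (hu : IsUnit (f t))
    (hux : IsUnit (f x)) :
    (hAwayLift 𝒜 f x hux).comp (awayMap 𝒜 hg hx) = hAwayLift 𝒜 f t hu := by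
  refine eq_hAwayLift 𝒜 f ht hu _ fun k a ha => ?_
  rw [RingHom.comp_apply, awayMap_mk 𝒜 hg hx k ht a ha]
  have hug : IsUnit (f g) := by
    rw [hx, map_mul] at hux
    exact isUnit_of_mul_isUnit_right hux
  have h1 := hAwayLift_mk_mul 𝒜 f (hx ▸ SetLike.mul_mem_graded ht hg : x ∈ 𝒜 (d + e)) hux k
    (a * g ^ k) (by rw [smul_add]; exact SetLike.mul_mem_graded ha (SetLike.pow_mem_graded k hg))
  have h2 : f x ^ k = f t ^ k * f g ^ k := by rw [hx, map_mul, mul_pow]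
  rw [h2, map_mul, map_pow, ← mul_assoc] at h1
  exact (hug.pow k).mul_left_injective h1

end Algebra

section Scheme

variable {A : Type u} [CommRing A] {σ : Type*} [SetLike σ A] [AddSubgroupClass σ A]
  (𝒜 : ℕ → σ) [GradedRing 𝒜]

/-- The morphism `Y ⟶ Proj 𝒜` through the chart `D₊(t)` defined by `f : A →+* Γ(Y, ⊤)` with `f t` a
unit. -/
noncomputable def toProjChart (Y : Scheme.{u}) (f : A →+* Γ(Y, ⊤)) {t : A} {d : ℕ} (ht : t ∈ 𝒜 d)
    (hd : 0 < d) (hu : IsUnit (f t)) : Y ⟶ Proj 𝒜 :=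
  Y.toSpecΓ ≫ Spec.map (CommRingCat.ofHom (hAwayLift 𝒜 f t hu)) ≫ Proj.awayι 𝒜 t ht hd

/-- naturality of `toProjChart` in the source -/
lemma comp_toProjChart {Z Y : Scheme.{u}} (g : Z ⟶ Y) (f : A →+* Γ(Y, ⊤)) {t : A} {d : ℕ}
    (ht : t ∈ 𝒜 d) (hd : 0 < d) (hu : IsUnit (f t)) :
    g ≫ toProjChart 𝒜 Y f ht hd hu =
      toProjChart 𝒜 Z (g.appTop.hom.comp f) ht hd (hu.map g.appTop.hom) := by
  unfold toProjChart
  rw [Scheme.toSpecΓ_naturality_assoc, ← comp_hAwayLift 𝒜 g.appTop.hom f ht hu,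
    CommRingCat.ofHom_comp, Spec.map_comp, CommRingCat.ofHom_hom, Category.assoc]

/-- independence of the chart: product version -/
lemma toProjChart_mul (Y : Scheme.{u}) (f : A →+* Γ(Y, ⊤)) {t g : A} {d e : ℕ} (ht : t ∈ 𝒜 d)
    (hd : 0 < d) (hu : IsUnit (f t)) (hg : g ∈ 𝒜 e) (hug : IsUnit (f g)) :
    toProjChart 𝒜 Y f (SetLike.mul_mem_graded ht hg) (Nat.add_pos_left hd e)
      (by rw [map_mul]; exact hu.mul hug) = toProjChart 𝒜 Y f ht hd hu := by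
  unfold toProjChart
  rw [← Proj.SpecMap_awayMap_awayι 𝒜 ht hd hg rfl, ← Spec.map_comp_assoc, ← CommRingCat.ofHom_comp,
    hAwayLift_comp_awayMap 𝒜 hg rfl f ht hu]

lemma toProjChart_congr (Y : Scheme.{u}) (f : A →+* Γ(Y, ⊤)) {t t' : A} (h : t = t') {d d' : ℕ}
    (ht : t ∈ 𝒜 d) (hd : 0 < d) (hu : IsUnit (f t)) (ht' : t' ∈ 𝒜 d') (hd' : 0 < d')
    (hu' : IsUnit (f t')) :
    toProjChart 𝒜 Y f ht hd hu = toProjChart 𝒜 Y f ht' hd' hu' := by
  subst h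
  unfold toProjChart
  congr 2

/-- independence of the chart -/
lemma toProjChart_eq_of_isUnit (Y : Scheme.{u}) (f : A →+* Γ(Y, ⊤)) {t g : A} {d e : ℕ}
    (ht : t ∈ 𝒜 d) (hd : 0 < d) (hu : IsUnit (f t)) (hg : g ∈ 𝒜 e) (he : 0 < e)
    (hug : IsUnit (f g)) :
    toProjChart 𝒜 Y f ht hd hu = toProjChart 𝒜 Y f hg he hug := by
  rw [← toProjChart_mul 𝒜 Y f ht hd hu hg hug, ← toProjChart_mul 𝒜 Y f hg he hug ht hu]
  exact toProjChart_congr 𝒜 Y f (mul_comm t g) _ _ _ _ _ _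

/-- invariance under a unit twist `f' a = u ^ d * f a` for `a ∈ 𝒜 d` -/
lemma toProjChart_congr_of_twist (Y : Scheme.{u}) (f f' : A →+* Γ(Y, ⊤)) (u : Γ(Y, ⊤))
    (hu' : IsUnit u) (hff' : ∀ (d : ℕ) (a : A), a ∈ 𝒜 d → f' a = u ^ d * f a) {t : A} {d : ℕ}
    (ht : t ∈ 𝒜 d) (hd : 0 < d) (hu : IsUnit (f t)) (hu2 : IsUnit (f' t)) :
    toProjChart 𝒜 Y f' ht hd hu2 = toProjChart 𝒜 Y f ht hd hu := by
  unfold toProjChart
  rw [hAwayLift_congr_of_twist 𝒜 f f' u hu' hff' ht hu hu2]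

/-- the structure morphism: `toProjChart ≫ toSpecZero` -/
lemma toProjChart_toSpecZero (Y : Scheme.{u}) (f : A →+* Γ(Y, ⊤)) {t : A} {d : ℕ}
    (ht : t ∈ 𝒜 d) (hd : 0 < d) (hu : IsUnit (f t)) :
    toProjChart 𝒜 Y f ht hd hu ≫ Proj.toSpecZero 𝒜 =
      Y.toSpecΓ ≫ Spec.map (CommRingCat.ofHom (f.comp (algebraMap (𝒜 0) A))) := by
  unfold toProjChart
  rw [Category.assoc, Category.assoc, Proj.awayι_toSpecZero, ← Spec.map_comp,
    ← CommRingCat.ofHom_comp]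
  congr 3
  ext a
  simp only [RingHom.comp_apply, hAwayLift, fromZeroRingHom, HomogeneousLocalization.algebraMap_apply]
  show (Localization.awayLift f t hu) (Localization.mk (a : A) 1) = f a
  rw [Localization.mk_one_eq_algebraMap]
  exact IsLocalization.Away.lift_eq t hu (a : A)

open Limits in
/-- **gluing chart morphisms**: a family of ring maps `f i : A →+* Γ(U i, ⊤)` on an open cover,
each inverting some homogeneous `t i` of positive degree, and pairwise related by unit twists on the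
overlaps, defines a morphism `X ⟶ Proj 𝒜`. -/
theorem exists_glue_toProjChart (X : Scheme.{u}) {ι : Type*} (U : ι → X.Opens)
    (hU : TopologicalSpace.IsOpenCover U) (t : ι → A) (d : ι → ℕ) (ht : ∀ i, t i ∈ 𝒜 (d i))
    (hd : ∀ i, 0 < d i) (f : ∀ i, A →+* Γ((U i).toScheme, ⊤)) (hu : ∀ i, IsUnit (f i (t i)))
    (compat : ∀ i j, ∃ u : Γ(pullback (U i).ι (U j).ι, ⊤), IsUnit u ∧ ∀ (k : ℕ) (a : A), a ∈ 𝒜 k →
      (pullback.snd (U i).ι (U j).ι).appTop.hom (f j a) =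
        u ^ k * (pullback.fst (U i).ι (U j).ι).appTop.hom (f i a)) :
    ∃ r : X ⟶ Proj 𝒜, ∀ i, (U i).ι ≫ r = toProjChart 𝒜 (U i) (f i) (ht i) (hd i) (hu i) := by
  refine ⟨(X.openCoverOfIsOpenCover U hU).glueMorphisms
    (fun i => toProjChart 𝒜 (U i) (f i) (ht i) (hd i) (hu i)) ?_, fun i =>
    (X.openCoverOfIsOpenCover U hU).ι_glueMorphisms _ _ i⟩
  intro i j
  obtain ⟨u, hu', huf⟩ := compat i j
  show pullback.fst (U i).ι (U j).ι ≫ _ = pullback.snd (U i).ι (U j).ι ≫ _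
  rw [comp_toProjChart, comp_toProjChart]
  have h1 : IsUnit (((pullback.snd (U i).ι (U j).ι).appTop.hom.comp (f j)) (t i)) := by
    rw [RingHom.comp_apply, huf _ _ (ht i)]
    exact (hu'.pow _).mul ((hu i).map _)
  rw [← toProjChart_congr_of_twist 𝒜 _ _ ((pullback.snd (U i).ι (U j).ι).appTop.hom.comp (f j)) u hu'
    (fun k a ha => huf k a ha) (ht i) (hd i) _ h1]
  exact toProjChart_eq_of_isUnit 𝒜 _ _ (ht i) (hd i) h1 (ht j) (hd j) _

lemma appLE_congr_hom {X Y : Scheme.{u}} {f g : X ⟶ Y} (h : f = g) (U : Y.Opens) (V : X.Opens)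
    (e : V ≤ f ⁻¹ᵁ U) : f.appLE U V e = g.appLE U V (h ▸ e) := by
  subst h; rfl

open Limits in
/-- **gluing chart morphisms, version with sections over opens of `X`**. -/
theorem exists_glue_toProjChart' (X : Scheme.{u}) {ι : Type*} (U : ι → X.Opens)
    (hU : TopologicalSpace.IsOpenCover U) (t : ι → A) (d : ι → ℕ) (ht : ∀ i, t i ∈ 𝒜 (d i))
    (hd : ∀ i, 0 < d i) (f : ∀ i, A →+* Γ(X, U i)) (hu : ∀ i, IsUnit (f i (t i)))
    (compat : ∀ i j, ∃ u : Γ(X, U i ⊓ U j), IsUnit u ∧ ∀ (k : ℕ) (a : A), a ∈ 𝒜 k →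
      (X.presheaf.map (homOfLE (inf_le_right : U i ⊓ U j ≤ U j)).op).hom (f j a) =
        u ^ k * (X.presheaf.map (homOfLE (inf_le_left : U i ⊓ U j ≤ U i)).op).hom (f i a)) :
    ∃ r : X ⟶ Proj 𝒜, ∀ i, (U i).ι ≫ r =
      toProjChart 𝒜 (U i) ((U i).topIso.inv.hom.comp (f i)) (ht i) (hd i)
        ((hu i).map (U i).topIso.inv.hom) := by
  refine exists_glue_toProjChart 𝒜 X U hU t d ht hd _ _ fun i j => ?_
  obtain ⟨u, hu', huf⟩ := compat i j
  have hle : (⊤ : (pullback (U i).ι (U j).ι).Opens) ≤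
      (pullback.fst (U i).ι (U j).ι ≫ (U i).ι) ⁻¹ᵁ (U i ⊓ U j) := by
    intro x _
    refine ⟨(pullback.fst (U i).ι (U j).ι x).2, ?_⟩
    show (pullback.fst (U i).ι (U j).ι ≫ (U i).ι) x ∈ U j
    rw [pullback.condition]
    exact (pullback.snd (U i).ι (U j).ι x).2
  -- the comparison map `κ`
  have k1 : (U i).topIso.inv ≫ (pullback.fst (U i).ι (U j).ι).appTop =
      X.presheaf.map (homOfLE (inf_le_left : U i ⊓ U j ≤ U i)).op ≫
        (pullback.fst (U i).ι (U j).ι ≫ (U i).ι).appLE (U i ⊓ U j) ⊤ hle := by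
    rw [Scheme.Hom.map_appLE]
    have e1 : (U i).topIso.inv = (U i).ι.appLE (U i) ⊤ (U i).ι_preimage_self.ge := by
      rw [Scheme.Opens.ι_appLE]; rfl
    have e2 : (pullback.fst (U i).ι (U j).ι).appTop =
        (pullback.fst (U i).ι (U j).ι).appLE ⊤ ⊤ le_top :=
      Scheme.Hom.app_eq_appLE _
    rw [e1, e2]
    exact Scheme.Hom.appLE_comp_appLE (pullback.fst (U i).ι (U j).ι) (U i).ι (U i) ⊤ ⊤ _ _
  have k2 : (U j).topIso.inv ≫ (pullback.snd (U i).ι (U j).ι).appTop =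
      X.presheaf.map (homOfLE (inf_le_right : U i ⊓ U j ≤ U j)).op ≫
        (pullback.fst (U i).ι (U j).ι ≫ (U i).ι).appLE (U i ⊓ U j) ⊤ hle := by
    rw [Scheme.Hom.map_appLE]
    have e1 : (U j).topIso.inv = (U j).ι.appLE (U j) ⊤ (U j).ι_preimage_self.ge := by
      rw [Scheme.Opens.ι_appLE]; rfl
    have e2 : (pullback.snd (U i).ι (U j).ι).appTop =
        (pullback.snd (U i).ι (U j).ι).appLE ⊤ ⊤ le_top :=
      Scheme.Hom.app_eq_appLE _
    rw [e1, e2]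
    refine (Scheme.Hom.appLE_comp_appLE (pullback.snd (U i).ι (U j).ι) (U j).ι (U j) ⊤ ⊤ _ _).trans ?_
    exact appLE_congr_hom pullback.condition.symm _ _ _
  refine ⟨((pullback.fst (U i).ι (U j).ι ≫ (U i).ι).appLE (U i ⊓ U j) ⊤ hle).hom u,
    hu'.map _, fun k a ha => ?_⟩
  have h1 := congrArg (fun φ => φ.hom (f j a)) k2
  have h2 := congrArg (fun φ => φ.hom (f i a)) k1
  simp only [CommRingCat.hom_comp, RingHom.comp_apply] at h1 h2
  simp only [RingHom.comp_apply]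
  rw [h1, h2, huf k a ha, map_mul, map_pow]

section Restrict

variable {X : Scheme.{u}} (r : X ⟶ Proj 𝒜) (U : X.Opens) (f : A →+* Γ(U.toScheme, ⊤)) {t : A} {d : ℕ}
  (ht : t ∈ 𝒜 d) (hd : 0 < d) (hu : IsUnit (f t))
  (hr : U.ι ≫ r = toProjChart 𝒜 U f ht hd hu)

include hr in
/-- a morphism which on `U` is given by the chart `t` maps `U` into `D₊(t)` -/
lemma le_preimage_basicOpen_of_eq_toProjChart : U ≤ r ⁻¹ᵁ Proj.basicOpen 𝒜 t := by
  intro x hx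
  have h1 : (U.ι ≫ r) ⟨x, hx⟩ ∈ (Proj.awayι 𝒜 t ht hd).opensRange := by
    rw [hr]
    unfold toProjChart
    rw [← Category.assoc]
    exact ⟨_, rfl⟩
  rw [Proj.opensRange_awayι] at h1
  exact h1

include hr in
lemma resLE_eq_of_eq_toProjChart :
    r.resLE (Proj.basicOpen 𝒜 t) U (le_preimage_basicOpen_of_eq_toProjChart 𝒜 r U f ht hd hu hr) =
      U.toScheme.toSpecΓ ≫ Spec.map (CommRingCat.ofHom (hAwayLift 𝒜 f t hu)) ≫
        (Proj.basicOpenIsoSpec 𝒜 t ht hd).inv := by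
  rw [← cancel_mono (Proj.basicOpen 𝒜 t).ι, Scheme.Hom.resLE_comp_ι, hr]
  simp only [toProjChart, Proj.awayι, Category.assoc]
  rfl

include hr in
/-- **the formula for `r^♯` on the chart**: `r^♯ (z) = f̃ (z)` for `z ∈ A_(t) ≅ Γ(D₊(t))`. -/
theorem awayToSection_appLE_of_eq_toProjChart :
    Proj.awayToSection 𝒜 t ≫ r.appLE (Proj.basicOpen 𝒜 t) U
        (le_preimage_basicOpen_of_eq_toProjChart 𝒜 r U f ht hd hu hr) =
      CommRingCat.ofHom (hAwayLift 𝒜 f t hu) ≫ U.topIso.hom := by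
  have h1 := congrArg Scheme.Hom.appTop (resLE_eq_of_eq_toProjChart 𝒜 r U f ht hd hu hr)
  have h2 : (Proj.basicOpenIsoSpec 𝒜 t ht hd).hom.appTop = (Scheme.ΓSpecIso _).hom ≫
      Proj.awayToSection 𝒜 t ≫ (Proj.basicOpen 𝒜 t).topIso.inv := by
    rw [Proj.basicOpenIsoSpec_hom]; exact Proj.basicOpenToSpec_app_top 𝒜 t
  have h3 : (Proj.basicOpenIsoSpec 𝒜 t ht hd).hom.appTop ≫
      (Proj.basicOpenIsoSpec 𝒜 t ht hd).inv.appTop = 𝟙 _ := by
    rw [← Scheme.Hom.comp_appTop, Iso.inv_hom_id]; rfl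
  have h4 : (r.resLE (Proj.basicOpen 𝒜 t) U
      (le_preimage_basicOpen_of_eq_toProjChart 𝒜 r U f ht hd hu hr)).appTop =
      (Proj.basicOpen 𝒜 t).topIso.hom ≫ r.appLE (Proj.basicOpen 𝒜 t) U
        (le_preimage_basicOpen_of_eq_toProjChart 𝒜 r U f ht hd hu hr) ≫ U.topIso.inv :=
    Scheme.Hom.resLE_app_top ..
  rw [h4, Scheme.Hom.comp_appTop, Scheme.Hom.comp_appTop, Scheme.toSpecΓ_appTop] at h1
  -- h1 : topIso.hom ≫ appLE ≫ topIso.inv = (inv.appTop ≫ (Spec.map φ).appTop) ≫ ΓSpecIso.hom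
  have h5 := congrArg (fun k => (Proj.basicOpenIsoSpec 𝒜 t ht hd).hom.appTop ≫ k) h1
  simp only [Category.assoc] at h5
  rw [reassoc_of% h3] at h5
  have h7 : (Spec.map (CommRingCat.ofHom (hAwayLift 𝒜 f t hu))).appTop ≫
      (Scheme.ΓSpecIso Γ(U.toScheme, ⊤)).hom =
      (Scheme.ΓSpecIso _).hom ≫ CommRingCat.ofHom (hAwayLift 𝒜 f t hu) :=
    Scheme.ΓSpecIso_naturality _
  have h8 := h5.trans h7
  rw [h2] at h8
  simp only [Category.assoc, Iso.inv_hom_id_assoc] at h8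
  have h6 := (cancel_epi (Scheme.ΓSpecIso (CommRingCat.of (Away 𝒜 t))).hom).1 h8
  rw [← h6]
  simp only [Category.assoc, Iso.inv_hom_id, Category.comp_id]

include hr in
theorem appLE_awayToSection_apply (z : Away 𝒜 t) :
    (r.appLE (Proj.basicOpen 𝒜 t) U
        (le_preimage_basicOpen_of_eq_toProjChart 𝒜 r U f ht hd hu hr)).hom
      ((Proj.awayToSection 𝒜 t).hom z) = U.topIso.hom.hom (hAwayLift 𝒜 f t hu z) :=
  congrArg (fun k => k.hom z) (awayToSection_appLE_of_eq_toProjChart 𝒜 r U f ht hd hu hr)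

end Restrict

section Restrict'

variable {X : Scheme.{u}} (r : X ⟶ Proj 𝒜) (U : X.Opens) (f : A →+* Γ(X, U)) {t : A} {d : ℕ}
  (ht : t ∈ 𝒜 d) (hd : 0 < d) (hu : IsUnit (f t))
  (hr : U.ι ≫ r = toProjChart 𝒜 U (U.topIso.inv.hom.comp f) ht hd (hu.map U.topIso.inv.hom))

include hr in
/-- the formula for `r^♯` on a chart, for `f` with values in `Γ(X, U)` -/
theorem appLE_awayToSection_apply' (z : Away 𝒜 t) :
    (r.appLE (Proj.basicOpen 𝒜 t) U
        (le_preimage_basicOpen_of_eq_toProjChart 𝒜 r U _ ht hd _ hr)).hom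
      ((Proj.awayToSection 𝒜 t).hom z) = hAwayLift 𝒜 f t hu z := by
  rw [appLE_awayToSection_apply 𝒜 r U _ ht hd _ hr z]
  have h1 := comp_hAwayLift 𝒜 U.topIso.inv.hom f ht hu
  rw [← h1, RingHom.comp_apply]
  exact congrArg (fun φ => φ.hom (hAwayLift 𝒜 f t hu z)) U.topIso.inv_hom_id

end Restrict'

end Scheme

end Groth.Agent.Lib.Proj.ToProj
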