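import Groth.Agent.Lib.Proj.ToProj

/-!
# Morphisms to `Proj 𝒜` from a ring map `A → Γ(X, ⊤)` (lead)

ns `Groth.Agent.Lib.Proj.ToProjGlobal`.  Unlike Mathlib's `Proj.fromOfGlobalSections`, no
quasi-compactness type hypothesis: it suffices that the `X_{g(t_i)}`, `t_i` homogeneous of positive
degree, cover `X`.

* `exists_toProj_of_global` : `∃ r : X ⟶ Proj 𝒜` such that for every `h : Z ⟶ X` with `h^♯ g(t_i)` a
  unit, `h ≫ r = toProjChart Z (h^♯ ∘ g)` (the morphism `Z → Spec A_(t_i) → Proj 𝒜`).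
-/

universe u
open CategoryTheory CategoryTheory.Limits AlgebraicGeometry TopologicalSpace Opposite
  HomogeneousLocalization

namespace Groth.Agent.Lib.Proj.ToProjGlobal

open Groth.Agent.Lib.Proj.ToProj

lemma isUnit_of_basicOpen_eq_top {Y : Scheme.{u}} (s : Γ(Y, ⊤)) (h : Y.basicOpen s = ⊤) :
    IsUnit s := by
  apply RingedSpace.isUnit_of_isUnit_germ Y.toRingedSpace ⊤ s
  intro x hx
  have hx' : x ∈ Y.basicOpen s := by rw [h]; trivial
  exact (RingedSpace.mem_basicOpen Y.toRingedSpace s x hx).1 hx'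

lemma apply_mem_basicOpen_of_isUnit {Z X : Scheme.{u}} (h : Z ⟶ X) (s : Γ(X, ⊤))
    (hu : IsUnit (h.appTop.hom s)) (z : Z) : h z ∈ X.basicOpen s := by
  have h1 : h ⁻¹ᵁ X.basicOpen s = Z.basicOpen (h.appTop.hom s) := Scheme.preimage_basicOpen_top h s
  have h2 : z ∈ h ⁻¹ᵁ X.basicOpen s := by
    rw [h1, Scheme.basicOpen_of_isUnit _ hu]; trivial
  exact h2

variable {A : Type u} [CommRing A] {σ : Type*} [SetLike σ A] [AddSubgroupClass σ A]
  (𝒜 : ℕ → σ) [GradedRing 𝒜]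

lemma toProjChart_congr_hom (Y : Scheme.{u}) {f f' : A →+* Γ(Y, ⊤)} (h : f = f') {t : A} {d : ℕ}
    (ht : t ∈ 𝒜 d) (hd : 0 < d) (hu : IsUnit (f t)) (hu' : IsUnit (f' t)) :
    toProjChart 𝒜 Y f ht hd hu = toProjChart 𝒜 Y f' ht hd hu' := by
  subst h
  exact congrArg (fun k => toProjChart 𝒜 Y f ht hd k) (Subsingleton.elim hu hu')

variable {X : Scheme.{u}} (g : A →+* Γ(X, ⊤))

/-- **morphism to `Proj` from global functions** -/
theorem exists_toProj_of_global {ι : Type*} (t : ι → A) (d : ι → ℕ) (ht : ∀ i, t i ∈ 𝒜 (d i))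
    (hd : ∀ i, 0 < d i) (hcov : ∀ x : X, ∃ i, x ∈ X.basicOpen (g (t i))) :
    ∃ r : X ⟶ Proj 𝒜, ∀ (Z : Scheme.{u}) (h : Z ⟶ X) (i : ι)
      (hu : IsUnit (h.appTop.hom (g (t i)))),
      h ≫ r = toProjChart 𝒜 Z (h.appTop.hom.comp g) (ht i) (hd i) hu := by
  have hopen : TopologicalSpace.IsOpenCover (fun i => X.basicOpen (g (t i))) := by
    rw [TopologicalSpace.IsOpenCover, eq_top_iff]
    intro x _
    obtain ⟨i, hi⟩ := hcov x
    exact Opens.mem_iSup.2 ⟨i, hi⟩
  have hu : ∀ i, IsUnit (((X.basicOpen (g (t i))).ι.appTop.hom.comp g) (t i)) := by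
    intro i
    apply isUnit_of_basicOpen_eq_top
    have h1 := Scheme.preimage_basicOpen_top (X.basicOpen (g (t i))).ι (g (t i))
    rw [RingHom.comp_apply]
    exact h1.symm.trans (Scheme.Opens.ι_preimage_self _)
  have hcompat : ∀ i j, ∃ u : Γ(pullback (X.basicOpen (g (t i))).ι (X.basicOpen (g (t j))).ι, ⊤),
      IsUnit u ∧ ∀ (k : ℕ) (a : A), a ∈ 𝒜 k →
      (pullback.snd (X.basicOpen (g (t i))).ι (X.basicOpen (g (t j))).ι).appTop.hom
        (((X.basicOpen (g (t j))).ι.appTop.hom.comp g) a) =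
        u ^ k * (pullback.fst (X.basicOpen (g (t i))).ι (X.basicOpen (g (t j))).ι).appTop.hom
          (((X.basicOpen (g (t i))).ι.appTop.hom.comp g) a) := by
    intro i j
    refine ⟨1, isUnit_one, fun k a _ => ?_⟩
    have h1 : (pullback.fst (X.basicOpen (g (t i))).ι (X.basicOpen (g (t j))).ι ≫
        (X.basicOpen (g (t i))).ι).appTop =
        (pullback.snd (X.basicOpen (g (t i))).ι (X.basicOpen (g (t j))).ι ≫
        (X.basicOpen (g (t j))).ι).appTop :=
      congrArg (fun m : pullback (X.basicOpen (g (t i))).ι (X.basicOpen (g (t j))).ι ⟶ X => m.appTop)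
        pullback.condition
    rw [Scheme.Hom.comp_appTop, Scheme.Hom.comp_appTop] at h1
    refine (congrArg (fun m => m.hom (g a)) h1).symm.trans ?_
    have e : ∀ z : Γ(pullback (X.basicOpen (g (t i))).ι (X.basicOpen (g (t j))).ι, ⊤),
        z = 1 ^ k * z := fun z => by rw [one_pow, one_mul]
    exact e _
  obtain ⟨r, hr⟩ := exists_glue_toProjChart 𝒜 X (fun i => X.basicOpen (g (t i))) hopen t d ht hd
    (fun i => (X.basicOpen (g (t i))).ι.appTop.hom.comp g) hu hcompat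
  refine ⟨r, fun Z h i hui => ?_⟩
  have hrange : Set.range h ⊆ Set.range (X.basicOpen (g (t i))).ι := by
    rw [Scheme.Opens.range_ι]
    rintro _ ⟨z, rfl⟩
    exact apply_mem_basicOpen_of_isUnit h _ hui z
  have hfac : IsOpenImmersion.lift (X.basicOpen (g (t i))).ι h hrange ≫
      (X.basicOpen (g (t i))).ι = h := IsOpenImmersion.lift_fac _ _ _
  conv_lhs => rw [← hfac]
  rw [Category.assoc, hr i, comp_toProjChart]
  refine toProjChart_congr_hom 𝒜 Z ?_ (ht i) (hd i) _ hui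
  have h2 := congrArg (fun m => m.appTop.hom) hfac
  simp only [Scheme.Hom.comp_appTop, CommRingCat.hom_comp] at h2
  rw [← RingHom.comp_assoc, h2]

end Groth.Agent.Lib.Proj.ToProjGlobal
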